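import Mathlib

/-! Linear algebra helpers on relative quotients `B / A` of submodules (helper55 library). -/

set_option autoImplicit false

namespace Groth.Agent.Lib.Helper55

open Module

variable {k V W : Type*} [Field k] [AddCommGroup V] [Module k V] [AddCommGroup W] [Module k W]

/-- If `φ : B → W` has kernel `A ∩ B`, then `B / A` embeds in `W`. -/
theorem ff_quot_le_of_ker (A B : Submodule k V) (φ : ↥B →ₗ[k] W)
    (hker : LinearMap.ker φ = A.comap B.subtype) [FiniteDimensional k W] :
    FiniteDimensional k (↥B ⧸ A.comap B.subtype) ∧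
      finrank k (↥B ⧸ A.comap B.subtype) ≤ finrank k W := by
  let e : (↥B ⧸ A.comap B.subtype) ≃ₗ[k] LinearMap.range φ :=
    (Submodule.quotEquivOfEq _ _ hker.symm).trans φ.quotKerEquivRange
  refine ⟨e.symm.finiteDimensional, ?_⟩
  rw [e.finrank_eq]
  exact Submodule.finrank_le _

/-- If `φ : B → W` is onto with kernel `A ∩ B`, then `B / A ≃ W`. -/
theorem ff_quot_eq_of_ker_of_surjective (A B : Submodule k V) (φ : ↥B →ₗ[k] W)
    (hker : LinearMap.ker φ = A.comap B.subtype) (hsurj : Function.Surjective φ)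
    [FiniteDimensional k W] :
    FiniteDimensional k (↥B ⧸ A.comap B.subtype) ∧
      finrank k (↥B ⧸ A.comap B.subtype) = finrank k W := by
  let e : (↥B ⧸ A.comap B.subtype) ≃ₗ[k] W :=
    (Submodule.quotEquivOfEq _ _ hker.symm).trans (φ.quotKerEquivOfSurjective hsurj)
  exact ⟨e.symm.finiteDimensional, e.finrank_eq⟩

theorem ff_quot_self (A : Submodule k V) :
    FiniteDimensional k (↥A ⧸ A.comap A.subtype) ∧
      finrank k (↥A ⧸ A.comap A.subtype) = 0 := by
  have h : A.comap A.subtype = ⊤ := Submodule.comap_subtype_self A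
  have hs : Subsingleton (↥A ⧸ A.comap A.subtype) := by
    rw [h]; infer_instance
  exact ⟨inferInstance, Module.finrank_zero_of_subsingleton⟩

/-- Additivity of relative dimension along a chain `A ≤ B ≤ C`. -/
theorem ff_quot_chain (A B C : Submodule k V) (hAB : A ≤ B) (hBC : B ≤ C)
    (h1 : FiniteDimensional k (↥B ⧸ A.comap B.subtype))
    (h2 : FiniteDimensional k (↥C ⧸ B.comap C.subtype)) :
    FiniteDimensional k (↥C ⧸ A.comap C.subtype) ∧
    finrank k (↥C ⧸ A.comap C.subtype) =
      finrank k (↥C ⧸ B.comap C.subtype) + finrank k (↥B ⧸ A.comap B.subtype) := by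
  have hA'B' : A.comap C.subtype ≤ B.comap C.subtype := Submodule.comap_mono hAB
  let f : ↥B →ₗ[k] (↥C ⧸ A.comap C.subtype) :=
    (A.comap C.subtype).mkQ ∘ₗ Submodule.inclusion hBC
  have hker : LinearMap.ker f = A.comap B.subtype := by
    ext b
    simp only [f, LinearMap.mem_ker, LinearMap.coe_comp, Function.comp_apply, Submodule.mkQ_apply,
      Submodule.Quotient.mk_eq_zero, Submodule.mem_comap, Submodule.subtype_apply,
      Submodule.coe_inclusion]
  have hrange : LinearMap.range f = (B.comap C.subtype).map (A.comap C.subtype).mkQ := by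
    ext y
    constructor
    · rintro ⟨b, rfl⟩
      exact ⟨Submodule.inclusion hBC b, b.2, rfl⟩
    · rintro ⟨c, hc, rfl⟩
      exact ⟨⟨c.1, hc⟩, rfl⟩
  let e1 : (↥B ⧸ A.comap B.subtype) ≃ₗ[k] LinearMap.range f :=
    (Submodule.quotEquivOfEq _ _ hker.symm).trans f.quotKerEquivRange
  let e2 := Submodule.quotientQuotientEquivQuotient (A.comap C.subtype) (B.comap C.subtype) hA'B'
  have hT : FiniteDimensional k ((B.comap C.subtype).map (A.comap C.subtype).mkQ) := by
    rw [← hrange]; exact e1.finiteDimensional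
  have hQ : FiniteDimensional k ((↥C ⧸ A.comap C.subtype) ⧸
      (B.comap C.subtype).map (A.comap C.subtype).mkQ) := e2.symm.finiteDimensional
  have hfin : FiniteDimensional k (↥C ⧸ A.comap C.subtype) :=
    Module.Finite.of_submodule_quotient ((B.comap C.subtype).map (A.comap C.subtype).mkQ)
  refine ⟨hfin, ?_⟩
  have := Submodule.finrank_quotient_add_finrank
    ((B.comap C.subtype).map (A.comap C.subtype).mkQ)
  rw [← this, e2.finrank_eq, e1.finrank_eq, hrange]

theorem ff_le_of_quot_finrank_zero (A C : Submodule k V)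
    (hfd : FiniteDimensional k (↥C ⧸ A.comap C.subtype))
    (h : finrank k (↥C ⧸ A.comap C.subtype) = 0) : C ≤ A := by
  have h1 : Subsingleton (↥C ⧸ A.comap C.subtype) := Module.finrank_zero_iff.mp h
  have h2 : A.comap C.subtype = ⊤ := Submodule.Quotient.subsingleton_iff.mp h1
  exact Submodule.comap_subtype_eq_top.mp h2

theorem ff_quot_congr {A B B' : Submodule k V} (h : B = B')
    (hfd : FiniteDimensional k (↥B' ⧸ A.comap B'.subtype)) :
    FiniteDimensional k (↥B ⧸ A.comap B.subtype) ∧
      finrank k (↥B ⧸ A.comap B.subtype) = finrank k (↥B' ⧸ A.comap B'.subtype) := by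
  subst h
  exact ⟨hfd, rfl⟩

/-- Dimension count in a short exact sequence. -/
theorem ff_finrank_of_exact {X Y Z : Type*} [AddCommGroup X] [Module k X] [AddCommGroup Y]
    [Module k Y] [AddCommGroup Z] [Module k Z] [FiniteDimensional k X]
    (f : Z →ₗ[k] X) (g : X →ₗ[k] Y) (hf : Function.Injective f) (hg : Function.Surjective g)
    (hfg : Function.Exact f g) :
    FiniteDimensional k Y ∧ FiniteDimensional k Z ∧ finrank k X = finrank k Y + finrank k Z := by
  refine ⟨Module.Finite.of_surjective g hg, FiniteDimensional.of_injective f hf, ?_⟩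
  have h1 := LinearMap.finrank_range_add_finrank_ker g
  rw [LinearMap.range_eq_top.mpr hg, finrank_top, LinearMap.exact_iff.mp hfg,
    LinearMap.finrank_range_of_inj hf] at h1
  exact h1.symm

/-- Second isomorphism count: for `A ≤ B` and any `N`,
`dim B/A = dim (B+N)/(A+N) + dim (B∩N)/(A∩N)`. -/
theorem ff_quot_sup_inf (A B N : Submodule k V) (hAB : A ≤ B)
    (h1 : FiniteDimensional k (↥B ⧸ A.comap B.subtype)) :
    FiniteDimensional k (↥(B ⊔ N) ⧸ (A ⊔ N).comap (B ⊔ N).subtype) ∧
    FiniteDimensional k (↥(B ⊓ N) ⧸ (A ⊓ N).comap (B ⊓ N).subtype) ∧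
    finrank k (↥B ⧸ A.comap B.subtype) =
      finrank k (↥(B ⊔ N) ⧸ (A ⊔ N).comap (B ⊔ N).subtype) +
      finrank k (↥(B ⊓ N) ⧸ (A ⊓ N).comap (B ⊓ N).subtype) := by
  let g : (↥B ⧸ A.comap B.subtype) →ₗ[k] (↥(B ⊔ N) ⧸ (A ⊔ N).comap (B ⊔ N).subtype) :=
    Submodule.mapQ _ _ (Submodule.inclusion (le_sup_left : B ≤ B ⊔ N)) (by
      intro b hb
      exact Submodule.mem_sup_left hb)
  let f : (↥(B ⊓ N) ⧸ (A ⊓ N).comap (B ⊓ N).subtype) →ₗ[k] (↥B ⧸ A.comap B.subtype) :=
    Submodule.mapQ _ _ (Submodule.inclusion (inf_le_left : B ⊓ N ≤ B)) (by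
      intro b hb
      exact hb.1)
  have hgmk : ∀ b : ↥B, g (Submodule.Quotient.mk b) =
      Submodule.Quotient.mk (Submodule.inclusion (le_sup_left : B ≤ B ⊔ N) b) := fun _ => rfl
  have hfmk : ∀ z : ↥(B ⊓ N), f (Submodule.Quotient.mk z) =
      Submodule.Quotient.mk (Submodule.inclusion (inf_le_left : B ⊓ N ≤ B) z) := fun _ => rfl
  have hf : Function.Injective f := by
    rw [← LinearMap.ker_eq_bot, LinearMap.ker_eq_bot']
    intro z hz
    induction z using Submodule.Quotient.induction_on with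
    | H z =>
      rw [hfmk, Submodule.Quotient.mk_eq_zero] at hz
      rw [Submodule.Quotient.mk_eq_zero]
      exact ⟨hz, z.2.2⟩
  have hg : Function.Surjective g := by
    intro y
    induction y using Submodule.Quotient.induction_on with
    | H y =>
      obtain ⟨b, hb, n, hn, hbn⟩ := Submodule.mem_sup.mp y.2
      refine ⟨Submodule.Quotient.mk ⟨b, hb⟩, ?_⟩
      rw [hgmk, Submodule.Quotient.eq]
      change ((⟨b, _⟩ : ↥(B ⊔ N)) - y : ↥(B ⊔ N)).1 ∈ A ⊔ N
      have : ((⟨b, Submodule.mem_sup_left hb⟩ : ↥(B ⊔ N)) - y : ↥(B ⊔ N)).1 = -n := by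
        rw [Submodule.coe_sub, ← hbn]; simp
      rw [this]
      exact Submodule.mem_sup_right (N.neg_mem hn)
  have hfg : Function.Exact f g := by
    intro x
    constructor
    · intro hx
      induction x using Submodule.Quotient.induction_on with
      | H b =>
        rw [hgmk, Submodule.Quotient.mk_eq_zero] at hx
        obtain ⟨a, ha, n, hn, han⟩ := Submodule.mem_sup.mp hx
        have han' : a + n = b.1 := han
        have hnB : n ∈ B := by
          have : n = b.1 - a := by
            rw [← han']; simp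
          rw [this]
          exact B.sub_mem b.2 (hAB ha)
        have hnBN : n ∈ B ⊓ N := ⟨hnB, hn⟩
        refine ⟨Submodule.Quotient.mk ⟨n, hnBN⟩, ?_⟩
        rw [hfmk, Submodule.Quotient.eq]
        change ((⟨n, hnB⟩ : ↥B) - b : ↥B).1 ∈ A
        have : ((⟨n, hnB⟩ : ↥B) - b : ↥B).1 = -a := by
          rw [Submodule.coe_sub, ← han']; simp
        rw [this]
        exact A.neg_mem ha
    · rintro ⟨z, rfl⟩
      induction z using Submodule.Quotient.induction_on with
      | H z =>
        rw [hfmk, hgmk, Submodule.Quotient.mk_eq_zero]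
        exact Submodule.mem_sup_right z.2.2
  exact ff_finrank_of_exact f g hf hg hfg

end Groth.Agent.Lib.Helper55
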