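import Groth.Agent.Lib.Helper55.FunFld.Places
import Groth.Agent.Lib.Helper55.FunFld.LinAlg

/-! Local structure at a place: the `k`-spaces `{z | v_P z ≤ exp m}` and the residue maps. -/

set_option autoImplicit false

open FunFld

namespace Groth.Agent.Lib.Helper55

variable {k K : Type*} [Field k] [Field K] [Algebra k K]

open WithZero in
theorem ff_lt_exp_iff {x : WithZero (Multiplicative ℤ)} {m : ℤ} :
    x < exp m ↔ x ≤ exp (m - 1) := by
  obtain rfl | hx := eq_or_ne x 0
  · simp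
  · rw [← exp_log hx, exp_lt_exp, exp_le_exp]
    omega

open WithZero in
theorem ff_lt_one_iff {x : WithZero (Multiplicative ℤ)} :
    x < 1 ↔ x ≤ exp (-1) := by
  rw [← exp_zero, ff_lt_exp_iff]; simp

/-- The `k`-subspace `{z | v_P z ≤ exp m}` of `K`. -/
def ff_ball (P : Place k K) (m : ℤ) : Submodule k K where
  carrier := {z | P.1 z ≤ WithZero.exp m}
  add_mem' {x y} hx hy := (P.1.map_add x y).trans (max_le hx hy)
  zero_mem' := by simp
  smul_mem' c x hx := by
    change P.1 (c • x) ≤ _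
    rw [Algebra.smul_def, map_mul]
    exact (mul_le_mul' (P.2.1 c) hx).trans_eq (one_mul _)

theorem ff_mem_ball (P : Place k K) (m : ℤ) (z : K) :
    z ∈ ff_ball P m ↔ P.1 z ≤ WithZero.exp m := Iff.rfl

theorem ff_ball_mono (P : Place k K) {m n : ℤ} (h : m ≤ n) : ff_ball P m ≤ ff_ball P n :=
  fun _ hz => le_trans hz (WithZero.exp_le_exp.mpr h)

theorem ff_val_zpow_uniformizer (P : Place k K) {t : K} (ht : P.1 t = WithZero.exp (-1 : ℤ))
    (m : ℤ) : P.1 (t ^ m) = WithZero.exp (-m) := by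
  rw [map_zpow₀, ht, ← WithZero.exp_zsmul]
  simp

theorem ff_uniformizer_ne_zero (P : Place k K) {t : K} (ht : P.1 t = WithZero.exp (-1 : ℤ)) :
    t ≠ 0 := by
  rintro rfl
  rw [map_zero] at ht
  exact WithZero.exp_ne_zero.symm ht

theorem ff_localMap_aux (P : Place k K) {t : K} (ht : P.1 t = WithZero.exp (-1 : ℤ)) (m : ℤ)
    {z : K} (hz : z ∈ ff_ball P m) : t ^ m * z ∈ P.O := by
  change P.1 (t ^ m * z) ≤ 1
  rw [map_mul, ff_val_zpow_uniformizer P ht]
  calc WithZero.exp (-m) * P.1 z ≤ WithZero.exp (-m) * WithZero.exp m := mul_le_mul' le_rfl hz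
    _ = 1 := by rw [← WithZero.exp_add]; simp

/-- The local residue map `{z | v z ≤ exp m} → κ(P)`, `z ↦ residue (t ^ m * z)`. -/
noncomputable def ff_localMap (P : Place k K) {t : K} (ht : P.1 t = WithZero.exp (-1 : ℤ))
    (m : ℤ) : ff_ball P m →ₗ[k] IsLocalRing.ResidueField P.O where
  toFun z := IsLocalRing.residue P.O ⟨t ^ m * z.1, ff_localMap_aux P ht m z.2⟩
  map_add' x y := by
    rw [← map_add]
    congr 1
    apply Subtype.ext
    simp [mul_add]
  map_smul' c x := by
    have h := ff_residue_smul P c ⟨t ^ m * x.1, ff_localMap_aux P ht m x.2⟩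
    rw [RingHom.id_apply]
    refine Eq.trans ?_ h.symm
    congr 1
    apply Subtype.ext
    simp [Algebra.smul_def]
    ring

theorem ff_localMap_apply (P : Place k K) {t : K} (ht : P.1 t = WithZero.exp (-1 : ℤ))
    (m : ℤ) (z : ff_ball P m) :
    ff_localMap P ht m z = IsLocalRing.residue P.O ⟨t ^ m * z.1, ff_localMap_aux P ht m z.2⟩ :=
  rfl

theorem ff_localMap_eq_zero_iff (P : Place k K) {t : K} (ht : P.1 t = WithZero.exp (-1 : ℤ))
    (m : ℤ) (z : ff_ball P m) :
    ff_localMap P ht m z = 0 ↔ (z : K) ∈ ff_ball P (m - 1) := by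
  rw [ff_localMap_apply, IsLocalRing.residue_eq_zero_iff, ff_mem_maximalIdeal_iff, ff_mem_ball]
  change P.1 (t ^ m * z.1) < 1 ↔ _
  rw [map_mul, ff_val_zpow_uniformizer P ht, ← ff_lt_exp_iff]
  rw [WithZero.exp_neg, inv_mul_lt_iff₀ WithZero.exp_pos, mul_one]

theorem ff_localMap_surjective (P : Place k K) {t : K} (ht : P.1 t = WithZero.exp (-1 : ℤ))
    (m : ℤ) : Function.Surjective (ff_localMap P ht m) := by
  intro r
  obtain ⟨r, rfl⟩ := IsLocalRing.residue_surjective r
  have ht0 := ff_uniformizer_ne_zero P ht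
  have hmem : t ^ (-m) * (r : K) ∈ ff_ball P m := by
    rw [ff_mem_ball, map_mul, ff_val_zpow_uniformizer P ht, neg_neg]
    calc WithZero.exp m * P.1 (r : K) ≤ WithZero.exp m * 1 := mul_le_mul' le_rfl r.2
      _ = WithZero.exp m := mul_one _
  refine ⟨⟨_, hmem⟩, ?_⟩
  rw [ff_localMap_apply]
  congr 1
  apply Subtype.ext
  simp only
  rw [← mul_assoc, ← zpow_add₀ ht0]
  simp

end Groth.Agent.Lib.Helper55
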