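import Groth.Agent.Lib.Helper55.FunFld.Divisors

/-! Repartitions: `A(D) + K`. -/

set_option autoImplicit false

open FunFld Module

namespace Groth.Agent.Lib.Helper55

variable {k K : Type*} [Field k] [Field K] [Algebra k K]

theorem ff_diag_apply (x : K) (P : Place k K) : diag k K x P = x := rfl

theorem ff_diag_mem_AD_iff (D : Divisor k K) (x : K) : diag k K x ∈ AD D ↔ x ∈ L D := Iff.rfl

/-- `dim (A(D₂)+K)/(A(D₁)+K) = (deg D₂ - ℓ(D₂)) - (deg D₁ - ℓ(D₁))`. -/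
theorem ff_ADK_quot (hK : IsFunctionField k K) {D₁ D₂ : Divisor k K} (h : D₁ ≤ D₂) :
    FiniteDimensional k (↥(AD D₂ ⊔ LinearMap.range (diag k K)) ⧸
      (AD D₁ ⊔ LinearMap.range (diag k K)).comap
        (AD D₂ ⊔ LinearMap.range (diag k K)).subtype) ∧
    (finrank k (↥(AD D₂ ⊔ LinearMap.range (diag k K)) ⧸
      (AD D₁ ⊔ LinearMap.range (diag k K)).comap
        (AD D₂ ⊔ LinearMap.range (diag k K)).subtype) : ℤ) =
      (D₂.deg + 1 - ell D₂) - (D₁.deg + 1 - ell D₁) := by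
  obtain ⟨hfd, hrk⟩ := ff_AD_quot hK D₁ D₂ h
  obtain ⟨h1, h2, h3⟩ := ff_quot_sup_inf (AD D₁) (AD D₂) (LinearMap.range (diag k K))
    (ff_AD_mono h) hfd
  refine ⟨h1, ?_⟩
  let ψ : ↥(L D₂) →ₗ[k] ↥(AD D₂ ⊓ LinearMap.range (diag k K)) :=
    LinearMap.codRestrict _ ((diag k K).comp (L D₂).subtype)
      (fun x => ⟨x.2, ⟨x.1, rfl⟩⟩)
  let φ : ↥(L D₂) →ₗ[k] (↥(AD D₂ ⊓ LinearMap.range (diag k K)) ⧸
      (AD D₁ ⊓ LinearMap.range (diag k K)).comap
        (AD D₂ ⊓ LinearMap.range (diag k K)).subtype) :=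
    (Submodule.mkQ _).comp ψ
  have hker : LinearMap.ker φ = (L D₁).comap (L D₂).subtype := by
    ext x
    simp only [φ, LinearMap.mem_ker, LinearMap.comp_apply, Submodule.mkQ_apply,
      Submodule.Quotient.mk_eq_zero, Submodule.mem_comap]
    constructor
    · intro hx; exact hx.1
    · intro hx; exact ⟨hx, ⟨x.1, rfl⟩⟩
  have hsurj : Function.Surjective φ := by
    intro y
    induction y using Submodule.Quotient.induction_on with
    | H y =>
      obtain ⟨a, ha1, x, rfl⟩ := y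
      exact ⟨⟨x, ha1⟩, rfl⟩
  obtain ⟨-, h4⟩ := ff_quot_eq_of_ker_of_surjective (L D₁) (L D₂) φ hker hsurj
  have h5 := ff_ell_eq_add hK h
  have h6 : (finrank k (↥(AD D₂) ⧸ (AD D₁).comap (AD D₂).subtype) : ℤ) =
      (finrank k (↥(AD D₂ ⊔ LinearMap.range (diag k K)) ⧸
      (AD D₁ ⊔ LinearMap.range (diag k K)).comap
        (AD D₂ ⊔ LinearMap.range (diag k K)).subtype) : ℤ) +
      (finrank k (↥(AD D₂ ⊓ LinearMap.range (diag k K)) ⧸
      (AD D₁ ⊓ LinearMap.range (diag k K)).comap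
        (AD D₂ ⊓ LinearMap.range (diag k K)).subtype) : ℤ) := by
    exact_mod_cast h3
  rw [← h4] at h6
  have h7 : (ell D₂ : ℤ) = ell D₁ + finrank k (↥(L D₂) ⧸ (L D₁).comap (L D₂).subtype) := by
    exact_mod_cast h5
  linarith

end Groth.Agent.Lib.Helper55
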