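import Groth.Agent.Lib.Helper55.FunFld.HasseDiff
import Groth.Agent.S12596
import Groth.Agent.S12597

/-! Invariance of the Weierstrass divisor under change of the separating variable and of the
projective coordinates (S12614). -/

namespace Groth.Agent.Lib.Helper55

open FunFld LocRes

variable {k K : Type*} [Field k] [Field K] [Algebra k K]

theorem ff_mapDiv_mul (hK : IsFunctionField k K) {ι : Type*} [Fintype ι] [Nonempty ι]
    (φ : ι → K) (hφ0 : ∀ i, φ i ≠ 0) {y : K} (hy : y ≠ 0) :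
    mapDiv k (fun i => y * φ i) = mapDiv k φ - div k y := by
  ext Q
  obtain ⟨j, hj⟩ := ff_exists_max_index φ Q
  rw [Finsupp.sub_apply, ff_div_apply hK,
    ff_mapDiv_eq_neg_ord hK φ hφ0 Q j hj,
    ff_mapDiv_eq_neg_ord hK (fun i => y * φ i) (fun i => mul_ne_zero hy (hφ0 i)) Q j
      (fun i => by rw [map_mul, map_mul]; exact mul_le_mul' le_rfl (hj i)),
    ff_ord_mul Q hy (hφ0 j)]
  ring

/-- The divisor of a tuple of nonzero functions depends only on its `k`-span. -/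
theorem ff_mapDiv_eq_of_span_eq (hK : IsFunctionField k K) {ι ι' : Type*} [Fintype ι] [Nonempty ι]
    [Fintype ι'] [Nonempty ι'] (φ : ι → K) (ψ : ι' → K) (hφ0 : ∀ i, φ i ≠ 0) (hψ0 : ∀ i, ψ i ≠ 0)
    (hspan : Submodule.span k (Set.range φ) = Submodule.span k (Set.range ψ)) :
    mapDiv k φ = mapDiv k ψ := by
  ext Q
  obtain ⟨j, hj⟩ := ff_exists_max_index φ Q
  obtain ⟨j', hj'⟩ := ff_exists_max_index ψ Q
  have h1 := ff_exp_mapDiv hK φ hφ0 Q j hj
  have h2 := ff_exp_mapDiv hK ψ hψ0 Q j' hj'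
  have h3 : Q.1 (φ j) ≤ Q.1 (ψ j') :=
    ff_span_val_le ψ Q hj' (hspan ▸ Submodule.subset_span ⟨j, rfl⟩)
  have h4 : Q.1 (ψ j') ≤ Q.1 (φ j) :=
    ff_span_val_le φ Q hj (hspan.symm ▸ Submodule.subset_span ⟨j', rfl⟩)
  have h5 : WithZero.exp (mapDiv k φ Q) = WithZero.exp (mapDiv k ψ Q) := by
    rw [h1, h2]; exact le_antisymm h3 h4
  exact WithZero.exp_inj.mp h5

theorem ff_matrix_linearIndependent {n : ℕ} (φ : Fin n → K) (hφ : LinearIndependent k φ)
    (A : Matrix (Fin n) (Fin n) k) (hA : A.det ≠ 0) :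
    LinearIndependent k fun i => ∑ j, A i j • φ j := by
  rw [Fintype.linearIndependent_iff] at hφ ⊢
  intro c hc
  have h1 : ∑ j, (∑ i, c i * A i j) • φ j = 0 := by
    rw [← hc]
    simp only [Finset.smul_sum, Finset.sum_smul, smul_smul]
    exact Finset.sum_comm
  have h2 := hφ _ h1
  have h3 : Matrix.vecMul c A = 0 := by
    funext j
    exact h2 j
  have h4 := Matrix.eq_zero_of_vecMul_eq_zero hA h3
  intro i
  rw [h4]; rfl

theorem ff_matrix_span_eq {n : ℕ} (φ : Fin n → K)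
    (A : Matrix (Fin n) (Fin n) k) (hA : A.det ≠ 0) :
    Submodule.span k (Set.range fun i => ∑ j, A i j • φ j) = Submodule.span k (Set.range φ) := by
  apply le_antisymm
  · rw [Submodule.span_le]
    rintro _ ⟨i, rfl⟩
    exact Submodule.sum_mem _ fun j _ =>
      Submodule.smul_mem _ _ (Submodule.subset_span ⟨j, rfl⟩)
  · rw [Submodule.span_le]
    rintro _ ⟨l, rfl⟩
    have hAinv : A⁻¹ * A = 1 := Matrix.nonsing_inv_mul A (isUnit_iff_ne_zero.mpr hA)
    have h1 : φ l = ∑ i, A⁻¹ l i • ∑ j, A i j • φ j := by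
      simp only [Finset.smul_sum, smul_smul]
      rw [Finset.sum_comm]
      simp only [← Finset.sum_smul]
      have h2 : ∀ j, ∑ i, A⁻¹ l i * A i j = (1 : Matrix (Fin n) (Fin n) k) l j := by
        intro j
        rw [← hAinv, Matrix.mul_apply]
      simp only [h2, Matrix.one_apply, ite_smul, one_smul, zero_smul, Finset.sum_ite_eq,
        Finset.mem_univ, if_true]
    rw [SetLike.mem_coe, h1]
    exact Submodule.sum_mem _ fun i _ =>
      Submodule.smul_mem _ _ (Submodule.subset_span ⟨i, rfl⟩)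

theorem ff_mapDiv_matrix (hK : IsFunctionField k K) {n : ℕ} (φ : Fin (n + 1) → K)
    (hφ : LinearIndependent k φ) (A : Matrix (Fin (n + 1)) (Fin (n + 1)) k) (hA : A.det ≠ 0) :
    mapDiv k (fun i => ∑ j, A i j • φ j) = mapDiv k φ :=
  ff_mapDiv_eq_of_span_eq hK _ _ (fun i => (ff_matrix_linearIndependent φ hφ A hA).ne_zero i)
    (fun i => hφ.ne_zero i) (ff_matrix_span_eq φ A hA)

/-- Invariance of the Weierstrass divisor (S12614). -/
theorem ff_wDiv_invariance [IsAlgClosed k] (hK : IsFunctionField k K) {n : ℕ}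
    (φ : Fin (n + 1) → K) (hφ : LinearIndependent k φ) (τ : K →ₐ[k] K) (s : K)
    (Hs : K →ₐ[k] PowerSeries K) (hHs : IsHasseFamily s Hs) (t : K)
    (Ht : K →ₐ[k] PowerSeries K) (hHt : IsHasseFamily t Ht) (J : Fin n → ℕ)
    (hJ : IsOrders K (hcol τ Hs φ) J) (A : Matrix (Fin (n + 1)) (Fin (n + 1)) k)
    (hA : A.det ≠ 0) (y : K) (hy : y ≠ 0) (φ' : Fin (n + 1) → K)
    (hφ' : ∀ i, φ' i = y * ∑ j, A i j • φ j)
    (Φ : Place k K → (K →ₐ[k] LaurentSeries k))
    (hΦ : ∀ P : Place k K, IsExpansionAt P.1 (Φ P)) :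
    wDiv τ Ht Φ t φ' J = wDiv τ Hs Φ s φ J := by
  set φ₁ : Fin (n + 1) → K := fun i => ∑ j, A i j • φ j with hφ₁def
  have hφ₁ : LinearIndependent k φ₁ := ff_matrix_linearIndependent φ hφ A hA
  have hφ'eq : φ' = y • φ₁ := by
    funext i
    rw [hφ' i, Pi.smul_apply, smul_eq_mul]
  obtain ⟨hA1, hA2⟩ := Groth.Agent.S12596.result k K hK φ hφ τ s Hs hHs A hA φ₁ (fun i => rfl)
  obtain ⟨hy1, hy2⟩ := Groth.Agent.S12597.result k K hK φ₁ hφ₁ τ s Hs hHs y hy
  have hJ₁ : IsOrders K (hcol τ Hs φ₁) J := (hA1 J).mpr hJ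
  have hJ' : IsOrders K (hcol τ Hs φ') J := by
    rw [hφ'eq]; exact (hy1 J).mpr hJ₁
  have hdet : (wrMat τ Ht φ' J).det = hasseD Ht 1 s ^ (∑ l, J l) *
      (τ y * y ^ n * (algebraMap k K A.det * (wrMat τ Hs φ J).det)) := by
    rw [(ff_orders_change_var hK φ' τ Hs Ht hHs hHt).2 J hJ', hφ'eq, hy2 J hJ₁, hA2 J]
  have hW0 : (wrMat τ Hs φ J).det ≠ 0 :=
    ff_wrMat_det_ne_zero Hs τ φ ⟨0, hφ.ne_zero 0⟩ J hJ
  have h1 := ff_hasseD_one_mul hK Hs Ht hHs hHt
  have hts : hasseD Ht 1 s ≠ 0 := left_ne_zero_of_mul_eq_one h1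
  have hτy : τ y ≠ 0 := (map_ne_zero τ).mpr hy
  have hA0 : algebraMap k K A.det ≠ 0 := (map_ne_zero _).mpr hA
  have hdiv : div k (wrMat τ Ht φ' J).det = (∑ l, J l) • div k (hasseD Ht 1 s) +
      (div k (τ y) + n • div k y + div k (wrMat τ Hs φ J).det) := by
    rw [hdet, ff_div_mul hK (pow_ne_zero _ hts)
        (mul_ne_zero (mul_ne_zero hτy (pow_ne_zero _ hy)) (mul_ne_zero hA0 hW0)),
      ff_div_pow hK hts, ff_div_mul hK (mul_ne_zero hτy (pow_ne_zero _ hy)) (mul_ne_zero hA0 hW0),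
      ff_div_mul hK hτy (pow_ne_zero _ hy), ff_div_pow hK hy, ff_div_mul hK hA0 hW0,
      ff_div_const hK, zero_add]
  -- the divisors of the maps
  have hτφ : LinearIndependent k (τ ∘ φ) :=
    hφ.map' τ.toLinearMap (LinearMap.ker_eq_bot.mpr τ.toRingHom.injective)
  have hm1 : mapDiv k φ' = mapDiv k φ - div k y := by
    have : φ' = fun i => y * φ₁ i := funext fun i => hφ' i
    rw [this, ff_mapDiv_mul hK φ₁ (fun i => hφ₁.ne_zero i) hy, hφ₁def, ff_mapDiv_matrix hK φ hφ A hA]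
  have hm2 : mapDiv k (τ ∘ φ') = mapDiv k (τ ∘ φ) - div k (τ y) := by
    have : τ ∘ φ' = fun i => τ y * ∑ j, A i j • (τ ∘ φ) j := by
      funext i
      simp only [Function.comp_apply, hφ' i, map_mul, map_sum, map_smul]
    rw [this, ff_mapDiv_mul hK _ (fun i => (ff_matrix_linearIndependent _ hτφ A hA).ne_zero i) hτy,
      ff_mapDiv_matrix hK _ hτφ A hA]
  have hd := ff_divDiff_change hK Hs Ht hHs hHt Φ hΦ
  unfold wDiv
  rw [hdiv, hm1, hm2, hd]
  have hcast : ((∑ l, J l : ℕ) : ℤ) = ∑ l, (J l : ℤ) := Nat.cast_sum _ _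
  rw [← hcast, ← natCast_zsmul (div k (hasseD Ht 1 s)), ← natCast_zsmul (div k y)]
  module

end Groth.Agent.Lib.Helper55
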