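import Groth.Agent.Lib.Helper55.FunFld.PlaneGenus
import Mathlib.FieldTheory.Minpoly.IsIntegrallyClosed
import Mathlib.FieldTheory.IntermediateField.Adjoin.Algebra

/-!
# A plane model has genus `(d-1)(d-2)/2` iff it is nonsingular (S11059, S11060)
-/

open FunFld Module Polynomial

namespace Groth.Agent.Lib.Helper55

variable {k K : Type*} [Field k] [Field K] [Algebra k K]

/-- An element which lies in the local ring of `R` at every place containing `R` lies in `R`. -/
theorem ff_mem_of_forall_mem_locRing (hK : IsFunctionField k K) (R : Subalgebra k K) (z : K)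
    (hfrac : ∃ w ∈ R, w ≠ 0 ∧ z * w ∈ R)
    (h : ∀ Q : Place k K, (∀ r ∈ R, Q.1 r ≤ 1) → z ∈ ff_locRing R Q) : z ∈ R := by
  classical
  let A : Subring K := R.toSubring
  let I : Ideal A :=
    { carrier := {a | z * (a : K) ∈ R}
      add_mem' := fun {a b} ha hb => by
        change z * ((a + b : A) : K) ∈ R
        rw [Subring.coe_add, mul_add]; exact R.add_mem ha hb
      zero_mem' := by
        change z * ((0 : A) : K) ∈ R
        rw [Subring.coe_zero, mul_zero]; exact R.zero_mem
      smul_mem' := fun c a ha => by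
        change z * ((c * a : A) : K) ∈ R
        rw [Subring.coe_mul, mul_left_comm]
        exact R.mul_mem c.2 ha }
  by_cases hI : I = ⊤
  · have h1 : (1 : A) ∈ I := by rw [hI]; trivial
    have h2 : z * ((1 : A) : K) ∈ R := h1
    rwa [Subring.coe_one, mul_one] at h2
  · exfalso
    obtain ⟨V, hAV, hIV⟩ := Ideal.image_subset_nonunits_valuationSubring I hI
    obtain ⟨w, hwR, hw0, hzw⟩ := hfrac
    have hwI : (⟨w, hwR⟩ : A) ∈ I := hzw
    have hwV : w ∈ V.nonunits := hIV ⟨⟨w, hwR⟩, hwI, rfl⟩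
    have hVtop : V ≠ ⊤ := by
      rintro rfl
      rw [ValuationSubring.mem_nonunits_iff] at hwV
      have h1 : w⁻¹ ∈ (⊤ : ValuationSubring K) := trivial
      rw [← ValuationSubring.valuation_le_one_iff, map_inv₀] at h1
      have h2 : (⊤ : ValuationSubring K).valuation w ≠ 0 :=
        (Valuation.ne_zero_iff _).mpr hw0
      have h3 : 1 ≤ (⊤ : ValuationSubring K).valuation w := by
        rwa [inv_le_one₀ (zero_lt_iff.mpr h2)] at h1
      exact absurd hwV (not_lt.mpr h3)
    obtain ⟨Q, hQ⟩ := ff_exists_place_of_valuationSubring hK V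
      (fun c => hAV (R.algebraMap_mem c)) hVtop
    have hRQ : ∀ r ∈ R, Q.1 r ≤ 1 := fun r hr => by
      have : r ∈ Q.O := by rw [hQ]; exact hAV hr
      exact (Valuation.mem_valuationSubring_iff _ _).mp this
    obtain ⟨u, hu, w', hw', hw'1, hzw'⟩ := h Q hRQ
    have hw'I : (⟨w', hw'⟩ : A) ∈ I := by
      change z * w' ∈ R
      rw [hzw']; exact hu
    have hw'V : w' ∈ V.nonunits := hIV ⟨⟨w', hw'⟩, hw'I, rfl⟩
    rw [← hQ, ValuationSubring.mem_nonunits_iff] at hw'V
    have hlt : Q.1 w' < 1 :=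
      (Valuation.isEquiv_valuation_valuationSubring Q.1).lt_one_iff_lt_one.mpr hw'V
    exact absurd hw'1 (ne_of_lt hlt)

/-- The local ring of a projective map depends only on the span of the tuple. -/
theorem ff_inLocRing_of_span_eq {ι ι' : Type*} [Fintype ι] [Nonempty ι] (φ : ι → K) (ψ : ι' → K)
    (hspan : Submodule.span k (Set.range φ) = Submodule.span k (Set.range ψ)) (Q : Place k K)
    (z : K) (h : InLocRing ψ Q z) : InLocRing φ Q z := by
  obtain ⟨j', hj'0, hmax', u, hu, w, hw, hw1, hzw⟩ := h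
  obtain ⟨j, hmax⟩ := ff_exists_max_index φ Q
  have hψφ : ∀ i', ψ i' ∈ Submodule.span k (Set.range φ) := fun i' => by
    rw [hspan]; exact Submodule.subset_span ⟨i', rfl⟩
  have hφψ : ∀ i, φ i ∈ Submodule.span k (Set.range ψ) := fun i => by
    rw [← hspan]; exact Submodule.subset_span ⟨i, rfl⟩
  have h1 : Q.1 (ψ j') ≤ Q.1 (φ j) := ff_span_val_le φ Q hmax (hψφ j')
  have h2 : Q.1 (φ j) ≤ Q.1 (ψ j') := ff_span_val_le ψ Q hmax' (hφψ j)
  have hj0 : φ j ≠ 0 := by
    intro h0
    rw [h0, map_zero] at h1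
    exact ff_val_ne_zero Q hj'0 (le_antisymm h1 zero_le)
  set Oa := ff_locRing (Algebra.adjoin k (Set.range fun i => φ i / φ j)) Q with hOa
  have hmem : ∀ i', ψ i' / φ j ∈ Oa := fun i' =>
    ff_le_locRing _ Q (ff_div_mem_adjoin_of_mem_span φ (φ j) (hψφ i'))
  have hunit : Q.1 (ψ j' / φ j) = 1 := by
    rw [map_div₀, le_antisymm h1 h2]
    exact div_self (ff_val_ne_zero Q hj0)
  have hinv := ff_inv_mem_locRing _ Q (hmem j') hunit
  have hle : Algebra.adjoin k (Set.range fun i => ψ i / ψ j') ≤ Oa := by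
    refine Algebra.adjoin_le ?_
    rintro _ ⟨i, rfl⟩
    have : ψ i / ψ j' = (ψ i / φ j) * (ψ j' / φ j)⁻¹ := by
      field_simp
    change ψ i / ψ j' ∈ Oa
    rw [this]
    exact Oa.mul_mem (hmem i) hinv
  have hwinv : w⁻¹ ∈ Oa := ff_inv_mem_locRing _ Q (hle hw) hw1
  have hw0 : w ≠ 0 := by
    intro h0
    rw [h0, map_zero] at hw1
    exact zero_ne_one hw1
  have hz : z = u * w⁻¹ := by
    rw [← hzw, mul_assoc, mul_inv_cancel₀ hw0, mul_one]
  rw [ff_inLocRing_iff φ Q j hj0 hmax, hz]
  exact Oa.mul_mem (hle hu) hwinv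

theorem ff_isNonsingularAt_of_span_eq {ι ι' : Type*} [Fintype ι] [Nonempty ι] [Fintype ι']
    [Nonempty ι'] (φ : ι → K) (ψ : ι' → K)
    (hspan : Submodule.span k (Set.range φ) = Submodule.span k (Set.range ψ)) (Q : Place k K) :
    IsNonsingularAt φ Q ↔ IsNonsingularAt ψ Q :=
  ⟨fun h z hz => ff_inLocRing_of_span_eq ψ φ hspan.symm Q z (h z hz),
    fun h z hz => ff_inLocRing_of_span_eq φ ψ hspan Q z (h z hz)⟩

/-- Clearing the poles of an element integral at `Q` by a unit at `Q` from `L(M E)`, for an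
effective divisor `E` of positive degree not containing `Q`. -/
theorem ff_exists_unit_clearing (hK : IsFunctionField k K) {E : Divisor k K}
    (hdeg : 1 ≤ E.deg) (Q : Place k K) (hQ : E Q = 0) {z : K} (hz : Q.1 z ≤ 1) :
    ∃ M₀ : ℕ, ∀ M, M₀ ≤ M → ∃ h ∈ L (M • E), Q.1 h = 1 ∧ h * z ∈ L (M • E) := by
  classical
  set A : Divisor k K := ff_poleDiv z with hA
  have hA0 : (0 : Divisor k K) ≤ A := ff_poleDiv_nonneg z
  have hAQ : A Q = 0 := by
    rw [hA, ff_poleDiv_apply hK]
    by_cases hz0 : z = 0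
    · subst hz0; simp [ff_ord_zero]
    · have := (ff_ord_nonneg_iff Q hz0).mpr hz
      omega
  have hAdeg : 0 ≤ A.deg := ff_deg_nonneg hA0
  refine ⟨(2 * (genus k K : ℤ) + A.deg + Q.deg).toNat, fun M hM => ?_⟩
  have hM' : 2 * (genus k K : ℤ) + A.deg + Q.deg ≤ M := by
    have := Int.self_le_toNat (2 * (genus k K : ℤ) + A.deg + Q.deg)
    have h2 : ((2 * (genus k K : ℤ) + A.deg + Q.deg).toNat : ℤ) ≤ M := by exact_mod_cast hM
    linarith
  set G : Divisor k K := M • E - A with hG
  have hGdeg : G.deg = M * E.deg - A.deg := by rw [hG, ff_deg_sub, ff_deg_nsmul]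
  have hME : (M : ℤ) ≤ M * E.deg := by
    have : (0 : ℤ) ≤ M := Int.natCast_nonneg M
    nlinarith
  have h1 := ff_ell_eq_of_deg_ge hK G (by rw [hGdeg]; have := Int.natCast_nonneg Q.deg; linarith)
  have h2 := ff_ell_eq_of_deg_ge hK (G - Finsupp.single Q 1) (by
    rw [ff_deg_sub, ff_deg_single, hGdeg]; linarith)
  rw [ff_deg_sub, ff_deg_single] at h2
  have hQpos := ff_deg_pos hK Q
  have hlt : ell (G - Finsupp.single Q 1) < ell G := by
    have : (1 : ℤ) ≤ (Q.deg : ℤ) := by exact_mod_cast hQpos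
    zify
    linarith
  obtain ⟨h, hhG, hhG'⟩ := ff_exists_mem_not_mem_of_ell_lt hK hlt
  have hGQ : G Q = 0 := by
    rw [hG, Finsupp.sub_apply, Finsupp.smul_apply, hQ, hAQ, smul_zero, sub_zero]
  have hhQ : Q.1 h = 1 := by
    have hle := (ff_mem_L_iff G h).mp hhG Q
    rw [hGQ, WithZero.exp_zero] at hle
    refine le_antisymm hle ?_
    by_contra hlt'
    push Not at hlt'
    apply hhG'
    rw [ff_mem_L_sub_single_iff]
    refine ⟨hhG, ?_⟩
    rwa [hGQ, WithZero.exp_zero]
  refine ⟨h, ff_L_mono (sub_le_self _ hA0) hhG, hhQ, ?_⟩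
  have hzA : z ∈ L A := by
    rw [ff_mem_L_iff]
    exact fun Q' => ff_val_le_exp_poleDiv hK z Q'
  have := ff_mul_mem_L hhG hzA
  rwa [hG, sub_add_cancel] at this

theorem ff_div_pow (hK : IsFunctionField k K) {x : K} (hx : x ≠ 0) (M : ℕ) :
    FunFld.div k (x ^ M) = M • FunFld.div k x := by
  induction M with
  | zero =>
    rw [pow_zero, zero_nsmul]
    ext P
    rw [ff_div_apply hK, Finsupp.zero_apply]
    have := ff_ord_const P (1 : k)
    rwa [map_one] at this
  | succ M ih =>
    rw [pow_succ, ff_div_mul hK (pow_ne_zero M hx) hx, ih, succ_nsmul]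

theorem ff_mul_pow_mem_L_iff (hK : IsFunctionField k K) (D : Divisor k K) {x : K} (hx : x ≠ 0)
    (M : ℕ) (y : K) : y * x ^ M ∈ L (M • D) ↔ y ∈ L (M • (D + FunFld.div k x)) := by
  rw [mul_comm, ff_mul_mem_L_iff hK (M • D) (x ^ M) y (pow_ne_zero M hx), ff_div_pow hK hx,
    smul_add]

/-- The valuation of a polynomial in `x` at a pole of `x`. -/
theorem ff_val_aeval_of_pole (Q : Place k K) {x : K} (hx : 1 < Q.1 x) {p : k[X]} (hp : p ≠ 0) :
    Q.1 (aeval x p) = Q.1 x ^ p.natDegree := by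
  classical
  have hlead : p.leadingCoeff ≠ 0 := leadingCoeff_ne_zero.mpr hp
  have hsplit : aeval x p = algebraMap k K p.leadingCoeff * x ^ p.natDegree +
      aeval x p.eraseLead := by
    conv_lhs => rw [← eraseLead_add_C_mul_X_pow p]
    simp only [map_add, map_mul, aeval_C, map_pow, aeval_X]
    ring
  have hmain : Q.1 (algebraMap k K p.leadingCoeff * x ^ p.natDegree) = Q.1 x ^ p.natDegree := by
    rw [map_mul, ff_val_const Q hlead, one_mul, map_pow]
  have hpos : (0 : WithZero (Multiplicative ℤ)) < Q.1 x ^ p.natDegree :=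
    pow_pos (lt_trans zero_lt_one hx) _
  have hsmall : Q.1 (aeval x p.eraseLead) < Q.1 x ^ p.natDegree := by
    rcases eraseLead_natDegree_lt_or_eraseLead_eq_zero p with hlt | h0
    · rw [aeval_eq_sum_range' hlt]
      refine Valuation.map_sum_lt Q.1 (ne_of_gt hpos) fun i hi => ?_
      rw [Finset.mem_range] at hi
      rw [Algebra.smul_def, map_mul, map_pow]
      calc Q.1 (algebraMap k K (p.eraseLead.coeff i)) * Q.1 x ^ i ≤ 1 * Q.1 x ^ i :=
            mul_le_mul' (Q.2.1 _) le_rfl
        _ = Q.1 x ^ i := one_mul _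
        _ < Q.1 x ^ p.natDegree := pow_lt_pow_right₀ hx hi
    · rw [h0, map_zero, map_zero]; exact hpos
  rw [hsplit, Valuation.map_add_eq_of_lt_left Q.1 (by rw [hmain]; exact hsmall), hmain]

/-- `k[x]` is integrally closed for transcendental `x`. -/
theorem ff_isIntegrallyClosed_adjoin {x : K} (hx : Transcendental k x) :
    IsIntegrallyClosed (Algebra.adjoin k ({x} : Set K)) := by
  have hinj : Function.Injective (aeval (R := k) x) := transcendental_iff_injective.mp hx
  have e1 : k[X] ≃ₐ[k] (aeval (R := k) x).range := AlgEquiv.ofInjective _ hinj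
  have e2 : (aeval (R := k) x).range ≃ₐ[k] Algebra.adjoin k ({x} : Set K) :=
    Subalgebra.equivOfEq _ _ (Algebra.adjoin_singleton_eq_range_aeval k x).symm
  exact IsIntegrallyClosed.of_equiv (e1.trans e2).toRingEquiv

open IntermediateField.algebraAdjoinAdjoin in
/-- For `y` integral over `k[x]`, every element of `k[x, y]` is a `k[x]`-combination of the
powers `y^b`, `b < [k(x,y) : k(x)]`. -/
theorem ff_adjoin_pair_le_span (x y : K) (hx : Transcendental k x)
    (hy : IsIntegral (Algebra.adjoin k ({x} : Set K)) y) {n : ℕ}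
    (hn : (minpoly (IntermediateField.adjoin k ({x} : Set K)) y).natDegree ≤ n) {z : K}
    (hz : z ∈ Algebra.adjoin k ({x, y} : Set K)) :
    ∃ s : Fin n → K, (∀ b, s b ∈ Algebra.adjoin k ({x} : Set K)) ∧
      z = ∑ b, s b * y ^ (b : ℕ) := by
  classical
  set S0 := Algebra.adjoin k ({x} : Set K) with hS0
  set F := IntermediateField.adjoin k ({x} : Set K) with hF
  have := ff_isIntegrallyClosed_adjoin hx
  set p := minpoly S0 y with hp
  have hpm : p.Monic := minpoly.monic hy
  have hpy : aeval y p = 0 := minpoly.aeval _ _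
  have hmap : minpoly F y = p.map (algebraMap S0 F) :=
    minpoly.isIntegrallyClosed_eq_field_fractions' F hy
  have hdeg : p.natDegree ≤ n := by
    rw [hmap, hpm.natDegree_map] at hn
    exact hn
  have hp1 : p ≠ 1 := by
    intro h1
    rw [h1, map_one] at hpy
    exact one_ne_zero hpy
  let M : Submodule S0 K := Submodule.span S0 (Set.range fun b : Fin n => y ^ (b : ℕ))
  have hpow : ∀ c : ℕ, y ^ c ∈ M := by
    intro c
    set r := (X ^ c : S0[X]) %ₘ p with hr
    have hrdeg : r.natDegree < n := lt_of_lt_of_le (natDegree_modByMonic_lt _ hpm hp1) hdeg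
    have hyc : y ^ c = aeval y r := by
      have h1 := modByMonic_add_div (X ^ c : S0[X]) p
      have h2 := congrArg (aeval y) h1
      rw [map_add, map_mul, hpy, zero_mul, add_zero, map_pow, aeval_X] at h2
      exact h2.symm
    rw [hyc, aeval_eq_sum_range' hrdeg]
    refine Submodule.sum_mem _ fun i hi => ?_
    rw [Finset.mem_range] at hi
    exact M.smul_mem _ (Submodule.subset_span ⟨⟨i, hi⟩, rfl⟩)
  have hxS : x ∈ S0 := Algebra.subset_adjoin rfl
  have hle : Subalgebra.toSubmodule (Algebra.adjoin k ({x, y} : Set K)) ≤ M.restrictScalars k := by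
    rw [Algebra.adjoin_eq_span, Submodule.span_le]
    intro w hw
    obtain ⟨a, c, rfl⟩ := (Submonoid.mem_closure_pair x y w).mp hw
    change x ^ a * y ^ c ∈ M
    have : x ^ a * y ^ c = (⟨x ^ a, S0.pow_mem hxS a⟩ : S0) • y ^ c := rfl
    rw [this]
    exact M.smul_mem _ (hpow c)
  have hzM : z ∈ M := hle hz
  obtain ⟨c, hc⟩ := (Submodule.mem_span_range_iff_exists_fun S0).mp hzM
  refine ⟨fun b => (c b : K), fun b => (c b).2, ?_⟩
  rw [← hc]
  rfl

/-- The plane monomials `x^a y^b`, `b < n`, `a + b ≤ m`. -/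
def ff_planeMon (x y : K) (n m : ℕ) : (Σ b : Fin n, Fin (m + 1 - b)) → K :=
  fun p => x ^ (p.2 : ℕ) * y ^ (p.1 : ℕ)

theorem ff_planeMon_mem_L {D : Divisor k K} (hD : 0 ≤ D) {x y : K} (hx : x ∈ L D)
    (hy : y ∈ L D) (n m : ℕ) (p : Σ b : Fin n, Fin (m + 1 - b)) :
    ff_planeMon x y n m p ∈ L (m • D) := by
  have h1 := ff_mul_mem_L (ff_pow_mem_L hx (p.2 : ℕ)) (ff_pow_mem_L hy (p.1 : ℕ))
  rw [← add_nsmul] at h1
  refine ff_L_mono (nsmul_le_nsmul_left hD ?_) h1
  have := p.2.2
  omega

theorem ff_natDegree_minpoly_of_adjoin_eq_top (hK : IsFunctionField k K) {x y : K}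
    (hxt : Transcendental k x) (hxy : IntermediateField.adjoin k ({x, y} : Set K) = ⊤) :
    (minpoly (IntermediateField.adjoin k ({x} : Set K)) y).natDegree =
      finrank (IntermediateField.adjoin k ({x} : Set K)) K := by
  have hfin := ff_finite_of_transcendental hK hxt
  set F := IntermediateField.adjoin k ({x} : Set K) with hF
  have hint : IsIntegral F y := IsIntegral.of_finite F y
  have htop : IntermediateField.adjoin F ({y} : Set K) = ⊤ := by
    rw [← IntermediateField.restrictScalars_eq_top_iff (K := k), hF,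
      IntermediateField.adjoin_adjoin_left, ← hxy]
    congr 1
  rw [← IntermediateField.adjoin.finrank hint, htop, IntermediateField.finrank_top']

theorem ff_planeMon_linearIndependent (hK : IsFunctionField k K) {x y : K}
    (hxt : Transcendental k x) (hxy : IntermediateField.adjoin k ({x, y} : Set K) = ⊤) (m : ℕ) :
    LinearIndependent k
      (ff_planeMon x y (finrank (IntermediateField.adjoin k ({x} : Set K)) K) m) := by
  classical
  have hnd := ff_natDegree_minpoly_of_adjoin_eq_top hK hxt hxy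
  set F := IntermediateField.adjoin k ({x} : Set K) with hF
  set nd := finrank F K with hnd'
  have hb : LinearIndependent k
      (fun a : Fin (m + 1) => (IntermediateField.AdjoinSimple.gen k x) ^ (a : ℕ)) :=
    ff_linearIndependent_pow_gen hxt (m + 1)
  have hc : LinearIndependent F (fun b : Fin (minpoly F y).natDegree => y ^ (b : ℕ)) :=
    linearIndependent_pow y
  rw [hnd] at hc
  have hprod := linearIndependent_smul hb hc
  let emb : (Σ b : Fin nd, Fin (m + 1 - b)) → Fin (m + 1) × Fin nd :=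
    fun p => (⟨(p.2 : ℕ), by have := p.2.2; omega⟩, p.1)
  have hemb : Function.Injective emb := by
    rintro ⟨b₁, a₁⟩ ⟨b₂, a₂⟩ h
    simp only [emb, Prod.mk.injEq, Fin.mk.injEq] at h
    obtain ⟨h1, h2⟩ := h
    subst h2
    have : a₁ = a₂ := Fin.ext h1
    subst this
    rfl
  have hι := hprod.comp emb hemb
  convert hι using 1
  funext p
  simp only [ff_planeMon, Function.comp_apply, emb, Algebra.smul_def, map_pow,
    IntermediateField.AdjoinSimple.algebraMap_gen]

theorem ff_finrank_span_planeMon (hK : IsFunctionField k K) {x y : K}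
    (hxt : Transcendental k x) (hxy : IntermediateField.adjoin k ({x, y} : Set K) = ⊤) (m : ℕ) :
    finrank k (Submodule.span k (Set.range
      (ff_planeMon x y (finrank (IntermediateField.adjoin k ({x} : Set K)) K) m))) =
      ∑ b ∈ Finset.range (finrank (IntermediateField.adjoin k ({x} : Set K)) K), (m + 1 - b) := by
  classical
  rw [finrank_span_eq_card (ff_planeMon_linearIndependent hK hxt hxy m), Fintype.card_sigma]
  simp only [Fintype.card_fin]
  rw [Fin.sum_univ_eq_sum_range (fun b => m + 1 - b)]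

theorem ff_forall_fin3 {P : Fin 3 → Prop} (h0 : P 0) (h1 : P 1) (h2 : P 2) : ∀ i, P i := by
  intro i
  fin_cases i
  · exact h0
  · exact h1
  · exact h2

theorem ff_exists_denominator (S : Set K) (h : IntermediateField.adjoin k S = ⊤) (z : K) :
    ∃ w ∈ Algebra.adjoin k S, w ≠ 0 ∧ z * w ∈ Algebra.adjoin k S := by
  have hz : z ∈ IntermediateField.adjoin k S := by rw [h]; trivial
  obtain ⟨r, hr, w, hw, rfl⟩ := IntermediateField.mem_adjoin_iff_div.mp hz
  by_cases hw0 : w = 0
  · exact ⟨1, Subalgebra.one_mem _, one_ne_zero, by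
      rw [hw0, div_zero, zero_mul]; exact Subalgebra.zero_mem _⟩
  · exact ⟨w, hw, hw0, by rw [div_mul_cancel₀ r hw0]; exact hr⟩

/-- **Projective normality**: for a plane model `(1 : x : y)` in general coordinates (the pole
divisor of `x` is the divisor `D` of the map) which is nonsingular at every place, `L(mD)` is
spanned by the monomials of degree `≤ m`. -/
theorem ff_L_le_span_planeMon (hK : IsFunctionField k K) {D : Divisor k K}
    {x y : K} (hxt : Transcendental k x) (hpd : (ff_poleDiv x : Divisor k K) = D)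
    (hyL : y ∈ L D) (hgen : IntermediateField.adjoin k ({x, y} : Set K) = ⊤)
    (hns : ∀ Q : Place k K, IsNonsingularAt ![(1 : K), x, y] Q) (m : ℕ) :
    L (m • D) ≤ Submodule.span k (Set.range
      (ff_planeMon x y (finrank (IntermediateField.adjoin k ({x} : Set K)) K) m)) := by
  classical
  intro z hz
  have hfin := ff_finite_of_transcendental hK hxt
  set F := IntermediateField.adjoin k ({x} : Set K) with hF
  set n := finrank F K with hn
  set ψ : Fin 3 → K := ![1, x, y] with hψ
  have hx0 : x ≠ 0 := fun h => hxt (h ▸ isAlgebraic_zero)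
  have hxit := ff_transcendental_inv hxt
  -- valuations
  have hDQ : ∀ Q : Place k K, D Q = max (-Q.ord x) 0 := fun Q => by
    rw [← hpd, ff_poleDiv_apply hK]
  have hD0 : ∀ Q : Place k K, Q.1 x ≤ 1 → D Q = 0 := by
    intro Q hQ
    have := (ff_ord_nonneg_iff Q hx0).mpr hQ
    rw [hDQ]; omega
  have hDx : ∀ Q : Place k K, 1 ≤ Q.1 x → Q.1 x = WithZero.exp (D Q) := by
    intro Q hQ
    rw [ff_val_eq_exp_neg_ord Q hx0] at hQ ⊢
    rw [← WithZero.exp_zero, WithZero.exp_le_exp] at hQ
    rw [hDQ, max_eq_left hQ]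
  have hyD : ∀ Q : Place k K, Q.1 y ≤ WithZero.exp (D Q) := (ff_mem_L_iff D y).mp hyL
  have hinvle : ∀ Q : Place k K, Q.1 x⁻¹ ≤ 1 → 1 ≤ Q.1 x := by
    intro Q hQu
    rw [map_inv₀] at hQu
    exact (inv_le_one₀ (zero_lt_iff.mpr (ff_val_ne_zero Q hx0))).mp hQu
  -- the two charts
  have hR0 : Algebra.adjoin k (Set.range fun i => ψ i / ψ 0) =
      Algebra.adjoin k ({x, y} : Set K) := by
    apply le_antisymm
    · refine Algebra.adjoin_le ?_
      rintro _ ⟨i, rfl⟩
      revert i
      refine ff_forall_fin3 ?_ ?_ ?_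
      · show (1 : K) / 1 ∈ _
        rw [div_one]; exact Subalgebra.one_mem _
      · show x / 1 ∈ _
        rw [div_one]; exact Algebra.subset_adjoin (by simp)
      · show y / 1 ∈ _
        rw [div_one]; exact Algebra.subset_adjoin (by simp)
    · refine Algebra.adjoin_le ?_
      rintro w (rfl | rfl)
      · have : ψ 1 / ψ 0 ∈ Algebra.adjoin k (Set.range fun i => ψ i / ψ 0) :=
          Algebra.subset_adjoin ⟨1, rfl⟩
        have e : ψ 1 / ψ 0 = w := by show w / 1 = w; exact div_one w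
        rwa [e] at this
      · have : ψ 2 / ψ 0 ∈ Algebra.adjoin k (Set.range fun i => ψ i / ψ 0) :=
          Algebra.subset_adjoin ⟨2, rfl⟩
        have e : ψ 2 / ψ 0 = w := by show w / 1 = w; exact div_one w
        rwa [e] at this
  have hR1 : Algebra.adjoin k (Set.range fun i => ψ i / ψ 1) =
      Algebra.adjoin k ({x⁻¹, y * x⁻¹} : Set K) := by
    apply le_antisymm
    · refine Algebra.adjoin_le ?_
      rintro _ ⟨i, rfl⟩
      revert i
      refine ff_forall_fin3 ?_ ?_ ?_
      · show (1 : K) / x ∈ _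
        rw [one_div]; exact Algebra.subset_adjoin (by simp)
      · show x / x ∈ _
        rw [div_self hx0]; exact Subalgebra.one_mem _
      · show y / x ∈ _
        rw [div_eq_mul_inv]; exact Algebra.subset_adjoin (by simp)
    · refine Algebra.adjoin_le ?_
      rintro w (rfl | rfl)
      · have : ψ 0 / ψ 1 ∈ Algebra.adjoin k (Set.range fun i => ψ i / ψ 1) :=
          Algebra.subset_adjoin ⟨0, rfl⟩
        have e : ψ 0 / ψ 1 = x⁻¹ := by show (1 : K) / x = x⁻¹; exact one_div x
        rwa [e] at this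
      · have : ψ 2 / ψ 1 ∈ Algebra.adjoin k (Set.range fun i => ψ i / ψ 1) :=
          Algebra.subset_adjoin ⟨2, rfl⟩
        have e : ψ 2 / ψ 1 = y * x⁻¹ := by show y / x = y * x⁻¹; exact div_eq_mul_inv y x
        rwa [e] at this
  have hgen1 : IntermediateField.adjoin k ({x⁻¹, y * x⁻¹} : Set K) = ⊤ := by
    have h1 : x⁻¹ ∈ IntermediateField.adjoin k ({x⁻¹, y * x⁻¹} : Set K) :=
      IntermediateField.subset_adjoin k _ (by simp)
    have h2 : y * x⁻¹ ∈ IntermediateField.adjoin k ({x⁻¹, y * x⁻¹} : Set K) :=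
      IntermediateField.subset_adjoin k _ (by simp)
    rw [← top_le_iff, ← hgen, IntermediateField.adjoin_le_iff]
    rintro w (rfl | rfl)
    · have := inv_mem h1
      rwa [inv_inv] at this
    · have h3 := mul_mem h2 (inv_mem h1)
      rwa [inv_inv, mul_assoc, inv_mul_cancel₀ hx0, mul_one] at h3
  -- Step 1: `z ∈ k[x, y]`
  have hzR0 : z ∈ Algebra.adjoin k ({x, y} : Set K) := by
    refine ff_mem_of_forall_mem_locRing hK _ z (ff_exists_denominator _ hgen z) fun Q hQ => ?_
    have hQx : Q.1 x ≤ 1 := hQ x (Algebra.subset_adjoin (by simp))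
    have hDQ0 := hD0 Q hQx
    have hzQ : Q.1 z ≤ 1 := by
      have := (ff_mem_L_iff _ z).mp hz Q
      rwa [Finsupp.smul_apply, hDQ0, smul_zero, WithZero.exp_zero] at this
    have h1 : Q.1 (ψ 0) = 1 := by show Q.1 (1 : K) = 1; exact map_one _
    have hmax : ∀ i, Q.1 (ψ i) ≤ Q.1 (ψ 0) := by
      rw [h1]
      refine ff_forall_fin3 ?_ ?_ ?_
      · exact h1.le
      · exact hQx
      · have := hyD Q
        rwa [hDQ0, WithZero.exp_zero] at this
    have := (ff_inLocRing_iff ψ Q 0 (show ψ 0 ≠ 0 from one_ne_zero) hmax z).mp (hns Q z hzQ)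
    rwa [hR0] at this
  -- Step 1': `z / x^m ∈ k[1/x, y/x]`
  have hzR1 : z * x⁻¹ ^ m ∈ Algebra.adjoin k ({x⁻¹, y * x⁻¹} : Set K) := by
    refine ff_mem_of_forall_mem_locRing hK _ _ (ff_exists_denominator _ hgen1 _) fun Q hQ => ?_
    have hQu : Q.1 x⁻¹ ≤ 1 := hQ _ (Algebra.subset_adjoin (by simp))
    have hQx : 1 ≤ Q.1 x := hinvle Q hQu
    have hxD := hDx Q hQx
    have hzQ : Q.1 (z * x⁻¹ ^ m) ≤ 1 := by
      have h1 := (ff_mem_L_iff _ z).mp hz Q
      rw [Finsupp.smul_apply, WithZero.exp_nsmul, ← hxD] at h1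
      rw [map_mul, map_pow, map_inv₀]
      calc Q.1 z * (Q.1 x)⁻¹ ^ m ≤ Q.1 x ^ m * (Q.1 x)⁻¹ ^ m := mul_le_mul' h1 le_rfl
        _ = 1 := by rw [← mul_pow, mul_inv_cancel₀ (ff_val_ne_zero Q hx0), one_pow]
    have hmax : ∀ i, Q.1 (ψ i) ≤ Q.1 (ψ 1) := by
      refine ff_forall_fin3 ?_ ?_ ?_
      · show Q.1 (1 : K) ≤ Q.1 x
        rw [map_one]; exact hQx
      · exact le_rfl
      · show Q.1 y ≤ Q.1 x
        rw [hxD]; exact hyD Q
    have := (ff_inLocRing_iff ψ Q 1 (show ψ 1 ≠ 0 from hx0) hmax _).mp (hns Q _ hzQ)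
    rwa [hR1] at this
  -- integrality
  have hyint : IsIntegral (Algebra.adjoin k ({x} : Set K)) y := by
    apply ff_isIntegral_of_valuationSubring
    intro V hV
    by_cases hVtop : V = ⊤
    · rw [hVtop]; trivial
    · obtain ⟨Q, hQ⟩ := ff_exists_place_of_valuationSubring hK V
        (fun c => hV _ (Subalgebra.algebraMap_mem _ c)) hVtop
      rw [← hQ]
      have hxV : x ∈ Q.O := by rw [hQ]; exact hV _ (Algebra.subset_adjoin rfl)
      have hQx : Q.1 x ≤ 1 := (Valuation.mem_valuationSubring_iff _ _).mp hxV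
      refine (Valuation.mem_valuationSubring_iff _ _).mpr ?_
      have := hyD Q
      rwa [hD0 Q hQx, WithZero.exp_zero] at this
  have hvint : IsIntegral (Algebra.adjoin k ({x⁻¹} : Set K)) (y * x⁻¹) := by
    apply ff_isIntegral_of_valuationSubring
    intro V hV
    by_cases hVtop : V = ⊤
    · rw [hVtop]; trivial
    · obtain ⟨Q, hQ⟩ := ff_exists_place_of_valuationSubring hK V
        (fun c => hV _ (Subalgebra.algebraMap_mem _ c)) hVtop
      rw [← hQ]
      have hxV : x⁻¹ ∈ Q.O := by rw [hQ]; exact hV _ (Algebra.subset_adjoin rfl)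
      have hQu : Q.1 x⁻¹ ≤ 1 := (Valuation.mem_valuationSubring_iff _ _).mp hxV
      have hQx := hinvle Q hQu
      refine (Valuation.mem_valuationSubring_iff _ _).mpr ?_
      rw [map_mul, map_inv₀]
      calc Q.1 y * (Q.1 x)⁻¹ ≤ Q.1 x * (Q.1 x)⁻¹ := by
            refine mul_le_mul' ?_ le_rfl
            rw [hDx Q hQx]; exact hyD Q
        _ = 1 := mul_inv_cancel₀ (ff_val_ne_zero Q hx0)
  -- degrees
  have hdeg0 : (minpoly F y).natDegree ≤ n := minpoly.natDegree_le y
  have hFu : IntermediateField.adjoin k ({x⁻¹} : Set K) = F := by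
    apply le_antisymm
    · rw [IntermediateField.adjoin_simple_le_iff]
      exact inv_mem (IntermediateField.mem_adjoin_simple_self k x)
    · rw [hF, IntermediateField.adjoin_simple_le_iff]
      have := inv_mem (IntermediateField.mem_adjoin_simple_self k x⁻¹)
      rwa [inv_inv] at this
  have hfr : ∀ F' : IntermediateField k K, F' = F → finrank F' K = n := by
    rintro _ rfl; rfl
  have hfin1 := ff_finite_of_transcendental hK hxit
  have hdeg1 : (minpoly (IntermediateField.adjoin k ({x⁻¹} : Set K)) (y * x⁻¹)).natDegree ≤ n :=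
    (minpoly.natDegree_le _).trans (le_of_eq (hfr _ hFu))
  obtain ⟨s, hs, hzs⟩ := ff_adjoin_pair_le_span x y hxt hyint hdeg0 hzR0
  obtain ⟨t, ht, hzt⟩ := ff_adjoin_pair_le_span x⁻¹ (y * x⁻¹) hxit hvint hdeg1 hzR1
  -- comparison of coefficients
  have hnd := ff_natDegree_minpoly_of_adjoin_eq_top hK hxt hgen
  have hc : LinearIndependent F (fun b : Fin n => y ^ (b : ℕ)) := by
    have := linearIndependent_pow (K := F) y
    rwa [hnd] at this
  have hsF : ∀ b, s b ∈ F := fun b => IntermediateField.algebra_adjoin_le_adjoin k _ (hs b)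
  have htF : ∀ b, t b ∈ F := fun b => by
    have : t b ∈ IntermediateField.adjoin k ({x⁻¹} : Set K) :=
      IntermediateField.algebra_adjoin_le_adjoin k _ (ht b)
    rwa [hFu] at this
  have hxF : x ∈ F := IntermediateField.mem_adjoin_simple_self k x
  let e : Fin n → F := fun b => ⟨s b - t b * x⁻¹ ^ (b : ℕ) * x ^ m,
    sub_mem (hsF b) (mul_mem (mul_mem (htF b) (pow_mem (inv_mem hxF) _)) (pow_mem hxF _))⟩
  have he : ∑ b, e b • y ^ (b : ℕ) = 0 := by
    have h1 : ∀ b, e b • y ^ (b : ℕ) =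
        s b * y ^ (b : ℕ) - x ^ m * (t b * (y * x⁻¹) ^ (b : ℕ)) := by
      intro b
      change (s b - t b * x⁻¹ ^ (b : ℕ) * x ^ m) * y ^ (b : ℕ) = _
      rw [mul_pow]; ring
    simp only [h1]
    rw [Finset.sum_sub_distrib, ← Finset.mul_sum, ← hzs, ← hzt, mul_comm z, ← mul_assoc,
      ← mul_pow, mul_inv_cancel₀ hx0, one_pow, one_mul, sub_self]
  have he0 := Fintype.linearIndependent_iff.mp hc e he
  have hsb : ∀ b, s b = t b * x⁻¹ ^ (b : ℕ) * x ^ m := fun b => by
    have := congrArg Subtype.val (he0 b)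
    exact sub_eq_zero.mp this
  -- a pole of `x`
  have hdegD : D.deg = n := by rw [← hpd]; exact ff_deg_poleDiv hK hxt
  have hnpos : 0 < n := Module.finrank_pos
  obtain ⟨Q', hQ'⟩ : ∃ Q, D Q ≠ 0 := by
    by_contra hcon
    push Not at hcon
    have : D = 0 := Finsupp.ext hcon
    rw [this, ff_deg_zero] at hdegD
    omega
  have hQx : 1 < Q'.1 x := by
    have h1 := hDQ Q'
    have h2 : 0 < -Q'.ord x := by
      rcases le_or_gt (-Q'.ord x) 0 with h | h
      · rw [max_eq_right h] at h1; exact absurd h1 hQ'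
      · exact h
    rw [ff_val_eq_exp_neg_ord Q' hx0, ← WithZero.exp_zero, WithZero.exp_lt_exp]
    exact h2
  have hxpos : 0 < Q'.1 x := lt_trans zero_lt_one hQx
  have htQ : ∀ b, Q'.1 (t b) ≤ 1 := by
    intro b
    have hu1 : Q'.1 x⁻¹ ≤ 1 := by
      rw [map_inv₀]
      exact (inv_le_one₀ hxpos).mpr hQx.le
    have := ht b
    rw [Algebra.adjoin_singleton_eq_range_aeval] at this
    obtain ⟨q, hq⟩ := this
    rw [← hq]
    exact ff_gen_val_aeval_le_one Q'.1 Q'.2.1 hu1 q
  rw [hzs]
  refine Submodule.sum_mem _ fun b _ => ?_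
  have hsb' := hs b
  rw [Algebra.adjoin_singleton_eq_range_aeval] at hsb'
  obtain ⟨p, hp⟩ := hsb'
  by_cases hp0 : p = 0
  · rw [← hp, hp0, map_zero, zero_mul]; exact Submodule.zero_mem _
  · have hval := ff_val_aeval_of_pole Q' hQx hp0
    have hsx : s b * x ^ (b : ℕ) = t b * x ^ m := by
      rw [hsb b, inv_pow, mul_assoc, mul_assoc, mul_comm (x ^ m), ← mul_assoc ((x ^ (b : ℕ))⁻¹),
        inv_mul_cancel₀ (pow_ne_zero _ hx0), one_mul]
    have hN : p.natDegree + b ≤ m := by
      have e1 : Q'.1 (s b * x ^ (b : ℕ)) = Q'.1 x ^ (p.natDegree + b) := by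
        have : Q'.1 (s b) = Q'.1 x ^ p.natDegree := by rw [← hval]; exact congrArg _ hp.symm
        rw [map_mul, map_pow, this, pow_add]
      have e2 : Q'.1 (t b * x ^ m) ≤ Q'.1 x ^ m := by
        rw [map_mul, map_pow]
        calc Q'.1 (t b) * Q'.1 x ^ m ≤ 1 * Q'.1 x ^ m := mul_le_mul' (htQ b) le_rfl
          _ = _ := one_mul _
      rw [hsx] at e1
      rw [e1] at e2
      exact (pow_le_pow_iff_right₀ hQx).mp e2
    have hp' : s b = aeval x p := hp.symm
    rw [hp', aeval_eq_sum_range, Finset.sum_mul]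
    refine Submodule.sum_mem _ fun a ha => ?_
    rw [Finset.mem_range] at ha
    rw [smul_mul_assoc]
    refine Submodule.smul_mem _ _ (Submodule.subset_span ⟨⟨b, ⟨a, by omega⟩⟩, rfl⟩)

/-- Conversely, if the monomials of degree `≤ m` span `L(mD)` for all large `m`, the plane model
is nonsingular at every place. -/
theorem ff_isNonsingularAt_of_L_le_span (hK : IsFunctionField k K) {D : Divisor k K}
    {x y : K} (hxt : Transcendental k x) (hpd : (ff_poleDiv x : Divisor k K) = D)
    (hyL : y ∈ L D) (n m₀ : ℕ)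
    (hV : ∀ m, m₀ ≤ m → L (m • D) ≤ Submodule.span k (Set.range (ff_planeMon x y n m)))
    (Q : Place k K) : IsNonsingularAt ![(1 : K), x, y] Q := by
  classical
  intro z hz
  set ψ : Fin 3 → K := ![1, x, y] with hψ
  have hx0 : x ≠ 0 := fun h => hxt (h ▸ isAlgebraic_zero)
  have hDQ : ∀ Q : Place k K, D Q = max (-Q.ord x) 0 := fun Q => by
    rw [← hpd, ff_poleDiv_apply hK]
  have hyD : ∀ Q : Place k K, Q.1 y ≤ WithZero.exp (D Q) := (ff_mem_L_iff D y).mp hyL
  have hxD : ∀ Q : Place k K, Q.1 x ≤ WithZero.exp (D Q) := fun Q => by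
    rw [← hpd]; exact ff_val_le_exp_poleDiv hK x Q
  have hfin := ff_finite_of_transcendental hK hxt
  have hdegD : 1 ≤ D.deg := by
    rw [← hpd, ff_deg_poleDiv hK hxt]
    have : 0 < finrank (IntermediateField.adjoin k ({x} : Set K)) K := Module.finrank_pos
    exact_mod_cast this
  by_cases hQ : D Q = 0
  · obtain ⟨M₀, hM₀⟩ := ff_exists_unit_clearing hK hdegD Q hQ hz
    obtain ⟨h, hhL, hh1, hhz⟩ := hM₀ (max M₀ m₀) (le_max_left _ _)
    have hVM := hV (max M₀ m₀) (le_max_right _ _)
    have hspan : Submodule.span k (Set.range (ff_planeMon x y n (max M₀ m₀))) ≤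
        Subalgebra.toSubmodule (Algebra.adjoin k (Set.range fun i => ψ i / ψ 0)) := by
      rw [Submodule.span_le]
      rintro _ ⟨p, rfl⟩
      have hxm : x ∈ Algebra.adjoin k (Set.range fun i => ψ i / ψ 0) := by
        have : ψ 1 / ψ 0 ∈ Algebra.adjoin k (Set.range fun i => ψ i / ψ 0) :=
          Algebra.subset_adjoin ⟨1, rfl⟩
        have e : ψ 1 / ψ 0 = x := by show x / 1 = x; exact div_one x
        rwa [e] at this
      have hym : y ∈ Algebra.adjoin k (Set.range fun i => ψ i / ψ 0) := by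
        have : ψ 2 / ψ 0 ∈ Algebra.adjoin k (Set.range fun i => ψ i / ψ 0) :=
          Algebra.subset_adjoin ⟨2, rfl⟩
        have e : ψ 2 / ψ 0 = y := by show y / 1 = y; exact div_one y
        rwa [e] at this
      exact Subalgebra.mul_mem _ (Subalgebra.pow_mem _ hxm _) (Subalgebra.pow_mem _ hym _)
    have h1 : Q.1 (ψ 0) = 1 := by show Q.1 (1 : K) = 1; exact map_one _
    have hmax : ∀ i, Q.1 (ψ i) ≤ Q.1 (ψ 0) := by
      rw [h1]
      refine ff_forall_fin3 ?_ ?_ ?_
      · exact h1.le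
      · have := hxD Q
        rwa [hQ, WithZero.exp_zero] at this
      · have := hyD Q
        rwa [hQ, WithZero.exp_zero] at this
    rw [ff_inLocRing_iff ψ Q 0 (show ψ 0 ≠ 0 from one_ne_zero) hmax]
    refine ⟨z * h, ?_, h, hspan (hVM hhL), hh1, rfl⟩
    rw [mul_comm]
    exact hspan (hVM hhz)
  · have hordQ : D Q = -Q.ord x := by
      have h1 := hDQ Q
      rcases le_or_gt (-Q.ord x) 0 with h | h
      · rw [max_eq_right h] at h1; exact absurd h1 hQ
      · rw [max_eq_left h.le] at h1; exact h1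
    have hDpos : 0 < D Q := by
      have h1 := hDQ Q
      have : 0 ≤ D Q := by rw [h1]; exact le_max_right _ _
      omega
    have hQx : Q.1 x = WithZero.exp (D Q) := by
      rw [ff_val_eq_exp_neg_ord Q hx0, hordQ]
    set E : Divisor k K := D + FunFld.div k x with hE
    have hEQ : E Q = 0 := by
      rw [hE, Finsupp.add_apply, ff_div_apply hK, hordQ]; ring
    have hEdeg : 1 ≤ E.deg := by
      rw [hE, ff_deg_add, ff_deg_div hK, add_zero]; exact hdegD
    obtain ⟨M₀, hM₀⟩ := ff_exists_unit_clearing hK hEdeg Q hEQ hz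
    obtain ⟨h, hhL, hh1, hhz⟩ := hM₀ (max M₀ m₀) (le_max_left _ _)
    have hVM := hV (max M₀ m₀) (le_max_right _ _)
    have h1 : h * x ^ (max M₀ m₀) ∈ L ((max M₀ m₀) • D) :=
      (ff_mul_pow_mem_L_iff hK D hx0 _ h).mpr hhL
    have h2 : h * z * x ^ (max M₀ m₀) ∈ L ((max M₀ m₀) • D) :=
      (ff_mul_pow_mem_L_iff hK D hx0 _ (h * z)).mpr hhz
    have hum : x⁻¹ ∈ Algebra.adjoin k (Set.range fun i => ψ i / ψ 1) := by
      have : ψ 0 / ψ 1 ∈ Algebra.adjoin k (Set.range fun i => ψ i / ψ 1) :=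
        Algebra.subset_adjoin ⟨0, rfl⟩
      have e : ψ 0 / ψ 1 = x⁻¹ := by show (1 : K) / x = x⁻¹; exact one_div x
      rwa [e] at this
    have hvm : y * x⁻¹ ∈ Algebra.adjoin k (Set.range fun i => ψ i / ψ 1) := by
      have : ψ 2 / ψ 1 ∈ Algebra.adjoin k (Set.range fun i => ψ i / ψ 1) :=
        Algebra.subset_adjoin ⟨2, rfl⟩
      have e : ψ 2 / ψ 1 = y * x⁻¹ := by show y / x = y * x⁻¹; exact div_eq_mul_inv y x
      rwa [e] at this
    have hdiv : ∀ w ∈ Submodule.span k (Set.range (ff_planeMon x y n (max M₀ m₀))),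
        w / x ^ (max M₀ m₀) ∈ Algebra.adjoin k (Set.range fun i => ψ i / ψ 1) := by
      intro w hw
      induction hw using Submodule.span_induction with
      | mem w hw =>
        obtain ⟨p, rfl⟩ := hw
        obtain ⟨a, ha⟩ : ∃ a, a = (p.2 : ℕ) := ⟨_, rfl⟩
        obtain ⟨b, hb⟩ : ∃ b, b = (p.1 : ℕ) := ⟨_, rfl⟩
        have hab : a + b ≤ max M₀ m₀ := by
          have := p.2.2
          omega
        obtain ⟨c, hc⟩ : ∃ c, max M₀ m₀ = a + b + c := ⟨max M₀ m₀ - (a + b), by omega⟩
        have hxM : x ^ (max M₀ m₀) = x ^ a * x ^ b * x ^ c := by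
          rw [← pow_add, ← pow_add, ← hc]
        have e : ff_planeMon x y n (max M₀ m₀) p / x ^ (max M₀ m₀) =
            x⁻¹ ^ c * (y * x⁻¹) ^ b := by
          rw [hxM]
          simp only [ff_planeMon, ← ha, ← hb]
          rw [mul_pow, inv_pow, inv_pow]
          field_simp
        rw [e]
        exact Subalgebra.mul_mem _ (Subalgebra.pow_mem _ hum _) (Subalgebra.pow_mem _ hvm _)
      | zero => rw [zero_div]; exact Subalgebra.zero_mem _
      | add a b _ _ ha hb => rw [add_div]; exact Subalgebra.add_mem _ ha hb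
      | smul c w _ hw => rw [smul_div_assoc]; exact Subalgebra.smul_mem _ hw c
    have hmax : ∀ i, Q.1 (ψ i) ≤ Q.1 (ψ 1) := by
      refine ff_forall_fin3 ?_ ?_ ?_
      · show Q.1 (1 : K) ≤ Q.1 x
        rw [map_one, hQx, ← WithZero.exp_zero, WithZero.exp_le_exp]
        exact hDpos.le
      · exact le_rfl
      · show Q.1 y ≤ Q.1 x
        rw [hQx]; exact hyD Q
    rw [ff_inLocRing_iff ψ Q 1 (show ψ 1 ≠ 0 from hx0) hmax]
    refine ⟨z * h, ?_, h, ?_, hh1, rfl⟩
    · have := hdiv _ (hVM h2)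
      rwa [mul_div_cancel_right₀ _ (pow_ne_zero _ hx0), mul_comm] at this
    · have := hdiv _ (hVM h1)
      rwa [mul_div_cancel_right₀ _ (pow_ne_zero _ hx0)] at this

/-- General coordinates for a plane model: a linear form `x'` whose pole divisor is the divisor
of the map, and a second generator `y'`. -/
theorem ff_plane_general_coords [IsAlgClosed k] (hK : IsFunctionField k K) (x y : K)
    (hxy : IntermediateField.adjoin k ({x, y} : Set K) = ⊤) :
    ∃ x' y' : K, Transcendental k x' ∧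
      (ff_poleDiv x' : Divisor k K) = mapDiv k ![(1 : K), x, y] ∧
      y' ∈ L (mapDiv k ![(1 : K), x, y]) ∧
      IntermediateField.adjoin k ({x', y'} : Set K) = ⊤ ∧
      Submodule.span k (Set.range ![(1 : K), x, y]) =
        Submodule.span k (Set.range ![(1 : K), x', y']) := by
  classical
  set φ : Fin 3 → K := ![1, x, y] with hφ
  set D := mapDiv k φ with hD
  have hD0 : 0 ≤ D := ff_mapDiv_nonneg_of_one hK φ 0 rfl
  have hφL : ∀ i, φ i ∈ L D := by
    intro i
    rw [ff_mem_L_iff]
    intro Q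
    rcases ff_val_le_exp_mapDiv hK φ i Q with h | h
    · exact h
    · rw [h, map_zero]; exact zero_le
  have hxL : x ∈ L D := hφL 1
  have hyL : y ∈ L D := hφL 2
  set W := Submodule.span k (Set.range φ) with hW
  have hWL : W ≤ L D := Submodule.span_le.mpr (by rintro _ ⟨i, rfl⟩; exact hφL i)
  have h1W : (1 : K) ∈ W := Submodule.subset_span ⟨0, rfl⟩
  have hxW : x ∈ W := Submodule.subset_span ⟨1, rfl⟩
  have hyW : y ∈ W := Submodule.subset_span ⟨2, rfl⟩
  -- `D ≠ 0`
  obtain ⟨Q₀, hQ₀⟩ : ∃ Q₀, D Q₀ ≠ 0 := by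
    by_contra hcon
    push Not at hcon
    have hD0' : D = 0 := Finsupp.ext hcon
    rw [hD0', ff_L_zero hK, Submodule.mem_one] at hxL hyL
    obtain ⟨a, ha⟩ := hxL
    obtain ⟨b, hb⟩ := hyL
    have hbot : IntermediateField.adjoin k ({x, y} : Set K) = ⊥ := by
      rw [IntermediateField.adjoin_eq_bot_iff]
      rintro z (rfl | rfl)
      · exact IntermediateField.mem_bot.mpr ⟨a, ha⟩
      · exact IntermediateField.mem_bot.mpr ⟨b, hb⟩
    obtain ⟨⟨t, ht, -⟩, -⟩ := hK
    have : t ∈ (⊥ : IntermediateField k K) := by rw [← hbot, hxy]; trivial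
    rw [IntermediateField.mem_bot] at this
    obtain ⟨c, rfl⟩ := this
    exact ht (isAlgebraic_algebraMap c)
  -- a general element of `W`
  have hbpf : ∀ Q : Place k K, D Q ≠ 0 → ∃ w ∈ W, w ∉ L (D - Finsupp.single Q 1) := by
    intro Q _
    obtain ⟨i, hi⟩ := ff_exists_val_eq_exp_mapDiv hK φ 0 rfl Q
    refine ⟨φ i, Submodule.subset_span ⟨i, rfl⟩, ?_⟩
    rw [ff_mem_L_sub_single_iff]
    rintro ⟨-, h⟩
    rw [hi] at h
    exact lt_irrefl _ h
  obtain ⟨x', hx'W, hx'gen⟩ := ff_exists_general_in D W hWL hbpf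
  have hx'L : x' ∈ L D := hWL hx'W
  obtain ⟨c, hc⟩ := (Submodule.mem_span_range_iff_exists_fun k).mp hx'W
  rw [Fin.sum_univ_three] at hc
  have hφ0 : φ 0 = 1 := rfl
  have hφ1 : φ 1 = x := rfl
  have hφ2 : φ 2 = y := rfl
  rw [hφ0, hφ1, hφ2] at hc
  have hQ₀pos : 0 < D Q₀ := lt_of_le_of_ne (hD0 Q₀) (Ne.symm hQ₀)
  have hx'pole : 1 < Q₀.1 x' := by
    rw [hx'gen Q₀ hQ₀, ← WithZero.exp_zero, WithZero.exp_lt_exp]
    exact hQ₀pos
  have hx'nc : x' ∉ Set.range (algebraMap k K) := by
    rintro ⟨a, rfl⟩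
    exact absurd hx'pole (not_lt.mpr (Q₀.2.1 a))
  have hx't : Transcendental k x' := ff_transcendental_of_not_mem_range hK hx'nc
  have hx'0 : x' ≠ 0 := by
    rintro rfl
    exact hx'nc ⟨0, map_zero _⟩
  -- the pole divisor of `x'` is `D`
  have hpd : (ff_poleDiv x' : Divisor k K) = D := by
    ext Q
    rw [ff_poleDiv_apply hK]
    by_cases hQ : D Q = 0
    · have h1 := (ff_mem_L_iff D x').mp hx'L Q
      rw [hQ, WithZero.exp_zero] at h1
      have := (ff_ord_nonneg_iff Q hx'0).mpr h1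
      rw [hQ]
      omega
    · have h1 := hx'gen Q hQ
      rw [ff_val_eq_exp_neg_ord Q hx'0] at h1
      have h2 := WithZero.exp_injective h1
      have h3 : 0 < D Q := lt_of_le_of_ne (hD0 Q) (Ne.symm hQ)
      omega
  -- a second generator
  have hspan_le : ∀ y' ∈ W, Submodule.span k (Set.range ![(1 : K), x', y']) ≤ W := by
    intro y' hy'
    rw [Submodule.span_le]
    rintro _ ⟨i, rfl⟩
    revert i
    exact ff_forall_fin3 h1W hx'W hy'
  have hspan_ge : ∀ y' : K, x ∈ Submodule.span k (Set.range ![(1 : K), x', y']) →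
      y ∈ Submodule.span k (Set.range ![(1 : K), x', y']) →
      W ≤ Submodule.span k (Set.range ![(1 : K), x', y']) := by
    intro y' hx hy
    rw [hW, Submodule.span_le]
    rintro _ ⟨i, rfl⟩
    revert i
    exact ff_forall_fin3 (Submodule.subset_span ⟨0, rfl⟩) hx hy
  by_cases hc2 : c 2 = 0
  · have hc1 : c 1 ≠ 0 := by
      intro hc1
      apply hx'nc
      refine ⟨c 0, ?_⟩
      rw [← hc, hc1, hc2, zero_smul, zero_smul, add_zero, add_zero, Algebra.smul_def, mul_one]
    have hxe : x = (c 1)⁻¹ • (x' - c 0 • (1 : K)) := by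
      rw [← hc, hc2, zero_smul, add_zero, add_sub_cancel_left, smul_smul,
        inv_mul_cancel₀ hc1, one_smul]
    refine ⟨x', y, hx't, hpd, hyL, ?_, le_antisymm (hspan_ge y ?_ ?_) (hspan_le y hyW)⟩
    · rw [← top_le_iff, ← hxy, IntermediateField.adjoin_le_iff]
      rintro z (rfl | rfl)
      · rw [hxe]
        exact IntermediateField.smul_mem _ (sub_mem
          (IntermediateField.subset_adjoin k _ (by simp))
          (IntermediateField.smul_mem _ (one_mem _)))
      · exact IntermediateField.subset_adjoin k _ (by simp)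
    · rw [hxe]
      exact Submodule.smul_mem _ _ (Submodule.sub_mem _ (Submodule.subset_span ⟨1, rfl⟩)
        (Submodule.smul_mem _ _ (Submodule.subset_span ⟨0, rfl⟩)))
    · exact Submodule.subset_span ⟨2, rfl⟩
  · have hye : y = (c 2)⁻¹ • (x' - c 0 • (1 : K) - c 1 • x) := by
      rw [← hc]
      have : c 0 • (1 : K) + c 1 • x + c 2 • y - c 0 • (1 : K) - c 1 • x = c 2 • y := by ring
      rw [this, smul_smul, inv_mul_cancel₀ hc2, one_smul]
    refine ⟨x', x, hx't, hpd, hxL, ?_, le_antisymm (hspan_ge x ?_ ?_) (hspan_le x hxW)⟩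
    · rw [← top_le_iff, ← hxy, IntermediateField.adjoin_le_iff]
      rintro z (rfl | rfl)
      · exact IntermediateField.subset_adjoin k _ (by simp)
      · rw [hye]
        exact IntermediateField.smul_mem _ (sub_mem (sub_mem
          (IntermediateField.subset_adjoin k _ (by simp))
          (IntermediateField.smul_mem _ (one_mem _)))
          (IntermediateField.smul_mem _ (IntermediateField.subset_adjoin k _ (by simp))))
    · exact Submodule.subset_span ⟨2, rfl⟩
    · rw [hye]
      exact Submodule.smul_mem _ _ (Submodule.sub_mem _ (Submodule.sub_mem _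
        (Submodule.subset_span ⟨1, rfl⟩)
        (Submodule.smul_mem _ _ (Submodule.subset_span ⟨0, rfl⟩)))
        (Submodule.smul_mem _ _ (Submodule.subset_span ⟨2, rfl⟩)))

/-- S11059: a plane model of degree `d` has `2g = (d-1)(d-2)` iff it is nonsingular at every
place. -/
theorem ff_plane_genus_eq_iff [IsAlgClosed k] (hK : IsFunctionField k K) (x y : K)
    (hxy : IntermediateField.adjoin k ({x, y} : Set K) = ⊤) :
    2 * (genus k K : ℤ) =
        ((mapDiv k ![(1 : K), x, y]).deg - 1) * ((mapDiv k ![(1 : K), x, y]).deg - 2) ↔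
      ∀ P : Place k K, IsNonsingularAt ![(1 : K), x, y] P := by
  classical
  have hle := ff_plane_genus_le hK x y hxy
  obtain ⟨x', y', hx't, hpd, hy'L, hgen, hspan⟩ := ff_plane_general_coords hK x y hxy
  set D := mapDiv k ![(1 : K), x, y] with hD
  have hD0 : 0 ≤ D := ff_mapDiv_nonneg_of_one hK _ 0 rfl
  have hx'L : x' ∈ L D := by
    rw [ff_mem_L_iff]
    intro Q
    rw [← hpd]
    exact ff_val_le_exp_poleDiv hK x' Q
  have hfin := ff_finite_of_transcendental hK hx't
  set n := finrank (IntermediateField.adjoin k ({x'} : Set K)) K with hn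
  have hdeg : D.deg = (n : ℤ) := by
    rw [← hpd]
    exact ff_deg_poleDiv hK hx't
  have hnpos : 0 < n := Module.finrank_pos
  have hns_iff : ∀ P : Place k K,
      IsNonsingularAt ![(1 : K), x, y] P ↔ IsNonsingularAt ![(1 : K), x', y'] P :=
    fun P => ff_isNonsingularAt_of_span_eq _ _ hspan P
  set g := genus k K with hg
  set m₀ := 2 * g + n + 1 with hm₀
  have hVL : ∀ m, Submodule.span k (Set.range (ff_planeMon x' y' n m)) ≤ L (m • D) := by
    intro m
    rw [Submodule.span_le]
    rintro _ ⟨p, rfl⟩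
    exact ff_planeMon_mem_L hD0 hx'L hy'L n m p
  have hfr : ∀ m, finrank k (Submodule.span k (Set.range (ff_planeMon x' y' n m))) =
      ∑ b ∈ Finset.range n, (m + 1 - b) := fun m => ff_finrank_span_planeMon hK hx't hgen m
  have hell : ∀ m, m₀ ≤ m → (ell (m • D) : ℤ) = m * n + 1 - g := by
    intro m hm
    have h3 := ff_ell_eq_of_deg_ge hK (m • D) (by
      rw [ff_deg_nsmul, hdeg]
      have : (1 : ℤ) ≤ n := by exact_mod_cast hnpos
      have hm' : (2 * g + n + 1 : ℤ) ≤ m := by exact_mod_cast hm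
      nlinarith)
    rw [ff_deg_nsmul, hdeg] at h3
    exact h3
  have hsum : ∀ m, m₀ ≤ m →
      2 * (∑ b ∈ Finset.range n, (m + 1 - b) : ℕ) + n * n = 2 * n * (m + 1) + n :=
    fun m hm => ff_two_mul_sum_sub m n (by omega)
  rw [hdeg] at hle ⊢
  constructor
  · intro heq P
    rw [hns_iff]
    refine ff_isNonsingularAt_of_L_le_span hK hx't hpd hy'L n m₀ (fun m hm => ?_) P
    have := ff_L_finiteDimensional hK (m • D)
    have hfe : finrank k (Submodule.span k (Set.range (ff_planeMon x' y' n m))) =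
        finrank k (L (m • D)) := by
      rw [hfr m]
      have h1 := hell m hm
      have h2 := hsum m hm
      unfold ell at h1
      zify at h2 ⊢
      nlinarith
    exact (Submodule.eq_of_le_of_finrank_eq (hVL m) hfe).ge
  · intro hns
    have hns' : ∀ Q : Place k K, IsNonsingularAt ![(1 : K), x', y'] Q :=
      fun Q => (hns_iff Q).mp (hns Q)
    have hLV := ff_L_le_span_planeMon hK hx't hpd hy'L hgen hns' m₀
    have h1 := hell m₀ le_rfl
    have h2 := hsum m₀ le_rfl
    have := FiniteDimensional.span_of_finite k (Set.finite_range (ff_planeMon x' y' n m₀))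
    have h3 := Submodule.finrank_mono hLV
    rw [hfr m₀] at h3
    unfold ell at h1
    zify at h2 h3
    have hm₀' : (m₀ : ℤ) = 2 * g + n + 1 := by rw [hm₀]; push_cast; ring
    nlinarith

/-- S11060: the genus of a function field with a nonsingular plane model is triangular. -/
theorem ff_plane_genus_triangular [IsAlgClosed k] (hK : IsFunctionField k K)
    (h : ∃ x y : K, IntermediateField.adjoin k ({x, y} : Set K) = ⊤ ∧
      ∀ P : Place k K, IsNonsingularAt ![(1 : K), x, y] P) :
    ∃ m : ℕ, 2 * genus k K = m * (m + 1) := by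
  obtain ⟨x, y, hxy, hns⟩ := h
  have h1 := (ff_plane_genus_eq_iff hK x y hxy).mpr hns
  set d := (mapDiv k ![(1 : K), x, y]).deg with hd
  rcases le_or_gt 2 d with hd2 | hd2
  · refine ⟨(d - 2).toNat, ?_⟩
    have h2 : ((d - 2).toNat : ℤ) = d - 2 := Int.toNat_of_nonneg (by omega)
    zify
    rw [h2, h1]
    ring
  · refine ⟨(1 - d).toNat, ?_⟩
    have h2 : ((1 - d).toNat : ℤ) = 1 - d := Int.toNat_of_nonneg (by omega)
    zify
    rw [h2, h1]
    ring

end Groth.Agent.Lib.Helper55
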