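import Groth.Agent.Lib.Helper55.FunFld.HasseRam

/-! The chain rule for expansions: the derivative of an expansion is the expansion of the first
Hasse derivative times the derivative of the expansion of the variable.  Finiteness of the support
of the divisor of `ds`. -/

namespace Groth.Agent.Lib.Helper55

open FunFld LocRes

variable {k K : Type*} [Field k] [Field K] [Algebra k K]

theorem ff_withZero_eq_zero_of_forall_le {x : WithZero (Multiplicative ℤ)}
    (h : ∀ N : ℕ, x ≤ WithZero.exp (-(N : ℤ))) : x = 0 := by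
  by_contra hx
  obtain ⟨m, hm⟩ : ∃ m : ℤ, x = WithZero.exp m := ⟨_, (WithZero.exp_log hx).symm⟩
  have := h ((-m).toNat + 1)
  rw [hm, WithZero.exp_le_exp] at this
  omega

/-- Differentiation preserves integrality of Laurent series. -/
theorem ff_val_D_le_one {F : Type*} [Field F] (f : LaurentSeries F) (hf : Valued.v f ≤ 1) :
    Valued.v (D F f) ≤ 1 := by
  rw [← WithZero.exp_zero, ← neg_zero, LaurentSeries.valuation_le_iff_coeff_lt_eq_zero] at hf ⊢
  intro n hn
  rw [D_coeff]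
  by_cases h : n + 1 < 0
  · rw [hf (n + 1) h, smul_zero]
  · have : n + 1 = 0 := by omega
    rw [this, zero_smul]

theorem ff_D_map_algebraMap {F : Type*} [Field F] [Algebra k F] (Φ : K →ₐ[k] LaurentSeries F)
    (c : k) : D F (Φ (algebraMap k K c)) = 0 := by
  rw [map_algebraMap, D_apply, derivative_C]

/-- The chain rule for an expansion and the Hasse derivative in a local parameter, on integral
elements. -/
theorem ff_D_expansion_local_of_le [IsAlgClosed k] (hK : IsFunctionField k K) (Q : Place k K)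
    {t : K} (ht : Q.1 t = WithZero.exp (-1)) (Ht : K →ₐ[k] PowerSeries K)
    (hHt : IsHasseFamily t Ht) (Φ : K →ₐ[k] LaurentSeries k)
    (hΦ : ∀ f : K, Valued.v (Φ f) = Q.1 f) {y : K} (hy : Q.1 y ≤ 1) :
    D k (Φ y) = Φ (hasseD Ht 1 y) * D k (Φ t) := by
  have htle : Q.1 t ≤ 1 := by
    rw [ht, ← WithZero.exp_zero, WithZero.exp_le_exp]; norm_num
  have hDt1 : Valued.v (D k (Φ t)) ≤ 1 := ff_val_D_le_one _ (by rw [hΦ]; exact htle)
  have hDtt : hasseD Ht 1 t = 1 := by rw [ff_hasseD_gen Ht hHt]; simp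
  have key : ∀ N : ℕ, ∀ y : K, Q.1 y ≤ 1 →
      Valued.v (D k (Φ y) - Φ (hasseD Ht 1 y) * D k (Φ t)) ≤ WithZero.exp (-(N : ℤ)) := by
    intro N
    induction N with
    | zero =>
      intro y hy
      rw [Nat.cast_zero, neg_zero, WithZero.exp_zero]
      refine Valuation.map_sub_le _ (ff_val_D_le_one _ (by rw [hΦ]; exact hy)) ?_
      rw [map_mul, hΦ]
      calc Q.1 (hasseD Ht 1 y) * Valued.v (D k (Φ t)) ≤ 1 * 1 :=
            mul_le_mul' (ff_hasse_integral Ht hK Q ht hHt 1 y hy) hDt1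
        _ = 1 := one_mul 1
    | succ N ih =>
      intro y hy
      obtain ⟨c, hc⟩ := ff_exists_const_approx hK Q hy
      obtain ⟨u, hu, hyu⟩ := ff_exists_eq_pow_mul Q ht 1 (y := y - algebraMap k K c) (by
        simpa using ff_lt_one_iff.mp hc)
      rw [pow_one] at hyu
      have hy' : y = algebraMap k K c + t * u := by rw [← hyu]; ring
      have h1 : hasseD Ht 1 y = t * hasseD Ht 1 u + u := by
        rw [hy', ff_hasseD_add, ff_hasseD_algebraMap, if_neg one_ne_zero, zero_add,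
          ff_hasseD_mul', Finset.sum_range_succ, Finset.sum_range_one]
        simp only [Nat.sub_zero, Nat.sub_self]
        rw [hDtt, ff_hasseD_zero Ht hHt.2, ff_hasseD_zero Ht hHt.2, one_mul]
      have h2 : D k (Φ y) = Φ t * D k (Φ u) + Φ u * D k (Φ t) := by
        rw [hy', map_add, map_add, ff_D_map_algebraMap, zero_add, map_mul, Derivation.leibniz]
        simp only [smul_eq_mul]
      have h3 : D k (Φ y) - Φ (hasseD Ht 1 y) * D k (Φ t) =
          Φ t * (D k (Φ u) - Φ (hasseD Ht 1 u) * D k (Φ t)) := by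
        rw [h2, h1, map_add, map_mul]
        ring
      rw [h3, map_mul, hΦ, ht]
      calc WithZero.exp (-1) * Valued.v (D k (Φ u) - Φ (hasseD Ht 1 u) * D k (Φ t))
          ≤ WithZero.exp (-1) * WithZero.exp (-(N : ℤ)) := mul_le_mul' le_rfl (ih u hu)
        _ = WithZero.exp (-((N + 1 : ℕ) : ℤ)) := by
          rw [← WithZero.exp_add]; congr 1; push_cast; ring
  have h0 := ff_withZero_eq_zero_of_forall_le fun N => key N y hy
  rw [map_eq_zero] at h0
  exact sub_eq_zero.mp h0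

/-- The chain rule for an expansion and the Hasse derivative in a local parameter. -/
theorem ff_D_expansion_local [IsAlgClosed k] (hK : IsFunctionField k K) (Q : Place k K)
    {t : K} (ht : Q.1 t = WithZero.exp (-1)) (Ht : K →ₐ[k] PowerSeries K)
    (hHt : IsHasseFamily t Ht) (Φ : K →ₐ[k] LaurentSeries k)
    (hΦ : ∀ f : K, Valued.v (Φ f) = Q.1 f) (y : K) :
    D k (Φ y) = Φ (hasseD Ht 1 y) * D k (Φ t) := by
  by_cases hy : Q.1 y ≤ 1
  · exact ff_D_expansion_local_of_le hK Q ht Ht hHt Φ hΦ hy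
  · push Not at hy
    have hy0 : y ≠ 0 := by
      rintro rfl
      rw [map_zero] at hy
      exact not_lt.mpr zero_le hy
    have hw : Q.1 y⁻¹ ≤ 1 := by
      rw [map_inv₀]
      exact inv_le_one_of_one_le₀ hy.le
    have h1 := ff_D_expansion_local_of_le hK Q ht Ht hHt Φ hΦ hw
    have hΦy : Φ y ≠ 0 := (map_ne_zero Φ).mpr hy0
    have h2 : Φ y * Φ y⁻¹ = 1 := by rw [← map_mul, mul_inv_cancel₀ hy0, map_one]
    have h3 : Φ y * D k (Φ y⁻¹) + Φ y⁻¹ * D k (Φ y) = 0 := by
      have := congrArg (D k) h2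
      rw [Derivation.leibniz, Derivation.map_one_eq_zero] at this
      simpa only [smul_eq_mul] using this
    have h4 : y * hasseD Ht 1 y⁻¹ + y⁻¹ * hasseD Ht 1 y = 0 := by
      have h5 : hasseD Ht 1 (y * y⁻¹) = 0 := by
        rw [mul_inv_cancel₀ hy0, ff_hasseD_one]; simp
      rw [ff_hasseD_mul', Finset.sum_range_succ, Finset.sum_range_one] at h5
      simp only [Nat.sub_zero, Nat.sub_self] at h5
      rw [ff_hasseD_zero Ht hHt.2, ff_hasseD_zero Ht hHt.2] at h5
      rw [← h5]; ring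
    have h6 : hasseD Ht 1 y = -(y * y * hasseD Ht 1 y⁻¹) := by
      have : y⁻¹ * hasseD Ht 1 y = -(y * hasseD Ht 1 y⁻¹) := by
        rw [eq_neg_iff_add_eq_zero, add_comm]; exact h4
      field_simp at this ⊢
      linear_combination this
    have h7 : D k (Φ y) = -(Φ y * Φ y * D k (Φ y⁻¹)) := by
      have : Φ y⁻¹ * D k (Φ y) = -(Φ y * D k (Φ y⁻¹)) := by
        rw [eq_neg_iff_add_eq_zero, add_comm]; exact h3
      have h8 : Φ y * (Φ y⁻¹ * D k (Φ y)) = D k (Φ y) := by
        rw [← mul_assoc, h2, one_mul]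
      rw [← h8, this]; ring
    rw [h7, h1, h6, map_neg, map_mul, map_mul]
    ring

/-- Hasse derivatives in two variables: `D_t y = D_s y · D_t s`. -/
theorem ff_hasseD_one_chain (hK : IsFunctionField k K) {s t : K} (Hs Ht : K →ₐ[k] PowerSeries K)
    (hHs : IsHasseFamily s Hs) (hHt : IsHasseFamily t Ht) (y : K) :
    hasseD Ht 1 y = hasseD Hs 1 y * hasseD Ht 1 s := by
  have hg0 : PowerSeries.constantCoeff (Ht s - PowerSeries.C s) = 0 := by
    rw [map_sub, hHt.2, PowerSeries.constantCoeff_C, sub_self]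
  have h := ff_hasseD_subst Hs Ht hg0 (ff_hasse_change_subst hK Hs Ht hHs hHt) 1 y
  rw [Finset.sum_range_succ, Finset.sum_range_one, pow_zero, pow_one] at h
  rw [h, PowerSeries.coeff_one, if_neg one_ne_zero, mul_zero, zero_add, map_sub,
    PowerSeries.coeff_C, if_neg one_ne_zero, sub_zero]
  rfl

/-- The chain rule for an expansion at a place and the Hasse derivative in any variable. -/
theorem ff_D_expansion [IsAlgClosed k] (hK : IsFunctionField k K) {s : K}
    (Hs : K →ₐ[k] PowerSeries K) (hHs : IsHasseFamily s Hs) (Q : Place k K)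
    (Φ : K →ₐ[k] LaurentSeries k) (hΦ : ∀ f : K, Valued.v (Φ f) = Q.1 f) (y : K) :
    D k (Φ y) = Φ (hasseD Hs 1 y) * D k (Φ s) := by
  obtain ⟨t, ht, hu⟩ := ff_exists_sep_uniformizer Hs hHs Q
  obtain ⟨Ht, σ, hHt, -⟩ := ff_exists_hasseFamily_subst Hs hHs.2 t hu
  rw [ff_D_expansion_local hK Q ht Ht hHt Φ hΦ y, ff_D_expansion_local hK Q ht Ht hHt Φ hΦ s,
    ff_hasseD_one_chain hK Hs Ht hHs hHt y, map_mul]
  ring

/-- The differential of a uniformizer has value `1`, read through an expansion. -/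
theorem ff_vDiff_uniformizer {F : Type*} [Field F] [Algebra k F]
    (w : Valuation K (WithZero (Multiplicative ℤ))) (Φ : K →ₐ[k] LaurentSeries F)
    (hΦ : ∀ f : K, Valued.v (Φ f) = w f) {t : K} (ht : w t = WithZero.exp (-1)) :
    vDiff Φ 1 t = 1 := by
  have h1 : Valued.v (Φ t) ≤ WithZero.exp (-(1 : ℤ)) := by rw [hΦ, ht]
  have h2 : ¬ Valued.v (Φ t) ≤ WithZero.exp (-(2 : ℤ)) := by
    rw [hΦ, ht, WithZero.exp_le_exp]; norm_num
  rw [LaurentSeries.valuation_le_iff_coeff_lt_eq_zero] at h1 h2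
  push Not at h2
  obtain ⟨m, hm2, hm⟩ := h2
  have hm1 : m = 1 := by
    by_contra hne
    exact hm (h1 m (by omega))
  subst hm1
  have hv : Valued.v (D F (Φ t)) = 1 := by
    apply le_antisymm
    · rw [← WithZero.exp_zero, ← neg_zero, LaurentSeries.valuation_le_iff_coeff_lt_eq_zero]
      intro n hn
      rw [D_coeff, h1 (n + 1) (by omega), smul_zero]
    · by_contra hlt
      push Not at hlt
      rw [ff_lt_one_iff, show (-1 : ℤ) = -(1 : ℤ) from rfl,
        LaurentSeries.valuation_le_iff_coeff_lt_eq_zero] at hlt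
      have := hlt 0 (by norm_num)
      rw [D_coeff] at this
      simp only [zero_add, one_smul] at this
      exact hm this
  unfold vDiff
  rw [map_one, one_mul, hv]

/-- The value of a differential `u dv` in terms of the value of `ds`. -/
theorem ff_vDiff_eq [IsAlgClosed k] (hK : IsFunctionField k K) {s : K}
    (Hs : K →ₐ[k] PowerSeries K) (hHs : IsHasseFamily s Hs) (Q : Place k K)
    (Φ : K →ₐ[k] LaurentSeries k) (hΦ : ∀ f : K, Valued.v (Φ f) = Q.1 f) (u v : K) :
    vDiff Φ u v = Q.1 (u * hasseD Hs 1 v) * vDiff Φ 1 s := by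
  unfold vDiff
  rw [ff_D_expansion hK Hs hHs Q Φ hΦ v, map_one, one_mul, ← mul_assoc,
    ← _root_.map_mul Φ, Valuation.map_mul, hΦ]

theorem ff_vDiff_ne_zero [IsAlgClosed k] (hK : IsFunctionField k K) {s : K}
    (Hs : K →ₐ[k] PowerSeries K) (hHs : IsHasseFamily s Hs) (Q : Place k K)
    (Φ : K →ₐ[k] LaurentSeries k) (hΦ : ∀ f : K, Valued.v (Φ f) = Q.1 f) :
    vDiff Φ 1 s ≠ 0 := by
  intro h0
  obtain ⟨t, ht⟩ := ff_exists_uniformizer Q
  have h1 := ff_vDiff_eq hK Hs hHs Q Φ hΦ 1 t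
  rw [h0, mul_zero, ff_vDiff_uniformizer Q.1 Φ hΦ ht] at h1
  exact one_ne_zero h1

/-- The order of `dt` in terms of the order of `ds`. -/
theorem ff_ordDiff_change [IsAlgClosed k] (hK : IsFunctionField k K) {s t : K}
    (Hs Ht : K →ₐ[k] PowerSeries K) (hHs : IsHasseFamily s Hs) (hHt : IsHasseFamily t Ht)
    (Q : Place k K) (Φ : K →ₐ[k] LaurentSeries k) (hΦ : ∀ f : K, Valued.v (Φ f) = Q.1 f) :
    ordDiff Φ 1 t = ordDiff Φ 1 s - Q.ord (hasseD Ht 1 s) := by
  have h1 := ff_hasseD_one_mul hK Hs Ht hHs hHt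
  have hts : hasseD Ht 1 s ≠ 0 := left_ne_zero_of_mul_eq_one h1
  have hst : hasseD Hs 1 t ≠ 0 := right_ne_zero_of_mul_eq_one h1
  have h2 : Q.ord (hasseD Hs 1 t) = -Q.ord (hasseD Ht 1 s) := by
    have := ff_ord_mul Q hts hst
    rw [h1] at this
    have h3 : Q.ord (1 : K) = 0 := by
      unfold Place.ord; rw [map_one, WithZero.log_one, neg_zero]
    omega
  unfold ordDiff
  rw [ff_vDiff_eq hK Hs hHs Q Φ hΦ 1 t, one_mul,
    WithZero.log_mul (ff_val_ne_zero Q hst) (ff_vDiff_ne_zero hK Hs hHs Q Φ hΦ)]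
  unfold Place.ord at h2 ⊢
  omega

/-- The divisor of `ds` has finite support. -/
theorem ff_finite_support_ordDiff [IsAlgClosed k] (hK : IsFunctionField k K) {s : K}
    (Hs : K →ₐ[k] PowerSeries K) (hHs : IsHasseFamily s Hs)
    (Φ : Place k K → (K →ₐ[k] LaurentSeries k))
    (hΦ : ∀ P : Place k K, IsExpansionAt P.1 (Φ P)) :
    (Function.support fun P : Place k K => ordDiff (Φ P) 1 s).Finite := by
  refine (ff_finite_ramified hK Hs hHs).subset ?_
  intro Q hQ
  rw [Function.mem_support] at hQ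
  rw [Set.mem_ofPred_eq]
  rintro ⟨-, c, hc⟩
  apply hQ
  have h1 := ff_vDiff_uniformizer Q.1 (Φ Q) (hΦ Q).1 hc
  unfold ordDiff
  unfold vDiff at h1 ⊢
  rw [map_sub, map_sub, ff_D_map_algebraMap, sub_zero] at h1
  rw [h1, WithZero.log_one, neg_zero]

theorem ff_divDiff_apply [IsAlgClosed k] (hK : IsFunctionField k K) {s : K}
    (Hs : K →ₐ[k] PowerSeries K) (hHs : IsHasseFamily s Hs)
    (Φ : Place k K → (K →ₐ[k] LaurentSeries k))
    (hΦ : ∀ P : Place k K, IsExpansionAt P.1 (Φ P)) (Q : Place k K) :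
    divDiff Φ 1 s Q = ordDiff (Φ Q) 1 s := by
  unfold divDiff
  rw [dif_pos (ff_finite_support_ordDiff hK Hs hHs Φ hΦ)]
  rfl

/-- Change of variable in the divisor of a differential. -/
theorem ff_divDiff_change [IsAlgClosed k] (hK : IsFunctionField k K) {s t : K}
    (Hs Ht : K →ₐ[k] PowerSeries K) (hHs : IsHasseFamily s Hs) (hHt : IsHasseFamily t Ht)
    (Φ : Place k K → (K →ₐ[k] LaurentSeries k))
    (hΦ : ∀ P : Place k K, IsExpansionAt P.1 (Φ P)) :
    divDiff Φ 1 t = divDiff Φ 1 s - div k (hasseD Ht 1 s) := by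
  ext Q
  rw [Finsupp.sub_apply, ff_divDiff_apply hK Hs hHs Φ hΦ, ff_divDiff_apply hK Ht hHt Φ hΦ,
    ff_div_apply hK, ff_ordDiff_change hK Hs Ht hHs hHt Q (Φ Q) (hΦ Q).1]

end Groth.Agent.Lib.Helper55
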