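import Groth.Agent.Lib.Helper55.FunFld.TateWeil
import Groth.Agent.Lib.Helper55.FunFld.HasseDiff
import Groth.Agent.Lib.Helper63.LocalParamSep
import Groth.Agent.Lib.Helper63.LocResBasic
import Groth.Agent.Lib.Helper63.GeometricPerfect

/-! The divisor of `ds` (read through Laurent expansions) is a canonical divisor. -/

set_option autoImplicit false

open FunFld Module LocRes

namespace Groth.Agent.Lib.Helper55

open Tate

variable {k K : Type*} [Field k] [Field K] [Algebra k K]

/-- the first Hasse derivative as a derivation. -/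
noncomputable def ff_hasseDer (H : K →ₐ[k] PowerSeries K)
    (hH : ∀ y : K, PowerSeries.constantCoeff (H y) = y) : Derivation k K K :=
  Derivation.mk' ({ toFun := hasseD H 1
                    map_add' := ff_hasseD_add H 1
                    map_smul' := fun c y => ff_hasseD_smul H 1 c y } : K →ₗ[k] K) (by
    intro a b
    change hasseD H 1 (a * b) = a • hasseD H 1 b + b • hasseD H 1 a
    rw [ff_hasseD_mul', Finset.sum_range_succ, Finset.sum_range_one, ff_hasseD_zero H hH,
      ff_hasseD_zero H hH, smul_eq_mul, smul_eq_mul]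
    simp only [Nat.sub_zero]
    ring)

theorem ff_hasseDer_apply (H : K →ₐ[k] PowerSeries K)
    (hH : ∀ y : K, PowerSeries.constantCoeff (H y) = y) (y : K) :
    ff_hasseDer H hH y = hasseD H 1 y := rfl

theorem ff_D_ne_zero_of_hasse {s : K} (H : K →ₐ[k] PowerSeries K) (hH : IsHasseFamily s H) :
    KaehlerDifferential.D k K s ≠ 0 := by
  intro h0
  have h1 := congrArg (ff_hasseDer H hH.2).liftKaehlerDifferential h0
  rw [Derivation.liftKaehlerDifferential_comp_D, map_zero, ff_hasseDer_apply,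
    ff_hasseD_gen H hH 1] at h1
  simp at h1

/-- From the local description to an honest divisor. -/
theorem ff_exists_isDivOf_tateW (hK : IsFunctionField k K) (ρ : Place k K → K →ₗ[k] K)
    (hρ : ∀ P, LinearMap.IsProj (ff_ball P 0) (ρ P)) (s : K) (C : Place k K → ℤ)
    (t c : Place k K → K) (ht : ∀ P : Place k K, P.1 (t P) = WithZero.exp (-1 : ℤ))
    (hc : ∀ P : Place k K,
      KaehlerDifferential.D k K s = c P • KaehlerDifferential.D k K (t P))
    (hC : ∀ P : Place k K, P.1 (c P) = WithZero.exp (-(C P)))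
    (hnd : ∀ P : Place k K, ∃ u : K, P.1 u ≤ 1 ∧ ff_tres (ρ P) (u * (t P)⁻¹) (t P) ≠ 0)
    (hE : ∃ E : Divisor k K, ∀ P, E P ≤ C P) :
    ∃ W : Divisor k K, IsDivOf (ff_tateW hK ρ hρ s) W ∧ ∀ P, W P = C P := by
  classical
  have key := ff_tateW_mem_WD_iff hK ρ hρ s C t c ht hc hC hnd
  obtain ⟨E₀, hE₀⟩ := hE
  have hweil : IsWeil (ff_tateW hK ρ hρ s) := ⟨E₀, (key E₀).mpr hE₀⟩
  have hne : ff_tateW hK ρ hρ s ≠ 0 := by
    intro h0
    obtain ⟨P⟩ := ff_nonempty_place hK
    have h1 : ff_tateW hK ρ hρ s ∈ WD (Finsupp.single P (C P + 1)) := by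
      rw [h0]; exact Submodule.zero_mem _
    have h2 := (key _).mp h1 P
    rw [Finsupp.single_eq_same] at h2
    omega
  obtain ⟨W, hW⟩ := ff_exists_isDivOf hK _ hweil hne
  refine ⟨W, hW, fun P => le_antisymm ((key W).mp ((hW W).mpr le_rfl) P) ?_⟩
  set E : Divisor k K := W + Finsupp.single P (C P - W P) with hEdef
  have hEC : ∀ Q, E Q ≤ C Q := by
    intro Q
    rw [hEdef, Finsupp.add_apply, Finsupp.single_apply]
    split_ifs with h
    · subst h; omega
    · rw [add_zero]
      exact (key W).mp ((hW W).mpr le_rfl) Q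
  have h3 := (hW E).mp ((key E).mpr hEC) P
  rw [hEdef, Finsupp.add_apply, Finsupp.single_eq_same] at h3
  omega

/-- Local data at a place with separable residue field, read through an expansion. -/
theorem ff_exists_local_data (hK : IsFunctionField k K) (hg : IsGeometric k K) {s : K}
    (hs : KaehlerDifferential.D k K s ≠ 0) (P : Place k K)
    [Algebra.IsSeparable k (IsLocalRing.ResidueField P.O)] {F : Type*} [Field F] [Algebra k F]
    (Φ : K →ₐ[k] LaurentSeries F) (hΦ : IsExpansionAt P.1 Φ) :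
    ∃ t c : K, P.1 t = WithZero.exp (-1 : ℤ) ∧
      KaehlerDifferential.D k K s = c • KaehlerDifferential.D k K t ∧
      P.1 c = WithZero.exp (-(ordDiff Φ 1 s)) := by
  obtain ⟨t, ht⟩ := ff_exists_uniformizer P
  have hDt := Groth.Agent.Lib.Helper63.LocalParamSep.D_uniformizer_ne_zero hK hg P ht
  obtain ⟨c, hc⟩ := Groth.Agent.Lib.Helper63.SepGen.exists_smul_D_eq hK hg hDt s
  have hc0 : c ≠ 0 := by
    rintro rfl
    rw [zero_smul] at hc
    exact hs hc
  refine ⟨t, c, ht, hc, ?_⟩
  have h1 : vDiff Φ 1 s = P.1 c := by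
    rw [Groth.Agent.Lib.Helper63.LocResBasic.vDiff_one,
      Groth.Agent.Lib.Helper63.LocResBasic.D_exp_eq Φ hc, map_mul, hΦ.1,
      Groth.Agent.Lib.Helper63.LocResBasic.val_D_uniformizer P.1 Φ hΦ.1 ht, mul_one]
  have h2 : P.1 c ≠ 0 := (Valuation.ne_zero_iff _).mpr hc0
  unfold ordDiff
  rw [h1, neg_neg, WithZero.exp_log h2]

theorem ff_ordDiff_nonneg_of_le_one {F : Type*} [Field F] [Algebra k F]
    (w : Valuation K (WithZero (Multiplicative ℤ))) (Φ : K →ₐ[k] LaurentSeries F)
    (hΦ : ∀ f : K, Valued.v (Φ f) = w f) {s : K} (hs : w s ≤ 1) : 0 ≤ ordDiff Φ 1 s := by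
  unfold ordDiff
  by_cases h0 : vDiff Φ 1 s = 0
  · rw [h0]; simp
  · have h1 : vDiff Φ 1 s ≤ 1 := by
      rw [Groth.Agent.Lib.Helper63.LocResBasic.vDiff_one]
      exact ff_val_D_le_one _ (by rw [hΦ]; exact hs)
    have : WithZero.log (vDiff Φ 1 s) ≤ 0 := by
      rw [WithZero.log_le_iff_le_exp h0, WithZero.exp_zero]; exact h1
    omega

/-- The divisor of `ds` read through expansions is the divisor of the Tate–Weil differential. -/
theorem ff_exists_isDivOf_of_expansions (hK : IsFunctionField k K) (hg : IsGeometric k K) {s : K}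
    (hs : KaehlerDifferential.D k K s ≠ 0)
    (hsep : ∀ P : Place k K, Algebra.IsSeparable k (IsLocalRing.ResidueField P.O))
    {F : Place k K → Type*} [∀ P, Field (F P)] [∀ P, Algebra k (F P)]
    (Φ : ∀ P : Place k K, K →ₐ[k] LaurentSeries (F P))
    (hΦ : ∀ P : Place k K, IsExpansionAt P.1 (Φ P))
    (ρ : Place k K → K →ₗ[k] K) (hρ : ∀ P, LinearMap.IsProj (ff_ball P 0) (ρ P))
    (hnd : ∀ (P : Place k K) (t : K), P.1 t = WithZero.exp (-1 : ℤ) →
      ∃ u : K, P.1 u ≤ 1 ∧ ff_tres (ρ P) (u * t⁻¹) t ≠ 0) :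
    ∃ W : Divisor k K, IsDivOf (ff_tateW hK ρ hρ s) W ∧ ∀ P, W P = ordDiff (Φ P) 1 s := by
  classical
  have hdata : ∀ P : Place k K, ∃ t c : K, P.1 t = WithZero.exp (-1 : ℤ) ∧
      KaehlerDifferential.D k K s = c • KaehlerDifferential.D k K t ∧
      P.1 c = WithZero.exp (-(ordDiff (Φ P) 1 s)) := fun P => by
    have := hsep P
    exact ff_exists_local_data hK hg hs P (Φ P) (hΦ P)
  choose t c ht hc hC using hdata
  refine ff_exists_isDivOf_tateW hK ρ hρ s (fun P => ordDiff (Φ P) 1 s) t c ht hc hC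
    (fun P => hnd P (t P) (ht P)) ?_
  -- a divisor below
  have hfin : {P : Place k K | ¬ P.1 s ≤ 1}.Finite := by
    have := (ff_mem_adele_iff _).mp (ff_diag_mem_adele hK s)
    exact this
  refine ⟨Finsupp.onFinset hfin.toFinset
    (fun P => if P ∈ hfin.toFinset then min (ordDiff (Φ P) 1 s) 0 else 0) ?_, ?_⟩
  · intro P hP
    by_contra hcon
    rw [if_neg hcon] at hP
    exact hP rfl
  · intro P
    rw [Finsupp.onFinset_apply]
    split_ifs with h
    · exact min_le_left _ _
    · rw [Set.Finite.mem_toFinset, Set.mem_ofPred_eq, not_not] at h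
      exact ff_ordDiff_nonneg_of_le_one P.1 (Φ P) (hΦ P).1 h

end Groth.Agent.Lib.Helper55
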