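import Groth.Agent.Lib.Helper55.FunFld.Basic
import Mathlib.RingTheory.Localization.Module
import Mathlib.LinearAlgebra.Dimension.Finite
import Mathlib.LinearAlgebra.Dimension.Free
import Mathlib.Algebra.Polynomial.Inductions

/-!
# Residue fields of places are finite over the constant field (helper55 library)
-/

set_option autoImplicit false

namespace Groth.Agent.Lib.Helper55

open FunFld Polynomial

variable {k K : Type*} [Field k] [Field K] [Algebra k K]

theorem ff_mem_maximalIdeal_iff (P : Place k K) (a : P.O) :
    a ∈ IsLocalRing.maximalIdeal P.O ↔ P.1 (a : K) < 1 := by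
  rw [ValuationSubring.valuation_lt_one_iff]
  exact ((Valuation.isEquiv_valuation_valuationSubring P.1).lt_one_iff_lt_one).symm

theorem ff_aeval_mem_O (P : Place k K) {t : K} (ht : P.1 t ≤ 1) (p : k[X]) :
    aeval t p ∈ P.O := by
  rw [aeval_def, eval₂_eq_sum_range]
  refine sum_mem fun i _ => mul_mem ?_ (pow_mem (show t ∈ P.O from ht) i)
  exact P.2.1 _

/-- Abstract descent lemma: if every polynomial relation `∑ pᵢ(t) zᵢ = 0` forces the constant
coefficients of the `pᵢ` to vanish, then the `zᵢ` are linearly independent over `k(t)`. -/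
theorem ff_linearIndependent_of_coeff_zero {ι : Type*} [Fintype ι] {t : K} (ht0 : t ≠ 0)
    (z : ι → K)
    (H : ∀ p : ι → k[X], ∑ i, aeval t (p i) * z i = 0 → ∀ i, (p i).coeff 0 = 0) :
    LinearIndependent (IntermediateField.adjoin k ({t} : Set K)) z := by
  open scoped IntermediateField.algebraAdjoinAdjoin in
  rw [← LinearIndependent.iff_fractionRing (Algebra.adjoin k ({t} : Set K))
    (IntermediateField.adjoin k ({t} : Set K))]
  rw [Fintype.linearIndependent_iff]
  intro g hg
  have hex : ∀ i, ∃ p : k[X], aeval t p = (g i : K) := by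
    intro i
    have h1 : (g i : K) ∈ Algebra.adjoin k ({t} : Set K) := (g i).2
    have h2 : (g i : K) ∈ (aeval (R := k) t).range := by
      rw [← Algebra.adjoin_singleton_eq_range_aeval]; exact h1
    obtain ⟨p, hp⟩ := h2
    exact ⟨p, hp⟩
  choose p hp using hex
  -- one reduction step
  have step : ∀ p : ι → k[X], ∑ i, aeval t (p i) * z i = 0 →
      (∀ i, (p i).coeff 0 = 0) ∧ ∑ i, aeval t ((p i).divX) * z i = 0 := by
    intro p hrel
    have ha := H p hrel
    refine ⟨ha, ?_⟩
    have hsplit : ∑ i, aeval t (p i) * z i = t * ∑ i, aeval t ((p i).divX) * z i := by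
      rw [Finset.mul_sum]
      refine Finset.sum_congr rfl fun i _ => ?_
      conv_lhs => rw [← divX_mul_X_add (p i), ha i]
      simp only [map_add, map_mul, aeval_X, aeval_C, map_zero, add_zero]
      ring
    rw [hsplit] at hrel
    exact (mul_eq_zero.mp hrel).resolve_left ht0
  have key : ∀ N : ℕ, ∀ p : ι → k[X], (∀ i, (p i).natDegree ≤ N) →
      ∑ i, aeval t (p i) * z i = 0 → ∀ i, p i = 0 := by
    intro N
    induction N with
    | zero =>
      intro p hdeg hrel i
      obtain ⟨ha, -⟩ := step p hrel
      rw [eq_C_of_natDegree_le_zero (hdeg i), ha i, map_zero]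
    | succ N ih =>
      intro p hdeg hrel i
      obtain ⟨ha, hq⟩ := step p hrel
      have hq0 := ih (fun i => (p i).divX) (fun i => by
        rw [natDegree_divX_eq_natDegree_tsub_one]
        have := hdeg i
        omega) hq i
      rw [← divX_mul_X_add (p i), hq0, ha i]
      simp
  have hrel : ∑ i, aeval t (p i) * z i = 0 := by
    rw [← hg]
    refine Finset.sum_congr rfl fun i _ => ?_
    rw [hp i]
    rfl
  intro i
  have hpi := key (Finset.univ.sup fun i => (p i).natDegree) p
    (fun i => Finset.le_sup (f := fun i => (p i).natDegree) (Finset.mem_univ i)) hrel i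
  apply Subtype.ext
  rw [← hp i, hpi]
  simp

/-- Core independence lemma: elements of the valuation ring whose residues are linearly
independent over `k` are linearly independent over `k(t)` for `t` in the maximal ideal. -/
theorem ff_linearIndependent_of_residue {ι : Type*} [Fintype ι] (P : Place k K) {t : K}
    (ht0 : t ≠ 0) (ht : P.1 t < 1) (z : ι → K)
    (hz : ∀ i, P.1 (z i) ≤ 1)
    (hind : ∀ a : ι → k, P.1 (∑ i, algebraMap k K (a i) * z i) < 1 → a = 0) :
    LinearIndependent (IntermediateField.adjoin k ({t} : Set K)) z := by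
  refine ff_linearIndependent_of_coeff_zero ht0 z ?_
  intro p hrel
  set S := ∑ i, aeval t ((p i).divX) * z i with hS
  have hSO : P.1 S ≤ 1 := by
    have : S ∈ P.O := by
      refine sum_mem fun i _ => mul_mem (ff_aeval_mem_O P ht.le _) (hz i)
    exact this
  have hsplit : ∑ i, aeval t (p i) * z i =
      t * S + ∑ i, algebraMap k K ((p i).coeff 0) * z i := by
    rw [hS, Finset.mul_sum, ← Finset.sum_add_distrib]
    refine Finset.sum_congr rfl fun i _ => ?_
    conv_lhs => rw [← divX_mul_X_add (p i)]
    simp only [map_add, map_mul, aeval_X, aeval_C]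
    ring
  rw [hsplit] at hrel
  have hsum : ∑ i, algebraMap k K ((p i).coeff 0) * z i = -(t * S) := by
    rw [eq_neg_iff_add_eq_zero, add_comm]; exact hrel
  have hlt : P.1 (∑ i, algebraMap k K ((p i).coeff 0) * z i) < 1 := by
    rw [hsum, Valuation.map_neg, map_mul]
    calc P.1 t * P.1 S ≤ P.1 t * 1 := mul_le_mul' le_rfl hSO
      _ = P.1 t := mul_one _
      _ < 1 := ht
  have ha := hind _ hlt
  intro i
  exact congrFun ha i

/-- A uniformizer-like element (`0 ≠ t`, `v t < 1`) is transcendental over `k`. -/
theorem ff_transcendental_of_val_lt_one (hK : IsFunctionField k K) (P : Place k K) {t : K}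
    (ht0 : t ≠ 0) (ht : P.1 t < 1) : Transcendental k t := by
  intro halg
  obtain ⟨c, rfl⟩ := hK.2 t halg
  have hc : c ≠ 0 := by
    rintro rfl
    exact ht0 (map_zero _)
  rw [ff_val_const P hc] at ht
  exact lt_irrefl _ ht

theorem ff_residue_smul (P : Place k K) (c : k) (r : P.O) :
    c • IsLocalRing.residue P.O r =
      IsLocalRing.residue P.O (⟨algebraMap k K c, P.2.1 c⟩ * r) := by
  rw [Algebra.smul_def, map_mul]
  rfl

/-- The bound `deg P ≤ [K : k(t)]` in the form of a rank bound. -/
theorem ff_rank_residueField_le (hK : IsFunctionField k K) (P : Place k K) {t : K}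
    (ht0 : t ≠ 0) (ht : P.1 t < 1) :
    haveI := ff_finite_of_transcendental hK (ff_transcendental_of_val_lt_one hK P ht0 ht)
    Module.rank k (IsLocalRing.ResidueField P.O) ≤
      (Module.finrank (IntermediateField.adjoin k ({t} : Set K)) K : Cardinal) := by
  have := ff_finite_of_transcendental hK (ff_transcendental_of_val_lt_one hK P ht0 ht)
  apply rank_le
  intro s hs
  have hsurj := IsLocalRing.residue_surjective (R := P.O)
  choose zO hzO using hsurj
  let z : s → K := fun i => (zO i.1 : K)
  have hli : LinearIndependent (IntermediateField.adjoin k ({t} : Set K)) z := by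
    refine ff_linearIndependent_of_residue P ht0 ht z (fun i => (zO i.1).2) ?_
    intro a ha
    let y : P.O := ∑ i : s, (⟨algebraMap k K (a i), P.2.1 (a i)⟩ : P.O) * zO i.1
    have hy : (y : K) = ∑ i : s, algebraMap k K (a i) * z i := by
      simp only [y, AddSubmonoidClass.coe_finsetSum, MulMemClass.coe_mul]
      rfl
    have hymem : y ∈ IsLocalRing.maximalIdeal P.O := by
      rw [ff_mem_maximalIdeal_iff, hy]; exact ha
    have hres : IsLocalRing.residue P.O y = 0 :=
      (IsLocalRing.residue_eq_zero_iff y).mpr hymem
    have hres2 : ∑ i : s, a i • (i : IsLocalRing.ResidueField P.O) = 0 := by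
      rw [← hres]
      simp only [y, map_sum]
      refine Finset.sum_congr rfl fun i _ => ?_
      rw [← ff_residue_smul, hzO]
    exact funext (Fintype.linearIndependent_iff.mp hs a hres2)
  have := hli.fintype_card_le_finrank
  simpa using this

/-- The residue field of a place of a function field of one variable is finite over `k`. -/
theorem ff_finiteDimensional_residueField (hK : IsFunctionField k K) (P : Place k K) :
    FiniteDimensional k (IsLocalRing.ResidueField P.O) := by
  obtain ⟨t, ht⟩ := ff_exists_uniformizer P
  have ht1 : P.1 t < 1 := by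
    rw [ht, ← WithZero.exp_zero, WithZero.exp_lt_exp]; norm_num
  have ht0 : t ≠ 0 := by
    rintro rfl
    rw [map_zero] at ht
    exact WithZero.exp_ne_zero.symm ht
  have hrank := ff_rank_residueField_le hK P ht0 ht1
  exact Module.rank_lt_aleph0_iff.mp (lt_of_le_of_lt hrank (Cardinal.natCast_lt_aleph0))

end Groth.Agent.Lib.Helper55
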