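import Groth.Agent.Lib.Helper55.FunFld.TateNondeg
import Groth.Agent.Lib.Helper55.FunFld.TateCanon
import Groth.Agent.Lib.Helper63.ExpSep

/-! For any constant field: the divisor of `ds` read through expansions is canonical. -/

set_option autoImplicit false

open FunFld Module LocRes

namespace Groth.Agent.Lib.Helper55

open Tate

variable {k K : Type*} [Field k] [Field K] [Algebra k K]

theorem ff_vDiff_eq_mul (hK : IsFunctionField k K) (hg : IsGeometric k K) {s : K}
    (hs : KaehlerDifferential.D k K s ≠ 0) (P : Place k K) {F : Type*} [Field F] [Algebra k F]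
    (Φ : K →ₐ[k] LaurentSeries F) (hΦ : IsExpansionAt P.1 Φ) (y : K) :
    vDiff Φ y s = P.1 y * WithZero.exp (-(ordDiff Φ 1 s)) := by
  have := Groth.Agent.Lib.Helper63.ExpSep.isSeparable_residueField hK hg P Φ hΦ
  obtain ⟨t, c, ht, hc, hC⟩ := ff_exists_local_data hK hg hs P Φ hΦ
  unfold vDiff
  rw [map_mul, hΦ.1, ← hC]
  congr 1
  rw [Groth.Agent.Lib.Helper63.LocResBasic.D_exp_eq Φ hc, map_mul, hΦ.1,
    Groth.Agent.Lib.Helper63.LocResBasic.val_D_uniformizer P.1 Φ hΦ.1 ht, mul_one]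

theorem ff_vDiff_le_iff (hK : IsFunctionField k K) (hg : IsGeometric k K) {s : K}
    (hs : KaehlerDifferential.D k K s ≠ 0) (P : Place k K) {F : Type*} [Field F] [Algebra k F]
    (Φ : K →ₐ[k] LaurentSeries F) (hΦ : IsExpansionAt P.1 Φ) (y : K) (n : ℤ) :
    vDiff Φ y s ≤ WithZero.exp (-n) ↔ P.1 y ≤ WithZero.exp (ordDiff Φ 1 s - n) := by
  rw [ff_vDiff_eq_mul hK hg hs P Φ hΦ y, sub_eq_add_neg, WithZero.exp_add, mul_comm,
    WithZero.exp_neg (ordDiff Φ 1 s), inv_mul_le_iff₀ WithZero.exp_pos]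

theorem ff_vDiff_eq_one_iff (hK : IsFunctionField k K) (hg : IsGeometric k K) {s : K}
    (hs : KaehlerDifferential.D k K s ≠ 0) (P : Place k K) {F : Type*} [Field F] [Algebra k F]
    (Φ : K →ₐ[k] LaurentSeries F) (hΦ : IsExpansionAt P.1 Φ) (y : K) :
    vDiff Φ y s = 1 ↔ P.1 y = WithZero.exp (ordDiff Φ 1 s) := by
  rw [ff_vDiff_eq_mul hK hg hs P Φ hΦ y, WithZero.exp_neg (ordDiff Φ 1 s),
    mul_inv_eq_one₀ WithZero.exp_ne_zero]

/-- The divisor of `ds`, read through expansions over `k` at all places, is canonical. -/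
theorem ff_exists_canonical_of_expansions (hK : IsFunctionField k K) (hg : IsGeometric k K)
    {s : K} (hs : KaehlerDifferential.D k K s ≠ 0)
    {F : Place k K → Type*} [∀ P, Field (F P)] [∀ P, Algebra k (F P)]
    (Φ : ∀ P : Place k K, K →ₐ[k] LaurentSeries (F P))
    (hΦ : ∀ P : Place k K, IsExpansionAt P.1 (Φ P)) :
    ∃ W : Divisor k K, IsCanonical k K W ∧ ∀ P, W P = ordDiff (Φ P) 1 s := by
  choose ρ hρ using fun P : Place k K => ff_exists_proj (k := k) P
  have hsep := fun P : Place k K =>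
    Groth.Agent.Lib.Helper63.ExpSep.isSeparable_residueField hK hg P (Φ P) (hΦ P)
  obtain ⟨W, hW, hWP⟩ := ff_exists_isDivOf_of_expansions hK hg hs hsep Φ hΦ ρ hρ
    (fun P t ht => ff_exists_tres_ne_zero hK P (hsep P) (hρ P) ht)
  exact ⟨W, ⟨_, ff_isDivOf_ne_zero hK hW, hW⟩, hWP⟩

theorem ff_setOf_vDiff_le_eq_L (hK : IsFunctionField k K) (hg : IsGeometric k K)
    {s : K} (hs : KaehlerDifferential.D k K s ≠ 0)
    {F : Place k K → Type*} [∀ P, Field (F P)] [∀ P, Algebra k (F P)]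
    (Φ : ∀ P : Place k K, K →ₐ[k] LaurentSeries (F P))
    (hΦ : ∀ P : Place k K, IsExpansionAt P.1 (Φ P)) {W : Divisor k K}
    (hW : ∀ P, W P = ordDiff (Φ P) 1 s) (D : Divisor k K) :
    {y : K | ∀ P, vDiff (Φ P) y s ≤ WithZero.exp (-(D P))} = (L (W - D) : Set K) := by
  ext y
  simp only [Set.mem_setOf_eq, SetLike.mem_coe, ff_mem_L_iff]
  refine forall_congr' fun P => ?_
  rw [ff_vDiff_le_iff hK hg hs P (Φ P) (hΦ P), Finsupp.sub_apply, hW P]

theorem ff_finrank_WD_eq_ell (hK : IsFunctionField k K) {C : Divisor k K}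
    (hC : IsCanonical k K C) (D : Divisor k K) : finrank k (WD D) = ell (C - D) := by
  have h1 := ff_riemann_roch hK hC D
  obtain ⟨-, h2⟩ := ff_finrank_WD hK D
  have : (finrank k (WD D) : ℤ) = ell (C - D) := by linarith
  exact_mod_cast this

end Groth.Agent.Lib.Helper55
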