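import Groth.Agent.Lib.Helper55.FunFld.TateLaurent
import Groth.Agent.Lib.Helper55.FunFld.TateCanonGen

/-! The residue theorem and the residue pairing with Weil differentials, through Laurent
expansions. -/

set_option autoImplicit false

open FunFld Module LocRes

namespace Groth.Agent.Lib.Helper55

open Tate

variable {k K : Type*} [Field k] [Field K] [Algebra k K]

/-- **Residue theorem.** -/
theorem ff_residue_theorem (hK : IsFunctionField k K)
    {F : Place k K → Type*} [∀ P, Field (F P)] [∀ P, Algebra k (F P)]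
    [∀ P, FiniteDimensional k (F P)]
    (φ : ∀ P : Place k K, K →ₐ[k] LaurentSeries (F P))
    (hφ : ∀ P : Place k K, IsExpansionAt P.1 (φ P)) (u v : K) :
    (Function.support fun P => locRes (φ P) u v).Finite ∧ ∑ᶠ P, locRes (φ P) u v = 0 := by
  classical
  choose ρ hρ using fun P : Place k K => ff_exists_proj (k := k) P
  have heq : ∀ P, locRes (φ P) u v = ff_tres (ρ P) u v := fun P =>
    (ff_tres_eq_locRes hK P (φ P) (hφ P) (hρ P) u v).symm
  obtain ⟨T, hT⟩ := ff_exists_finset_poles hK v (ff_adDiag hK u)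
  have hsupp : Function.support (fun P => locRes (φ P) u v) ⊆ ↑T := by
    intro P hP
    by_contra hPT
    apply hP
    obtain ⟨h1, h2⟩ := hT P hPT
    change locRes (φ P) u v = 0
    rw [heq]
    exact ff_tres_eq_zero_of_le_one hK P (hρ P) h2 h1
  refine ⟨T.finite_toSet.subset hsupp, ?_⟩
  rw [finsum_eq_sum_of_support_subset _ hsupp]
  simp only [heq]
  exact ff_sum_tres_eq_zero hK ρ hρ u v T (fun P hP => ⟨(hT P hP).1, (hT P hP).2⟩)

/-- The functional `a ↦ ∑_P Res_P(a_P u dv)` is `u · (Tate–Weil differential of dv)`. -/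
theorem ff_mulW_tateW_eq_finsum (hK : IsFunctionField k K)
    {F : Place k K → Type*} [∀ P, Field (F P)] [∀ P, Algebra k (F P)]
    [∀ P, FiniteDimensional k (F P)]
    (φ : ∀ P : Place k K, K →ₐ[k] LaurentSeries (F P))
    (hφ : ∀ P : Place k K, IsExpansionAt P.1 (φ P))
    (ρ : Place k K → K →ₗ[k] K) (hρ : ∀ P, LinearMap.IsProj (ff_ball P 0) (ρ P))
    (u v : K) (a : adele k K) :
    (Function.support fun P => locRes (φ P) ((a : Place k K → K) P * u) v).Finite ∧
      ff_mulWL hK (ff_tateW hK ρ hρ v) u a =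
        ∑ᶠ P, locRes (φ P) ((a : Place k K → K) P * u) v := by
  classical
  have heq : ∀ P, locRes (φ P) ((a : Place k K → K) P * u) v =
      ff_tres (ρ P) (u * (a : Place k K → K) P) v := fun P => by
    rw [mul_comm]
    exact (ff_tres_eq_locRes hK P (φ P) (hφ P) (hρ P) _ v).symm
  set b : adele k K := ⟨u • (a : Place k K → K), ff_smul_mem_adele hK u _ a.2⟩ with hb
  obtain ⟨T, hT⟩ := ff_exists_finset_poles hK v b
  have hsupp : Function.support (fun P => locRes (φ P) ((a : Place k K → K) P * u) v) ⊆ ↑T := by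
    intro P hP
    by_contra hPT
    apply hP
    obtain ⟨h1, h2⟩ := hT P hPT
    change locRes (φ P) ((a : Place k K → K) P * u) v = 0
    rw [heq]
    exact ff_tres_eq_zero_of_le_one hK P (hρ P) h2 h1
  refine ⟨T.finite_toSet.subset hsupp, ?_⟩
  rw [finsum_eq_sum_of_support_subset _ hsupp, ff_mulWL_apply, ff_mulW_apply,
    ff_tateW_apply hK ρ hρ v b T hT]
  refine Finset.sum_congr rfl fun P _ => ?_
  rw [heq]
  rfl

theorem ff_ordDiff_eq (hK : IsFunctionField k K) (hg : IsGeometric k K) {v : K}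
    (hv : KaehlerDifferential.D k K v ≠ 0) (P : Place k K) {F : Type*} [Field F] [Algebra k F]
    (Φ : K →ₐ[k] LaurentSeries F) (hΦ : IsExpansionAt P.1 Φ) {u : K} (hu : u ≠ 0) :
    ordDiff Φ u v = ordDiff Φ 1 v + P.ord u := by
  have h1 := ff_vDiff_eq_mul hK hg hv P Φ hΦ u
  rw [ff_val_eq_exp_neg_ord P hu, ← WithZero.exp_add] at h1
  rw [ordDiff, h1, WithZero.log_exp]
  ring

/-- The residue pairing gives a nonzero Weil differential with divisor `(u dv)`. -/
theorem ff_exists_weil_locRes (hK : IsFunctionField k K) (hg : IsGeometric k K)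
    {F : Place k K → Type*} [∀ P, Field (F P)] [∀ P, Algebra k (F P)]
    [∀ P, FiniteDimensional k (F P)]
    (φ : ∀ P : Place k K, K →ₐ[k] LaurentSeries (F P))
    (hφ : ∀ P : Place k K, IsExpansionAt P.1 (φ P))
    (u v : K) (hu : u ≠ 0) (hv : KaehlerDifferential.D k K v ≠ 0) :
    ∃ ω : Module.Dual k (adele k K),
      (∀ a : adele k K,
        (Function.support fun P => locRes (φ P) ((a : Place k K → K) P * u) v).Finite ∧
        ω a = ∑ᶠ P, locRes (φ P) ((a : Place k K → K) P * u) v) ∧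
      IsWeil ω ∧ ω ≠ 0 ∧
      (Function.support fun P => ordDiff (φ P) u v).Finite ∧
      ∀ C : Divisor k K, (∀ P, C P = ordDiff (φ P) u v) → IsDivOf ω C := by
  choose ρ hρ using fun P : Place k K => ff_exists_proj (k := k) P
  have hsep := fun P : Place k K =>
    Groth.Agent.Lib.Helper63.ExpSep.isSeparable_residueField hK hg P (φ P) (hφ P)
  obtain ⟨W, hW, hWP⟩ := ff_exists_isDivOf_of_expansions hK hg hv hsep φ hφ ρ hρ
    (fun P t ht => ff_exists_tres_ne_zero hK P (hsep P) (hρ P) ht)
  have hdiv := ff_isDivOf_mulW hK hu (ff_smul_mem_adele hK u) hW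
  have hord : ∀ P, ordDiff (φ P) u v = (W + FunFld.div k u) P := fun P => by
    rw [ff_ordDiff_eq hK hg hv P (φ P) (hφ P) hu, Finsupp.add_apply, hWP P, ff_div_apply hK]
  refine ⟨ff_mulWL hK (ff_tateW hK ρ hρ v) u,
    fun a => ff_mulW_tateW_eq_finsum hK φ hφ ρ hρ u v a, ff_isDivOf_isWeil hdiv,
    ff_isDivOf_ne_zero hK hdiv, ?_, ?_⟩
  · refine (W + FunFld.div k u).support.finite_toSet.subset ?_
    intro P hP
    rw [Function.mem_support, hord] at hP
    exact Finsupp.mem_support_iff.mpr hP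
  · intro C hC
    have : C = W + FunFld.div k u := by
      ext P
      rw [hC P, hord P]
    rw [this]
    exact hdiv

/-- Every Weil differential is a residue pairing, for a unique `u`. -/
theorem ff_existsUnique_locRes_of_isWeil (hK : IsFunctionField k K) (hg : IsGeometric k K)
    {F : Place k K → Type*} [∀ P, Field (F P)] [∀ P, Algebra k (F P)]
    [∀ P, FiniteDimensional k (F P)]
    (φ : ∀ P : Place k K, K →ₐ[k] LaurentSeries (F P))
    (hφ : ∀ P : Place k K, IsExpansionAt P.1 (φ P))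
    (v : K) (hv : KaehlerDifferential.D k K v ≠ 0)
    (ω : Module.Dual k (adele k K)) (hω : IsWeil ω) :
    ∃! u : K, ∀ a : adele k K,
      (Function.support fun P => locRes (φ P) ((a : Place k K → K) P * u) v).Finite ∧
        ω a = ∑ᶠ P, locRes (φ P) ((a : Place k K → K) P * u) v := by
  choose ρ hρ using fun P : Place k K => ff_exists_proj (k := k) P
  have hsep := fun P : Place k K =>
    Groth.Agent.Lib.Helper63.ExpSep.isSeparable_residueField hK hg P (φ P) (hφ P)
  obtain ⟨W, hW, hWP⟩ := ff_exists_isDivOf_of_expansions hK hg hv hsep φ hφ ρ hρ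
    (fun P t ht => ff_exists_tres_ne_zero hK P (hsep P) (hρ P) ht)
  have h0 := ff_isDivOf_ne_zero hK hW
  obtain ⟨u, hu⟩ := ff_exists_mulW_eq hK _ ω (ff_isDivOf_isWeil hW) h0 hω
  refine ⟨u, fun a => ?_, fun u' hu' => ?_⟩
  · rw [← hu]
    exact ff_mulW_tateW_eq_finsum hK φ hφ ρ hρ u v a
  · apply ff_mulWL_injective hK h0
    rw [hu]
    ext a
    rw [(hu' a).2]
    exact (ff_mulW_tateW_eq_finsum hK φ hφ ρ hρ u' v a).2

end Groth.Agent.Lib.Helper55
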