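import Groth.Agent.Lib.Helper55.FunFld.ProjLocal
import Groth.Agent.Lib.Helper55.FunFld.ResidueThm
import Groth.Agent.Lib.Helper55.FunFld.PlaneNonsing
import Groth.Agent.Lib.Helper55.FunFld.HasseInv
import Groth.Agent.Lib.Helper63.SepGen
import Groth.Agent.Lib.Helper63.LocResBasic
import Groth.Agent.Lib.Helper63.GeometricPerfect

/-! Coordinate-change invariance of the adjoint divisor of a plane map (S12616). -/

set_option autoImplicit false

open FunFld Module LocRes

namespace Groth.Agent.Lib.Helper55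

variable {k K : Type*} [Field k] [Field K] [Algebra k K]

/-- Chain rule for a derivation applied to a polynomial expression. -/
theorem ff_deriv_aeval {B : Type*} [CommRing B] [Algebra k B] {σ : Type*} [Fintype σ]
    (δ : Derivation k B B) (v : σ → B) (p : MvPolynomial σ k) :
    δ (MvPolynomial.aeval v p) =
      ∑ i, MvPolynomial.aeval v (MvPolynomial.pderiv i p) * δ (v i) := by
  classical
  induction p using MvPolynomial.induction_on with
  | C a => simp
  | add p q hp hq => simp only [map_add, hp, hq, add_mul, Finset.sum_add_distrib]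
  | mul_X p j hp =>
    rw [map_mul, MvPolynomial.aeval_X, Derivation.leibniz, hp]
    simp only [MvPolynomial.pderiv_mul, MvPolynomial.pderiv_X, map_add, map_mul,
      MvPolynomial.aeval_X, add_mul, Finset.sum_add_distrib, smul_eq_mul, Pi.single_apply,
      apply_ite (MvPolynomial.aeval v), map_one, map_zero, mul_ite, ite_mul, mul_one, mul_zero,
      zero_mul, Finset.sum_ite_eq, Finset.mem_univ, if_true, Finset.mul_sum]
    rw [add_comm]
    congr 1
    refine Finset.sum_congr rfl fun i _ => ?_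
    ring

/-- The partial derivatives of `f ∘ A`. -/
theorem ff_pderiv_comp_matrix {n : ℕ} (A : Matrix (Fin n) (Fin n) k) (f : MvPolynomial (Fin n) k)
    (j : Fin n) :
    MvPolynomial.pderiv j (MvPolynomial.aeval
        (fun i : Fin n => ∑ l, MvPolynomial.C (A i l) * MvPolynomial.X l) f) =
      ∑ i, MvPolynomial.C (A i j) * MvPolynomial.aeval
        (fun i : Fin n => ∑ l, MvPolynomial.C (A i l) * (MvPolynomial.X l : MvPolynomial (Fin n) k))
        (MvPolynomial.pderiv i f) := by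
  classical
  rw [ff_deriv_aeval (MvPolynomial.pderiv j)]
  refine Finset.sum_congr rfl fun i _ => ?_
  rw [mul_comm]
  congr 1
  rw [map_sum]
  simp only [MvPolynomial.pderiv_C_mul, MvPolynomial.pderiv_X, Pi.single_apply, mul_ite, mul_one,
    mul_zero, Finset.sum_ite_eq', Finset.sum_ite_eq, Finset.mem_univ, if_true]

/-- Evaluating `f ∘ A` at `w` is evaluating `f` at `A w`. -/
theorem ff_aeval_comp_matrix {n : ℕ} (A : Matrix (Fin n) (Fin n) k) (f : MvPolynomial (Fin n) k)
    (w : Fin n → K) :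
    MvPolynomial.aeval w (MvPolynomial.aeval
        (fun i : Fin n => ∑ l, MvPolynomial.C (A i l) * (MvPolynomial.X l : MvPolynomial (Fin n) k))
        f) =
      MvPolynomial.aeval (fun i => ∑ l, algebraMap k K (A i l) * w l) f := by
  rw [MvPolynomial.comp_aeval_apply]
  congr 2
  funext i
  rw [map_sum]
  refine Finset.sum_congr rfl fun l _ => ?_
  rw [map_mul, MvPolynomial.aeval_C, MvPolynomial.aeval_X]

/-- The partial derivatives of `f ∘ A` at the new affine point, in terms of those of `f`. -/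
theorem ff_coord_pderiv {n : ℕ} (f : MvPolynomial (Fin n) k) {e : ℕ} (hf : f.IsHomogeneous e)
    (A : Matrix (Fin n) (Fin n) k) (u X : Fin n → K) (c : K) (hc : c ≠ 0)
    (hu : ∀ i, ∑ j, algebraMap k K (A i j) * u j = X i) (j : Fin n) :
    c ^ (e - 1) * MvPolynomial.aeval (fun i => u i / c) (MvPolynomial.pderiv j
        (MvPolynomial.aeval (fun i : Fin n => ∑ l, MvPolynomial.C (A i l) * MvPolynomial.X l) f)) =
      ∑ i, algebraMap k K (A i j) * MvPolynomial.aeval X (MvPolynomial.pderiv i f) := by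
  rw [ff_pderiv_comp_matrix, map_sum, Finset.mul_sum]
  refine Finset.sum_congr rfl fun i _ => ?_
  rw [map_mul, MvPolynomial.aeval_C, ff_aeval_comp_matrix]
  have h1 : (fun i' => ∑ l, algebraMap k K (A i' l) * (u l / c)) = fun i' => c⁻¹ * X i' := by
    funext i'
    rw [← hu i', Finset.mul_sum]
    refine Finset.sum_congr rfl fun l _ => ?_
    rw [div_eq_mul_inv]
    ring
  rw [h1, ff_aeval_smul_of_isHomogeneous' _ (hf.pderiv (i := i)), inv_pow]
  field_simp

/-- The key identity behind the coordinate change of `dx / f_y`, for any derivation. -/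
theorem ff_coord_deriv (f : MvPolynomial (Fin 3) k) {e : ℕ} (hf : f.IsHomogeneous e) (x y : K)
    (hfxy : MvPolynomial.aeval ![(1 : K), x, y] f = 0)
    (A : Matrix (Fin 3) (Fin 3) k) (u : Fin 3 → K)
    (hu : ∀ i, ∑ j, algebraMap k K (A i j) * u j = ![(1 : K), x, y] i) (hu0 : u 0 ≠ 0)
    (δ : Derivation k K K) :
    u 0 ^ (e - 1) * MvPolynomial.aeval (fun i => u i / u 0) (MvPolynomial.pderiv 2
        (MvPolynomial.aeval (fun i : Fin 3 => ∑ l, MvPolynomial.C (A i l) * MvPolynomial.X l) f)) *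
        δ x =
      MvPolynomial.aeval ![(1 : K), x, y] (MvPolynomial.pderiv 2 f) * algebraMap k K A.det *
        (u 0 * δ (u 1) - u 1 * δ (u 0)) := by
  have hc := ff_coord_pderiv f hf A u ![(1 : K), x, y] (u 0) hu0 hu 2
  rw [hc, Fin.sum_univ_three]
  have ha := ff_deriv_aeval δ ![(1 : K), x, y] f
  rw [hfxy, map_zero, Fin.sum_univ_three] at ha
  have hb := congrArg (MvPolynomial.aeval ![(1 : K), x, y]) hf.sum_X_mul_pderiv
  rw [map_sum, Fin.sum_univ_three, map_nsmul, hfxy, smul_zero] at hb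
  simp only [map_mul, MvPolynomial.aeval_X, Matrix.cons_val_zero, Matrix.cons_val_one,
    Matrix.cons_val, map_one, mul_zero, add_zero, zero_add, one_mul] at ha hb
  have hd : ∀ i, ∑ j, algebraMap k K (A i j) * δ (u j) = δ (![(1 : K), x, y] i) := by
    intro i
    rw [← hu i, map_sum]
    refine Finset.sum_congr rfl fun j _ => ?_
    rw [Derivation.leibniz, Derivation.map_algebraMap, smul_zero, add_zero, smul_eq_mul]
  have h0 := hu 0
  have h1 := hu 1
  have h2 := hu 2
  have hd0 := hd 0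
  have hd1 := hd 1
  have hd2 := hd 2
  simp only [Fin.sum_univ_three, Matrix.cons_val_zero, Matrix.cons_val_one, Matrix.cons_val,
    map_one] at h0 h1 h2 hd0 hd1 hd2
  rw [Matrix.det_fin_three]
  simp only [map_sub, map_add, map_mul]
  have hδ1 : δ 1 = 0 := Derivation.map_one_eq_zero δ
  rw [hδ1] at hd0
  rw [hδ1, mul_zero, zero_add] at ha
  clear hc hd hu hfxy hδ1
  generalize MvPolynomial.aeval ![(1 : K), x, y] (MvPolynomial.pderiv 0 f) = F0 at *
  generalize MvPolynomial.aeval ![(1 : K), x, y] (MvPolynomial.pderiv 1 f) = F1 at *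
  generalize MvPolynomial.aeval ![(1 : K), x, y] (MvPolynomial.pderiv 2 f) = F2 at *
  generalize δ x = dx at *
  generalize δ y = dy at *
  generalize δ (u 0) = du0 at *
  generalize δ (u 1) = du1 at *
  generalize δ (u 2) = du2 at *
  generalize u 0 = u0 at *
  generalize u 1 = u1 at *
  generalize u 2 = u2 at *
  generalize algebraMap k K (A 0 0) = a00 at *
  generalize algebraMap k K (A 0 1) = a01 at *
  generalize algebraMap k K (A 0 2) = a02 at *
  generalize algebraMap k K (A 1 0) = a10 at *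
  generalize algebraMap k K (A 1 1) = a11 at *
  generalize algebraMap k K (A 1 2) = a12 at *
  generalize algebraMap k K (A 2 0) = a20 at *
  generalize algebraMap k K (A 2 1) = a21 at *
  generalize algebraMap k K (A 2 2) = a22 at *
  subst h1 h2 hd1 hd2
  linear_combination (a02 * (a10 * du0 + a11 * du1 + a12 * du2)) * hb -
    (a12 - a02 * (a10 * u0 + a11 * u1 + a12 * u2)) * ha +
    F2 * (a12 * (a20 * du0 + a21 * du1 + a22 * du2) -
      a22 * (a10 * du0 + a11 * du1 + a12 * du2)) * h0 +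
    F2 * (a22 * (a10 * u0 + a11 * u1 + a12 * u2) - a12 * (a20 * u0 + a21 * u1 + a22 * u2)) * hd0

/-- The relation between `dx'` and `dx` under a change of projective coordinates. -/
theorem ff_coord_D (hK : IsFunctionField k K) (hg : IsGeometric k K)
    (f : MvPolynomial (Fin 3) k) {e : ℕ} (hf : f.IsHomogeneous e) (x y : K)
    (hfxy : MvPolynomial.aeval ![(1 : K), x, y] f = 0)
    (hdx : KaehlerDifferential.D k K x ≠ 0)
    (A : Matrix (Fin 3) (Fin 3) k) (hA : A.det ≠ 0) (u : Fin 3 → K)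
    (hu : ∀ i, ∑ j, algebraMap k K (A i j) * u j = ![(1 : K), x, y] i) (hu0 : u 0 ≠ 0)
    (hfy : MvPolynomial.aeval ![(1 : K), x, y] (MvPolynomial.pderiv 2 f) ≠ 0) :
    KaehlerDifferential.D k K (u 1 / u 0) =
      ((u 0 ^ (e - 1) * MvPolynomial.aeval (fun i => u i / u 0) (MvPolynomial.pderiv 2
        (MvPolynomial.aeval (fun i : Fin 3 => ∑ l, MvPolynomial.C (A i l) * MvPolynomial.X l) f))) /
        (MvPolynomial.aeval ![(1 : K), x, y] (MvPolynomial.pderiv 2 f) * algebraMap k K A.det *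
          u 0 ^ 2)) • KaehlerDifferential.D k K x := by
  obtain ⟨ℓ, hℓ⟩ := Module.Projective.exists_dual_eq_one K hdx
  obtain ⟨g, hg'⟩ := Groth.Agent.Lib.Helper63.SepGen.exists_smul_D_eq hK hg hdx (u 1 / u 0)
  set δ : Derivation k K K := ℓ.compDer (KaehlerDifferential.D k K) with hδ
  have hδx : δ x = 1 := hℓ
  have hδx' : δ (u 1 / u 0) = g := by
    change ℓ (KaehlerDifferential.D k K (u 1 / u 0)) = g
    rw [hg', map_smul, hℓ, smul_eq_mul, mul_one]
  have key := ff_coord_deriv f hf x y hfxy A u hu hu0 δ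
  rw [hδx, mul_one] at key
  have hdiv : δ (u 1 / u 0) = (u 0)⁻¹ ^ 2 * (u 0 * δ (u 1) - u 1 * δ (u 0)) := by
    rw [Derivation.leibniz_div]
    simp only [smul_eq_mul]
  have hdet : algebraMap k K A.det ≠ 0 := (map_ne_zero _).mpr hA
  rw [hg']
  congr 1
  rw [← hδx', hdiv, key]
  field_simp

theorem ff_ordDiff_of_smul {F : Type*} [Field F] [Algebra k F] (Φ : K →ₐ[k] LaurentSeries F)
    {x x' g : K} (h : KaehlerDifferential.D k K x' = g • KaehlerDifferential.D k K x) (w : K) :
    ordDiff Φ w x' = ordDiff Φ (w * g) x := by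
  unfold ordDiff vDiff
  rw [Groth.Agent.Lib.Helper63.LocResBasic.D_exp_eq Φ h, _root_.map_mul Φ w g, mul_assoc]

theorem ff_divDiff_congr (Φ : Place k K → (K →ₐ[k] LaurentSeries k)) {w v w' v' : K}
    (h : ∀ P, ordDiff (Φ P) w v = ordDiff (Φ P) w' v') : divDiff Φ w v = divDiff Φ w' v' := by
  have : (fun P : Place k K => ordDiff (Φ P) w v) = fun P => ordDiff (Φ P) w' v' := funext h
  unfold divDiff
  by_cases hfin : (Function.support fun P : Place k K => ordDiff (Φ P) w' v').Finite
  · rw [dif_pos hfin, dif_pos (by rw [this]; exact hfin)]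
    ext P
    exact h P
  · rw [dif_neg hfin, dif_neg (by rw [this]; exact hfin)]

theorem ff_divDiff_eq_add_div (hK : IsFunctionField k K) (hg : IsGeometric k K)
    (Φ : Place k K → (K →ₐ[k] LaurentSeries k))
    (hΦ : ∀ P : Place k K, IsExpansionAt P.1 (Φ P)) {v : K}
    (hv : KaehlerDifferential.D k K v ≠ 0) {W : Divisor k K}
    (hW : ∀ P, W P = ordDiff (Φ P) 1 v) {w : K} (hw : w ≠ 0) :
    divDiff Φ w v = W + FunFld.div k w := by
  have hord : ∀ P, ordDiff (Φ P) w v = (W + FunFld.div k w) P := fun P => by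
    rw [ff_ordDiff_eq hK hg hv P (Φ P) (hΦ P) hw, Finsupp.add_apply, hW P, ff_div_apply hK]
  have hfin : (Function.support fun P : Place k K => ordDiff (Φ P) w v).Finite := by
    refine (W + FunFld.div k w).support.finite_toSet.subset ?_
    intro P hP
    rw [Function.mem_support, hord] at hP
    exact Finsupp.mem_support_iff.mpr hP
  ext P
  unfold divDiff
  rw [dif_pos hfin]
  exact hord P

/-- The divisor of the map in the new coordinates. -/
theorem ff_mapDiv_coord (hK : IsFunctionField k K) (x y : K)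
    (A : Matrix (Fin 3) (Fin 3) k) (hA : A.det ≠ 0) (u : Fin 3 → K)
    (hu : ∀ i, ∑ j, algebraMap k K (A i j) * u j = ![(1 : K), x, y] i) (hu0 : u 0 ≠ 0) :
    mapDiv k ![(1 : K), u 1 / u 0, u 2 / u 0] = mapDiv k ![(1 : K), x, y] + FunFld.div k (u 0) := by
  have hX' : ![(1 : K), u 1 / u 0, u 2 / u 0] = fun i => u i / u 0 := by
    funext i
    fin_cases i
    · simp [div_self hu0]
    · simp
    · simp
  have hspan : Submodule.span k (Set.range ![(1 : K), x, y]) = Submodule.span k (Set.range u) := by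
    rw [← ff_matrix_span_eq u A hA]
    congr 2
    funext i
    rw [← hu i]
    simp only [Algebra.smul_def]
  ext Q
  rw [Finsupp.add_apply, ff_div_apply hK]
  obtain ⟨j, hj⟩ := ff_exists_max_index u Q
  obtain ⟨j', hj'⟩ := ff_exists_max_index ![(1 : K), x, y] Q
  have h3 : Q.1 (![(1 : K), x, y] j') ≤ Q.1 (u j) :=
    ff_span_val_le u Q hj (hspan ▸ Submodule.subset_span ⟨j', rfl⟩)
  have h4 : Q.1 (u j) ≤ Q.1 (![(1 : K), x, y] j') :=
    ff_span_val_le ![(1 : K), x, y] Q hj' (hspan.symm ▸ Submodule.subset_span ⟨j, rfl⟩)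
  have hM : WithZero.exp (mapDiv k ![(1 : K), x, y] Q) = Q.1 (u j) := by
    obtain ⟨i₀, hi₀⟩ := ff_exists_val_eq_exp_mapDiv hK ![(1 : K), x, y] 0 rfl Q
    apply le_antisymm
    · rw [← hi₀]; exact (hj' i₀).trans h3
    · refine h4.trans ?_
      rcases ff_val_le_exp_mapDiv hK ![(1 : K), x, y] j' Q with h | h
      · exact h
      · rw [h, map_zero]; exact zero_le
  have hv0 : Q.1 (u 0) ≠ 0 := ff_val_ne_zero Q hu0
  have hM' : WithZero.exp (mapDiv k ![(1 : K), u 1 / u 0, u 2 / u 0] Q) = Q.1 (u j) / Q.1 (u 0) := by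
    obtain ⟨i₁, hi₁⟩ := ff_exists_val_eq_exp_mapDiv hK ![(1 : K), u 1 / u 0, u 2 / u 0] 0 rfl Q
    apply le_antisymm
    · rw [← hi₁, hX', map_div₀]
      exact div_le_div_of_nonneg_right (hj i₁) zero_le
    · rcases ff_val_le_exp_mapDiv hK ![(1 : K), u 1 / u 0, u 2 / u 0] j Q with h | h
      · rw [hX', map_div₀] at h; rw [hX']; exact h
      · have h' : u j / u 0 = 0 := by rw [hX'] at h; exact h
        rw [← map_div₀, h', map_zero]; exact zero_le
  have h5 : WithZero.exp (mapDiv k ![(1 : K), u 1 / u 0, u 2 / u 0] Q) =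
      WithZero.exp (mapDiv k ![(1 : K), x, y] Q + Q.ord (u 0)) := by
    rw [hM', WithZero.exp_add, hM, ff_val_eq_exp_neg_ord Q hu0, WithZero.exp_neg, div_eq_mul_inv,
      inv_inv]
  exact WithZero.exp_inj.mp h5

/-- S12616: the adjoint divisor is invariant under a change of projective coordinates. -/
theorem ff_adjointDiv_coord [IsAlgClosed k] (hK : IsFunctionField k K)
    (f : MvPolynomial (Fin 3) k) (e : ℕ) (hf : f.IsHomogeneous e)
    (x y : K) (hfxy : MvPolynomial.aeval ![(1 : K), x, y] f = 0)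
    (hdx : KaehlerDifferential.D k K x ≠ 0)
    (he : (mapDiv k ![(1 : K), x, y]).deg = e)
    (A : Matrix (Fin 3) (Fin 3) k) (hA : A.det ≠ 0)
    (u : Fin 3 → K) (hu : ∀ i, ∑ j, algebraMap k K (A i j) * u j = ![(1 : K), x, y] i)
    (hu0 : u 0 ≠ 0)
    (hfy : (MvPolynomial.aeval ![(1 : K), x, y] (MvPolynomial.pderiv 2 f)) ≠ 0)
    (hfy' : (MvPolynomial.aeval ![(1 : K), u 1 / u 0, u 2 / u 0] (MvPolynomial.pderiv 2
      (MvPolynomial.aeval (fun i : Fin 3 => ∑ j, MvPolynomial.C (A i j) * MvPolynomial.X j) f))) ≠ 0)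
    (Φ : Place k K → (K →ₐ[k] LaurentSeries k))
    (hΦ : ∀ P : Place k K, IsExpansionAt P.1 (Φ P)) :
    ((mapDiv k ![(1 : K), x, y]).deg - 3) • mapDiv k ![(1 : K), x, y] -
        divDiff Φ (MvPolynomial.aeval ![(1 : K), x, y] (MvPolynomial.pderiv 2 f))⁻¹ x =
      ((mapDiv k ![(1 : K), u 1 / u 0, u 2 / u 0]).deg - 3) •
          mapDiv k ![(1 : K), u 1 / u 0, u 2 / u 0] -
        divDiff Φ (MvPolynomial.aeval ![(1 : K), u 1 / u 0, u 2 / u 0] (MvPolynomial.pderiv 2
          (MvPolynomial.aeval (fun i : Fin 3 => ∑ j, MvPolynomial.C (A i j) * MvPolynomial.X j)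
            f)))⁻¹ (u 1 / u 0) := by
  have hg := Groth.Agent.Lib.Helper63.GeometricPerfect.isGeometric_of_perfectField hK
  have hX' : ![(1 : K), u 1 / u 0, u 2 / u 0] = fun i => u i / u 0 := by
    funext i
    fin_cases i
    · simp [div_self hu0]
    · simp
    · simp
  have he1 : 1 ≤ e := by
    by_contra hlt
    have he0 : e = 0 := by omega
    subst he0
    apply hfy
    have : MvPolynomial.pderiv 2 f = 0 := by
      have h3 := hf.totalDegree_le
      have h4 : f = MvPolynomial.C (MvPolynomial.coeff 0 f) :=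
        (MvPolynomial.totalDegree_eq_zero_iff_eq_C).mp (by omega)
      rw [h4, MvPolynomial.pderiv_C]
    rw [this, map_zero]
  have hmd := ff_mapDiv_coord hK x y A hA u hu hu0
  have hdeg : (mapDiv k ![(1 : K), u 1 / u 0, u 2 / u 0]).deg = (mapDiv k ![(1 : K), x, y]).deg := by
    rw [hmd, ff_deg_add, ff_deg_div hK, add_zero]
  obtain ⟨W, -, hW⟩ := ff_exists_canonical_of_expansions hK hg hdx Φ hΦ
  set F2 := MvPolynomial.aeval ![(1 : K), x, y] (MvPolynomial.pderiv 2 f) with hF2
  set G2 := MvPolynomial.aeval ![(1 : K), u 1 / u 0, u 2 / u 0] (MvPolynomial.pderiv 2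
      (MvPolynomial.aeval (fun i : Fin 3 => ∑ j, MvPolynomial.C (A i j) * MvPolynomial.X j) f))
    with hG2
  have hD := ff_coord_D hK hg f hf x y hfxy hdx A hA u hu hu0 hfy
  rw [← hX', ← hG2, ← hF2] at hD
  have hdet : algebraMap k K A.det ≠ 0 := (map_ne_zero _).mpr hA
  have h1 : divDiff Φ F2⁻¹ x = W - FunFld.div k F2 := by
    rw [ff_divDiff_eq_add_div hK hg Φ hΦ hdx hW (inv_ne_zero hfy), ff_div_inv hK, sub_eq_add_neg]
  have h2 : divDiff Φ G2⁻¹ (u 1 / u 0) =
      W + ((e - 1 : ℕ) • FunFld.div k (u 0) - FunFld.div k F2 - (2 : ℕ) • FunFld.div k (u 0)) := by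
    rw [ff_divDiff_congr Φ (fun P => ff_ordDiff_of_smul (Φ P) hD G2⁻¹)]
    have hw : G2⁻¹ * (u 0 ^ (e - 1) * G2 / (F2 * algebraMap k K A.det * u 0 ^ 2)) =
        u 0 ^ (e - 1) * (F2⁻¹ * (algebraMap k K A.det)⁻¹ * (u 0 ^ 2)⁻¹) := by
      field_simp
    rw [hw, ff_divDiff_eq_add_div hK hg Φ hΦ hdx hW (mul_ne_zero (pow_ne_zero _ hu0)
      (mul_ne_zero (mul_ne_zero (inv_ne_zero hfy) (inv_ne_zero hdet))
        (inv_ne_zero (pow_ne_zero _ hu0)))),
      ff_div_mul hK (pow_ne_zero _ hu0) (mul_ne_zero (mul_ne_zero (inv_ne_zero hfy)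
        (inv_ne_zero hdet)) (inv_ne_zero (pow_ne_zero _ hu0))),
      ff_div_mul hK (mul_ne_zero (inv_ne_zero hfy) (inv_ne_zero hdet))
        (inv_ne_zero (pow_ne_zero _ hu0)),
      ff_div_mul hK (inv_ne_zero hfy) (inv_ne_zero hdet), ff_div_inv hK, ff_div_inv hK,
      ff_div_inv hK, ff_div_const hK, ff_div_pow hK hu0, ff_div_pow hK hu0]
    abel
  rw [h1, h2, hdeg, hmd, he, ← natCast_zsmul (FunFld.div k (u 0)) (e - 1),
    ← natCast_zsmul (FunFld.div k (u 0)) 2, Nat.cast_sub he1]
  push_cast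
  module

end Groth.Agent.Lib.Helper55
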