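import Groth.Agent.Lib.Helper55.FunFld.PlaneNonsing
import Mathlib.Algebra.Polynomial.Bivariate
import Mathlib.RingTheory.Polynomial.GaussLemma
import Mathlib.FieldTheory.RatFunc.AsPolynomial

/-! The degree of a plane curve: `deg [1 : x : y] = deg f` (S11070). -/

set_option autoImplicit false
set_option linter.unusedSectionVars false

open FunFld Module Polynomial IntermediateField

namespace Groth.Agent.Lib.Helper55

variable {k K : Type*} [Field k] [Field K] [Algebra k K]

/-- Gauss lemma bridge: `[K : k(u)]` is the `Y`-degree of an irreducible relation `G(u, v) = 0`. -/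
theorem ff_finrank_eq_natDegree_biv (hK : IsFunctionField k K) {u v : K}
    (hu : Transcendental k u) (huv : IntermediateField.adjoin k ({u, v} : Set K) = ⊤)
    (G : Polynomial (Polynomial k)) (hG : Irreducible G)
    (hGuv : G.eval₂ ((aeval u : k[X] →ₐ[k] K) : k[X] →+* K) v = 0) :
    finrank k⟮u⟯ K = G.natDegree := by
  classical
  set F := k⟮u⟯ with hF
  let e : RatFunc k ≃ₐ[k] F := RatFunc.algEquivOfTranscendental u hu
  let ι : k[X] →+* F := (e : RatFunc k →+* F).comp (algebraMap k[X] (RatFunc k))
  have hι : ∀ p : k[X], ((ι p : F) : K) = aeval u p := by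
    intro p
    change ((e (algebraMap k[X] (RatFunc k) p) : F) : K) = _
    rw [RatFunc.algEquivOfTranscendental_algebraMap]
    have : ((aeval (AdjoinSimple.gen k u) p : F) : K) = aeval ((AdjoinSimple.gen k u : F) : K) p :=
      (aeval_algebraMap_apply K (AdjoinSimple.gen k u) p).symm
    rw [this, AdjoinSimple.coe_gen]
  have hιinj : Function.Injective ι :=
    e.injective.comp (IsFractionRing.injective k[X] (RatFunc k))
  -- nonzero degree
  have hdeg : G.natDegree ≠ 0 := by
    intro h0
    rw [eq_C_of_natDegree_eq_zero h0, eval₂_C] at hGuv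
    have hc0 : G.coeff 0 ≠ 0 := by
      intro h
      apply hG.ne_zero
      rw [eq_C_of_natDegree_eq_zero h0, h, C_0]
    exact hu ⟨G.coeff 0, hc0, hGuv⟩
  have hprim : G.IsPrimitive := hG.isPrimitive hdeg
  have hirr1 : Irreducible (G.map (algebraMap k[X] (RatFunc k))) :=
    (hprim.irreducible_iff_irreducible_map_fraction_map).mp hG
  have hirr2 : Irreducible (G.map ι) := by
    have : G.map ι = (G.map (algebraMap k[X] (RatFunc k))).map (e : RatFunc k →+* F) := by
      rw [Polynomial.map_map]
    rw [this]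
    exact (MulEquiv.irreducible_iff (Polynomial.mapEquiv (e : RatFunc k ≃+* F))).mpr hirr1
  have hroot : aeval v (G.map ι) = 0 := by
    rw [aeval_def, eval₂_map]
    have : (algebraMap F K).comp ι = ((aeval u : k[X] →ₐ[k] K) : k[X] →+* K) := by
      ext p
      · simp [hι]
      · simp [hι]
    rw [this]
    exact hGuv
  have hmin := minpoly.eq_of_irreducible hirr2 hroot
  rw [← ff_natDegree_minpoly_of_adjoin_eq_top hK hu huv, ← hmin,
    natDegree_mul_C (inv_ne_zero (leadingCoeff_ne_zero.mpr hirr2.ne_zero)),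
    natDegree_map_eq_of_injective hιinj]

section Subst

/-- `|m| = m 0 + m 1`. -/
theorem ff_fin2_sum (m : Fin 2 →₀ ℕ) : (m.sum fun _ e => e) = m 0 + m 1 := by
  rw [Finsupp.sum_fintype _ _ (fun _ => rfl), Fin.sum_univ_two]

/-- The top form of `f` evaluated at `(α, β)`. -/
noncomputable def ffTop (f : MvPolynomial (Fin 2) k) (α β : k) : k :=
  ∑ m ∈ f.support with m 0 + m 1 = f.totalDegree, f.coeff m * α ^ m 0 * β ^ m 1

theorem ff_aeval_biv_eq (f : MvPolynomial (Fin 2) k) (S₀ S₁ : Polynomial (Polynomial k)) :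
    MvPolynomial.aeval ![S₀, S₁] f =
      ∑ m ∈ f.support, C (C (f.coeff m)) * (S₀ ^ m 0 * S₁ ^ m 1) := by
  rw [MvPolynomial.aeval_def, MvPolynomial.eval₂_eq']
  refine Finset.sum_congr rfl fun m _ => ?_
  rw [Fin.prod_univ_two]
  rfl

theorem ff_natDegree_aeval_biv_le (f : MvPolynomial (Fin 2) k) {S₀ S₁ : Polynomial (Polynomial k)}
    (h₀ : S₀.natDegree ≤ 1) (h₁ : S₁.natDegree ≤ 1) :
    (MvPolynomial.aeval ![S₀, S₁] f).natDegree ≤ f.totalDegree := by
  rw [ff_aeval_biv_eq]
  refine natDegree_sum_le_of_forall_le _ _ fun m hm => ?_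
  refine (natDegree_C_mul_le _ _).trans ?_
  have h1 := natDegree_mul_le_of_le (natDegree_pow_le_of_le (m 0) h₀)
    (natDegree_pow_le_of_le (m 1) h₁)
  refine h1.trans ?_
  have := MvPolynomial.le_totalDegree hm
  rw [ff_fin2_sum] at this
  omega

theorem ff_coeff_aeval_biv (f : MvPolynomial (Fin 2) k) {S₀ S₁ : Polynomial (Polynomial k)}
    (h₀ : S₀.natDegree ≤ 1) (h₁ : S₁.natDegree ≤ 1) :
    (MvPolynomial.aeval ![S₀, S₁] f).coeff f.totalDegree =
      ∑ m ∈ f.support with m 0 + m 1 = f.totalDegree,
        C (f.coeff m) * (S₀.coeff 1 ^ m 0 * S₁.coeff 1 ^ m 1) := by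
  classical
  rw [ff_aeval_biv_eq, finsetSum_coeff, Finset.sum_filter]
  refine Finset.sum_congr rfl fun m hm => ?_
  rw [coeff_C_mul]
  have hle := MvPolynomial.le_totalDegree hm
  rw [ff_fin2_sum] at hle
  split_ifs with h
  · congr 1
    rw [← h]
    have e0 : m 0 = m 0 * 1 := (mul_one _).symm
    have e1 : m 1 = m 1 * 1 := (mul_one _).symm
    have h0' : (S₀ ^ m 0).natDegree ≤ m 0 := by
      have := natDegree_pow_le_of_le (m 0) h₀; rwa [mul_one] at this
    have h1' : (S₁ ^ m 1).natDegree ≤ m 1 := by
      have := natDegree_pow_le_of_le (m 1) h₁; rwa [mul_one] at this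
    rw [coeff_mul_add_eq_of_natDegree_le h0' h1']
    have c0 : (S₀ ^ m 0).coeff (m 0) = S₀.coeff 1 ^ m 0 := by
      have := coeff_pow_of_natDegree_le (m := m 0) h₀
      rwa [mul_one] at this
    have c1 : (S₁ ^ m 1).coeff (m 1) = S₁.coeff 1 ^ m 1 := by
      have := coeff_pow_of_natDegree_le (m := m 1) h₁
      rwa [mul_one] at this
    rw [c0, c1]
  · rw [coeff_eq_zero_of_natDegree_lt, mul_zero]
    have h1 := natDegree_mul_le_of_le (natDegree_pow_le_of_le (m 0) h₀)
      (natDegree_pow_le_of_le (m 1) h₁)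
    omega

/-- The affine form `a₀ + a₁ X + a₂ Y` in `k[X][Y]`. -/
noncomputable def affBiv (a : Fin 3 → k) : Polynomial (Polynomial k) :=
  C (C (a 0) + C (a 1) * X) + C (C (a 2)) * X

theorem natDegree_affBiv_le (a : Fin 3 → k) : (affBiv a).natDegree ≤ 1 := by
  unfold affBiv
  refine (natDegree_add_le _ _).trans (max_le ?_ ?_)
  · rw [natDegree_C]; exact Nat.zero_le _
  · exact (natDegree_C_mul_le _ _).trans natDegree_X_le

theorem coeff_one_affBiv (a : Fin 3 → k) : (affBiv a).coeff 1 = C (a 2) := by
  unfold affBiv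
  rw [coeff_add, coeff_C, if_neg one_ne_zero, coeff_C_mul, coeff_X_one, mul_one, zero_add]

theorem aevalTower_affBiv (a : Fin 3 → k) (u v : K) :
    aevalTower (aeval u : k[X] →ₐ[k] K) v (affBiv a) =
      algebraMap k K (a 0) + algebraMap k K (a 1) * u + algebraMap k K (a 2) * v := by
  unfold affBiv
  simp only [map_add, map_mul, aevalTower_C, aevalTower_X, aeval_C, aeval_X]

/-- The substituted polynomial `f(a₀ + a₁X + a₂Y, b₀ + b₁X + b₂Y)`. -/
noncomputable def subBiv (a b : Fin 3 → k) : MvPolynomial (Fin 2) k →ₐ[k] Polynomial (Polynomial k) :=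
  MvPolynomial.aeval ![affBiv a, affBiv b]

theorem aevalTower_subBiv (a b : Fin 3 → k) (u v : K) (f : MvPolynomial (Fin 2) k) :
    aevalTower (aeval u : k[X] →ₐ[k] K) v (subBiv a b f) =
      MvPolynomial.aeval ![algebraMap k K (a 0) + algebraMap k K (a 1) * u + algebraMap k K (a 2) * v,
        algebraMap k K (b 0) + algebraMap k K (b 1) * u + algebraMap k K (b 2) * v] f := by
  unfold subBiv
  have := MvPolynomial.comp_aeval (R := k) (f := ![affBiv a, affBiv b])
    (aevalTower (aeval u : k[X] →ₐ[k] K) v)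
  rw [← AlgHom.comp_apply, this]
  congr 2
  funext i
  fin_cases i
  · exact aevalTower_affBiv a u v
  · exact aevalTower_affBiv b u v

/-- An invertible affine substitution is an isomorphism `k[X₀, X₁] ≃ k[X][Y]`. -/
theorem subBiv_bijective (a b : Fin 3 → k) (hdet : a 1 * b 2 - a 2 * b 1 ≠ 0) :
    Function.Bijective (subBiv a b) := by
  set Δ := a 1 * b 2 - a 2 * b 1 with hΔ
  let T₀ : MvPolynomial (Fin 2) k := MvPolynomial.C Δ⁻¹ *
    (MvPolynomial.C (b 2) * (MvPolynomial.X 0 - MvPolynomial.C (a 0)) -
      MvPolynomial.C (a 2) * (MvPolynomial.X 1 - MvPolynomial.C (b 0)))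
  let T₁ : MvPolynomial (Fin 2) k := MvPolynomial.C Δ⁻¹ *
    (MvPolynomial.C (a 1) * (MvPolynomial.X 1 - MvPolynomial.C (b 0)) -
      MvPolynomial.C (b 1) * (MvPolynomial.X 0 - MvPolynomial.C (a 0)))
  let Ψ : Polynomial (Polynomial k) →ₐ[k] MvPolynomial (Fin 2) k :=
    aevalTower (aeval T₀ : k[X] →ₐ[k] MvPolynomial (Fin 2) k) T₁
  have hΨa : ∀ c : Fin 3 → k, Ψ (affBiv c) =
      MvPolynomial.C (c 0) + MvPolynomial.C (c 1) * T₀ + MvPolynomial.C (c 2) * T₁ := by
    intro c
    unfold affBiv
    simp only [Ψ, map_add, map_mul, aevalTower_C, aevalTower_X, aeval_C, aeval_X]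
    rfl
  have h1 : Ψ.comp (subBiv a b) = AlgHom.id k _ := by
    apply MvPolynomial.algHom_ext
    intro i
    rw [AlgHom.comp_apply, AlgHom.id_apply]
    unfold subBiv
    rw [MvPolynomial.aeval_X]
    fin_cases i
    · change Ψ (affBiv a) = MvPolynomial.X 0
      rw [hΨa]
      simp only [T₀, T₁]
      have hC : (MvPolynomial.C Δ * MvPolynomial.C Δ⁻¹ : MvPolynomial (Fin 2) k) = 1 := by
        rw [← MvPolynomial.C_mul, mul_inv_cancel₀ hdet, MvPolynomial.C_1]
      have hΔ' : (MvPolynomial.C Δ : MvPolynomial (Fin 2) k) =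
          MvPolynomial.C (a 1) * MvPolynomial.C (b 2) - MvPolynomial.C (a 2) * MvPolynomial.C (b 1) := by
        rw [hΔ, MvPolynomial.C_sub, MvPolynomial.C_mul, MvPolynomial.C_mul]
      linear_combination (MvPolynomial.X 0 - MvPolynomial.C (a 0)) * hC -
        (MvPolynomial.C Δ⁻¹ * (MvPolynomial.X 0 - MvPolynomial.C (a 0))) * hΔ'
    · change Ψ (affBiv b) = MvPolynomial.X 1
      rw [hΨa]
      simp only [T₀, T₁]
      have hC : (MvPolynomial.C Δ * MvPolynomial.C Δ⁻¹ : MvPolynomial (Fin 2) k) = 1 := by
        rw [← MvPolynomial.C_mul, mul_inv_cancel₀ hdet, MvPolynomial.C_1]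
      have hΔ' : (MvPolynomial.C Δ : MvPolynomial (Fin 2) k) =
          MvPolynomial.C (a 1) * MvPolynomial.C (b 2) - MvPolynomial.C (a 2) * MvPolynomial.C (b 1) := by
        rw [hΔ, MvPolynomial.C_sub, MvPolynomial.C_mul, MvPolynomial.C_mul]
      linear_combination (MvPolynomial.X 1 - MvPolynomial.C (b 0)) * hC -
        (MvPolynomial.C Δ⁻¹ * (MvPolynomial.X 1 - MvPolynomial.C (b 0))) * hΔ'
  have hsT₀ : subBiv a b T₀ = C X := by
    simp only [T₀, subBiv, map_mul, map_sub, MvPolynomial.aeval_C, MvPolynomial.aeval_X,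
      Matrix.cons_val_zero, Matrix.cons_val_one]
    unfold affBiv
    simp only [Polynomial.algebraMap_apply, Polynomial.algebraMap_eq]
    have hC : (C (C Δ) * C (C Δ⁻¹) : Polynomial (Polynomial k)) = 1 := by
      rw [← C_mul, ← C_mul, mul_inv_cancel₀ hdet, C_1, C_1]
    have hΔ' : (C (C Δ) : Polynomial (Polynomial k)) =
        C (C (a 1)) * C (C (b 2)) - C (C (a 2)) * C (C (b 1)) := by
      rw [hΔ, C_sub, C_mul, C_mul, C_sub, C_mul, C_mul]
    simp only [C_add, C_mul]
    linear_combination (C X : Polynomial (Polynomial k)) * hC - (C (C Δ⁻¹) * C X) * hΔ'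
  have hsT₁ : subBiv a b T₁ = X := by
    simp only [T₁, subBiv, map_mul, map_sub, MvPolynomial.aeval_C, MvPolynomial.aeval_X,
      Matrix.cons_val_zero, Matrix.cons_val_one]
    unfold affBiv
    simp only [Polynomial.algebraMap_apply, Polynomial.algebraMap_eq]
    have hC : (C (C Δ) * C (C Δ⁻¹) : Polynomial (Polynomial k)) = 1 := by
      rw [← C_mul, ← C_mul, mul_inv_cancel₀ hdet, C_1, C_1]
    have hΔ' : (C (C Δ) : Polynomial (Polynomial k)) =
        C (C (a 1)) * C (C (b 2)) - C (C (a 2)) * C (C (b 1)) := by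
      rw [hΔ, C_sub, C_mul, C_mul, C_sub, C_mul, C_mul]
    simp only [C_add, C_mul]
    linear_combination (X : Polynomial (Polynomial k)) * hC - (C (C Δ⁻¹) * X) * hΔ'
  have h2 : (subBiv a b).comp Ψ = AlgHom.id k _ := by
    apply Polynomial.algHom_ext'
    · apply Polynomial.algHom_ext
      simp only [AlgHom.comp_apply, CAlgHom_apply, AlgHom.id_apply]
      change subBiv a b (Ψ (C X)) = C X
      simp only [Ψ, aevalTower_C, aeval_X]
      exact hsT₀
    · rw [AlgHom.comp_apply, AlgHom.id_apply]
      simp only [Ψ, aevalTower_X]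
      exact hsT₁
  constructor
  · intro p q hpq
    have := congrArg Ψ hpq
    rwa [← AlgHom.comp_apply, ← AlgHom.comp_apply, h1] at this
  · intro G
    exact ⟨Ψ G, by rw [← AlgHom.comp_apply, h2, AlgHom.id_apply]⟩

theorem subBiv_irreducible (a b : Fin 3 → k) (hdet : a 1 * b 2 - a 2 * b 1 ≠ 0)
    {f : MvPolynomial (Fin 2) k} (hf : Irreducible f) : Irreducible (subBiv a b f) :=
  (MulEquiv.irreducible_iff (AlgEquiv.ofBijective (subBiv a b) (subBiv_bijective a b hdet))).mpr hf

end Subst

/-- `[K : k(u)] = deg_Y f(a₀ + a₁X + a₂Y, b₀ + b₁X + b₂Y)` for an invertible affine change of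
coordinates with `(u, v) ↦ (x, y)`. -/
theorem ff_finrank_eq_natDegree_subBiv (hK : IsFunctionField k K) {u v x y : K}
    (hu : Transcendental k u) (huv : IntermediateField.adjoin k ({u, v} : Set K) = ⊤)
    (a b : Fin 3 → k) (hdet : a 1 * b 2 - a 2 * b 1 ≠ 0)
    (hx : algebraMap k K (a 0) + algebraMap k K (a 1) * u + algebraMap k K (a 2) * v = x)
    (hy : algebraMap k K (b 0) + algebraMap k K (b 1) * u + algebraMap k K (b 2) * v = y)
    {f : MvPolynomial (Fin 2) k} (hf : Irreducible f) (hfxy : MvPolynomial.aeval ![x, y] f = 0) :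
    finrank k⟮u⟯ K = (subBiv a b f).natDegree := by
  refine ff_finrank_eq_natDegree_biv hK hu huv _ (subBiv_irreducible a b hdet hf) ?_
  have := aevalTower_subBiv a b u v f
  rw [hx, hy, hfxy] at this
  exact this

theorem ff_poleDiv_le_of_mem_L (hK : IsFunctionField k K) {D : Divisor k K} (hD : 0 ≤ D) {z : K}
    (hz : z ∈ L D) : (ff_poleDiv z : Divisor k K) ≤ D := by
  intro Q
  rw [ff_poleDiv_apply hK]
  by_cases hz0 : z = 0
  · subst hz0
    have : Q.ord (0 : K) = 0 := by unfold Place.ord; simp
    rw [this]; simpa using hD Q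
  · have h1 := (ff_mem_L_iff D z).mp hz Q
    rw [ff_val_eq_exp_neg_ord Q hz0, WithZero.exp_le_exp] at h1
    exact max_le h1 (hD Q)

/-- S11070: the degree of the plane map `(1 : x : y)` is the degree of the curve. -/
theorem ff_plane_degree [IsAlgClosed k] (hK : IsFunctionField k K) (x y : K)
    (hxy : IntermediateField.adjoin k ({x, y} : Set K) = ⊤) (f : MvPolynomial (Fin 2) k)
    (hf : Irreducible f) (hfxy : MvPolynomial.aeval ![x, y] f = 0) :
    (mapDiv k ![(1 : K), x, y]).deg = f.totalDegree := by
  classical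
  set D := mapDiv k ![(1 : K), x, y] with hD
  have hD0 : 0 ≤ D := ff_mapDiv_nonneg_of_one hK _ 0 rfl
  have hφL : ∀ i, (![(1 : K), x, y] : Fin 3 → K) i ∈ L D := by
    intro i
    rw [ff_mem_L_iff]
    intro Q
    rcases ff_val_le_exp_mapDiv hK ![(1 : K), x, y] i Q with h | h
    · exact h
    · rw [h, map_zero]; exact zero_le
  have hxL : x ∈ L D := hφL 1
  have hyL : y ∈ L D := hφL 2
  -- `K ≠ k`
  have hKk : ¬ (x ∈ Set.range (algebraMap k K) ∧ y ∈ Set.range (algebraMap k K)) := by
    rintro ⟨⟨a, ha⟩, ⟨b, hb⟩⟩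
    have hbot : IntermediateField.adjoin k ({x, y} : Set K) = ⊥ := by
      rw [IntermediateField.adjoin_eq_bot_iff]
      rintro z (rfl | rfl)
      · exact IntermediateField.mem_bot.mpr ⟨a, ha⟩
      · exact IntermediateField.mem_bot.mpr ⟨b, hb⟩
    obtain ⟨⟨t, ht, -⟩, -⟩ := id hK
    have : t ∈ (⊥ : IntermediateField k K) := by rw [← hbot, hxy]; trivial
    rw [IntermediateField.mem_bot] at this
    obtain ⟨c, rfl⟩ := this
    exact ht (isAlgebraic_algebraMap c)
  apply le_antisymm
  · -- `deg D ≤ n`
    obtain ⟨x', y', hx't, hpd, -, -, hspan⟩ := ff_plane_general_coords hK x y hxy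
    have hx'W : x' ∈ Submodule.span k (Set.range ![(1 : K), x, y]) := by
      rw [hspan]; exact Submodule.subset_span ⟨1, rfl⟩
    obtain ⟨c, hc⟩ := (Submodule.mem_span_range_iff_exists_fun k).mp hx'W
    rw [Fin.sum_univ_three] at hc
    simp only [Matrix.cons_val_zero, Matrix.cons_val_one, Matrix.cons_val_two,
      Matrix.head_cons, Matrix.tail_cons] at hc
    have hc' : algebraMap k K (c 0) + algebraMap k K (c 1) * x + algebraMap k K (c 2) * y = x' := by
      rw [← hc, Algebra.smul_def, Algebra.smul_def, Algebra.smul_def, mul_one]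
    have hdegD : D.deg = (finrank k⟮x'⟯ K : ℤ) := by rw [hD, ← hpd, ff_deg_poleDiv hK hx't]
    rw [hdegD]
    by_cases hc2 : c 2 = 0
    · have hc1 : c 1 ≠ 0 := by
        intro hc1
        apply hx't
        rw [← hc', hc1, hc2, map_zero, zero_mul, zero_mul, add_zero, add_zero]
        exact isAlgebraic_algebraMap _
      -- `u = x'`, `v = y`
      have huv : IntermediateField.adjoin k ({x', y} : Set K) = ⊤ := by
        rw [← top_le_iff, ← hxy, IntermediateField.adjoin_le_iff]
        rintro z (rfl | rfl)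
        · have : z = algebraMap k K (c 1)⁻¹ * (x' - algebraMap k K (c 0)) := by
            rw [← hc', hc2, map_zero, zero_mul, add_zero, add_sub_cancel_left, ← mul_assoc,
              ← map_mul, inv_mul_cancel₀ hc1, map_one, one_mul]
          rw [this]
          exact mul_mem (IntermediateField.algebraMap_mem _ _) (sub_mem
            (IntermediateField.subset_adjoin k _ (by simp)) (IntermediateField.algebraMap_mem _ _))
        · exact IntermediateField.subset_adjoin k _ (by simp)
      have h := ff_finrank_eq_natDegree_subBiv hK hx't huv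
        ![-(c 0) / c 1, 1 / c 1, 0] ![0, 0, 1] (by simp [hc1])
        (x := x) (y := y) (by
          simp only [Matrix.cons_val_zero, Matrix.cons_val_one, Matrix.cons_val_two,
            Matrix.head_cons, Matrix.tail_cons, map_zero, zero_mul, add_zero]
          rw [← hc', hc2, map_zero, zero_mul, add_zero]
          have e1 : algebraMap k K (1 / c 1) * algebraMap k K (c 1) = 1 := by
            rw [← map_mul, one_div, inv_mul_cancel₀ hc1, map_one]
          have e0 : algebraMap k K (-(c 0) / c 1) =
              -(algebraMap k K (1 / c 1) * algebraMap k K (c 0)) := by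
            rw [← map_mul, ← map_neg]; congr 1; field_simp
          rw [e0]
          linear_combination x * e1)
        (by simp) hf hfxy
      rw [h]
      exact_mod_cast ff_natDegree_aeval_biv_le f (natDegree_affBiv_le _) (natDegree_affBiv_le _)
    · -- `u = x'`, `v = x`
      have hye : y = algebraMap k K (c 2)⁻¹ *
          (x' - algebraMap k K (c 0) - algebraMap k K (c 1) * x) := by
        rw [← hc']
        have : algebraMap k K (c 0) + algebraMap k K (c 1) * x + algebraMap k K (c 2) * y -
            algebraMap k K (c 0) - algebraMap k K (c 1) * x = algebraMap k K (c 2) * y := by ring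
        rw [this, ← mul_assoc, ← map_mul, inv_mul_cancel₀ hc2, map_one, one_mul]
      have huv : IntermediateField.adjoin k ({x', x} : Set K) = ⊤ := by
        rw [← top_le_iff, ← hxy, IntermediateField.adjoin_le_iff]
        rintro z (rfl | rfl)
        · exact IntermediateField.subset_adjoin k _ (by simp)
        · rw [hye]
          exact mul_mem (IntermediateField.algebraMap_mem _ _) (sub_mem (sub_mem
            (IntermediateField.subset_adjoin k _ (by simp)) (IntermediateField.algebraMap_mem _ _))
            (mul_mem (IntermediateField.algebraMap_mem _ _) (IntermediateField.subset_adjoin k _ (by simp))))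
      have h := ff_finrank_eq_natDegree_subBiv hK hx't huv
        ![0, 0, 1] ![-(c 0) / c 2, 1 / c 2, -(c 1) / c 2] (by simp [hc2])
        (x := x) (y := y) (by simp)
        (by
          simp only [Matrix.cons_val_zero, Matrix.cons_val_one, Matrix.cons_val_two,
            Matrix.head_cons, Matrix.tail_cons]
          rw [hye]
          have e0 : algebraMap k K (-(c 0) / c 2) = -(algebraMap k K (c 2)⁻¹ * algebraMap k K (c 0)) := by
            rw [← map_mul, ← map_neg]; congr 1; field_simp
          have e1 : algebraMap k K (1 / c 2) = algebraMap k K (c 2)⁻¹ := by rw [one_div]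
          have e2 : algebraMap k K (-(c 1) / c 2) = -(algebraMap k K (c 2)⁻¹ * algebraMap k K (c 1)) := by
            rw [← map_mul, ← map_neg]; congr 1; field_simp
          rw [e0, e1, e2]
          ring) hf hfxy
      rw [h]
      exact_mod_cast ff_natDegree_aeval_biv_le f (natDegree_affBiv_le _) (natDegree_affBiv_le _)
  · -- `n ≤ deg D`
    set n := f.totalDegree with hn
    -- the polynomial `f_n(1, T)`
    set Pt : k[X] := ∑ m ∈ f.support with m 0 + m 1 = n, C (f.coeff m) * X ^ m 1 with hPt
    have hPt0 : Pt ≠ 0 := by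
      have hne : f.support.Nonempty := by
        rw [Finset.nonempty_iff_ne_empty, Ne, MvPolynomial.support_eq_empty]
        exact hf.ne_zero
      obtain ⟨m₀, hm₀, hsup⟩ := Finset.exists_mem_eq_sup f.support hne
        (fun s => s.sum fun _ e => e)
      have hm₀n : m₀ 0 + m₀ 1 = n := by
        rw [← ff_fin2_sum, hn]; exact hsup.symm
      intro h0
      have := congrArg (fun p : k[X] => p.coeff (m₀ 1)) h0
      simp only [hPt, finsetSum_coeff, coeff_C_mul, coeff_X_pow, coeff_zero] at this
      rw [Finset.sum_eq_single m₀] at this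
      · simp only [if_true, mul_one] at this
        exact (MvPolynomial.mem_support_iff.mp hm₀) this
      · intro m hm hne'
        rw [Finset.mem_filter] at hm
        rw [if_neg, mul_zero]
        intro h1
        apply hne'
        ext i
        fin_cases i
        · change m 0 = m₀ 0
          have := hm.2
          omega
        · exact h1.symm
      · intro h
        exact absurd (Finset.mem_filter.mpr ⟨hm₀, hm₀n⟩) h
    have heval : ∀ lam : k, Pt.eval lam = ffTop f 1 lam := by
      intro lam
      unfold ffTop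
      rw [hPt, eval_finsetSum]
      refine Finset.sum_congr rfl fun m _ => ?_
      rw [eval_mul, eval_C, eval_pow, eval_X, one_pow, mul_one]
    -- choose `λ`
    obtain ⟨lam, hlam⟩ : ∃ lam : k, Pt.eval lam ≠ 0 ∧
        y - algebraMap k K lam * x ∉ Set.range (algebraMap k K) := by
      by_cases hbad : ∃ l₀ : k, y - algebraMap k K l₀ * x ∈ Set.range (algebraMap k K)
      · obtain ⟨l₀, c₀, hc₀⟩ := hbad
        obtain ⟨lam, hlam⟩ := Infinite.exists_notMem_finset (Pt.roots.toFinset ∪ {l₀})
        rw [Finset.mem_union, not_or, Multiset.mem_toFinset, mem_roots hPt0,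
          Finset.mem_singleton] at hlam
        refine ⟨lam, hlam.1, ?_⟩
        rintro ⟨c₁, hc₁⟩
        apply hKk
        have hx : x ∈ Set.range (algebraMap k K) := by
          refine ⟨(c₀ - c₁) / (lam - l₀), ?_⟩
          have hne : lam - l₀ ≠ 0 := sub_ne_zero.mpr hlam.2
          have h1 : algebraMap k K (lam - l₀) * x = algebraMap k K (c₀ - c₁) := by
            rw [map_sub, map_sub, hc₀, hc₁]; ring
          rw [map_div₀, div_eq_iff (by rwa [Ne, map_eq_zero]), mul_comm, h1]
        refine ⟨hx, ?_⟩
        obtain ⟨a, ha⟩ := hx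
        refine ⟨c₀ + l₀ * a, ?_⟩
        rw [map_add, map_mul, hc₀, ha]; ring
      · push Not at hbad
        obtain ⟨lam, hlam⟩ := Infinite.exists_notMem_finset Pt.roots.toFinset
        rw [Multiset.mem_toFinset, mem_roots hPt0] at hlam
        exact ⟨lam, hlam, hbad lam⟩
    obtain ⟨hlam1, hlam2⟩ := hlam
    set u := y - algebraMap k K lam * x with hu
    have hut : Transcendental k u := ff_transcendental_of_not_mem_range hK hlam2
    have huv : IntermediateField.adjoin k ({u, x} : Set K) = ⊤ := by
      rw [← top_le_iff, ← hxy, IntermediateField.adjoin_le_iff]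
      rintro z (rfl | rfl)
      · exact IntermediateField.subset_adjoin k _ (by simp)
      · have : z = u + algebraMap k K lam * x := by rw [hu]; ring
        rw [this]
        exact add_mem (IntermediateField.subset_adjoin k _ (by simp))
          (mul_mem (IntermediateField.algebraMap_mem _ _) (IntermediateField.subset_adjoin k _ (by simp)))
    have h := ff_finrank_eq_natDegree_subBiv hK hut huv ![0, 0, 1] ![0, 1, lam] (by simp)
      (x := x) (y := y) (by simp) (by simp [hu]) hf hfxy
    have hdeg : (subBiv ![0, 0, 1] ![0, 1, lam] f).natDegree = n := by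
      apply le_antisymm
      · exact ff_natDegree_aeval_biv_le f (natDegree_affBiv_le _) (natDegree_affBiv_le _)
      · apply le_natDegree_of_ne_zero
        unfold subBiv
        rw [ff_coeff_aeval_biv f (natDegree_affBiv_le _) (natDegree_affBiv_le _),
          coeff_one_affBiv, coeff_one_affBiv]
        simp only [Matrix.cons_val_two, Matrix.tail_cons, Matrix.head_cons]
        have : ∑ m ∈ f.support with m 0 + m 1 = f.totalDegree,
            C (f.coeff m) * (C (1 : k) ^ m 0 * C lam ^ m 1) = C (ffTop f 1 lam) := by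
          unfold ffTop
          rw [map_sum]
          refine Finset.sum_congr rfl fun m _ => ?_
          rw [map_mul, map_mul, map_pow, map_pow]
          ring
        rw [this, Ne, C_eq_zero, ← heval]
        exact hlam1
    have huL : u ∈ L D := by
      rw [hu]
      exact Submodule.sub_mem _ hyL (by
        rw [← Algebra.smul_def]; exact Submodule.smul_mem _ _ hxL)
    have hle := ff_deg_mono (ff_poleDiv_le_of_mem_L hK hD0 huL)
    rw [ff_deg_poleDiv hK hut, h, hdeg] at hle
    exact hle

end Groth.Agent.Lib.Helper55
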