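import Groth.Agent.Lib.Helper55.FunFld.AdjLocal1
import Groth.Agent.Lib.Helper55.FunFld.PlaneDeg

/-! The minimal polynomial of `y` over `k(x)` for a plane model monic in `y` (S12613). -/

set_option autoImplicit false
set_option linter.unusedSectionVars false
set_option linter.style.haveILetI false

open FunFld Module Polynomial IntermediateField

namespace Groth.Agent.Lib.Helper55

variable {k K : Type*} [Field k] [Field K] [Algebra k K]

theorem al_affBiv_X : affBiv (![0, 1, 0] : Fin 3 → k) = C X := by
  unfold affBiv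
  simp

theorem al_affBiv_Y : affBiv (![0, 0, 1] : Fin 3 → k) = X := by
  unfold affBiv
  simp

/-- `f(X, Y)` as a polynomial in `Y` over `k[X]`. -/
noncomputable def alBiv (f : MvPolynomial (Fin 2) k) : Polynomial (Polynomial k) :=
  subBiv (![0, 1, 0] : Fin 3 → k) ![0, 0, 1] f

theorem alBiv_C (c : k) : alBiv (MvPolynomial.C c) = C (C c) := by
  unfold alBiv subBiv
  rw [MvPolynomial.aeval_C]
  rfl

theorem alBiv_X0 : alBiv (MvPolynomial.X 0 : MvPolynomial (Fin 2) k) = C X := by
  unfold alBiv subBiv
  rw [MvPolynomial.aeval_X]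
  exact al_affBiv_X

theorem alBiv_X1 : alBiv (MvPolynomial.X 1 : MvPolynomial (Fin 2) k) = X := by
  unfold alBiv subBiv
  rw [MvPolynomial.aeval_X]
  exact al_affBiv_Y

theorem alBiv_mul (p q : MvPolynomial (Fin 2) k) : alBiv (p * q) = alBiv p * alBiv q := by
  unfold alBiv
  exact map_mul _ _ _

theorem alBiv_add (p q : MvPolynomial (Fin 2) k) : alBiv (p + q) = alBiv p + alBiv q := by
  unfold alBiv
  exact map_add _ _ _

theorem al_derivative_alBiv (f : MvPolynomial (Fin 2) k) :
    derivative (alBiv f) = alBiv (MvPolynomial.pderiv 1 f) := by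
  induction f using MvPolynomial.induction_on with
  | C c =>
    rw [alBiv_C, derivative_C, MvPolynomial.pderiv_C]
    unfold alBiv
    rw [map_zero]
  | add p q hp hq => rw [alBiv_add, derivative_add, hp, hq, map_add, alBiv_add]
  | mul_X p i hp =>
    rw [alBiv_mul, derivative_mul, hp, Derivation.leibniz, smul_eq_mul, smul_eq_mul, alBiv_add,
      alBiv_mul, alBiv_mul]
    fin_cases i
    · simp only [Fin.zero_eta, Fin.isValue]
      have h0 : alBiv (0 : MvPolynomial (Fin 2) k) = 0 := by unfold alBiv; exact map_zero _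
      rw [alBiv_X0, derivative_C, mul_zero, add_zero, MvPolynomial.pderiv_X,
        Pi.single_eq_of_ne (by decide), h0, mul_zero, zero_add, mul_comm]
    · simp only [Fin.mk_one, Fin.isValue]
      rw [alBiv_X1, derivative_X, mul_one, MvPolynomial.pderiv_X, Pi.single_eq_same]
      have : alBiv (1 : MvPolynomial (Fin 2) k) = 1 := by unfold alBiv; exact map_one _
      rw [this, mul_one, add_comm, mul_comm]

theorem al_alBiv_eval (u v : K) (f : MvPolynomial (Fin 2) k) :
    (alBiv f).eval₂ ((aeval u : k[X] →ₐ[k] K) : k[X] →+* K) v =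
      MvPolynomial.aeval ![u, v] f := by
  have := aevalTower_subBiv (![0, 1, 0] : Fin 3 → k) ![0, 0, 1] u v f
  unfold alBiv
  have e : aevalTower (aeval u : k[X] →ₐ[k] K) v (subBiv (![0, 1, 0] : Fin 3 → k) ![0, 0, 1] f) =
      (subBiv (![0, 1, 0] : Fin 3 → k) ![0, 0, 1] f).eval₂
        ((aeval u : k[X] →ₐ[k] K) : k[X] →+* K) v := rfl
  rw [← e, this]
  congr 2
  funext i
  fin_cases i <;> simp

theorem al_alBiv_irreducible {f : MvPolynomial (Fin 2) k} (hf : Irreducible f) :
    Irreducible (alBiv f) := by
  unfold alBiv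
  exact subBiv_irreducible _ _ (by simp) hf

theorem al_natDegree_alBiv_le (f : MvPolynomial (Fin 2) k) :
    (alBiv f).natDegree ≤ f.totalDegree := by
  unfold alBiv subBiv
  exact ff_natDegree_aeval_biv_le f (natDegree_affBiv_le _) (natDegree_affBiv_le _)

theorem al_coeff_alBiv (f : MvPolynomial (Fin 2) k) :
    (alBiv f).coeff f.totalDegree = C (f.coeff (Finsupp.single 1 f.totalDegree)) := by
  classical
  unfold alBiv subBiv
  rw [ff_coeff_aeval_biv f (natDegree_affBiv_le _) (natDegree_affBiv_le _), coeff_one_affBiv,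
    coeff_one_affBiv]
  simp only [Matrix.cons_val_two, Matrix.tail_cons, Matrix.head_cons, C_0, C_1, one_pow, mul_one]
  by_cases hmem : Finsupp.single 1 f.totalDegree ∈ f.support
  · rw [Finset.sum_eq_single (Finsupp.single 1 f.totalDegree)]
    · simp
    · intro m hm hne
      rw [Finset.mem_filter] at hm
      have hm0 : m 0 ≠ 0 := by
        intro h0
        apply hne
        ext i
        fin_cases i
        · simp [h0]
        · have := hm.2
          simp only [Fin.mk_one, Fin.isValue, Finsupp.single_eq_same]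
          omega
      rw [zero_pow hm0, mul_zero]
    · intro h
      exfalso
      apply h
      rw [Finset.mem_filter]
      exact ⟨hmem, by simp⟩
  · rw [MvPolynomial.notMem_support_iff.1 hmem, C_0]
    apply Finset.sum_eq_zero
    intro m hm
    rw [Finset.mem_filter] at hm
    have hm0 : m 0 ≠ 0 := by
      intro h0
      apply hmem
      have : m = Finsupp.single 1 f.totalDegree := by
        ext i
        fin_cases i
        · simp [h0]
        · have := hm.2
          simp only [Fin.mk_one, Fin.isValue, Finsupp.single_eq_same]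
          omega
      rw [← this]
      exact hm.1
    rw [zero_pow hm0, mul_zero]

/-- the embedding `k[X] → k(x)`. -/
noncomputable def alι (x : K) : k[X] →+* k⟮x⟯ :=
  ((aeval (AdjoinSimple.gen k x) : k[X] →ₐ[k] k⟮x⟯) : k[X] →+* k⟮x⟯)

theorem alι_coe (x : K) (p : k[X]) : ((alι x p : k⟮x⟯) : K) = aeval x p := by
  unfold alι
  have : ((aeval (AdjoinSimple.gen k x) p : k⟮x⟯) : K) =
      aeval ((AdjoinSimple.gen k x : k⟮x⟯) : K) p :=
    (aeval_algebraMap_apply K (AdjoinSimple.gen k x) p).symm
  rw [← AdjoinSimple.coe_gen k x]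
  exact this

theorem alι_injective {x : K} (hx : Transcendental k x) : Function.Injective (alι (k := k) x) := by
  rw [injective_iff_map_eq_zero]
  intro p hp
  have h1 : aeval x p = 0 := by rw [← alι_coe, hp]; rfl
  by_contra hne
  exact hx ⟨p, hne, h1⟩

theorem al_minpoly (hK : IsFunctionField k K) {x y : K} (hx : Transcendental k x)
    (hxy : IntermediateField.adjoin k ({x, y} : Set K) = ⊤) (f : MvPolynomial (Fin 2) k)
    (hf : Irreducible f) (hfxy : MvPolynomial.aeval ![x, y] f = 0)
    (hlc : f.coeff (Finsupp.single 1 f.totalDegree) ≠ 0) :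
    (alBiv f).map (alι x) = minpoly k⟮x⟯ y *
      C (algebraMap k k⟮x⟯ (f.coeff (Finsupp.single 1 f.totalDegree))) ∧
    MvPolynomial.aeval ![x, y] (MvPolynomial.pderiv 1 f) =
      aeval y (derivative (minpoly k⟮x⟯ y)) *
        algebraMap k K (f.coeff (Finsupp.single 1 f.totalDegree)) := by
  classical
  have hfin := ff_finite_of_transcendental hK hx
  have hint : IsIntegral k⟮x⟯ y := IsIntegral.of_finite k⟮x⟯ y
  have hGirr := al_alBiv_irreducible hf
  have hGxy : (alBiv f).eval₂ ((aeval x : k[X] →ₐ[k] K) : k[X] →+* K) y = 0 := by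
    rw [al_alBiv_eval, hfxy]
  have hcomp : (algebraMap k⟮x⟯ K).comp (alι x) = ((aeval x : k[X] →ₐ[k] K) : k[X] →+* K) := by
    ext p
    · simp only [RingHom.coe_comp, Function.comp_apply, RingHom.coe_coe]
      exact alι_coe x _
    · simp only [RingHom.coe_comp, Function.comp_apply, RingHom.coe_coe]
      exact alι_coe x _
  have hroot : aeval y ((alBiv f).map (alι x)) = 0 := by
    rw [aeval_def, eval₂_map, hcomp]
    exact hGxy
  have hdvd := minpoly.dvd k⟮x⟯ y hroot
  have hdegG : (alBiv f).natDegree = f.totalDegree := by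
    apply le_antisymm (al_natDegree_alBiv_le f)
    apply le_natDegree_of_ne_zero
    rw [al_coeff_alBiv]
    exact fun h => hlc (C_eq_zero.1 h)
  have hdeg1 : ((alBiv f).map (alι x)).natDegree = (alBiv f).natDegree :=
    natDegree_map_eq_of_injective (alι_injective hx) _
  have hdeg2 : (minpoly k⟮x⟯ y).natDegree = (alBiv f).natDegree := by
    rw [ff_natDegree_minpoly_of_adjoin_eq_top hK hx hxy]
    exact ff_finrank_eq_natDegree_biv hK hx hxy _ hGirr hGxy
  obtain ⟨c, hc⟩ := hdvd
  have hg0 : (alBiv f).map (alι x) ≠ 0 := by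
    intro h0
    apply hGirr.ne_zero
    exact (Polynomial.map_eq_zero_iff (alι_injective hx)).1 h0
  have hc0 : c ≠ 0 := by
    rintro rfl
    rw [mul_zero] at hc
    exact hg0 hc
  have hdegc : c.natDegree = 0 := by
    have := congrArg natDegree hc
    rw [natDegree_mul (minpoly.ne_zero hint) hc0, hdeg1, hdeg2] at this
    omega
  have hlead : ((alBiv f).map (alι x)).leadingCoeff =
      algebraMap k k⟮x⟯ (f.coeff (Finsupp.single 1 f.totalDegree)) := by
    rw [leadingCoeff, hdeg1, hdegG, coeff_map, al_coeff_alBiv]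
    unfold alι
    simp
  have hcC : c = C (algebraMap k k⟮x⟯ (f.coeff (Finsupp.single 1 f.totalDegree))) := by
    rw [eq_C_of_natDegree_eq_zero hdegc]
    congr 1
    have := congrArg leadingCoeff hc
    rw [leadingCoeff_mul, (minpoly.monic hint).leadingCoeff, one_mul, hlead] at this
    rw [this, leadingCoeff, hdegc]
  rw [hcC] at hc
  refine ⟨hc, ?_⟩
  have h1 : aeval y (derivative ((alBiv f).map (alι x))) =
      MvPolynomial.aeval ![x, y] (MvPolynomial.pderiv 1 f) := by
    rw [derivative_map, al_derivative_alBiv, aeval_def, eval₂_map, hcomp, al_alBiv_eval]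
  rw [← h1, hc, derivative_mul, derivative_C, mul_zero, add_zero, map_mul, aeval_C]
  rfl

end Groth.Agent.Lib.Helper55
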