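import Groth.Agent.Lib.Helper55.FunFld.PlaneNonsing

/-!
# `k[x, y] = ⋂ O_P[y]` (S11067)
-/

open FunFld Module Polynomial

namespace Groth.Agent.Lib.Helper55

variable {k K : Type*} [Field k] [Field K] [Algebra k K]

/-- `k(x)` is a function field over `k`. -/
theorem ff_isFunctionField_adjoin_simple (hK : IsFunctionField k K) {x : K}
    (hx : Transcendental k x) : IsFunctionField k (IntermediateField.adjoin k ({x} : Set K)) := by
  set F := IntermediateField.adjoin k ({x} : Set K) with hF
  have hg : Transcendental k (IntermediateField.AdjoinSimple.gen k x) := by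
    intro halg
    apply hx
    have := halg.algebraMap (A := K)
    rwa [IntermediateField.AdjoinSimple.algebraMap_gen] at this
  refine ⟨⟨IntermediateField.AdjoinSimple.gen k x, hg, ?_⟩, ?_⟩
  · have htop : IntermediateField.adjoin k ({IntermediateField.AdjoinSimple.gen k x} : Set F) = ⊤ := by
      apply IntermediateField.map_injective F.val
      rw [IntermediateField.adjoin_map, Set.image_singleton]
      have h1 : F.val (IntermediateField.AdjoinSimple.gen k x) = x := rfl
      rw [h1, ← AlgHom.fieldRange_eq_map, IntermediateField.fieldRange_val]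
    have hgen : ∀ M : IntermediateField k F, M = ⊤ → FiniteDimensional M F := by
      rintro _ rfl
      exact Module.finite_of_finrank_pos (by rw [IntermediateField.finrank_top]; exact one_pos)
    exact hgen _ htop
  · intro y hy
    have hy' : IsAlgebraic k (y : K) := by
      have := hy.algebraMap (A := K)
      exact this
    obtain ⟨c, hc⟩ := hK.2 _ hy'
    exact ⟨c, Subtype.ext hc⟩

open IntermediateField.algebraAdjoinAdjoin in
/-- S11067: `k[x, y] = ⋂ O_P[y]` over the places `P` of `k(x)` at which `x` is integral. -/
theorem ff_adjoin_pair_eq_iInter (hK : IsFunctionField k K) (x y : K)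
    (hx : Transcendental k x)
    (hxy : IntermediateField.adjoin k ({x, y} : Set K) = ⊤)
    (hy : IsIntegral (Algebra.adjoin k ({x} : Set K)) y) :
    (Algebra.adjoin k ({x, y} : Set K) : Set K) =
      ⋂ (P : Place k (IntermediateField.adjoin k ({x} : Set K)))
        (_ : P.1 ⟨x, IntermediateField.mem_adjoin_simple_self k x⟩ ≤ 1),
        (Subring.closure
          ((algebraMap (IntermediateField.adjoin k ({x} : Set K)) K '' (P.O : Set _)) ∪ {y}) :
          Set K) := by
  classical
  set F := IntermediateField.adjoin k ({x} : Set K) with hF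
  have hKF := ff_isFunctionField_adjoin_simple hK hx
  have hfin := ff_finite_of_transcendental hK hx
  set n := finrank F K with hn
  have hnd := ff_natDegree_minpoly_of_adjoin_eq_top hK hx hxy
  have hc : LinearIndependent F (fun b : Fin n => y ^ (b : ℕ)) := by
    have := linearIndependent_pow (K := F) y
    rwa [hnd] at this
  set gx : F := ⟨x, IntermediateField.mem_adjoin_simple_self k x⟩ with hgx
  have hgx0 : gx ≠ 0 := by
    intro h0
    have : x = 0 := congrArg Subtype.val h0
    exact hx (this ▸ isAlgebraic_zero)
  have hgxnc : gx ∉ Set.range (algebraMap k F) := by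
    rintro ⟨c, hc'⟩
    have : algebraMap k K c = x := congrArg Subtype.val hc'
    exact hx (this ▸ isAlgebraic_algebraMap c)
  -- `k[x] ⊆ O_P`
  have hS0 : ∀ (P : Place k F), P.1 gx ≤ 1 → ∀ s ∈ Algebra.adjoin k ({x} : Set K),
      ∃ s' : F, P.1 s' ≤ 1 ∧ (s' : K) = s := by
    intro P hP s hs
    rw [Algebra.adjoin_singleton_eq_range_aeval] at hs
    obtain ⟨p, rfl⟩ := hs
    exact ⟨aeval gx p, ff_gen_val_aeval_le_one P.1 P.2.1 hP p,
      (aeval_algebraMap_apply K gx p).symm⟩
  apply Set.Subset.antisymm
  · intro z hz
    simp only [Set.mem_iInter]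
    intro P hP
    have hz' : z ∈ Algebra.adjoin k ({x, y} : Set K) := hz
    clear hz
    induction hz' using Algebra.adjoin_induction with
    | mem w hw =>
      rcases hw with rfl | rfl
      · exact Subring.subset_closure
          (Or.inl ⟨gx, (Valuation.mem_valuationSubring_iff _ _).mpr hP, rfl⟩)
      · exact Subring.subset_closure (Or.inr rfl)
    | algebraMap c =>
      exact Subring.subset_closure (Or.inl ⟨algebraMap k F c,
        (Valuation.mem_valuationSubring_iff _ _).mpr (P.2.1 c), rfl⟩)
    | add a b _ _ ha hb => exact Subring.add_mem _ ha hb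
    | mul a b _ _ ha hb => exact Subring.mul_mem _ ha hb
  · intro z hz
    simp only [Set.mem_iInter] at hz
    -- Step A: coordinates in `O_P`
    have hA : ∀ P : Place k F, P.1 gx ≤ 1 → ∃ g : Fin n → F, (∀ b, P.1 (g b) ≤ 1) ∧
        z = ∑ b, (g b : K) * y ^ (b : ℕ) := by
      intro P hP
      have hzP := hz P hP
      let ev : (P.O)[X] →+* K := Polynomial.eval₂RingHom ((algebraMap F K).comp P.O.subtype) y
      have hle : Subring.closure ((algebraMap F K '' (P.O : Set F)) ∪ {y}) ≤ ev.range := by
        rw [Subring.closure_le]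
        rintro w (⟨w', hw', rfl⟩ | rfl)
        · exact ⟨C ⟨w', hw'⟩, by simp [ev]⟩
        · exact ⟨X, by simp [ev]⟩
      obtain ⟨q, hq⟩ := hle hzP
      have hpow : ∀ j : ℕ, ∃ g : Fin n → F, (∀ b, P.1 (g b) ≤ 1) ∧
          y ^ j = ∑ b, (g b : K) * y ^ (b : ℕ) := by
        intro j
        have hyj : y ^ j ∈ Algebra.adjoin k ({x, y} : Set K) :=
          Subalgebra.pow_mem _ (Algebra.subset_adjoin (by simp)) j
        obtain ⟨s, hs, hsum⟩ := ff_adjoin_pair_le_span x y hx hy (minpoly.natDegree_le y) hyj
        choose s' hs'1 hs'2 using fun b => hS0 P hP (s b) (hs b)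
        exact ⟨s', hs'1, by rw [hsum]; exact Finset.sum_congr rfl fun b _ => by rw [hs'2]⟩
      choose G hG1 hG2 using hpow
      refine ⟨fun b => ∑ j ∈ Finset.range (q.natDegree + 1), (q.coeff j : F) * G j b,
        fun b => ?_, ?_⟩
      · refine P.1.map_sum_le fun j _ => ?_
        rw [map_mul]
        exact mul_le_one' ((Valuation.mem_valuationSubring_iff _ _).mp (q.coeff j).2) (hG1 j b)
      · rw [← hq]
        change Polynomial.eval₂ ((algebraMap F K).comp P.O.subtype) y q = _
        rw [Polynomial.eval₂_eq_sum_range]
        have e1 : ∀ j, ((algebraMap F K).comp P.O.subtype) (q.coeff j) * y ^ j =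
            ∑ b, (((q.coeff j : F) * G j b : F) : K) * y ^ (b : ℕ) := by
          intro j
          rw [hG2 j, Finset.mul_sum]
          refine Finset.sum_congr rfl fun b _ => ?_
          rw [← mul_assoc]
          rfl
        simp only [e1]
        rw [Finset.sum_comm]
        refine Finset.sum_congr rfl fun b _ => ?_
        rw [← Finset.sum_mul]
        congr 1
        exact (map_sum (algebraMap F K) (fun j => (q.coeff j : F) * G j b)
          (Finset.range (q.natDegree + 1))).symm
    -- Step C: elements of `k(x)` integral at all finite places are polynomials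
    have hC : ∀ f : F, (∀ P : Place k F, P.1 gx ≤ 1 → P.1 f ≤ 1) →
        (f : K) ∈ Algebra.adjoin k ({x} : Set K) := by
      intro f hf
      have hintK : IsIntegral (Algebra.adjoin k ({x} : Set K)) (f : K) := by
        apply ff_isIntegral_of_valuationSubring
        intro V hV
        set V' : ValuationSubring F := V.comap (algebraMap F K) with hV'
        by_cases hVtop : V' = ⊤
        · have : f ∈ V' := by rw [hVtop]; trivial
          exact this
        · obtain ⟨P, hP⟩ := ff_exists_place_of_valuationSubring hKF V'
            (fun c => hV _ (Subalgebra.algebraMap_mem _ c)) hVtop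
          have hxV : gx ∈ P.O := by
            rw [hP]
            exact hV _ (Algebra.subset_adjoin rfl)
          have hfP : f ∈ P.O := (Valuation.mem_valuationSubring_iff _ _).mpr
            (hf P ((Valuation.mem_valuationSubring_iff _ _).mp hxV))
          rw [hP] at hfP
          exact hfP
      have hintF : IsIntegral (Algebra.adjoin k ({x} : Set K)) f :=
        (isIntegral_algebraMap_iff (algebraMap F K).injective).mp hintK
      have := ff_isIntegrallyClosed_adjoin hx
      obtain ⟨s, hs⟩ := IsIntegrallyClosed.isIntegral_iff.mp hintF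
      rw [← hs]
      exact s.2
    obtain ⟨⟨P₀, hP₀⟩, -⟩ := ff_exists_zero_and_pole hKF hgxnc
    have hP₀' : P₀.1 gx ≤ 1 := (ff_ord_nonneg_iff P₀ hgx0).mp hP₀.le
    obtain ⟨f, hf1, hzf⟩ := hA P₀ hP₀'
    have hfall : ∀ b, ∀ P : Place k F, P.1 gx ≤ 1 → P.1 (f b) ≤ 1 := by
      intro b P hP
      obtain ⟨g, hg1, hzg⟩ := hA P hP
      have hfg : ∀ b, f b = g b := by
        have hsum : ∑ b, (f b - g b) • y ^ (b : ℕ) = 0 := by
          have e : ∀ b : Fin n, (f b - g b) • y ^ (b : ℕ) =
              (f b : K) * y ^ (b : ℕ) - (g b : K) * y ^ (b : ℕ) := by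
            intro b
            rw [← sub_mul]
            rfl
          simp only [e]
          rw [Finset.sum_sub_distrib, ← hzf, ← hzg, sub_self]
        intro b
        exact sub_eq_zero.mp (Fintype.linearIndependent_iff.mp hc _ hsum b)
      rw [hfg b]
      exact hg1 b
    rw [SetLike.mem_coe, hzf]
    refine Subalgebra.sum_mem _ fun b _ => ?_
    refine Subalgebra.mul_mem _ ?_ (Subalgebra.pow_mem _ (Algebra.subset_adjoin (by simp)) _)
    exact Algebra.adjoin_mono (by simp) (hC (f b) (hfall b))

end Groth.Agent.Lib.Helper55
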