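import Groth.Agent.Lib.Helper55.FunFld.ExpExist

/-! Existence of Laurent expansions (continued): from the valuation ring to the field. -/

set_option autoImplicit false

open FunFld Module LocRes

namespace Groth.Agent.Lib.Helper55

variable {k K : Type*} [Field k] [Field K] [Algebra k K]

instance ff_isScalarTower_O (P : Place k K) : IsScalarTower k P.O K :=
  IsScalarTower.of_algebraMap_eq fun _ => rfl

theorem ff_withZero_eq_of_balls {a b : WithZero (Multiplicative ℤ)} (ha : a ≤ 1) (hb : b ≤ 1)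
    (h : ∀ N : ℕ, a ≤ WithZero.exp (-(N : ℤ)) ↔ b ≤ WithZero.exp (-(N : ℤ))) : a = b := by
  have key : ∀ {a b : WithZero (Multiplicative ℤ)}, a ≤ 1 →
      (∀ N : ℕ, a ≤ WithZero.exp (-(N : ℤ)) → b ≤ WithZero.exp (-(N : ℤ))) → b ≤ a := by
    intro a b ha h
    by_cases ha0 : a = 0
    · subst ha0
      by_contra hb0
      have hb0' : b ≠ 0 := fun h0 => hb0 (by rw [h0])
      obtain ⟨m, hm⟩ : ∃ m : ℤ, b = WithZero.exp m := ⟨_, (WithZero.exp_log hb0').symm⟩
      have h1 := h (m.natAbs + 1) zero_le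
      rw [hm, WithZero.exp_le_exp] at h1
      push_cast at h1
      have h2 := neg_abs_le m
      omega
    · have hlog : WithZero.log a ≤ 0 := by
        rw [WithZero.log_le_iff_le_exp ha0, WithZero.exp_zero]; exact ha
      obtain ⟨m, hm⟩ : ∃ m : ℕ, WithZero.log a = -(m : ℤ) := ⟨(-WithZero.log a).toNat, by omega⟩
      have h1 := h m (by rw [← hm, WithZero.exp_log ha0])
      rwa [← hm, WithZero.exp_log ha0] at h1
  exact le_antisymm (key hb fun N => (h N).mpr) (key ha fun N => (h N).mp)

variable [IsAlgClosed k] (hK : IsFunctionField k K) (P : Place k K) (H : K →ₐ[k] PowerSeries K)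
  {t : K} (ht : P.1 t = WithZero.exp (-1)) (hH : IsHasseFamily t H)

/-- Taylor expansion into Laurent series, on the valuation ring. -/
noncomputable def ff_taylorL : P.O →ₐ[k] LaurentSeries k :=
  { (HahnSeries.ofPowerSeries ℤ k).comp (ff_taylorO hK P H ht hH).toRingHom with
    commutes' := fun c => by
      change HahnSeries.ofPowerSeries ℤ k (ff_taylorO hK P H ht hH (algebraMap k P.O c)) = _
      rw [AlgHom.commutes]
      rfl }

theorem ff_taylorL_apply (y : P.O) :
    ff_taylorL hK P H ht hH y = ((ff_taylorO hK P H ht hH y : PowerSeries k) : LaurentSeries k) :=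
  rfl

theorem ff_taylorL_val_le (y : P.O) (N : ℕ) :
    Valued.v (ff_taylorL hK P H ht hH y) ≤ WithZero.exp (-(N : ℤ)) ↔
      P.1 (y : K) ≤ WithZero.exp (-(N : ℤ)) := by
  rw [LaurentSeries.valuation_le_iff_coeff_lt_eq_zero, ff_taylorO_order hK P H ht hH y.2 N]
  constructor
  · intro h j hj
    have := h j (by exact_mod_cast hj)
    rwa [ff_taylorL_apply, LaurentSeries.coeff_coe_powerSeries, ff_taylorO_coeff] at this
  · intro h n hn
    rw [ff_taylorL_apply, PowerSeries.coeff_coe]
    split_ifs with h0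
    · rfl
    · rw [ff_taylorO_coeff]
      exact h _ (by omega)

theorem ff_taylorL_val_le_one (y : P.O) : Valued.v (ff_taylorL hK P H ht hH y) ≤ 1 := by
  have := (ff_taylorL_val_le hK P H ht hH y 0).mpr (by
    rw [Nat.cast_zero, neg_zero, WithZero.exp_zero]; exact y.2)
  rwa [Nat.cast_zero, neg_zero, WithZero.exp_zero] at this

theorem ff_taylorL_val (y : P.O) : Valued.v (ff_taylorL hK P H ht hH y) = P.1 (y : K) :=
  ff_withZero_eq_of_balls (ff_taylorL_val_le_one hK P H ht hH y) y.2
    (ff_taylorL_val_le hK P H ht hH y)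

theorem ff_taylorL_injective : Function.Injective (ff_taylorL hK P H ht hH) := by
  rw [injective_iff_map_eq_zero]
  intro y hy
  have := ff_taylorL_val hK P H ht hH y
  rw [hy, map_zero] at this
  exact Subtype.ext ((map_eq_zero P.1).mp this.symm)

/-- the Taylor expansion at `P` of the elements of `K`. -/
noncomputable def ff_taylorK : K →ₐ[k] LaurentSeries k :=
  IsFractionRing.liftAlgHom (ff_taylorL_injective hK P H ht hH)

theorem ff_taylorK_of_le {y : K} (hy : P.1 y ≤ 1) :
    ff_taylorK hK P H ht hH y = ff_taylorL hK P H ht hH ⟨y, hy⟩ := by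
  have : y = algebraMap P.O K ⟨y, hy⟩ := rfl
  conv_lhs => rw [this]
  exact IsFractionRing.lift_algebraMap (ff_taylorL_injective hK P H ht hH) _

theorem ff_taylorK_val (y : K) : Valued.v (ff_taylorK hK P H ht hH y) = P.1 y := by
  by_cases hy : P.1 y ≤ 1
  · rw [ff_taylorK_of_le hK P H ht hH hy, ff_taylorL_val]
  · push Not at hy
    have hy0 : y ≠ 0 := by
      rintro rfl
      rw [map_zero] at hy
      exact not_lt.mpr zero_le hy
    have hinv : P.1 y⁻¹ ≤ 1 := by
      rw [map_inv₀]
      exact inv_le_one_of_one_le₀ hy.le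
    have h1 : ff_taylorK hK P H ht hH y = (ff_taylorK hK P H ht hH y⁻¹)⁻¹ := by
      rw [map_inv₀, inv_inv]
    rw [h1, map_inv₀, ff_taylorK_of_le hK P H ht hH hinv, ff_taylorL_val]
    change (P.1 y⁻¹)⁻¹ = _
    rw [map_inv₀, inv_inv]

theorem ff_taylorK_isExpansionAt : IsExpansionAt P.1 (ff_taylorK hK P H ht hH) := by
  refine ⟨ff_taylorK_val hK P H ht hH, fun a => ⟨algebraMap k K a, P.2.1 a, ?_⟩, t, ht⟩
  rw [LocRes.map_algebraMap, Algebra.algebraMap_self, RingHom.id_apply]
  simp

/-- Over an algebraically closed field, if a Hasse family exists, every place has a Laurent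
expansion. -/
theorem ff_exists_expansions (hK : IsFunctionField k K) {s : K} (Hs : K →ₐ[k] PowerSeries K)
    (hHs : IsHasseFamily s Hs) :
    ∃ Φ : Place k K → (K →ₐ[k] LaurentSeries k), ∀ P : Place k K, IsExpansionAt P.1 (Φ P) := by
  have h : ∀ P : Place k K, ∃ Φ : K →ₐ[k] LaurentSeries k, IsExpansionAt P.1 Φ := by
    intro P
    obtain ⟨t, ht, hu⟩ := ff_exists_sep_uniformizer Hs hHs P
    obtain ⟨Ht, σ, hHt, -⟩ := ff_exists_hasseFamily_subst Hs hHs.2 t hu
    exact ⟨_, ff_taylorK_isExpansionAt hK P Ht ht hHt⟩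
  choose Φ hΦ using h
  exact ⟨Φ, hΦ⟩

end Groth.Agent.Lib.Helper55
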