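import Groth.Agent.Lib.Helper55.FunFld.HasseFix
import Mathlib.RingTheory.Henselian
import Mathlib.RingTheory.AdicCompletion.Completeness
import Mathlib.FieldTheory.RatFunc.AsPolynomial
import Mathlib.FieldTheory.PrimitiveElement

/-! Existence of the total Hasse derivative with respect to a separating variable. -/

namespace Groth.Agent.Lib.Helper55

open FunFld LocRes IntermediateField

variable {k K : Type*} [Field k] [Field K] [Algebra k K]

theorem ff_constantCoeff_aeval (a : PowerSeries K) (p : Polynomial k) :
    PowerSeries.constantCoeff (Polynomial.aeval a p) =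
      Polynomial.aeval (PowerSeries.constantCoeff a) p := by
  rw [Polynomial.aeval_def, Polynomial.aeval_def, Polynomial.hom_eval₂]
  congr 1

/-- The total Hasse derivative on the rational function field `k(s)`. -/
theorem ff_exists_hasse_base {s : K} (hs : Transcendental k s) :
    ∃ H₀ : k⟮s⟯ →ₐ[k] PowerSeries K,
      H₀ (AdjoinSimple.gen k s) = PowerSeries.C s + PowerSeries.X ∧
      ∀ z : k⟮s⟯, PowerSeries.constantCoeff (H₀ z) = (z : K) := by
  let f : Polynomial k →ₐ[k] PowerSeries K := Polynomial.aeval (PowerSeries.C s + PowerSeries.X)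
  have hcc : ∀ p : Polynomial k, PowerSeries.constantCoeff (f p) = Polynomial.aeval s p := by
    intro p
    have := ff_constantCoeff_aeval (k := k) (PowerSeries.C s + PowerSeries.X) p
    simpa using this
  have hf : ∀ y : nonZeroDivisors (Polynomial k), IsUnit (f y) := by
    intro y
    rw [PowerSeries.isUnit_iff_constantCoeff, hcc, isUnit_iff_ne_zero]
    intro h0
    exact nonZeroDivisors.ne_zero y.2 ((transcendental_iff.mp hs) _ h0)
  let H₀' : RatFunc k →ₐ[k] PowerSeries K :=
    IsLocalization.liftAlgHom (M := nonZeroDivisors (Polynomial k)) hf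
  let e := RatFunc.algEquivOfTranscendental s hs
  have hH₀'poly : ∀ p : Polynomial k, H₀' (algebraMap (Polynomial k) (RatFunc k) p) = f p := by
    intro p
    exact IsLocalization.lift_eq hf p
  have hkey : ∀ r : RatFunc k, PowerSeries.constantCoeff (H₀' r) = ((e r : k⟮s⟯) : K) := by
    have h1 : (PowerSeries.constantCoeff (R := K)).comp H₀'.toRingHom =
        (algebraMap k⟮s⟯ K).comp e.toAlgHom.toRingHom := by
      apply IsLocalization.ringHom_ext (nonZeroDivisors (Polynomial k))
      ext p
      · simp only [RingHom.coe_comp, Function.comp_apply]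
        change PowerSeries.constantCoeff (H₀' (algebraMap k (RatFunc k) p)) =
          ((e (algebraMap k (RatFunc k) p) : k⟮s⟯) : K)
        rw [AlgHom.commutes, AlgEquiv.commutes]
        simp [PowerSeries.algebraMap_apply]
      · simp only [RingHom.coe_comp, Function.comp_apply]
        have h3 : H₀'.toRingHom (algebraMap (Polynomial k) (RatFunc k) Polynomial.X) =
            f Polynomial.X := hH₀'poly _
        rw [h3, hcc]
        simp [e, RatFunc.algEquivOfTranscendental_algebraMap]
    intro r
    exact RingHom.congr_fun h1 r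
  refine ⟨H₀'.comp e.symm.toAlgHom, ?_, ?_⟩
  · have h1 : e.symm (AdjoinSimple.gen k s) = RatFunc.X :=
      RatFunc.algEquivOfTranscendental_symm_gen s hs
    change H₀' (e.symm (AdjoinSimple.gen k s)) = _
    rw [h1, ← RatFunc.algebraMap_X, hH₀'poly]
    simp [f]
  · intro z
    change PowerSeries.constantCoeff (H₀' (e.symm z)) = _
    rw [hkey, AlgEquiv.apply_symm_apply]

/-- Existence of the total Hasse derivative with respect to a separating variable. -/
theorem ff_exists_hasseFamily_of_isSeparable {s : K} (hs : Transcendental k s)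
    [FiniteDimensional k⟮s⟯ K] [Algebra.IsSeparable k⟮s⟯ K] :
    ∃ H : K →ₐ[k] PowerSeries K, IsHasseFamily s H := by
  obtain ⟨H₀, hH₀s, hH₀c⟩ := ff_exists_hasse_base hs
  obtain ⟨y, hy⟩ := Field.exists_primitive_element k⟮s⟯ K
  have hyint : IsIntegral k⟮s⟯ y := Algebra.IsIntegral.isIntegral y
  set m := minpoly k⟮s⟯ y with hm
  have hmy : Polynomial.aeval y m = 0 := minpoly.aeval _ y
  have hsep : IsSeparable k⟮s⟯ y := Algebra.IsSeparable.isSeparable k⟮s⟯ y
  have hder : Polynomial.aeval y (Polynomial.derivative m) ≠ 0 :=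
    hsep.aeval_derivative_ne_zero hmy
  have hcomp : (PowerSeries.constantCoeff (R := K)).comp H₀.toRingHom = algebraMap k⟮s⟯ K :=
    RingHom.ext hH₀c
  have hcc : ∀ (q : Polynomial k⟮s⟯) (a : PowerSeries K),
      PowerSeries.constantCoeff ((q.map H₀.toRingHom).eval a) =
        Polynomial.aeval (PowerSeries.constantCoeff a) q := by
    intro q a
    rw [Polynomial.eval_map, Polynomial.hom_eval₂, hcomp, Polynomial.aeval_def]
  have hmonic : (m.map H₀.toRingHom).Monic := (minpoly.monic hyint).map _
  have h₁ : (m.map H₀.toRingHom).eval (PowerSeries.C y) ∈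
      (Ideal.span {PowerSeries.X} : Ideal (PowerSeries K)) := by
    rw [Ideal.mem_span_singleton, PowerSeries.X_dvd_iff, hcc, PowerSeries.constantCoeff_C, hmy]
  have h₂ : IsUnit (Ideal.Quotient.mk (Ideal.span {PowerSeries.X} : Ideal (PowerSeries K))
      ((Polynomial.derivative (m.map H₀.toRingHom)).eval (PowerSeries.C y))) := by
    apply IsUnit.map
    rw [PowerSeries.isUnit_iff_constantCoeff, Polynomial.derivative_map, hcc,
      PowerSeries.constantCoeff_C, isUnit_iff_ne_zero]
    exact hder
  obtain ⟨a, ha, haI⟩ := HenselianRing.is_henselian (m.map H₀.toRingHom) hmonic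
    (PowerSeries.C y) h₁ h₂
  have hay : PowerSeries.constantCoeff a = y := by
    rw [Ideal.mem_span_singleton, PowerSeries.X_dvd_iff, map_sub, PowerSeries.constantCoeff_C,
      sub_eq_zero] at haI
    exact haI
  have ha' : m.eval₂ H₀.toRingHom a = 0 := by
    rw [← Polynomial.eval_map]; exact ha
  let E : AdjoinRoot m ≃ₐ[k⟮s⟯] K :=
    (adjoinRootEquivAdjoin k⟮s⟯ hyint).trans ((IntermediateField.equivOfEq hy).trans
      IntermediateField.topEquiv)
  have hEroot : E (AdjoinRoot.root m) = y := by
    change IntermediateField.topEquiv (IntermediateField.equivOfEq hy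
      (adjoinRootEquivAdjoin k⟮s⟯ hyint (AdjoinRoot.root (minpoly k⟮s⟯ y)))) = y
    rw [adjoinRootEquivAdjoin_apply_root]
    rfl
  let Hr : K →+* PowerSeries K := (AdjoinRoot.lift H₀.toRingHom a ha').comp E.symm.toRingEquiv.toRingHom
  have hHr_alg : ∀ z : k⟮s⟯, Hr (algebraMap k⟮s⟯ K z) = H₀ z := by
    intro z
    change AdjoinRoot.lift H₀.toRingHom a ha' (E.symm (algebraMap k⟮s⟯ K z)) = H₀ z
    rw [AlgEquiv.commutes, AdjoinRoot.algebraMap_eq, AdjoinRoot.lift_of]
    rfl
  have hHr_cc : ∀ z : K, PowerSeries.constantCoeff (Hr z) = z := by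
    have h1 : (PowerSeries.constantCoeff (R := K)).comp (AdjoinRoot.lift H₀.toRingHom a ha') =
        E.toRingEquiv.toRingHom := by
      apply AdjoinRoot.ringHom_ext
      · ext z
        simp only [RingHom.coe_comp, Function.comp_apply, AdjoinRoot.lift_of]
        change PowerSeries.constantCoeff (H₀ z) = E (AdjoinRoot.of m z)
        rw [hH₀c, ← AdjoinRoot.algebraMap_eq, AlgEquiv.commutes]
        rfl
      · simp only [RingHom.coe_comp, Function.comp_apply, AdjoinRoot.lift_root]
        rw [hay]
        exact hEroot.symm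
    intro z
    change PowerSeries.constantCoeff (AdjoinRoot.lift H₀.toRingHom a ha' (E.symm z)) = z
    have := RingHom.congr_fun h1 (E.symm z)
    simp only [RingHom.coe_comp, Function.comp_apply] at this
    rw [this]
    exact E.apply_symm_apply z
  refine ⟨{ Hr with commutes' := fun c => ?_ }, ?_, hHr_cc⟩
  · change Hr (algebraMap k K c) = _
    rw [IsScalarTower.algebraMap_apply k k⟮s⟯ K, hHr_alg, AlgHom.commutes]
  · change Hr s = _
    have : s = algebraMap k⟮s⟯ K (AdjoinSimple.gen k s) := rfl
    rw [this, hHr_alg, hH₀s]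
    rfl

end Groth.Agent.Lib.Helper55
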