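import Groth.Agent.Lib.Helper55.FunFld.AdjLocal5
import Groth.Agent.Lib.Helper55.FunFld.AdjLocal2
import Groth.Agent.Lib.Helper55.FunFld.AdjCoord
import Groth.Agent.Lib.Helper55.FunFld.AffineRing
import Groth.Agent.Lib.Helper55.FunFld.ExpExist2
import Groth.Agent.Lib.Helper55.FunFld.HasseExist
import Groth.Agent.Lib.Helper63.SepVar

/-! The adjoint divisor at a finite place of a plane model monic in `y` (S12613). -/

set_option autoImplicit false
set_option linter.unusedSectionVars false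
set_option linter.style.haveILetI false

open FunFld Module Polynomial LocRes IntermediateField

namespace Groth.Agent.Lib.Helper55

universe u v

variable {k : Type u} {K : Type v} [Field k] [Field K] [Algebra k K]

/-- Over an algebraically closed field every place has a Laurent expansion. -/
theorem ff_exists_expansions_of_algClosed [IsAlgClosed k] (hK : IsFunctionField k K) :
    ∃ Φ : Place k K → (K →ₐ[k] LaurentSeries k), ∀ P : Place k K, IsExpansionAt P.1 (Φ P) := by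
  have hg := Groth.Agent.Lib.Helper63.GeometricPerfect.isGeometric_of_perfectField hK
  obtain ⟨s, hs, hsep⟩ := Groth.Agent.Lib.Helper63.SepGen.exists_separating hK hg
  haveI := ff_finite_of_transcendental hK hs
  obtain ⟨H, hH⟩ := ff_exists_hasseFamily_of_isSeparable hs
  exact ff_exists_expansions hK H hH

theorem al_adjoin_gen_eq_top (x : K) :
    IntermediateField.adjoin k ({AdjoinSimple.gen k x} : Set k⟮x⟯) = ⊤ := by
  apply IntermediateField.map_injective (k⟮x⟯).val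
  rw [IntermediateField.adjoin_map, Set.image_singleton]
  have h1 : (k⟮x⟯).val (AdjoinSimple.gen k x) = x := rfl
  rw [h1, ← AlgHom.fieldRange_eq_map, IntermediateField.fieldRange_val]

theorem al_adjoin_eq_top_of_adjoin_pair {x y : K}
    (hxy : IntermediateField.adjoin k ({x, y} : Set K) = ⊤) [FiniteDimensional k⟮x⟯ K] :
    Algebra.adjoin k⟮x⟯ ({y} : Set K) = ⊤ := by
  have hint : IsIntegral k⟮x⟯ y := IsIntegral.of_finite k⟮x⟯ y
  have htop : IntermediateField.adjoin k⟮x⟯ ({y} : Set K) = ⊤ := by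
    rw [← IntermediateField.restrictScalars_eq_top_iff (K := k),
      IntermediateField.adjoin_adjoin_left, ← hxy]
    congr 1
  have h1 := IntermediateField.adjoin_simple_toSubalgebra_of_isAlgebraic hint.isAlgebraic
  rw [htop] at h1
  rw [← h1]
  rfl

/-- The adjoint coefficient at a finite place of a plane model monic in `y`. -/
theorem al_affine_thm [IsAlgClosed k] (hK : IsFunctionField k K) {x y : K}
    (hxy : IntermediateField.adjoin k ({x, y} : Set K) = ⊤) (f : MvPolynomial (Fin 2) k)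
    (hf : Irreducible f) (hfxy : MvPolynomial.aeval ![x, y] f = 0)
    (hlc : f.coeff (Finsupp.single 1 f.totalDegree) ≠ 0)
    (Q : Place k K) (hxQ : Q.1 x ≤ 1) (ΦQ : K →ₐ[k] LaurentSeries k)
    (hΦQ : IsExpansionAt Q.1 ΦQ)
    (hne : vDiff ΦQ (MvPolynomial.aeval ![x, y] (MvPolynomial.pderiv 1 f))⁻¹ x ≠ 0) :
    ordDiff ΦQ (MvPolynomial.aeval ![x, y] (MvPolynomial.pderiv 1 f))⁻¹ x ≤ 0 ∧
    (ordDiff ΦQ (MvPolynomial.aeval ![x, y] (MvPolynomial.pderiv 1 f))⁻¹ x = 0 ↔
      ∀ z, Q.1 z ≤ 1 → z ∈ ff_locRing (Algebra.adjoin k ({x, y} : Set K)) Q) := by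
  classical
  have hg := Groth.Agent.Lib.Helper63.GeometricPerfect.isGeometric_of_perfectField hK
  obtain ⟨fy, hfy⟩ : ∃ fy, fy = MvPolynomial.aeval ![x, y] (MvPolynomial.pderiv 1 f) := ⟨_, rfl⟩
  rw [← hfy] at hne ⊢
  have hv1 : vDiff ΦQ 1 x ≠ 0 := by
    intro h0
    apply hne
    rw [← mul_one fy⁻¹, al_vDiff_mul Q.1 ΦQ hΦQ.1, h0, mul_zero]
  have hdx := Groth.Agent.Lib.Helper63.LocResBasic.D_ne_zero_of_vDiff_ne_zero ΦQ hv1
  haveI hsep : Algebra.IsSeparable k⟮x⟯ K :=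
    Groth.Agent.Lib.Helper63.SepVar.isSeparable_of_D_ne_zero hK hg hdx
  have hx : Transcendental k x := Groth.Agent.Lib.Helper63.SepVar.transcendental_of_isSeparable hK hsep
  haveI hfin := ff_finite_of_transcendental hK hx
  have hF := ff_isFunctionField_adjoin_simple hK hx
  obtain ⟨P₀, hQP⟩ := Groth.Agent.Lib.Helper63.FunFldExt.exists_isOver_below (K := k⟮x⟯) Q
  have hgx : algebraMap k⟮x⟯ K (AdjoinSimple.gen k x) = x := AdjoinSimple.algebraMap_gen k x
  have hg1 : P₀.1 (AdjoinSimple.gen k x) ≤ 1 := by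
    obtain ⟨e, he⟩ := hQP
    have he0 : e ≠ 0 := Groth.Agent.Lib.Helper63.FunFldExt.isOverWith_ne_zero he
    have h1 := he (AdjoinSimple.gen k x)
    rw [hgx] at h1
    rw [h1] at hxQ
    exact (pow_le_one_iff he0).mp hxQ
  obtain ⟨α, hα⟩ := ff_exists_const_approx hF P₀ hg1
  have hgen := al_adjoin_gen_eq_top (k := k) x
  obtain ⟨hmin, hder⟩ := al_minpoly hK hx hxy f hf hfxy hlc
  have htop := al_adjoin_eq_top_of_adjoin_pair hxy
  obtain ⟨lc, hlcdef⟩ : ∃ lc, lc = f.coeff (Finsupp.single 1 f.totalDegree) := ⟨_, rfl⟩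
  rw [← hlcdef] at hmin hder hlc
  have hcoef : ∀ i, P₀.1 ((minpoly k⟮x⟯ y).coeff i) ≤ 1 := by
    intro i
    have h1 := congrArg (fun p => p.coeff i) hmin
    simp only [coeff_map, coeff_mul_C] at h1
    have hlc' : algebraMap k k⟮x⟯ lc ≠ 0 := (_root_.map_ne_zero _).mpr hlc
    have h2 : (minpoly k⟮x⟯ y).coeff i = alι x ((alBiv f).coeff i) * algebraMap k k⟮x⟯ lc⁻¹ := by
      rw [h1, mul_assoc, ← map_mul, mul_inv_cancel₀ hlc, map_one, mul_one]
    rw [h2, map_mul]
    refine mul_le_one' ?_ (P₀.2.1 _)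
    unfold alι
    change P₀.1 (aeval (AdjoinSimple.gen k x) ((alBiv f).coeff i)) ≤ 1
    rw [aeval_eq_sum_range]
    refine P₀.1.map_sum_le fun j _ => ?_
    rw [Algebra.smul_def, map_mul, map_pow]
    exact mul_le_one' (P₀.2.1 _) (pow_le_one' hg1 j)
  obtain ⟨Φ, hΦ⟩ := ff_exists_expansions_of_algClosed hK
  obtain ⟨Φ₀, hΦ₀⟩ := ff_exists_expansions_of_algClosed hF
  have hQsfin := Groth.Agent.Lib.Helper63.FunFldExt.finite_setOf_isOver (K' := K) P₀
  have hQs : ∀ Q', Q' ∈ hQsfin.toFinset ↔ IsOver Q' P₀ := fun Q' => by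
    rw [Set.Finite.mem_toFinset]; rfl
  have hQmem : Q ∈ hQsfin.toFinset := (hQs Q).2 hQP
  have hψ : ∀ Q' ∈ hQsfin.toFinset, IsExpansionAt Q'.1 (Function.update Φ Q ΦQ Q') := by
    intro Q' _
    by_cases hQQ : Q' = Q
    · subst hQQ
      rw [Function.update_self]
      exact hΦQ
    · rw [Function.update_of_ne hQQ]
      exact hΦ Q'
  have hψQ : Function.update Φ Q ΦQ Q = ΦQ := Function.update_self ..
  have hxR : algebraMap k⟮x⟯ K (AdjoinSimple.gen k x) ∈ Algebra.adjoin k ({x, y} : Set K) := by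
    rw [hgx]; exact Algebra.subset_adjoin (by simp)
  have hyR : y ∈ Algebra.adjoin k ({x, y} : Set K) := Algebra.subset_adjoin (by simp)
  have hRle : Algebra.adjoin k ({x, y} : Set K) ≤
      Algebra.adjoin k ({algebraMap k⟮x⟯ K (AdjoinSimple.gen k x), y} : Set K) := by
    rw [hgx]
  -- relate the two differentials
  have hm0 : aeval y (derivative (minpoly k⟮x⟯ y)) ≠ 0 := al_deriv_ne_zero (F := k⟮x⟯) y
  have hvv : vDiff ΦQ fy⁻¹ x =
      vDiff (Function.update Φ Q ΦQ Q) (aeval y (derivative (minpoly k⟮x⟯ y)))⁻¹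
        (algebraMap k⟮x⟯ K (AdjoinSimple.gen k x)) := by
    rw [hψQ, hgx, hfy, hder, mul_inv, mul_comm, al_vDiff_mul Q.1 ΦQ hΦQ.1, ← map_inv₀,
      ff_val_const Q (inv_ne_zero hlc), one_mul]
  have hA : 1 ≤ vDiff ΦQ fy⁻¹ x := by
    by_contra hlt
    push Not at hlt
    rw [hvv] at hlt
    exact al_adj_ge_one hF hK P₀ hgen hα htop hcoef hQsfin.toFinset hQs (Φ₀ P₀) (hΦ₀ P₀)
      (Function.update Φ Q ΦQ) hψ Q hQmem hlt
  have hord : ordDiff ΦQ fy⁻¹ x = -WithZero.log (vDiff ΦQ fy⁻¹ x) := rfl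
  have hlog : 0 ≤ WithZero.log (vDiff ΦQ fy⁻¹ x) := by
    rw [← WithZero.exp_le_exp, WithZero.exp_log hne, WithZero.exp_zero]
    exact hA
  refine ⟨by rw [hord]; omega, ?_⟩
  have h1iff : ordDiff ΦQ fy⁻¹ x = 0 ↔ vDiff ΦQ fy⁻¹ x = 1 := by
    rw [hord]
    constructor
    · intro h0
      have : WithZero.log (vDiff ΦQ fy⁻¹ x) = 0 := by omega
      rw [← WithZero.exp_log hne, this, WithZero.exp_zero]
    · intro h1
      rw [h1, WithZero.log_one, neg_zero]
  rw [h1iff]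
  constructor
  · intro h1 z hz
    rw [hvv] at h1
    exact al_adj_nonsing_of_eq_one hF hK P₀ hgen hα htop hcoef hQsfin.toFinset hQs (Φ₀ P₀)
      (hΦ₀ P₀) (Function.update Φ Q ΦQ) hψ _ hxR hyR hRle Q hQmem h1 z hz
  · intro hns
    rw [hvv]
    refine al_adj_eq_one_of_nonsing hF hK P₀ hgen hα htop hcoef hQsfin.toFinset hQs (Φ₀ P₀)
      (hΦ₀ P₀) (Function.update Φ Q ΦQ) hψ _ hxR hyR hRle Q hQmem hns ?_
    rw [← hvv]
    exact hne

end Groth.Agent.Lib.Helper55
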