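import Groth.Agent.Lib.Helper55.FunFld.AdjGlobal

/-! The adjoint divisor coefficient theorem (S12613): global step. -/

set_option autoImplicit false
set_option linter.unusedSectionVars false
set_option linter.style.haveILetI false

open FunFld Module LocRes

namespace Groth.Agent.Lib.Helper55

universe u v

variable {k : Type u} {K : Type v} [Field k] [Field K] [Algebra k K]

theorem al_global_step [IsAlgClosed k] (hK : IsFunctionField k K) (x y : K)
    (hxy : IntermediateField.adjoin k ({x, y} : Set K) = ⊤)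
    (F : MvPolynomial (Fin 3) k) (e : ℕ) (hF : F.IsHomogeneous e)
    (hFxy : MvPolynomial.aeval ![(1 : K), x, y] F = 0)
    (he : (mapDiv k ![(1 : K), x, y]).deg = e)
    (Q : Place k K) (ΦQ : K →ₐ[k] LaurentSeries k) (hΦQ : IsExpansionAt Q.1 ΦQ)
    (hne : vDiff ΦQ (MvPolynomial.aeval ![(1 : K), x, y] (MvPolynomial.pderiv 2 F))⁻¹ x ≠ 0)
    (A : Matrix (Fin 3) (Fin 3) k) (hA : A.det ≠ 0) (u : Fin 3 → K)
    (hu : ∀ i, ∑ j, algebraMap k K (A i j) * u j = ![(1 : K), x, y] i) (hu0 : u 0 ≠ 0)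
    (hmax : ∀ i, Q.1 (u i) ≤ Q.1 (u 0))
    (hmonic : MvPolynomial.aeval (![A 0 2, A 1 2, A 2 2] : Fin 3 → k) F ≠ 0)
    (hsep : ∑ i, algebraMap k K (A i 2) *
      MvPolynomial.aeval ![(1 : K), x, y] (MvPolynomial.pderiv i F) ≠ 0) :
    0 ≤ ((mapDiv k ![(1 : K), x, y]).deg - 3) * mapDiv k ![(1 : K), x, y] Q -
        ordDiff ΦQ (MvPolynomial.aeval ![(1 : K), x, y] (MvPolynomial.pderiv 2 F))⁻¹ x ∧
    (((mapDiv k ![(1 : K), x, y]).deg - 3) * mapDiv k ![(1 : K), x, y] Q -
        ordDiff ΦQ (MvPolynomial.aeval ![(1 : K), x, y] (MvPolynomial.pderiv 2 F))⁻¹ x = 0 ↔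
      IsNonsingularAt ![(1 : K), x, y] Q) := by
  classical
  have hg := Groth.Agent.Lib.Helper63.GeometricPerfect.isGeometric_of_perfectField hK
  obtain ⟨F2, hF2def⟩ : ∃ F2, F2 = MvPolynomial.aeval ![(1 : K), x, y] (MvPolynomial.pderiv 2 F) :=
    ⟨_, rfl⟩
  rw [← hF2def] at hne ⊢
  have hF2 : F2 ≠ 0 := by
    rintro rfl
    apply hne
    unfold vDiff
    rw [inv_zero, map_zero, zero_mul, map_zero]
  have hv1 : vDiff ΦQ 1 x ≠ 0 := by
    intro h0
    apply hne
    rw [← mul_one F2⁻¹, al_vDiff_mul Q.1 ΦQ hΦQ.1, h0, mul_zero]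
  have hdx := Groth.Agent.Lib.Helper63.LocResBasic.D_ne_zero_of_vDiff_ne_zero ΦQ hv1
  obtain ⟨Φ, hΦ⟩ := ff_exists_expansions_of_algClosed hK
  have hΨ : ∀ P : Place k K, IsExpansionAt P.1 (Function.update Φ Q ΦQ P) := by
    intro Q'
    by_cases hQQ : Q' = Q
    · subst hQQ
      rw [Function.update_self]
      exact hΦQ
    · rw [Function.update_of_ne hQQ]
      exact hΦ Q'
  have hΨQ : Function.update Φ Q ΦQ Q = ΦQ := Function.update_self ..
  have hX' : ![(1 : K), u 1 / u 0, u 2 / u 0] = fun i => u i / u 0 := by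
    funext i
    fin_cases i
    · simp [div_self hu0]
    · simp
    · simp
  obtain ⟨F', hF'def⟩ : ∃ F', F' = MvPolynomial.aeval
      (fun i : Fin 3 => ∑ l, MvPolynomial.C (A i l) * (MvPolynomial.X l : MvPolynomial (Fin 3) k))
      F := ⟨_, rfl⟩
  have hF' : F'.IsHomogeneous e := by
    rw [hF'def]
    have := hF.aeval (n := 1) (fun i : Fin 3 => ∑ l, MvPolynomial.C (A i l) *
      (MvPolynomial.X l : MvPolynomial (Fin 3) k)) (fun i =>
        MvPolynomial.IsHomogeneous.sum _ _ _ fun l _ =>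
          (MvPolynomial.isHomogeneous_X k l).C_mul (A i l))
    rwa [one_mul] at this
  have hcp := ff_coord_pderiv F hF A u ![(1 : K), x, y] (u 0) hu0 hu 2
  rw [← hF'def, ← hX'] at hcp
  have hfy' : MvPolynomial.aeval ![(1 : K), u 1 / u 0, u 2 / u 0] (MvPolynomial.pderiv 2 F') ≠ 0 := by
    intro h0
    rw [h0, mul_zero] at hcp
    exact hsep hcp.symm
  have key := ff_adjointDiv_coord hK F e hF x y hFxy hdx he A hA u hu hu0
    (by rw [← hF2def]; exact hF2) (by rw [← hF'def]; exact hfy') (Function.update Φ Q ΦQ) hΨ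
  rw [← hF'def, ← hF2def] at key
  have hD := ff_coord_D hK hg F hF x y hFxy hdx A hA u hu hu0 (by rw [← hF2def]; exact hF2)
  rw [← hF'def, ← hX', ← hF2def] at hD
  have hdet : algebraMap k K A.det ≠ 0 := (map_ne_zero _).mpr hA
  have hdx' : KaehlerDifferential.D k K (u 1 / u 0) ≠ 0 := by
    rw [hD]
    refine smul_ne_zero ?_ hdx
    exact div_ne_zero (mul_ne_zero (pow_ne_zero _ hu0) hfy')
      (mul_ne_zero (mul_ne_zero hF2 hdet) (pow_ne_zero _ hu0))
  have keyQ := DFunLike.congr_fun key Q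
  simp only [Finsupp.coe_sub, Pi.sub_apply, Finsupp.coe_smul, Pi.smul_apply, smul_eq_mul] at keyQ
  rw [al_divDiff_apply hK hg _ hΨ hdx (inv_ne_zero hF2) Q,
    al_divDiff_apply hK hg _ hΨ hdx' (inv_ne_zero hfy') Q, hΨQ] at keyQ
  rw [keyQ]
  -- the new coordinates
  have hmd := ff_mapDiv_coord hK x y A hA u hu hu0
  have hdeg' : (mapDiv k ![(1 : K), u 1 / u 0, u 2 / u 0]).deg = e := by
    rw [hmd, ff_deg_add, ff_deg_div hK, add_zero, he]
  have hv0 : Q.1 (u 0) ≠ 0 := ff_val_ne_zero Q hu0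
  have hnorm : ∀ i, Q.1 (![(1 : K), u 1 / u 0, u 2 / u 0] i) ≤ 1 := by
    intro i
    rw [hX', map_div₀]
    exact (div_le_one₀ (zero_lt_iff.mpr hv0)).mpr (hmax i)
  have hmd0 : mapDiv k ![(1 : K), u 1 / u 0, u 2 / u 0] Q = 0 :=
    ff_mapDiv_apply_eq_zero hK _ Q hnorm 0 (by simp)
  rw [hmd0, mul_zero, zero_sub]
  -- the new equation
  have hf'xy : MvPolynomial.aeval ![u 1 / u 0, u 2 / u 0] (alDeh F') = 0 := by
    rw [al_aeval_alDeh, hF'def, ff_aeval_comp_matrix]
    have h1 : (fun i => ∑ l, algebraMap k K (A i l) * ![(1 : K), u 1 / u 0, u 2 / u 0] l) =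
        fun i => (u 0)⁻¹ * ![(1 : K), x, y] i := by
      funext i
      rw [← hu i, Finset.mul_sum, hX']
      refine Finset.sum_congr rfl fun l _ => ?_
      change _ * (u l / u 0) = _
      rw [div_eq_mul_inv]
      ring
    rw [h1, ff_aeval_smul_of_isHomogeneous' _ hF, hFxy, mul_zero]
  have hlc : (alDeh F').coeff (Finsupp.single 1 e) ≠ 0 := by
    rw [al_coeff_alDeh hF', al_coeff_single_two hF']
    change MvPolynomial.aeval (![0, 0, 1] : Fin 3 → k) F' ≠ 0
    rw [hF'def, ff_aeval_comp_matrix]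
    convert hmonic using 3
    funext i
    rw [Fin.sum_univ_three]
    fin_cases i <;> simp
  have hf'0 : alDeh F' ≠ 0 := by
    intro h0
    rw [h0, MvPolynomial.coeff_zero] at hlc
    exact hlc rfl
  have htd : (alDeh F').totalDegree = e := by
    apply le_antisymm (al_totalDegree_alDeh_le hF')
    have := MvPolynomial.le_totalDegree (MvPolynomial.mem_support_iff.mpr hlc)
    simpa using this
  have hxy' : IntermediateField.adjoin k ({u 1 / u 0, u 2 / u 0} : Set K) = ⊤ := by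
    rw [← top_le_iff, ← hxy, IntermediateField.adjoin_le_iff]
    have hmem : ∀ i, u i / u 0 ∈ IntermediateField.adjoin k ({u 1 / u 0, u 2 / u 0} : Set K) := by
      intro i
      fin_cases i
      · change u 0 / u 0 ∈ _
        rw [div_self hu0]; exact one_mem _
      · exact IntermediateField.subset_adjoin k _ (by simp)
      · exact IntermediateField.subset_adjoin k _ (by simp)
    have hφ : ∀ i, ![(1 : K), x, y] i / u 0 ∈
        IntermediateField.adjoin k ({u 1 / u 0, u 2 / u 0} : Set K) := by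
      intro i
      rw [← hu i, Finset.sum_div]
      refine sum_mem fun l _ => ?_
      rw [mul_div_assoc]
      exact mul_mem (IntermediateField.algebraMap_mem _ _) (hmem l)
    have h0 := hφ 0
    have hφ' : ∀ i, ![(1 : K), x, y] i ∈
        IntermediateField.adjoin k ({u 1 / u 0, u 2 / u 0} : Set K) := by
      intro i
      have : ![(1 : K), x, y] i = (![(1 : K), x, y] i / u 0) / (![(1 : K), x, y] 0 / u 0) := by
        simp only [Matrix.cons_val_zero]
        field_simp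
      rw [this]
      exact div_mem (hφ i) h0
    rintro z (rfl | rfl)
    · exact hφ' 1
    · exact hφ' 2
  have hirr : Irreducible (alDeh F') :=
    al_irreducible_of_degree hK _ _ hxy' _ hf'0 hf'xy (by rw [htd, hdeg'])
  have hpd : MvPolynomial.aeval ![u 1 / u 0, u 2 / u 0] (MvPolynomial.pderiv 1 (alDeh F')) =
      MvPolynomial.aeval ![(1 : K), u 1 / u 0, u 2 / u 0] (MvPolynomial.pderiv 2 F') := by
    rw [al_pderiv_alDeh, al_aeval_alDeh]
  have hx'Q : Q.1 (u 1 / u 0) ≤ 1 := hnorm 1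
  have hne' : vDiff ΦQ (MvPolynomial.aeval ![u 1 / u 0, u 2 / u 0]
      (MvPolynomial.pderiv 1 (alDeh F')))⁻¹ (u 1 / u 0) ≠ 0 := by
    rw [hpd, ff_vDiff_eq_mul hK hg hdx' Q ΦQ hΦQ]
    exact mul_ne_zero (ff_val_ne_zero Q (inv_ne_zero hfy')) WithZero.exp_ne_zero
  have hmain := al_affine_thm hK hxy' (alDeh F') hirr hf'xy (by rw [htd]; exact hlc) Q hx'Q ΦQ hΦQ
    hne'
  rw [hpd] at hmain
  obtain ⟨h1, h2⟩ := hmain
  refine ⟨by omega, ?_⟩
  rw [al_nonsing_iff x y A hA u hu hu0 Q hmax, ← h2]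
  constructor <;> intro h <;> omega

end Groth.Agent.Lib.Helper55
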