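import Groth.Agent.Lib.Helper55.FunFld.AdjAffine

/-! Homogenization, dehomogenization and the coordinate change for the adjoint divisor (S12613). -/

set_option autoImplicit false
set_option linter.unusedSectionVars false
set_option linter.style.haveILetI false

open FunFld Module LocRes

namespace Groth.Agent.Lib.Helper55

universe u v

variable {k : Type u} {K : Type v} [Field k] [Field K] [Algebra k K]

theorem al_hom_deg {G : MvPolynomial (Fin 3) k} {e : ℕ} (hG : G.IsHomogeneous e)
    {m : Fin 3 →₀ ℕ} (hm : G.coeff m ≠ 0) : m 0 + m 1 + m 2 = e := by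
  have := hG hm
  rw [Finsupp.weight_apply, Finsupp.sum_fintype _ _ (fun _ => by simp), Fin.sum_univ_three] at this
  simpa using this

/-- Dehomogenization `G(1, X, Y)`. -/
noncomputable def alDeh (G : MvPolynomial (Fin 3) k) : MvPolynomial (Fin 2) k :=
  MvPolynomial.aeval ![1, MvPolynomial.X 0, MvPolynomial.X 1] G

theorem alDeh_eq_sum (G : MvPolynomial (Fin 3) k) :
    alDeh G = ∑ m ∈ G.support,
      MvPolynomial.monomial (Finsupp.single 0 (m 1) + Finsupp.single 1 (m 2)) (G.coeff m) := by
  unfold alDeh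
  rw [MvPolynomial.aeval_def, MvPolynomial.eval₂_eq']
  refine Finset.sum_congr rfl fun m _ => ?_
  rw [Fin.prod_univ_three]
  simp only [Matrix.cons_val_zero, Matrix.cons_val_one, Matrix.cons_val_two, Matrix.head_cons,
    Matrix.tail_cons, one_pow, one_mul, MvPolynomial.algebraMap_eq]
  rw [MvPolynomial.X_pow_eq_monomial, MvPolynomial.X_pow_eq_monomial, MvPolynomial.monomial_mul,
    MvPolynomial.C_mul_monomial, one_mul, mul_one]

theorem al_aeval_alDeh (G : MvPolynomial (Fin 3) k) (a b : K) :
    MvPolynomial.aeval ![a, b] (alDeh G) = MvPolynomial.aeval ![1, a, b] G := by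
  unfold alDeh
  rw [MvPolynomial.comp_aeval_apply]
  congr 2
  funext i
  fin_cases i <;> simp

theorem al_pderiv_alDeh (G : MvPolynomial (Fin 3) k) :
    MvPolynomial.pderiv 1 (alDeh G) = alDeh (MvPolynomial.pderiv 2 G) := by
  unfold alDeh
  rw [ff_deriv_aeval (MvPolynomial.pderiv 1), Fin.sum_univ_three]
  simp

theorem al_totalDegree_alDeh_le {G : MvPolynomial (Fin 3) k} {e : ℕ} (hG : G.IsHomogeneous e) :
    (alDeh G).totalDegree ≤ e := by
  classical
  rw [alDeh_eq_sum]
  refine MvPolynomial.totalDegree_finsetSum_le fun m hm => ?_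
  refine (MvPolynomial.totalDegree_monomial_le _ _).trans ?_
  have h1 := al_hom_deg hG (MvPolynomial.mem_support_iff.mp hm)
  rw [Finsupp.sum_fintype _ _ (fun _ => rfl), Fin.sum_univ_two]
  simp
  omega

theorem al_coeff_alDeh {G : MvPolynomial (Fin 3) k} {e : ℕ} (hG : G.IsHomogeneous e) :
    (alDeh G).coeff (Finsupp.single 1 e) = G.coeff (Finsupp.single 2 e) := by
  classical
  rw [alDeh_eq_sum, MvPolynomial.coeff_sum]
  simp only [MvPolynomial.coeff_monomial]
  rw [Finset.sum_eq_single (Finsupp.single 2 e)]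
  · simp
  · intro m hm hne
    rw [if_neg]
    intro h
    apply hne
    have h0 := DFunLike.congr_fun h 0
    have h1 := DFunLike.congr_fun h 1
    simp at h0 h1
    have h2 := al_hom_deg hG (MvPolynomial.mem_support_iff.mp hm)
    ext i
    fin_cases i
    · simp; omega
    · simp; omega
    · simp; omega
  · intro h
    rw [MvPolynomial.notMem_support_iff.mp h]
    simp

theorem al_coeff_single_two {G : MvPolynomial (Fin 3) k} {e : ℕ} (hG : G.IsHomogeneous e) :
    G.coeff (Finsupp.single 2 e) = MvPolynomial.eval ![0, 0, 1] G := by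
  classical
  rw [MvPolynomial.eval_eq']
  rw [Finset.sum_eq_single (Finsupp.single 2 e)]
  · rw [Fin.prod_univ_three]; simp
  · intro m hm hne
    have h2 := al_hom_deg hG (MvPolynomial.mem_support_iff.mp hm)
    rw [Fin.prod_univ_three]
    simp only [Matrix.cons_val_zero, Matrix.cons_val_one, Matrix.cons_val_two, Matrix.head_cons,
      Matrix.tail_cons, one_pow, mul_one]
    by_cases h0 : m 0 = 0
    · by_cases h1 : m 1 = 0
      · exfalso
        apply hne
        ext i
        fin_cases i
        · simp; omega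
        · simp; omega
        · simp; omega
      · rw [zero_pow h1, mul_zero, mul_zero]
    · rw [zero_pow h0, zero_mul, mul_zero]
  · intro h
    rw [MvPolynomial.notMem_support_iff.mp h, zero_mul]

/-- Homogenization of a polynomial in two variables. -/
noncomputable def alHom (f : MvPolynomial (Fin 2) k) : MvPolynomial (Fin 3) k :=
  ∑ m ∈ f.support, MvPolynomial.monomial
    (Finsupp.single 0 (f.totalDegree - (m 0 + m 1)) + Finsupp.single 1 (m 0) +
      Finsupp.single 2 (m 1)) (f.coeff m)

theorem alHom_isHomogeneous (f : MvPolynomial (Fin 2) k) :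
    (alHom f).IsHomogeneous f.totalDegree := by
  classical
  unfold alHom
  refine MvPolynomial.IsHomogeneous.sum _ _ _ fun m hm => ?_
  apply MvPolynomial.isHomogeneous_monomial
  have hle := MvPolynomial.le_totalDegree hm
  rw [ff_fin2_sum] at hle
  rw [Finsupp.degree_eq_sum, Fin.sum_univ_three]
  simp
  omega

theorem alDeh_alHom (f : MvPolynomial (Fin 2) k) : alDeh (alHom f) = f := by
  classical
  unfold alHom alDeh
  rw [map_sum]
  conv_rhs => rw [f.as_sum]
  refine Finset.sum_congr rfl fun m _ => ?_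
  rw [MvPolynomial.aeval_monomial, Finsupp.prod_fintype _ _ (fun _ => pow_zero _),
    Fin.prod_univ_three]
  simp only [Matrix.cons_val_zero, Matrix.cons_val_one, Matrix.cons_val_two, Matrix.head_cons,
    Matrix.tail_cons, one_pow, one_mul, MvPolynomial.algebraMap_eq]
  have e1 : ((Finsupp.single (0 : Fin 3) (f.totalDegree - (m 0 + m 1)) +
      Finsupp.single 1 (m 0) + Finsupp.single 2 (m 1) : Fin 3 →₀ ℕ) 1) = m 0 := by simp
  have e2 : ((Finsupp.single (0 : Fin 3) (f.totalDegree - (m 0 + m 1)) +
      Finsupp.single 1 (m 0) + Finsupp.single 2 (m 1) : Fin 3 →₀ ℕ) 2) = m 1 := by simp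
  rw [e1, e2, MvPolynomial.X_pow_eq_monomial, MvPolynomial.X_pow_eq_monomial,
    MvPolynomial.monomial_mul, MvPolynomial.C_mul_monomial, one_mul, mul_one]
  have e3 : (Finsupp.single (0 : Fin 2) (m 0) + Finsupp.single 1 (m 1) : Fin 2 →₀ ℕ) = m := by
    ext i
    fin_cases i <;> simp
  rw [e3]

theorem al_eval_alHom (f : MvPolynomial (Fin 2) k) (c : k) :
    MvPolynomial.eval ![0, c, 1] (alHom f) = ffTop f c 1 := by
  classical
  unfold alHom ffTop
  rw [map_sum, Finset.sum_filter]
  refine Finset.sum_congr rfl fun m hm => ?_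
  have hle := MvPolynomial.le_totalDegree hm
  rw [ff_fin2_sum] at hle
  rw [MvPolynomial.eval_monomial, Finsupp.prod_fintype _ _ (fun _ => pow_zero _),
    Fin.prod_univ_three]
  simp only [Matrix.cons_val_zero, Matrix.cons_val_one, Matrix.cons_val_two, Matrix.head_cons,
    Matrix.tail_cons, one_pow, mul_one]
  have e0 : ((Finsupp.single (0 : Fin 3) (f.totalDegree - (m 0 + m 1)) +
      Finsupp.single 1 (m 0) + Finsupp.single 2 (m 1) : Fin 3 →₀ ℕ) 0) =
      f.totalDegree - (m 0 + m 1) := by simp
  have e1 : ((Finsupp.single (0 : Fin 3) (f.totalDegree - (m 0 + m 1)) +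
      Finsupp.single 1 (m 0) + Finsupp.single 2 (m 1) : Fin 3 →₀ ℕ) 1) = m 0 := by simp
  rw [e0, e1]
  split_ifs with h
  · rw [h, Nat.sub_self, pow_zero, one_mul]
  · rw [zero_pow (by omega), zero_mul, mul_zero]

/-- The polynomial `f_n(T, 1)` is nonzero. -/
theorem al_exists_top_poly {f : MvPolynomial (Fin 2) k} (hf0 : f ≠ 0) :
    ∃ Pt : Polynomial k, Pt ≠ 0 ∧ ∀ c : k, Pt.eval c = ffTop f c 1 := by
  classical
  obtain ⟨n, hn⟩ : ∃ n, n = f.totalDegree := ⟨_, rfl⟩
  refine ⟨∑ m ∈ f.support with m 0 + m 1 = n, Polynomial.C (f.coeff m) * Polynomial.X ^ m 0,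
    ?_, ?_⟩
  · have hne : f.support.Nonempty := by
      rw [Finset.nonempty_iff_ne_empty, Ne, MvPolynomial.support_eq_empty]
      exact hf0
    obtain ⟨m₀, hm₀, hsup⟩ := Finset.exists_mem_eq_sup f.support hne
      (fun s => s.sum fun _ e => e)
    have hm₀n : m₀ 0 + m₀ 1 = n := by
      rw [← ff_fin2_sum, hn]; exact hsup.symm
    intro h0
    have := congrArg (fun p : Polynomial k => p.coeff (m₀ 0)) h0
    simp only [Polynomial.finsetSum_coeff, Polynomial.coeff_C_mul, Polynomial.coeff_X_pow,
      Polynomial.coeff_zero] at this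
    rw [Finset.sum_eq_single m₀] at this
    · simp only [if_true, mul_one] at this
      exact (MvPolynomial.mem_support_iff.mp hm₀) this
    · intro m hm hne'
      rw [Finset.mem_filter] at hm
      rw [if_neg, mul_zero]
      intro h1
      apply hne'
      ext i
      fin_cases i
      · exact h1.symm
      · change m 1 = m₀ 1
        have := hm.2
        omega
    · intro h
      exact absurd (Finset.mem_filter.mpr ⟨hm₀, hm₀n⟩) h
  · intro c
    unfold ffTop
    rw [Polynomial.eval_finsetSum, ← hn]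
    refine Finset.sum_congr rfl fun m _ => ?_
    rw [Polynomial.eval_mul, Polynomial.eval_C, Polynomial.eval_pow, Polynomial.eval_X, one_pow,
      mul_one]

/-- A nonzero relation of degree at most the degree of the map is irreducible. -/
theorem al_irreducible_of_degree [IsAlgClosed k] (hK : IsFunctionField k K) (x y : K)
    (hxy : IntermediateField.adjoin k ({x, y} : Set K) = ⊤) (f : MvPolynomial (Fin 2) k)
    (hf0 : f ≠ 0) (hfxy : MvPolynomial.aeval ![x, y] f = 0)
    (hdeg : (f.totalDegree : ℤ) ≤ (mapDiv k ![(1 : K), x, y]).deg) : Irreducible f := by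
  classical
  obtain ⟨s, hs, hsf⟩ := UniqueFactorizationMonoid.exists_prime_factors f hf0
  obtain ⟨u, hu⟩ := hsf
  have h1 : MvPolynomial.aeval ![x, y] s.prod = 0 := by
    have h2 := congrArg (MvPolynomial.aeval ![x, y]) hu
    rw [map_mul, hfxy] at h2
    have hunit : IsUnit (MvPolynomial.aeval ![x, y] (u : MvPolynomial (Fin 2) k)) :=
      u.isUnit.map (MvPolynomial.aeval ![x, y])
    rcases mul_eq_zero.mp h2 with h | h
    · exact h
    · exact absurd h hunit.ne_zero
  rw [map_multiset_prod, Multiset.prod_eq_zero_iff, Multiset.mem_map] at h1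
  obtain ⟨b, hb, hb0⟩ := h1
  have hbirr : Irreducible b := (hs b hb).irreducible
  have hbdeg := ff_plane_degree hK x y hxy b hbirr hb0
  obtain ⟨q, hq⟩ : b ∣ f := by
    have h3 : b ∣ s.prod := Multiset.dvd_prod hb
    exact h3.trans ⟨u, hu.symm⟩
  have hq0 : q ≠ 0 := by
    rintro rfl
    rw [mul_zero] at hq
    exact hf0 hq
  have htd : f.totalDegree = b.totalDegree + q.totalDegree := by
    rw [hq]
    exact MvPolynomial.totalDegree_mul_of_isDomain hbirr.ne_zero hq0
  have hq' : q.totalDegree = 0 := by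
    rw [hbdeg] at hdeg
    have : (f.totalDegree : ℤ) = b.totalDegree + q.totalDegree := by exact_mod_cast htd
    omega
  obtain hqC := (MvPolynomial.totalDegree_eq_zero_iff_eq_C).mp hq'
  have hqu : IsUnit q := by
    rw [hqC]
    apply IsUnit.map
    rw [isUnit_iff_ne_zero]
    intro h0
    rw [h0, map_zero] at hqC
    exact hq0 hqC
  rw [hq]
  exact (irreducible_mul_isUnit hqu).mpr hbirr

/-- The value of `divDiff` at a place. -/
theorem al_divDiff_apply (hK : IsFunctionField k K) (hg : IsGeometric k K)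
    (Φ : Place k K → (K →ₐ[k] LaurentSeries k))
    (hΦ : ∀ P : Place k K, IsExpansionAt P.1 (Φ P)) {v : K}
    (hv : KaehlerDifferential.D k K v ≠ 0) {w : K} (hw : w ≠ 0) (Q : Place k K) :
    divDiff Φ w v Q = ordDiff (Φ Q) w v := by
  obtain ⟨W, -, hW⟩ := ff_exists_canonical_of_expansions hK hg hv Φ hΦ
  rw [ff_divDiff_eq_add_div hK hg Φ hΦ hv hW hw, Finsupp.add_apply, hW Q, ff_div_apply hK,
    ff_ordDiff_eq hK hg hv Q (Φ Q) (hΦ Q) hw]

theorem al_span_eq (x y : K) (A : Matrix (Fin 3) (Fin 3) k) (hA : A.det ≠ 0) (u : Fin 3 → K)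
    (hu : ∀ i, ∑ j, algebraMap k K (A i j) * u j = ![(1 : K), x, y] i) :
    Submodule.span k (Set.range ![(1 : K), x, y]) = Submodule.span k (Set.range u) := by
  rw [← ff_matrix_span_eq u A hA]
  congr 2
  funext i
  rw [← hu i]
  simp only [Algebra.smul_def]

/-- Nonsingularity in terms of the affine ring of new coordinates finite at `Q`. -/
theorem al_nonsing_iff (x y : K) (A : Matrix (Fin 3) (Fin 3) k) (hA : A.det ≠ 0) (u : Fin 3 → K)
    (hu : ∀ i, ∑ j, algebraMap k K (A i j) * u j = ![(1 : K), x, y] i) (hu0 : u 0 ≠ 0)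
    (Q : Place k K) (hmax : ∀ i, Q.1 (u i) ≤ Q.1 (u 0)) :
    IsNonsingularAt ![(1 : K), x, y] Q ↔
      ∀ z, Q.1 z ≤ 1 → z ∈ ff_locRing (Algebra.adjoin k ({u 1 / u 0, u 2 / u 0} : Set K)) Q := by
  rw [ff_isNonsingularAt_of_span_eq _ u (al_span_eq x y A hA u hu) Q]
  have hR : Algebra.adjoin k (Set.range fun i => u i / u 0) =
      Algebra.adjoin k ({u 1 / u 0, u 2 / u 0} : Set K) := by
    apply le_antisymm
    · refine Algebra.adjoin_le ?_
      rintro _ ⟨i, rfl⟩
      fin_cases i
      · change u 0 / u 0 ∈ _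
        rw [div_self hu0]
        exact Subalgebra.one_mem _
      · exact Algebra.subset_adjoin (by simp)
      · exact Algebra.subset_adjoin (by simp)
    · refine Algebra.adjoin_le ?_
      rintro z (rfl | rfl)
      · exact Algebra.subset_adjoin ⟨1, rfl⟩
      · exact Algebra.subset_adjoin ⟨2, rfl⟩
  unfold IsNonsingularAt
  constructor
  · intro h z hz
    have := h z hz
    rwa [ff_inLocRing_iff u Q 0 hu0 hmax, hR] at this
  · intro h z hz
    rw [ff_inLocRing_iff u Q 0 hu0 hmax, hR]
    exact h z hz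

end Groth.Agent.Lib.Helper55
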