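import Groth.Agent.Lib.Helper55.FunFld.Local

/-! Weak approximation for places of a function field (no function field hypothesis is needed). -/

set_option autoImplicit false

open FunFld

namespace Groth.Agent.Lib.Helper55

variable {k K : Type*} [Field k] [Field K] [Algebra k K]

theorem ff_val_eq_one_of_O_le {P Q : Place k K} (h : P.O ≤ Q.O) {u : K} (hu : P.1 u = 1) :
    Q.1 u = 1 := by
  have h1 : Q.1 u ≤ 1 := h (show u ∈ P.O from hu.le)
  have hu' : P.1 u⁻¹ = 1 := by rw [map_inv₀, hu, inv_one]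
  have h2 : Q.1 u⁻¹ ≤ 1 := h (show u⁻¹ ∈ P.O from hu'.le)
  have hu0 : u ≠ 0 := by
    rintro rfl
    simp at hu
  have hq0 : Q.1 u ≠ 0 := (Valuation.ne_zero_iff _).mpr hu0
  rw [map_inv₀, inv_le_one₀ (zero_lt_iff.mpr hq0)] at h2
  exact le_antisymm h1 h2

/-- A place is determined by its valuation ring; indeed valuation rings of distinct places are
incomparable. -/
theorem ff_place_eq_of_O_le {P Q : Place k K} (h : P.O ≤ Q.O) : P = Q := by
  obtain ⟨t, ht⟩ := ff_exists_uniformizer P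
  have ht0 := ff_uniformizer_ne_zero P ht
  have hqt0 : Q.1 t ≠ 0 := (Valuation.ne_zero_iff _).mpr ht0
  have hqt1 : Q.1 t ≤ 1 := h (show t ∈ P.O by
    change P.1 t ≤ 1
    rw [ht, ← WithZero.exp_zero, WithZero.exp_le_exp]; norm_num)
  -- every nonzero `z` is `t ^ n * unit`
  have key : ∀ z : K, z ≠ 0 → Q.1 z = Q.1 t ^ (P.ord z) := by
    intro z hz
    have h1 : P.1 (z * (t ^ (P.ord z))⁻¹) = 1 := by
      rw [map_mul, map_inv₀, ff_val_zpow_uniformizer P ht, ff_val_eq_exp_neg_ord P hz]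
      exact mul_inv_cancel₀ WithZero.exp_ne_zero
    have h2 := ff_val_eq_one_of_O_le h h1
    rw [map_mul, map_inv₀, map_zpow₀] at h2
    have hne : Q.1 t ^ (P.ord z) ≠ 0 := zpow_ne_zero _ hqt0
    field_simp at h2
    exact h2
  obtain ⟨z, hz⟩ := Q.2.2 (WithZero.exp (-1 : ℤ))
  have hz0 : z ≠ 0 := by
    rintro rfl
    rw [map_zero] at hz
    exact WithZero.exp_ne_zero.symm hz
  have hqt : Q.1 t = WithZero.exp (-1 : ℤ) := by
    have h3 := key z hz0
    rw [hz] at h3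
    set m := WithZero.log (Q.1 t) with hm
    have hqm : Q.1 t = WithZero.exp m := (WithZero.exp_log hqt0).symm
    have hm0 : m ≤ 0 := by
      rw [hqm, ← WithZero.exp_zero, WithZero.exp_le_exp] at hqt1
      exact hqt1
    rw [hqm, ← WithZero.exp_zsmul, WithZero.exp_inj, smul_eq_mul] at h3
    have h4 : (-m) * (P.ord z) = 1 := by linarith
    rcases Int.eq_one_or_neg_one_of_mul_eq_one h4 with h5 | h5
    · rw [hqm]; congr 1; omega
    · omega
  apply Subtype.ext
  apply Valuation.ext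
  intro z
  by_cases hz : z = 0
  · rw [hz, map_zero, map_zero]
  · rw [key z hz, hqt, ff_val_eq_exp_neg_ord P hz, ← WithZero.exp_zsmul]
    simp

/-- For two distinct places there is an element with a zero at one and a pole at the other. -/
theorem ff_exists_zero_pole_of_ne {P Q : Place k K} (h : P ≠ Q) :
    ∃ z : K, P.1 z < 1 ∧ 1 < Q.1 z := by
  have h1 : ¬ P.O ≤ Q.O := fun hle => h (ff_place_eq_of_O_le hle)
  have h2 : ¬ Q.O ≤ P.O := fun hle => h (ff_place_eq_of_O_le hle).symm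
  obtain ⟨y₂, hy₂P, hy₂Q⟩ := SetLike.not_le_iff_exists.mp h1
  obtain ⟨y₁, hy₁Q, hy₁P⟩ := SetLike.not_le_iff_exists.mp h2
  have hy₂P' : P.1 y₂ ≤ 1 := hy₂P
  have hy₁Q' : Q.1 y₁ ≤ 1 := hy₁Q
  have hy₂Q' : 1 < Q.1 y₂ := not_le.mp hy₂Q
  have hy₁P' : 1 < P.1 y₁ := not_le.mp hy₁P
  have hy₁0 : y₁ ≠ 0 := by
    rintro rfl
    simp at hy₁P'
  refine ⟨y₂ / y₁, ?_, ?_⟩
  · rw [map_div₀, div_lt_one₀ (lt_trans zero_lt_one hy₁P')]
    exact lt_of_le_of_lt hy₂P' hy₁P'
  · rw [map_div₀, one_lt_div₀ (zero_lt_iff.mpr ((Valuation.ne_zero_iff _).mpr hy₁0))]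
    exact lt_of_le_of_lt hy₁Q' hy₂Q'

open WithZero Filter in
theorem ff_eventually_one_lt_pow_mul {a c : WithZero (Multiplicative ℤ)} (ha : 1 < a)
    (hc : c ≠ 0) : ∀ᶠ m : ℕ in atTop, 1 < a ^ m * c := by
  have ha0 : a ≠ 0 := (lt_trans zero_lt_one ha).ne'
  obtain ⟨α, rfl⟩ : ∃ α, a = exp α := ⟨log a, (exp_log ha0).symm⟩
  obtain ⟨β, rfl⟩ : ∃ β, c = exp β := ⟨log c, (exp_log hc).symm⟩
  rw [← exp_zero, exp_lt_exp] at ha
  refine eventually_atTop.mpr ⟨β.natAbs + 1, fun m hm => ?_⟩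
  rw [← exp_nsmul, ← exp_add, ← exp_zero, exp_lt_exp]
  have h1 : (m : ℤ) ≥ β.natAbs + 1 := by exact_mod_cast hm
  have h2 : (m : ℤ) * α ≥ m := by nlinarith
  simp only [nsmul_eq_mul]
  omega

/-- Step 1 of weak approximation: an element with a zero at `P` and poles at all `Q ∈ s`. -/
theorem ff_exists_zero_poles (s : Finset (Place k K)) (P : Place k K) (hP : P ∉ s) :
    ∃ u : K, P.1 u < 1 ∧ ∀ Q ∈ s, 1 < Q.1 u := by
  classical
  induction s using Finset.induction_on with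
  | empty =>
    obtain ⟨t, ht⟩ := ff_exists_uniformizer P
    refine ⟨t, ?_, by simp⟩
    rw [ht, ← WithZero.exp_zero, WithZero.exp_lt_exp]; norm_num
  | insert Q s hQ ih =>
    have hPs : P ∉ s := fun h => hP (Finset.mem_insert_of_mem h)
    have hPQ : P ≠ Q := fun h => hP (h ▸ Finset.mem_insert_self _ _)
    obtain ⟨y, hyP, hys⟩ := ih hPs
    obtain ⟨z, hzP, hzQ⟩ := ff_exists_zero_pole_of_ne hPQ
    obtain ⟨y', hy'P, hy'Q, hy's⟩ :
        ∃ y', P.1 y' ≤ 1 ∧ 1 ≤ Q.1 y' ∧ ∀ Q' ∈ s, 1 < Q'.1 y' := by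
      by_cases hyQ : 1 ≤ Q.1 y
      · exact ⟨y, hyP.le, hyQ, hys⟩
      · push Not at hyQ
        refine ⟨1 + y, ?_, ?_, ?_⟩
        · exact (Valuation.map_one_add_of_lt P.1 hyP).le
        · exact (Valuation.map_one_add_of_lt Q.1 hyQ).ge
        · intro Q' hQ'
          have h1 : Q'.1 (1 : K) < Q'.1 y := by
            rw [map_one]; exact hys Q' hQ'
          rw [Valuation.map_add_eq_of_lt_right _ h1]
          exact hys Q' hQ'
    have hz0 : z ≠ 0 := by
      rintro rfl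
      simp at hzQ
    have hev : ∀ᶠ m : ℕ in Filter.atTop, ∀ Q' ∈ s, 1 < (Q'.1 y') ^ m * Q'.1 z :=
      (Filter.eventually_all_finset s).mpr fun Q' hQ' =>
        ff_eventually_one_lt_pow_mul (hy's Q' hQ') ((Valuation.ne_zero_iff _).mpr hz0)
    obtain ⟨m, hm⟩ := hev.exists
    refine ⟨y' ^ m * z, ?_, ?_⟩
    · rw [map_mul, map_pow]
      calc P.1 y' ^ m * P.1 z ≤ 1 * P.1 z := mul_le_mul' (pow_le_one' hy'P m) le_rfl
        _ = P.1 z := one_mul _
        _ < 1 := hzP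
    · intro Q' hQ'
      rcases Finset.mem_insert.mp hQ' with rfl | h
      · rw [map_mul, map_pow]
        calc 1 < Q'.1 z := hzQ
          _ = 1 * Q'.1 z := (one_mul _).symm
          _ ≤ Q'.1 y' ^ m * Q'.1 z := mul_le_mul' (one_le_pow_of_one_le' hy'Q m) le_rfl
      · rw [map_mul, map_pow]
        exact hm Q' h

open WithZero in
theorem ff_one_lt_iff {x : WithZero (Multiplicative ℤ)} : 1 < x ↔ exp (1 : ℤ) ≤ x := by
  obtain rfl | hx := eq_or_ne x 0
  · simp
  · rw [← exp_log hx, ← exp_zero, exp_lt_exp, exp_le_exp]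
    omega

open WithZero in
/-- Step 2 of weak approximation: an element close to `1` at `P` and close to `0` on `s`. -/
theorem ff_exists_approx_one (s : Finset (Place k K)) (P : Place k K) (hP : P ∉ s) (n : ℕ) :
    ∃ w : K, P.1 (w - 1) ≤ exp (-(n : ℤ)) ∧ ∀ Q ∈ s, Q.1 w ≤ exp (-(n : ℤ)) := by
  obtain ⟨u, huP, hus⟩ := ff_exists_zero_poles s P hP
  have hm : n + 1 ≠ 0 := Nat.succ_ne_zero n
  have hPum : P.1 (u ^ (n + 1)) < 1 := by
    rw [map_pow]; exact pow_lt_one' huP hm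
  have hP1 : P.1 (1 + u ^ (n + 1)) = 1 := Valuation.map_one_add_of_lt P.1 hPum
  have hne : 1 + u ^ (n + 1) ≠ 0 := by
    intro h0
    rw [h0, map_zero] at hP1
    exact zero_ne_one hP1
  have hmn : exp (-((n + 1 : ℕ) : ℤ)) ≤ exp (-(n : ℤ)) := by
    rw [exp_le_exp]; push_cast; omega
  refine ⟨(1 + u ^ (n + 1))⁻¹, ?_, ?_⟩
  · have heq : (1 + u ^ (n + 1))⁻¹ - 1 = -(u ^ (n + 1)) * (1 + u ^ (n + 1))⁻¹ := by
      field_simp
      ring
    rw [heq, map_mul, Valuation.map_neg, map_inv₀, hP1, inv_one, mul_one, map_pow]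
    refine le_trans ?_ hmn
    calc P.1 u ^ (n + 1) ≤ exp (-1 : ℤ) ^ (n + 1) := pow_le_pow_left' (ff_lt_one_iff.mp huP) _
      _ = exp (-((n + 1 : ℕ) : ℤ)) := by
        rw [← exp_nsmul]; congr 1; simp
  · intro Q hQ
    have hQu := hus Q hQ
    have hQum : Q.1 (1 : K) < Q.1 (u ^ (n + 1)) := by
      rw [map_one, map_pow]; exact one_lt_pow' hQu hm
    rw [map_inv₀, Valuation.map_add_eq_of_lt_right _ hQum, map_pow]
    refine le_trans ?_ hmn
    have h1 : exp ((n + 1 : ℕ) : ℤ) ≤ Q.1 u ^ (n + 1) := by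
      calc exp ((n + 1 : ℕ) : ℤ) = exp (1 : ℤ) ^ (n + 1) := by
            rw [← exp_nsmul]; congr 1; simp
        _ ≤ Q.1 u ^ (n + 1) := pow_le_pow_left' (ff_one_lt_iff.mp hQu) _
    rw [exp_neg]
    exact inv_anti₀ exp_pos h1

open WithZero Filter in
theorem ff_exists_nat_bound (s : Finset (Place k K)) (d : K) (γ : Place k K → ℤ) :
    ∃ N : ℕ, ∀ R ∈ s, exp (-(N : ℤ)) * R.1 d ≤ exp (γ R) := by
  have hev : ∀ᶠ N : ℕ in atTop, ∀ R ∈ s, exp (-(N : ℤ)) * R.1 d ≤ exp (γ R) := by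
    refine (eventually_all_finset s).mpr fun R _ => ?_
    obtain h0 | h0 := eq_or_ne (R.1 d) 0
    · refine Eventually.of_forall fun N => ?_
      rw [h0, mul_zero]; exact zero_le
    · refine eventually_atTop.mpr ⟨(log (R.1 d) - γ R).toNat, fun N hN => ?_⟩
      rw [← exp_log h0, ← exp_add, exp_le_exp]
      have : (log (R.1 d) - γ R) ≤ N := by
        have := Int.self_le_toNat (log (R.1 d) - γ R)
        have h2 : ((log (R.1 d) - γ R).toNat : ℤ) ≤ N := by exact_mod_cast hN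
        omega
      omega
  exact hev.exists

open WithZero in
/-- Weak approximation: simultaneous approximation at finitely many places. -/
theorem ff_weak_approx_le (s : Finset (Place k K)) (y : Place k K → K) (γ : Place k K → ℤ) :
    ∃ z : K, ∀ P ∈ s, P.1 (z - y P) ≤ exp (γ P) := by
  classical
  induction s using Finset.induction_on with
  | empty => exact ⟨0, by simp⟩
  | insert P s hP ih =>
    obtain ⟨z', hz'⟩ := ih
    obtain ⟨N, hN⟩ := ff_exists_nat_bound (insert P s) (y P - z') γ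
    obtain ⟨w, hwP, hws⟩ := ff_exists_approx_one s P hP N
    refine ⟨z' + (y P - z') * w, ?_⟩
    intro Q hQ
    rcases Finset.mem_insert.mp hQ with rfl | hQs
    · have : z' + (y Q - z') * w - y Q = (y Q - z') * (w - 1) := by ring
      rw [this, map_mul, mul_comm]
      calc Q.1 (w - 1) * Q.1 (y Q - z') ≤ exp (-(N : ℤ)) * Q.1 (y Q - z') :=
            mul_le_mul' hwP le_rfl
        _ ≤ exp (γ Q) := hN Q (Finset.mem_insert_self _ _)
    · have : z' + (y P - z') * w - y Q = (z' - y Q) + (y P - z') * w := by ring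
      rw [this]
      refine le_trans (Q.1.map_add _ _) (max_le (hz' Q hQs) ?_)
      rw [map_mul, mul_comm]
      calc Q.1 w * Q.1 (y P - z') ≤ exp (-(N : ℤ)) * Q.1 (y P - z') :=
            mul_le_mul' (hws Q hQs) le_rfl
        _ ≤ exp (γ Q) := hN Q hQ

open WithZero in
/-- Weak approximation with exact valuations. -/
theorem ff_weak_approx_eq (s : Finset (Place k K)) (y : Place k K → K) (γ : Place k K → ℤ) :
    ∃ z : K, ∀ P ∈ s, P.1 (z - y P) = exp (γ P) := by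
  obtain ⟨z₁, hz₁⟩ := ff_weak_approx_le s y (fun P => γ P - 1)
  choose c hc using fun P : Place k K => P.2.2 (exp (γ P))
  obtain ⟨z₂, hz₂⟩ := ff_weak_approx_le s c (fun P => γ P - 1)
  refine ⟨z₁ + z₂, fun P hP => ?_⟩
  have h1 : P.1 (z₁ - y P) < exp (γ P) := ff_lt_exp_iff.mpr (hz₁ P hP)
  have h2 : P.1 (z₂ - c P) < exp (γ P) := ff_lt_exp_iff.mpr (hz₂ P hP)
  have h3 : P.1 z₂ = exp (γ P) := by
    have : z₂ = c P + (z₂ - c P) := by ring
    rw [this, Valuation.map_add_eq_of_lt_left _ (by rw [hc]; exact h2), hc]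
  have : z₁ + z₂ - y P = z₂ + (z₁ - y P) := by ring
  rw [this, Valuation.map_add_eq_of_lt_left _ (by rw [h3]; exact h1), h3]

end Groth.Agent.Lib.Helper55
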