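import Groth.Agent.Lib.Helper55.FunFld.LaurentTate
import Groth.Agent.Lib.Helper55.Tate.Excision
import Groth.Agent.Lib.Helper63.ExpSep

/-! Comparison: the Tate residue at a place equals the residue read through a Laurent expansion. -/

set_option autoImplicit false

open FunFld Module LocRes LaurentSeries

namespace Groth.Agent.Lib.Helper55

open Tate

variable {k K : Type*} [Field k] [Field K] [Algebra k K]

attribute [-instance] HahnSeries.instModule

/-- Every Laurent series is the expansion of an element of `K` up to a power series. -/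
theorem ff_exp_dense (P : Place k K) {F : Type*} [Field F] [Algebra k F]
    (φ : K →ₐ[k] F⸨X⸩) (hφ : IsExpansionAt P.1 φ) :
    ∀ (n : ℕ) (q : F⸨X⸩), Valued.v q ≤ WithZero.exp (n : ℤ) →
      ∃ s : K, Valued.v (q - φ s) ≤ 1 := by
  intro n
  induction n with
  | zero =>
    intro q hq
    exact ⟨0, by simpa using hq⟩
  | succ n ih =>
    intro q hq
    by_cases hq0 : q = 0
    · exact ⟨0, by rw [hq0]; simp⟩
    · obtain ⟨s₁, hs₁⟩ := Groth.Agent.Lib.Helper63.ExpSep.exists_val_sub_lt P φ hφ hq0
      have h1 : Valued.v (q - φ s₁) ≤ WithZero.exp (n : ℤ) := by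
        have h2 : Valued.v (q - φ s₁) < WithZero.exp ((n + 1 : ℕ) : ℤ) := by
          rw [← Valuation.map_neg, neg_sub]
          exact lt_of_lt_of_le hs₁ hq
        rw [ff_lt_exp_iff] at h2
        simpa using h2
      obtain ⟨s₂, hs₂⟩ := ih _ h1
      refine ⟨s₁ + s₂, ?_⟩
      rw [map_add, ← sub_sub]
      exact hs₂

theorem ff_tres_eq_locRes (hK : IsFunctionField k K) (P : Place k K) {F : Type*} [Field F]
    [Algebra k F] [FiniteDimensional k F] (φ : K →ₐ[k] F⸨X⸩) (hφ : IsExpansionAt P.1 φ)
    {ρ : K →ₗ[k] K} (hρ : LinearMap.IsProj (ff_ball P 0) ρ) (u v : K) :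
    ff_tres ρ u v = locRes φ u v := by
  have key : ff_tres ρ u v = ff_tres (ls_trunc k F) (φ u) (φ v) := by
    unfold ff_tres
    refine tres_excision φ.toLinearMap φ.toRingHom.injective ?_ ?_ hρ (ls_trunc_isProj k F)
      (ff_isE_mulK hK P u) (ff_isE_mulK hK P v)
      (ffg_isE_mulK (lsPlace k F) (ls_near k F) (φ u))
      (ffg_isE_mulK (lsPlace k F) (ls_near k F) (φ v)) ?_ ?_ ?_ ?_
    · ext y
      rw [Submodule.mem_comap, ff_mem_ball, ff_mem_ball, lsPlace_val]
      change _ ↔ Valued.v (φ y) ≤ _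
      rw [hφ.1]
    · rw [eq_top_iff]
      intro q _
      obtain ⟨n, hn⟩ : ∃ n : ℕ, Valued.v q ≤ WithZero.exp (n : ℤ) := by
        obtain ⟨m, hm⟩ := ls_exists_val_le F q
        exact ⟨m.toNat, hm.trans (WithZero.exp_le_exp.mpr (Int.self_le_toNat m))⟩
      obtain ⟨s, hs⟩ := ff_exp_dense P φ hφ n q hn
      have : q = φ.toLinearMap s + (q - φ s) := by
        rw [AlgHom.toLinearMap_apply]; ring
      rw [this]
      refine Submodule.add_mem_sup ⟨s, rfl⟩ ?_
      rw [ff_mem_ball, lsPlace_val, WithZero.exp_zero]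
      exact hs
    · intro y
      simp only [ff_mulK_apply]
      ring
    · intro y
      simp only [ff_mulK_apply]
      ring
    · intro y
      simp only [ff_mulK_apply, AlgHom.toLinearMap_apply, map_mul]
    · intro y
      simp only [ff_mulK_apply, AlgHom.toLinearMap_apply, map_mul]
  rw [key, ls_tres_eq]
  rfl

end Groth.Agent.Lib.Helper55
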