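import Groth.Agent.Lib.Helper55.FunFld.Residue
import Mathlib.RingTheory.Valuation.Discrete.IsDiscreteValuationRing
import Mathlib.RingTheory.Valuation.LocalSubring

/-!
# Valuation rings of a function field of one variable are discrete (helper55 library)
-/

set_option autoImplicit false

namespace Groth.Agent.Lib.Helper55

open FunFld Polynomial

variable {k K : Type*} [Field k] [Field K] [Algebra k K]

section chain

variable {Γ : Type*} [LinearOrderedCommGroupWithZero Γ] (v : Valuation K Γ)

theorem ff_gen_val_aeval_le_one (hv : ∀ c : k, v (algebraMap k K c) ≤ 1) {t : K} (ht : v t ≤ 1)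
    (q : k[X]) : v (aeval t q) ≤ 1 := by
  rw [aeval_def, eval₂_eq_sum_range]
  refine v.map_sum_le fun i _ => ?_
  rw [map_mul, map_pow]
  exact mul_le_one' (hv _) (pow_le_one' ht i)

theorem ff_gen_val_const (hv : ∀ c : k, v (algebraMap k K c) ≤ 1) {c : k} (hc : c ≠ 0) :
    v (algebraMap k K c) = 1 := by
  apply le_antisymm (hv c)
  have h1 := hv c⁻¹
  have hne : algebraMap k K c ≠ 0 := by simpa using hc
  rw [map_inv₀, map_inv₀] at h1
  have hv0 : v (algebraMap k K c) ≠ 0 := (Valuation.ne_zero_iff _).mpr hne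
  by_contra hlt
  rw [not_le] at hlt
  have : 1 < (v (algebraMap k K c))⁻¹ := (one_lt_inv₀ (zero_lt_iff.mpr hv0)).mpr hlt
  exact absurd h1 (not_le.mpr this)

theorem ff_gen_val_aeval_eq_one (hv : ∀ c : k, v (algebraMap k K c) ≤ 1) {t : K} (ht : v t < 1)
    {q : k[X]} (hq : q.coeff 0 ≠ 0) : v (aeval t q) = 1 := by
  conv_lhs => rw [← divX_mul_X_add q]
  simp only [map_add, map_mul, aeval_X, aeval_C]
  have h1 : v (aeval t q.divX * t) < v (algebraMap k K (q.coeff 0)) := by
    rw [ff_gen_val_const v hv hq, map_mul]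
    calc v (aeval t q.divX) * v t ≤ 1 * v t :=
          mul_le_mul' (ff_gen_val_aeval_le_one v hv ht.le _) le_rfl
      _ = v t := one_mul _
      _ < 1 := ht
  rw [Valuation.map_add_eq_of_lt_right v h1, ff_gen_val_const v hv hq]

theorem ff_gen_val_aeval_le (hv : ∀ c : k, v (algebraMap k K c) ≤ 1) {t : K} (ht : v t < 1)
    {q : k[X]} (hq : q.coeff 0 = 0) : v (aeval t q) ≤ v t := by
  conv_lhs => rw [← divX_mul_X_add q, hq]
  simp only [map_add, map_mul, aeval_X, aeval_C, map_zero, add_zero]
  calc v (aeval t q.divX) * v t ≤ 1 * v t :=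
        mul_le_mul' (ff_gen_val_aeval_le_one v hv ht.le _) le_rfl
    _ = v t := one_mul _

/-- Chain lemma: elements with pairwise distinct values in `[v t, 1)` are linearly independent
over `k(t)`. -/
theorem ff_linearIndependent_of_val_injective (hv : ∀ c : k, v (algebraMap k K c) ≤ 1)
    {ι : Type*} [Fintype ι] {t : K} (ht0 : t ≠ 0) (ht1 : v t < 1)
    (z : ι → K) (hz1 : ∀ i, v (z i) < 1) (hzt : ∀ i, v t ≤ v (z i))
    (hinj : Function.Injective (fun i => v (z i))) :
    LinearIndependent (IntermediateField.adjoin k ({t} : Set K)) z := by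
  classical
  refine ff_linearIndependent_of_coeff_zero ht0 z ?_
  intro p hrel
  by_contra hne
  push Not at hne
  obtain ⟨i₀, hi₀⟩ := hne
  let J : Finset ι := Finset.univ.filter fun i => (p i).coeff 0 ≠ 0
  have hJ : J.Nonempty := ⟨i₀, by simp [J, hi₀]⟩
  obtain ⟨j, hjJ, hjmax⟩ := Finset.exists_max_image J (fun i => v (z i)) hJ
  have hj : (p j).coeff 0 ≠ 0 := by simpa [J] using hjJ
  have hvt0 : v t ≠ 0 := (Valuation.ne_zero_iff _).mpr ht0
  have hvzj0 : v (z j) ≠ 0 := by
    intro h0
    have := hzt j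
    rw [h0] at this
    exact hvt0 (le_antisymm this zero_le')
  have hterm_j : v (aeval t (p j) * z j) = v (z j) := by
    rw [map_mul, ff_gen_val_aeval_eq_one v hv ht1 hj, one_mul]
  have hterm : ∀ i ∈ Finset.univ.erase j, v (aeval t (p i) * z i) < v (z j) := by
    intro i hi
    have hij : i ≠ j := (Finset.mem_erase.mp hi).1
    rw [map_mul]
    by_cases hci : (p i).coeff 0 = 0
    · calc v (aeval t (p i)) * v (z i) ≤ v t * v (z i) :=
            mul_le_mul' (ff_gen_val_aeval_le v hv ht1 hci) le_rfl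
        _ < v t * 1 := by
            exact (mul_lt_mul_iff_right₀ (zero_lt_iff.mpr hvt0)).mpr (hz1 i)
        _ = v t := mul_one _
        _ ≤ v (z j) := hzt j
    · have hiJ : i ∈ J := by simp [J, hci]
      rw [ff_gen_val_aeval_eq_one v hv ht1 hci, one_mul]
      refine lt_of_le_of_ne (hjmax i hiJ) ?_
      intro heq
      exact hij (hinj heq)
  have hsum : ∑ i, aeval t (p i) * z i =
      aeval t (p j) * z j + ∑ i ∈ Finset.univ.erase j, aeval t (p i) * z i :=
    (Finset.add_sum_erase _ _ (Finset.mem_univ j)).symm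
  have hlt : v (∑ i ∈ Finset.univ.erase j, aeval t (p i) * z i) < v (aeval t (p j) * z j) := by
    rw [hterm_j]
    exact v.map_sum_lt hvzj0 hterm
  have hval : v (∑ i, aeval t (p i) * z i) = v (z j) := by
    rw [hsum, Valuation.map_add_eq_of_lt_left v hlt, hterm_j]
  rw [hrel, map_zero] at hval
  exact hvzj0 hval.symm

end chain

section DVR

variable (hK : IsFunctionField k K) (O : ValuationSubring K)
  (hkO : ∀ c : k, algebraMap k K c ∈ O)

include hkO in
theorem ff_vs_val_const_le (c : k) : O.valuation (algebraMap k K c) ≤ 1 :=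
  (O.valuation_le_one_iff _).mpr (hkO c)

include hK hkO

theorem ff_vs_transcendental {t : K} (ht0 : t ≠ 0) (ht : O.valuation t < 1) :
    Transcendental k t := by
  intro halg
  obtain ⟨c, rfl⟩ := hK.2 t halg
  have hc : c ≠ 0 := by
    rintro rfl
    exact ht0 (map_zero _)
  rw [ff_gen_val_const O.valuation (ff_vs_val_const_le O hkO) hc] at ht
  exact lt_irrefl _ ht

/-- The set of values in `[v t, 1)` is finite. -/
theorem ff_vs_finite_values {t : K} (ht0 : t ≠ 0) (ht : O.valuation t < 1) :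
    {γ : O.ValueGroup | ∃ z : K, O.valuation z = γ ∧ O.valuation t ≤ γ ∧ γ < 1}.Finite := by
  classical
  have htr := ff_vs_transcendental hK O hkO ht0 ht
  haveI := ff_finite_of_transcendental hK htr
  by_contra hinf
  rw [← Set.Infinite] at hinf
  obtain ⟨T, hTs, hTc⟩ := hinf.exists_subset_card_eq
    (Module.finrank (IntermediateField.adjoin k ({t} : Set K)) K + 1)
  have hex : ∀ γ : T, ∃ z : K, O.valuation z = γ.1 ∧ O.valuation t ≤ γ.1 ∧ γ.1 < 1 :=
    fun γ => hTs γ.2
  choose z hz using hex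
  have hli : LinearIndependent (IntermediateField.adjoin k ({t} : Set K)) z := by
    refine ff_linearIndependent_of_val_injective O.valuation (ff_vs_val_const_le O hkO)
      ht0 ht z (fun i => ?_) (fun i => ?_) ?_
    · rw [(hz i).1]; exact (hz i).2.2
    · rw [(hz i).1]; exact (hz i).2.1
    · intro i j hij
      simp only [(hz i).1, (hz j).1] at hij
      exact Subtype.ext hij
  have := hli.fintype_card_le_finrank
  simp only [Fintype.card_coe] at this
  omega

/-- The set of values in `[v x, 1]` is finite for `x ≠ 0` in the valuation ring. -/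
theorem ff_vs_finite_values' {x : K} (hx0 : x ≠ 0) (hx : O.valuation x ≤ 1) :
    {γ : O.ValueGroup | ∃ z : K, O.valuation z = γ ∧ O.valuation x ≤ γ ∧ γ ≤ 1}.Finite := by
  rcases lt_or_eq_of_le hx with hlt | heq
  · refine ((ff_vs_finite_values hK O hkO hx0 hlt).union (Set.finite_singleton 1)).subset ?_
    rintro γ ⟨z, hz, h1, h2⟩
    rcases lt_or_eq_of_le h2 with h3 | h3
    · exact Or.inl ⟨z, hz, h1, h3⟩
    · exact Or.inr h3
  · refine (Set.finite_singleton (1 : O.ValueGroup)).subset ?_
    rintro γ ⟨z, hz, h1, h2⟩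
    rw [heq] at h1
    exact le_antisymm h2 h1

theorem ff_vs_isPrincipalIdealRing : IsPrincipalIdealRing O := by
  classical
  refine ⟨fun I => ?_⟩
  by_cases hI : I = ⊥
  · exact ⟨⟨0, by rw [hI]; simp⟩⟩
  obtain ⟨x, hxI, hx0⟩ := Submodule.exists_mem_ne_zero_of_ne_bot hI
  have hxK0 : (x : K) ≠ 0 := fun h => hx0 (Subtype.ext h)
  have hxle : O.valuation (x : K) ≤ 1 := (O.valuation_le_one_iff _).mpr x.2
  let S : Set O.ValueGroup :=
    {γ | ∃ y ∈ I, O.valuation (y : K) = γ ∧ O.valuation (x : K) ≤ γ}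
  have hSfin : S.Finite := by
    refine (ff_vs_finite_values' hK O hkO hxK0 hxle).subset ?_
    rintro γ ⟨y, -, hy, hxy⟩
    exact ⟨y, hy, hxy, hy ▸ (O.valuation_le_one_iff _).mpr y.2⟩
  have hSne : S.Nonempty := ⟨_, x, hxI, rfl, le_rfl⟩
  obtain ⟨γ, hγS', hγmax'⟩ := Finset.exists_max_image hSfin.toFinset id
    ((Set.Finite.toFinset_nonempty hSfin).mpr hSne)
  have hγS : γ ∈ S := (Set.Finite.mem_toFinset hSfin).mp hγS'
  have hγmax : ∀ γ' ∈ S, γ' ≤ γ := fun γ' h => hγmax' γ' ((Set.Finite.mem_toFinset hSfin).mpr h)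
  obtain ⟨y₀, hy₀I, hy₀, hxy₀⟩ := hγS
  have hy₀K0 : (y₀ : K) ≠ 0 := by
    intro h0
    rw [h0, map_zero] at hy₀
    rw [← hy₀] at hxy₀
    exact (Valuation.ne_zero_iff _).mpr hxK0 (le_antisymm hxy₀ zero_le')
  refine ⟨⟨y₀, ?_⟩⟩
  apply le_antisymm
  · intro y hyI
    have hle : O.valuation (y : K) ≤ O.valuation (y₀ : K) := by
      by_cases hxy : O.valuation (x : K) ≤ O.valuation (y : K)
      · have hyS : O.valuation (y : K) ∈ S := ⟨y, hyI, rfl, hxy⟩
        rw [hy₀]
        exact hγmax _ hyS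
      · rw [not_le] at hxy
        rw [hy₀]
        exact hxy.le.trans hxy₀
    have hdiv : (y : K) / (y₀ : K) ∈ O := by
      rw [← O.valuation_le_one_iff, map_div₀]
      exact div_le_one_of_le₀ hle zero_le'
    rw [Ideal.submodule_span_eq, Ideal.mem_span_singleton']
    refine ⟨⟨_, hdiv⟩, Subtype.ext ?_⟩
    simp only [MulMemClass.coe_mul]
    field_simp
  · rw [Ideal.submodule_span_eq, Ideal.span_le, Set.singleton_subset_iff]
    exact hy₀I

/-- Every valuation ring of `K/k` other than `K` is the valuation ring of a place. -/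
theorem ff_exists_place_of_valuationSubring (hO : O ≠ ⊤) : ∃ P : Place k K, P.O = O := by
  have hex : ∃ x : K, x ∉ O := by
    by_contra hcon
    push Not at hcon
    exact hO (eq_top_iff.mpr fun x _ => hcon x)
  obtain ⟨x, hx⟩ := hex
  have hx0 : x ≠ 0 := fun h => hx (h ▸ O.zero_mem)
  have hxinv : x⁻¹ ∈ O := (O.mem_or_inv_mem x).resolve_left hx
  have hvx : 1 < O.valuation x := by
    rw [← not_le, O.valuation_le_one_iff]; exact hx
  have hvt : O.valuation x⁻¹ < 1 := by
    rw [map_inv₀]
    exact inv_lt_one_of_one_lt₀ hvx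
  haveI := ff_vs_isPrincipalIdealRing hK O hkO
  haveI : IsDiscreteValuationRing O :=
    { not_a_field' := by
        intro hbot
        have hmem : (⟨x⁻¹, hxinv⟩ : O) ∈ IsLocalRing.maximalIdeal O := by
          rw [ValuationSubring.valuation_lt_one_iff]; exact hvt
        rw [hbot, Ideal.mem_bot] at hmem
        exact inv_ne_zero hx0 (congrArg Subtype.val hmem) }
  let w : Valuation K (WithZero (Multiplicative ℤ)) :=
    (IsDiscreteValuationRing.maximalIdeal O).valuation K
  refine ⟨⟨w, ⟨fun c => ?_, ?_⟩⟩, ?_⟩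
  · exact IsDedekindDomain.HeightOneSpectrum.valuation_le_one _ (⟨algebraMap k K c, hkO c⟩ : O)
  · exact IsDedekindDomain.HeightOneSpectrum.valuation_surjective K _
  · apply ValuationSubring.ext
    intro y
    constructor
    · intro hy
      obtain ⟨a, ha⟩ := IsDiscreteValuationRing.exists_lift_of_le_one (A := O) (K := K) hy
      rw [← ha]
      exact a.2
    · intro hy
      exact IsDedekindDomain.HeightOneSpectrum.valuation_le_one _ (⟨y, hy⟩ : O)

end DVR

end Groth.Agent.Lib.Helper55
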