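import Groth.Agent.Lib.Helper55.FunFld.Approx
import Groth.Agent.Lib.Helper55.FunFld.Adele

/-! The fundamental inequality `∑ ord_P(t) deg P ≤ [K : k(t)]` and finiteness of zeros/poles. -/

set_option autoImplicit false

open FunFld Module Polynomial

namespace Groth.Agent.Lib.Helper55

variable {k K : Type*} [Field k] [Field K] [Algebra k K]

/-- Independence criterion from several places. -/
theorem ff_linearIndependent_of_places {ι : Type*} [Fintype ι] (s : Finset (Place k K)) {t : K}
    (ht0 : t ≠ 0) (ht : ∀ P ∈ s, P.1 t ≤ 1) (z : ι → K)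
    (hz : ∀ i, ∀ P ∈ s, P.1 (z i) ≤ 1)
    (hind : ∀ a : ι → k,
      (∀ P ∈ s, P.1 (∑ i, algebraMap k K (a i) * z i) ≤ P.1 t) → a = 0) :
    LinearIndependent (IntermediateField.adjoin k ({t} : Set K)) z := by
  refine ff_linearIndependent_of_coeff_zero ht0 z ?_
  intro p hrel
  set S := ∑ i, aeval t ((p i).divX) * z i with hS
  have hSO : ∀ P ∈ s, P.1 S ≤ 1 := by
    intro P hP
    have : S ∈ P.O := by
      refine sum_mem fun i _ => mul_mem (ff_aeval_mem_O P (ht P hP) _) (hz i P hP)
    exact this
  have hsplit : ∑ i, aeval t (p i) * z i =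
      t * S + ∑ i, algebraMap k K ((p i).coeff 0) * z i := by
    rw [hS, Finset.mul_sum, ← Finset.sum_add_distrib]
    refine Finset.sum_congr rfl fun i _ => ?_
    conv_lhs => rw [← divX_mul_X_add (p i)]
    simp only [map_add, map_mul, aeval_X, aeval_C]
    ring
  rw [hsplit] at hrel
  have hsum : ∑ i, algebraMap k K ((p i).coeff 0) * z i = -(t * S) := by
    rw [eq_neg_iff_add_eq_zero, add_comm]; exact hrel
  have hle : ∀ P ∈ s, P.1 (∑ i, algebraMap k K ((p i).coeff 0) * z i) ≤ P.1 t := by
    intro P hP
    rw [hsum, Valuation.map_neg, map_mul]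
    calc P.1 t * P.1 S ≤ P.1 t * 1 := mul_le_mul' le_rfl (hSO P hP)
      _ = P.1 t := mul_one _
  have ha := hind _ hle
  intro i
  exact congrFun ha i

theorem ff_deg_sum {ι : Type*} (s : Finset ι) (f : ι → Divisor k K) :
    (∑ i ∈ s, f i).deg = ∑ i ∈ s, (f i).deg := by
  classical
  induction s using Finset.induction_on with
  | empty => simp [ff_deg_zero]
  | insert a s ha ih => rw [Finset.sum_insert ha, Finset.sum_insert ha, ff_deg_add, ih]

/-- The divisor `∑_{P ∈ s} ord_P(t) P`. -/
noncomputable def ff_zeroDiv (s : Finset (Place k K)) (t : K) : Divisor k K :=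
  ∑ P ∈ s, Finsupp.single P (P.ord t)

theorem ff_zeroDiv_apply_mem (s : Finset (Place k K)) (t : K) {P : Place k K} (hP : P ∈ s) :
    ff_zeroDiv s t P = P.ord t := by
  classical
  simp only [ff_zeroDiv, Finsupp.finsetSum_apply, Finsupp.single_apply]
  rw [Finset.sum_ite_eq' s P]
  simp [hP]

theorem ff_zeroDiv_apply_not_mem (s : Finset (Place k K)) (t : K) {P : Place k K} (hP : P ∉ s) :
    ff_zeroDiv s t P = 0 := by
  classical
  simp only [ff_zeroDiv, Finsupp.finsetSum_apply, Finsupp.single_apply]
  rw [Finset.sum_ite_eq' s P]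
  simp [hP]

theorem ff_deg_zeroDiv (s : Finset (Place k K)) (t : K) :
    (ff_zeroDiv s t).deg = ∑ P ∈ s, P.ord t * (P.deg : ℤ) := by
  rw [ff_zeroDiv, ff_deg_sum]
  exact Finset.sum_congr rfl fun P _ => ff_deg_single P _

/-- The fundamental inequality: `∑_{P ∈ s} ord_P(t) deg P ≤ [K : k(t)]` for zeros `s` of `t`. -/
theorem ff_sum_ord_mul_deg_le (hK : IsFunctionField k K) {t : K} (ht : Transcendental k t)
    (s : Finset (Place k K)) (hs : ∀ P ∈ s, P.1 t < 1) :
    ∑ P ∈ s, P.ord t * (P.deg : ℤ) ≤
      (finrank (IntermediateField.adjoin k ({t} : Set K)) K : ℤ) := by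
  classical
  have ht0 : t ≠ 0 := fun h => ht (h ▸ isAlgebraic_zero)
  have := ff_finite_of_transcendental hK ht
  set D₁ : Divisor k K := -ff_zeroDiv s t with hD₁def
  have hD₁s : ∀ P ∈ s, WithZero.exp (D₁ P) = P.1 t := by
    intro P hP
    rw [ff_val_eq_exp_neg_ord P ht0]
    congr 1
    simp [D₁, ff_zeroDiv_apply_mem s t hP]
  have hD₁ns : ∀ P, P ∉ s → D₁ P = 0 := by
    intro P hP
    simp [D₁, ff_zeroDiv_apply_not_mem s t hP]
  have hD₁ : D₁ ≤ 0 := by
    intro P
    by_cases hP : P ∈ s
    · have := (ff_ord_pos_iff P ht0).mpr (hs P hP)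
      simp [D₁, ff_zeroDiv_apply_mem s t hP]
      omega
    · rw [hD₁ns P hP]; rfl
  obtain ⟨hfd, hrk⟩ := ff_AD_quot hK D₁ 0 hD₁
  have hle : finrank k (↥(AD (0 : Divisor k K)) ⧸ (AD D₁).comap (AD (0 : Divisor k K)).subtype) ≤
      finrank (IntermediateField.adjoin k ({t} : Set K)) K := by
    let b := Module.finBasis k
      (↥(AD (0 : Divisor k K)) ⧸ (AD D₁).comap (AD (0 : Divisor k K)).subtype)
    have hsurj := Submodule.mkQ_surjective ((AD D₁).comap (AD (0 : Divisor k K)).subtype)
    choose a ha using fun i => hsurj (b i)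
    have hap : ∀ i, ∃ z : K, ∀ P ∈ s, P.1 (z - (a i).1 P) ≤ WithZero.exp (D₁ P) :=
      fun i => ff_weak_approx_le s (fun P => (a i).1 P) (fun P => D₁ P)
    choose z hz using hap
    have ha0 : ∀ i (P : Place k K), P.1 ((a i).1 P) ≤ 1 := by
      intro i P
      have := (a i).2 P
      simpa using this
    have hli : LinearIndependent (IntermediateField.adjoin k ({t} : Set K)) z := by
      refine ff_linearIndependent_of_places s ht0 (fun P hP => (hs P hP).le) z ?_ ?_
      · intro i P hP
        have : z i = (z i - (a i).1 P) + (a i).1 P := by ring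
        rw [this]
        refine le_trans (P.1.map_add _ _) (max_le ?_ (ha0 i P))
        exact (hz i P hP).trans (by rw [hD₁s P hP]; exact (hs P hP).le)
      · intro c hc
        have hmem : ((∑ i, c i • a i : ↥(AD (0 : Divisor k K))) : Place k K → K) ∈ AD D₁ := by
          intro P
          by_cases hP : P ∈ s
          · have hval : ((∑ i, c i • a i : ↥(AD (0 : Divisor k K))) : Place k K → K) P =
                ∑ i, algebraMap k K (c i) * z i -
                  ∑ i, algebraMap k K (c i) * (z i - (a i).1 P) := by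
              rw [← Finset.sum_sub_distrib]
              simp only [Submodule.coe_sum, Submodule.coe_smul, Finset.sum_apply, Pi.smul_apply]
              refine Finset.sum_congr rfl fun i _ => ?_
              rw [Algebra.smul_def]
              ring
            rw [hval]
            refine le_trans (Valuation.map_sub _ _ _) (max_le ?_ ?_)
            · rw [hD₁s P hP]; exact hc P hP
            · refine Valuation.map_sum_le _ (fun i _ => ?_)
              rw [map_mul]
              calc P.1 (algebraMap k K (c i)) * P.1 (z i - (a i).1 P)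
                  ≤ 1 * WithZero.exp (D₁ P) := mul_le_mul' (P.2.1 _) (hz i P hP)
                _ = _ := one_mul _
          · rw [hD₁ns P hP]
            exact (∑ i, c i • a i : ↥(AD (0 : Divisor k K))).2 P
        have hzero : ∑ i, c i • b i = 0 := by
          have h1 : ∑ i, c i • b i =
              ((AD D₁).comap (AD (0 : Divisor k K)).subtype).mkQ (∑ i, c i • a i) := by
            rw [map_sum]
            refine Finset.sum_congr rfl fun i _ => ?_
            rw [map_smul, ha]
          rw [h1, Submodule.mkQ_apply, Submodule.Quotient.mk_eq_zero]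
          exact hmem
        exact funext (Fintype.linearIndependent_iff.mp b.linearIndependent c hzero)
    have := hli.fintype_card_le_finrank
    simpa using this
  have heq : (finrank k (↥(AD (0 : Divisor k K)) ⧸
      (AD D₁).comap (AD (0 : Divisor k K)).subtype) : ℤ) = ∑ P ∈ s, P.ord t * (P.deg : ℤ) := by
    rw [hrk, ff_deg_zero, hD₁def, ff_deg_neg, ff_deg_zeroDiv]; ring
  rw [← heq]
  exact_mod_cast hle

theorem ff_deg_pos (hK : IsFunctionField k K) (P : Place k K) : 0 < P.deg := by
  have := ff_finiteDimensional_residueField hK P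
  exact Module.finrank_pos

/-- A transcendental element has finitely many zeros. -/
theorem ff_finite_zeros (hK : IsFunctionField k K) {t : K} (ht : Transcendental k t) :
    {P : Place k K | P.1 t < 1}.Finite := by
  classical
  have ht0 : t ≠ 0 := fun h => ht (h ▸ isAlgebraic_zero)
  by_contra hinf
  rw [← Set.Infinite] at hinf
  obtain ⟨s, hs, hcard⟩ := hinf.exists_subset_card_eq
    (finrank (IntermediateField.adjoin k ({t} : Set K)) K + 1)
  have h1 := ff_sum_ord_mul_deg_le hK ht s (fun P hP => hs hP)
  have h2 : (s.card : ℤ) ≤ ∑ P ∈ s, P.ord t * (P.deg : ℤ) := by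
    rw [Finset.card_eq_sum_ones, Nat.cast_sum]
    refine Finset.sum_le_sum fun P hP => ?_
    have h3 := (ff_ord_pos_iff P ht0).mpr (hs hP)
    have h4 : (1 : ℤ) ≤ P.deg := by exact_mod_cast ff_deg_pos hK P
    push_cast
    nlinarith
  rw [hcard] at h2
  push_cast at h2
  omega

theorem ff_transcendental_inv {t : K} (ht : Transcendental k t) : Transcendental k t⁻¹ :=
  fun h => ht (by simpa using h.inv)

/-- A transcendental element has finitely many poles. -/
theorem ff_finite_poles (hK : IsFunctionField k K) {t : K} (ht : Transcendental k t) :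
    {P : Place k K | 1 < P.1 t}.Finite := by
  have ht0 : t ≠ 0 := fun h => ht (h ▸ isAlgebraic_zero)
  refine (ff_finite_zeros hK (ff_transcendental_inv ht)).subset ?_
  intro P hP
  have hP' : 1 < P.1 t := hP
  change P.1 t⁻¹ < 1
  rw [map_inv₀]
  exact inv_lt_one_of_one_lt₀ hP'

/-- An element of a function field has finitely many zeros and poles. -/
theorem ff_finite_support_ord (hK : IsFunctionField k K) (x : K) :
    (Function.support fun P : Place k K => P.ord x).Finite := by
  by_cases hx : x ∈ Set.range (algebraMap k K)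
  · obtain ⟨c, rfl⟩ := hx
    have : (Function.support fun P : Place k K => P.ord (algebraMap k K c)) = ∅ := by
      ext P
      simp [ff_ord_const]
    rw [this]
    exact Set.finite_empty
  · have ht := ff_transcendental_of_not_mem_range hK hx
    have hx0 : x ≠ 0 := fun h => ht (h ▸ isAlgebraic_zero)
    refine ((ff_finite_zeros hK ht).union (ff_finite_poles hK ht)).subset ?_
    intro P hP
    have hP' : P.ord x ≠ 0 := hP
    rcases lt_or_gt_of_ne hP' with h | h
    · exact Or.inr ((ff_ord_neg_iff P hx0).mp h)
    · exact Or.inl ((ff_ord_pos_iff P hx0).mp h)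

theorem ff_div_apply (hK : IsFunctionField k K) (x : K) (P : Place k K) :
    FunFld.div k x P = P.ord x := by
  unfold FunFld.div
  rw [dif_pos (ff_finite_support_ord hK x)]
  rfl

end Groth.Agent.Lib.Helper55
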