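import Groth.Agent.Lib.Helper55.FunFld.Zeros

/-! `deg (x)_0 = deg (x)_∞ = [K : k(x)]` and `deg (x) = 0`. -/

set_option autoImplicit false

open FunFld Module Polynomial

namespace Groth.Agent.Lib.Helper55

variable {k K : Type*} [Field k] [Field K] [Algebra k K]

theorem ff_deg_nsmul (n : ℕ) (D : Divisor k K) : (n • D).deg = n * D.deg := by
  induction n with
  | zero => simp [ff_deg_zero]
  | succ n ih => rw [succ_nsmul, ff_deg_add, ih]; push_cast; ring

/-- Powers of the generator of `k(x)` are `k`-linearly independent for transcendental `x`. -/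
theorem ff_linearIndependent_pow_gen {x : K} (hx : Transcendental k x) (m : ℕ) :
    LinearIndependent k
      (fun j : Fin m => (IntermediateField.AdjoinSimple.gen k x) ^ (j : ℕ)) := by
  have hg : Transcendental k (IntermediateField.AdjoinSimple.gen k x) := by
    intro halg
    apply hx
    have := halg.algebraMap (A := K)
    simpa using this
  have hinj : Function.Injective (aeval (R := k) (IntermediateField.AdjoinSimple.gen k x)) :=
    transcendental_iff_injective.mp hg
  have h1 : LinearIndependent k (fun n : ℕ => (monomial n (1 : k))) :=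
    (Polynomial.basisMonomials k).linearIndependent
  have h2 : LinearIndependent k (fun j : Fin m => (monomial (j : ℕ) (1 : k))) :=
    h1.comp _ Fin.val_injective
  have h3 := h2.map' (aeval (R := k) (IntermediateField.AdjoinSimple.gen k x)).toLinearMap
    (LinearMap.ker_eq_bot.mpr hinj)
  have heq : (fun j : Fin m => (IntermediateField.AdjoinSimple.gen k x) ^ (j : ℕ)) =
      (aeval (R := k) (IntermediateField.AdjoinSimple.gen k x)).toLinearMap ∘
        fun j : Fin m => (monomial (j : ℕ) (1 : k)) := by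
    ext j
    simp [aeval_monomial]
  rw [heq]
  exact h3

/-- The pole divisor of `x`. -/
noncomputable def ff_poleDiv (x : K) : Divisor k K := (-(FunFld.div k x)) ⊔ 0

theorem ff_poleDiv_nonneg (x : K) : (0 : Divisor k K) ≤ ff_poleDiv x := le_sup_right

theorem ff_poleDiv_apply (hK : IsFunctionField k K) (x : K) (P : Place k K) :
    (ff_poleDiv x : Divisor k K) P = max (-P.ord x) 0 := by
  rw [ff_poleDiv, Finsupp.sup_apply, Finsupp.neg_apply, ff_div_apply hK]
  rfl

theorem ff_val_le_exp_poleDiv (hK : IsFunctionField k K) (x : K) (P : Place k K) :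
    P.1 x ≤ WithZero.exp ((ff_poleDiv x : Divisor k K) P) := by
  by_cases hx : x = 0
  · rw [hx, map_zero]; exact zero_le
  · rw [ff_val_eq_exp_neg_ord P hx, WithZero.exp_le_exp, ff_poleDiv_apply hK]
    exact le_max_left _ _

/-- There is `C ≥ 0` with `ℓ(l (x)_∞ + C) ≥ (l + 1) [K : k(x)]` for all `l`. -/
theorem ff_exists_ell_ge (hK : IsFunctionField k K) {x : K} (hx : Transcendental k x) :
    ∃ C : Divisor k K, 0 ≤ C ∧ ∀ l : ℕ,
      (((l : ℤ) + 1) * (finrank (IntermediateField.adjoin k ({x} : Set K)) K : ℤ) : ℤ) ≤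
        ell (l • (ff_poleDiv x : Divisor k K) + C) := by
  classical
  have := ff_finite_of_transcendental hK hx
  let b := Module.finBasis (IntermediateField.adjoin k ({x} : Set K)) K
  set n := finrank (IntermediateField.adjoin k ({x} : Set K)) K with hn
  set B : Divisor k K := ff_poleDiv x with hB
  set C : Divisor k K := ∑ i, ff_poleDiv (b i) with hC
  have hC0 : 0 ≤ C := Finset.sum_nonneg fun i _ => ff_poleDiv_nonneg _
  have hB0 : 0 ≤ B := ff_poleDiv_nonneg _
  have hbC : ∀ i (P : Place k K), P.1 (b i) ≤ WithZero.exp (C P) := by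
    intro i P
    refine (ff_val_le_exp_poleDiv hK (b i) P).trans (WithZero.exp_le_exp.mpr ?_)
    have : ff_poleDiv (b i) ≤ C :=
      Finset.single_le_sum (f := fun i => (ff_poleDiv (b i) : Divisor k K))
        (fun j _ => ff_poleDiv_nonneg _) (Finset.mem_univ i)
    exact this P
  refine ⟨C, hC0, ?_⟩
  intro l
  have hli := linearIndependent_smul (ff_linearIndependent_pow_gen hx (l + 1))
    b.linearIndependent
  have hmem : ∀ p : Fin (l + 1) × Fin n,
      (IntermediateField.AdjoinSimple.gen k x) ^ (p.1 : ℕ) • b p.2 ∈ L (l • B + C) := by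
    intro p P
    have hv : (IntermediateField.AdjoinSimple.gen k x) ^ (p.1 : ℕ) • b p.2 =
        x ^ (p.1 : ℕ) * b p.2 := by
      rw [IntermediateField.smul_def]
      simp
    rw [hv, map_mul, map_pow, Finsupp.add_apply, Finsupp.smul_apply, WithZero.exp_add]
    refine mul_le_mul' ?_ (hbC _ P)
    have h1le : (1 : WithZero (Multiplicative ℤ)) ≤ WithZero.exp (B P) := by
      rw [← WithZero.exp_zero, WithZero.exp_le_exp]; exact hB0 P
    calc (P.1 x) ^ (p.1 : ℕ) ≤ (WithZero.exp (B P)) ^ (p.1 : ℕ) :=
          pow_le_pow_left' (ff_val_le_exp_poleDiv hK x P) _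
      _ ≤ (WithZero.exp (B P)) ^ l := pow_le_pow_right' h1le (Nat.lt_succ_iff.mp p.1.2)
      _ = WithZero.exp (l • B P) := (WithZero.exp_nsmul _ _).symm
  have hspan : Submodule.span k (Set.range fun p : Fin (l + 1) × Fin n =>
      (IntermediateField.AdjoinSimple.gen k x) ^ (p.1 : ℕ) • b p.2) ≤ L (l • B + C) :=
    Submodule.span_le.mpr (by rintro _ ⟨p, rfl⟩; exact hmem p)
  have hfd := ff_L_finiteDimensional hK (l • B + C)
  have h1 := Submodule.finrank_mono hspan
  rw [finrank_span_eq_card hli] at h1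
  have hcard : Fintype.card (Fin (l + 1) × Fin n) = (l + 1) * n := by simp
  rw [hcard] at h1
  unfold ell
  exact_mod_cast h1

/-- `[K : k(x)] ≤ deg (x)_∞`. -/
theorem ff_finrank_le_deg_poleDiv (hK : IsFunctionField k K) {x : K} (hx : Transcendental k x) :
    (finrank (IntermediateField.adjoin k ({x} : Set K)) K : ℤ) ≤
      (ff_poleDiv x : Divisor k K).deg := by
  obtain ⟨C, hC0, hC⟩ := ff_exists_ell_ge hK hx
  set n := finrank (IntermediateField.adjoin k ({x} : Set K)) K with hn
  set B : Divisor k K := ff_poleDiv x with hB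
  have hB0 : 0 ≤ B := ff_poleDiv_nonneg _
  have key : ∀ l : ℕ, (((l : ℤ) + 1) * n : ℤ) ≤ l * B.deg + C.deg + 1 := by
    intro l
    have h2 : (ell (l • B + C) : ℤ) ≤ (l • B + C).deg + 1 :=
      ff_ell_le_deg_add_one hK (add_nonneg (smul_nonneg (Nat.zero_le l) hB0) hC0)
    rw [ff_deg_add, ff_deg_nsmul] at h2
    have h3 := hC l
    linarith
  by_contra hlt
  push Not at hlt
  have h := key ((C.deg + 1).toNat + 1)
  have h4 : (C.deg + 1) ≤ ((C.deg + 1).toNat : ℤ) := Int.self_le_toNat _
  have h5 : (0 : ℤ) ≤ ((C.deg + 1).toNat : ℤ) := Int.natCast_nonneg _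
  have h6 : (0 : ℤ) ≤ n := Int.natCast_nonneg _
  push_cast at h
  nlinarith

theorem ff_deg_eq_sum_of_support_subset (D : Divisor k K) (s : Finset (Place k K))
    (hs : D.support ⊆ s) : D.deg = ∑ P ∈ s, D P * (P.deg : ℤ) := by
  unfold Divisor.deg
  exact Finsupp.sum_of_support_subset D hs _ (fun P _ => by simp)

theorem ff_deg_posPart (D : Divisor k K) :
    (D ⊔ 0).deg = ∑ P ∈ D.support with 0 < D P, D P * (P.deg : ℤ) := by
  classical
  have hsub : (D ⊔ 0).support ⊆ D.support := by
    intro P hP
    rw [Finsupp.mem_support_iff, Finsupp.sup_apply] at hP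
    rw [Finsupp.mem_support_iff]
    intro h0
    apply hP
    rw [h0]
    simp
  rw [ff_deg_eq_sum_of_support_subset _ _ hsub, Finset.sum_filter]
  refine Finset.sum_congr rfl fun P _ => ?_
  rw [Finsupp.sup_apply]
  split_ifs with h
  · rw [show (0 : Divisor k K) P = 0 from rfl, max_eq_left h.le]
  · push Not at h
    rw [show (0 : Divisor k K) P = 0 from rfl, max_eq_right h, zero_mul]

theorem ff_div_inv (hK : IsFunctionField k K) (x : K) :
    FunFld.div k x⁻¹ = -FunFld.div k x := by
  ext P
  rw [Finsupp.neg_apply, ff_div_apply hK, ff_div_apply hK, ff_ord_inv]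

theorem ff_adjoin_inv (x : K) :
    IntermediateField.adjoin k ({x⁻¹} : Set K) = IntermediateField.adjoin k ({x} : Set K) := by
  apply le_antisymm
  · rw [IntermediateField.adjoin_simple_le_iff]
    exact inv_mem (IntermediateField.mem_adjoin_simple_self k x)
  · rw [IntermediateField.adjoin_simple_le_iff]
    have := inv_mem (IntermediateField.mem_adjoin_simple_self k x⁻¹)
    rwa [inv_inv] at this

/-- `deg (x)_∞ ≤ [K : k(x)]`. -/
theorem ff_deg_poleDiv_le (hK : IsFunctionField k K) {x : K} (hx : Transcendental k x) :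
    (ff_poleDiv x : Divisor k K).deg ≤
      (finrank (IntermediateField.adjoin k ({x} : Set K)) K : ℤ) := by
  classical
  have hx0 : x ≠ 0 := fun h => hx (h ▸ isAlgebraic_zero)
  have hxi := ff_transcendental_inv hx
  have hfin := ff_finite_zeros hK hxi
  have hsub : (ff_poleDiv x : Divisor k K).support ⊆ hfin.toFinset := by
    intro P hP
    rw [Finsupp.mem_support_iff, ff_poleDiv_apply hK] at hP
    rw [Set.Finite.mem_toFinset]
    change P.1 x⁻¹ < 1
    rw [← ff_ord_pos_iff P (inv_ne_zero hx0), ff_ord_inv]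
    by_contra hle
    push Not at hle
    exact hP (max_eq_right hle)
  rw [ff_deg_eq_sum_of_support_subset _ _ hsub]
  have h1 := ff_sum_ord_mul_deg_le hK hxi hfin.toFinset
    (fun P hP => (Set.Finite.mem_toFinset hfin).mp hP)
  rw [ff_adjoin_inv] at h1
  refine le_trans (le_of_eq ?_) h1
  refine Finset.sum_congr rfl fun P hP => ?_
  have hP' : P.1 x⁻¹ < 1 := (Set.Finite.mem_toFinset hfin).mp hP
  have hpos := (ff_ord_pos_iff P (inv_ne_zero hx0)).mpr hP'
  rw [ff_poleDiv_apply hK, ff_ord_inv] at *
  rw [max_eq_left hpos.le]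

/-- `deg (x)_∞ = [K : k(x)]`. -/
theorem ff_deg_poleDiv (hK : IsFunctionField k K) {x : K} (hx : Transcendental k x) :
    (ff_poleDiv x : Divisor k K).deg =
      (finrank (IntermediateField.adjoin k ({x} : Set K)) K : ℤ) :=
  le_antisymm (ff_deg_poleDiv_le hK hx) (ff_finrank_le_deg_poleDiv hK hx)

theorem ff_poleDiv_inv (hK : IsFunctionField k K) (x : K) :
    (ff_poleDiv x⁻¹ : Divisor k K) = FunFld.div k x ⊔ 0 := by
  rw [ff_poleDiv, ff_div_inv hK, neg_neg]

/-- `deg (x)_0 = [K : k(x)]`. -/
theorem ff_deg_zerosDiv (hK : IsFunctionField k K) {x : K} (hx : Transcendental k x) :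
    (FunFld.div k x ⊔ 0).deg =
      (finrank (IntermediateField.adjoin k ({x} : Set K)) K : ℤ) := by
  rw [← ff_poleDiv_inv hK, ff_deg_poleDiv hK (ff_transcendental_inv hx), ff_adjoin_inv]

theorem ff_div_const (hK : IsFunctionField k K) (c : k) : FunFld.div k (algebraMap k K c) = 0 := by
  ext P
  rw [ff_div_apply hK, ff_ord_const]
  rfl

/-- The degree of a principal divisor is zero. -/
theorem ff_deg_div (hK : IsFunctionField k K) (x : K) : (FunFld.div k x).deg = 0 := by
  by_cases hx : x ∈ Set.range (algebraMap k K)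
  · obtain ⟨c, rfl⟩ := hx
    rw [ff_div_const hK, ff_deg_zero]
  · have ht := ff_transcendental_of_not_mem_range hK hx
    have h1 := ff_deg_zerosDiv hK ht
    have h2 := ff_deg_poleDiv hK ht
    have h3 : FunFld.div k x = (FunFld.div k x ⊔ 0) - ff_poleDiv x := by
      ext P
      rw [Finsupp.sub_apply, ff_poleDiv, Finsupp.sup_apply, Finsupp.sup_apply, Finsupp.neg_apply]
      change _ = max _ 0 - max _ 0
      rcases le_total (FunFld.div k x P) 0 with h | h
      · rw [max_eq_right h, max_eq_left (by omega)]; ring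
      · rw [max_eq_left h, max_eq_right (by omega)]; ring
    rw [h3, ff_deg_sub, h1, h2, sub_self]

end Groth.Agent.Lib.Helper55
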