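import Groth.Agent.Lib.Helper55.Tate.Block
import Groth.Agent.Lib.Helper55.FunFld.TateLaurent
import Groth.Agent.Lib.Helper63.IntClosure
import Groth.Agent.Lib.Helper63.Approx
import Groth.Agent.Lib.Helper63.FunFldExt
import Groth.Agent.Lib.Helper63.PurelyInsep

/-! The trace formula for residues: `Res_P(tr(y) dx) = ∑_{Q | P} Res_Q(y dx)` (S12578). -/

set_option autoImplicit false
set_option linter.unusedSectionVars false

open FunFld LocRes Module
open Groth.Agent.Lib.Helper55.Tate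

namespace Groth.Agent.Lib.Helper55

universe u v w

variable {k : Type u} {K K' : Type v} [Field k] [Field K] [Field K'] [Algebra k K] [Algebra K K']
  [Algebra k K'] [IsScalarTower k K K']

/-- additivity of the local Tate residue in the first argument over finite sums. -/
theorem ff_tres_sum_left (hK : IsFunctionField k K) (P : Place k K) {ρ : K →ₗ[k] K}
    (hρ : LinearMap.IsProj (ff_ball P 0) ρ) {ι : Type*} (s : Finset ι) (c : ι → K) (x : K) :
    ff_tres ρ (∑ i ∈ s, c i) x = ∑ i ∈ s, ff_tres ρ (c i) x := by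
  classical
  induction s using Finset.induction_on with
  | empty =>
    rw [Finset.sum_empty, Finset.sum_empty]
    have := ff_tres_smul_left hK P hρ (0 : k) (0 : K) x
    rwa [zero_smul, zero_mul] at this
  | insert a s ha ih =>
    rw [Finset.sum_insert ha, Finset.sum_insert ha, ff_tres_add_left hK P hρ, ih]

section basis

variable {M : Type*} [Fintype M] [DecidableEq M] (b : Basis M K K')

/-- the `m`-th inclusion `K → K'`, `a ↦ a • b m`, as a `k`-linear map. -/
noncomputable def trInc (m : M) : K →ₗ[k] K' :=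
  (LinearMap.toSpanSingleton K K' (b m)).restrictScalars k

/-- the `m`-th coordinate `K' → K` as a `k`-linear map. -/
noncomputable def trPr (m : M) : K' →ₗ[k] K := (b.coord m).restrictScalars k

theorem trInc_apply (m : M) (a : K) : trInc (k := k) b m a = a • b m := rfl

theorem trPr_apply (m : M) (z : K') : trPr (k := k) b m z = b.repr z m := rfl

theorem trPr_comp_trInc (i j : M) :
    trPr (k := k) b i ∘ₗ trInc b j = if i = j then LinearMap.id else 0 := by
  ext a
  rw [LinearMap.comp_apply, trInc_apply, trPr_apply, map_smul, b.repr_self, Finsupp.smul_apply,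
    Finsupp.single_apply]
  by_cases h : i = j
  · subst h; simp
  · rw [if_neg (Ne.symm h), if_neg h]; simp

theorem trSum : ∑ i, trInc (k := k) b i ∘ₗ trPr b i = LinearMap.id := by
  ext z
  rw [LinearMap.sum_apply, LinearMap.id_apply]
  simp only [LinearMap.comp_apply, trInc_apply, trPr_apply]
  exact b.sum_repr z

/-- the lattice `⊕ O_P b_m`. -/
noncomputable def trLat (P : Place k K) : Submodule k K' :=
  ⨅ m, (ff_ball P 0).comap (trPr (k := k) b m)

theorem mem_trLat (P : Place k K) (z : K') :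
    z ∈ trLat b P ↔ ∀ m, trPr (k := k) b m z ∈ ff_ball P 0 := by
  unfold trLat
  rw [Submodule.mem_iInf]
  rfl

theorem trInc_mulK (x : K) (i : M) :
    ff_mulK (k := k) (algebraMap K K' x) ∘ₗ trInc b i = trInc b i ∘ₗ ff_mulK x := by
  ext a
  simp only [LinearMap.comp_apply, trInc_apply, ff_mulK_apply]
  rw [Algebra.smul_def, Algebra.smul_def, map_mul, mul_assoc]

theorem trBlock_mulK (y : K') (i j : M) :
    trPr (k := k) b i ∘ₗ ff_mulK y ∘ₗ trInc b j = ff_mulK (Algebra.leftMulMatrix b y i j) := by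
  ext a
  simp only [LinearMap.comp_apply, trInc_apply, trPr_apply, ff_mulK_apply]
  rw [Algebra.leftMulMatrix_eq_repr_mul, mul_smul_comm, map_smul, Finsupp.smul_apply, smul_eq_mul,
    mul_comm]

/-- (T2): the Tate residue on `K'` relative to the lattice `⊕ O_P b_m` is the residue of the
trace. -/
theorem tres_trLat (hK : IsFunctionField k K) (P : Place k K) {ρ : K →ₗ[k] K}
    (hρ : LinearMap.IsProj (ff_ball P 0) ρ) (y : K') (x : K) :
    tres (∑ i, trInc (k := k) b i ∘ₗ ρ ∘ₗ trPr b i) (ff_mulK y) (ff_mulK (algebraMap K K' x)) =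
      ff_tres ρ (Algebra.trace K K' y) x := by
  have hincA : ∀ i, (ff_ball P 0).map (trInc (k := k) b i) ≤ trLat b P := by
    rintro i _ ⟨a, ha, rfl⟩
    rw [mem_trLat]
    intro m
    have := LinearMap.congr_fun (trPr_comp_trInc (k := k) b m i) a
    rw [LinearMap.comp_apply] at this
    rw [this]
    split_ifs
    · exact ha
    · exact Submodule.zero_mem _
  have hprA : ∀ i, (trLat b P).map (trPr (k := k) b i) ≤ ff_ball P 0 := by
    rintro i _ ⟨z, hz, rfl⟩
    exact (mem_trLat b P z).mp hz i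
  rw [tres_block (trInc b) (trPr b) (trPr_comp_trInc b) (trSum b) (fun _ => ff_ball P 0)
    (trLat b P) hincA hprA (fun _ => ρ) (fun _ => hρ) (fun _ => ff_mulK x)
    (fun _ => ff_isE_mulK hK P x) _ (trInc_mulK b x) _ (fun i j => by
      rw [trBlock_mulK]; exact ff_isE_mulK hK P _)]
  simp only [trBlock_mulK]
  rw [Algebra.trace_eq_matrix_trace b, Matrix.trace, ff_tres_sum_left hK P hρ]
  rfl

theorem isProj_trLat (P : Place k K) {ρ : K →ₗ[k] K} (hρ : LinearMap.IsProj (ff_ball P 0) ρ) :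
    LinearMap.IsProj (trLat b P) (∑ i, trInc (k := k) b i ∘ₗ ρ ∘ₗ trPr b i) :=
  isProj_block (trInc b) (trPr b) (trPr_comp_trInc b) (trSum b) (fun _ => ff_ball P 0)
    (trLat b P) (mem_trLat b P) (fun _ => ρ) (fun _ => hρ)

theorem isE_trLat (hK : IsFunctionField k K) (P : Place k K) (y : K') :
    IsE (trLat b P) (ff_mulK (k := k) y) :=
  isE_block (trInc b) (trPr b) (trPr_comp_trInc b) (trSum b) (fun _ => ff_ball P 0)
    (trLat b P) (mem_trLat b P) _ (fun i j => by
      rw [trBlock_mulK]; exact ff_isE_mulK hK P _)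

end basis

section semilocal

attribute [local instance] Classical.propDecidable

variable (Qs : Finset (Place k K'))

/-- the semilocal lattice `∏ O_Q`. -/
noncomputable def slLat : Submodule k (↥Qs → K') :=
  ⨅ Q : ↥Qs, (ff_ball Q.1 0).comap (LinearMap.proj Q)

theorem mem_slLat (a : ↥Qs → K') : a ∈ slLat Qs ↔ ∀ Q : ↥Qs, a Q ∈ ff_ball Q.1 0 := by
  unfold slLat
  rw [Submodule.mem_iInf]
  rfl

/-- the diagonal embedding. -/
noncomputable def slDiag : K' →ₗ[k] (↥Qs → K') := LinearMap.pi fun _ => LinearMap.id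

theorem slDiag_apply (z : K') (Q : ↥Qs) : slDiag (k := k) Qs z Q = z := rfl

/-- componentwise multiplication. -/
noncomputable def slMul (y : K') : (↥Qs → K') →ₗ[k] (↥Qs → K') :=
  LinearMap.pi fun Q => ff_mulK y ∘ₗ LinearMap.proj Q

theorem slMul_apply (y : K') (a : ↥Qs → K') (Q : ↥Qs) : slMul (k := k) Qs y a Q = y * a Q := rfl

theorem sl_hpi (i j : ↥Qs) :
    (LinearMap.proj i : (↥Qs → K') →ₗ[k] K') ∘ₗ LinearMap.single k (fun _ : ↥Qs => K') j =
      if i = j then LinearMap.id else 0 := by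
  by_cases h : i = j
  · subst h
    rw [if_pos rfl]
    exact LinearMap.proj_comp_single_same k (fun _ : ↥Qs => K') i
  · rw [if_neg h]
    exact LinearMap.proj_comp_single_ne k (fun _ : ↥Qs => K') i j h

theorem sl_hsum :
    ∑ i : ↥Qs, LinearMap.single k (fun _ : ↥Qs => K') i ∘ₗ
      (LinearMap.proj i : (↥Qs → K') →ₗ[k] K') = LinearMap.id := by
  refine LinearMap.ext fun a => funext fun Q => ?_
  rw [LinearMap.sum_apply, LinearMap.id_apply, Finset.sum_apply]
  simp only [LinearMap.comp_apply, LinearMap.proj_apply, LinearMap.single_apply]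
  rw [Finset.sum_eq_single Q]
  · rw [Pi.single_eq_same]
  · intro i _ hiQ
    rw [Pi.single_eq_of_ne (Ne.symm hiQ)]
  · intro h; exact absurd (Finset.mem_univ Q) h

theorem sl_mul_inc (y : K') (Q : ↥Qs) :
    slMul (k := k) Qs y ∘ₗ LinearMap.single k (fun _ : ↥Qs => K') Q =
      LinearMap.single k (fun _ : ↥Qs => K') Q ∘ₗ ff_mulK y := by
  refine LinearMap.ext fun a => funext fun Q' => ?_
  simp only [LinearMap.comp_apply, slMul_apply, LinearMap.single_apply, ff_mulK_apply]
  by_cases h : Q' = Q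
  · subst h; rw [Pi.single_eq_same, Pi.single_eq_same]
  · rw [Pi.single_eq_of_ne h, Pi.single_eq_of_ne h, mul_zero]

theorem sl_block (y : K') (i j : ↥Qs) :
    (LinearMap.proj i : (↥Qs → K') →ₗ[k] K') ∘ₗ slMul Qs y ∘ₗ
      LinearMap.single k (fun _ : ↥Qs => K') j = if i = j then ff_mulK y else 0 := by
  rw [sl_mul_inc, ← LinearMap.comp_assoc, sl_hpi]
  split_ifs
  · rw [LinearMap.id_comp]
  · rw [LinearMap.zero_comp]

theorem sl_hf (hK' : IsFunctionField k K') (y : K') (i j : ↥Qs) :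
    NearLE ((ff_ball j.1 0).map ((LinearMap.proj i : (↥Qs → K') →ₗ[k] K') ∘ₗ slMul Qs y ∘ₗ
      LinearMap.single k (fun _ : ↥Qs => K') j)) (ff_ball i.1 0) := by
  rw [sl_block]
  split_ifs with h
  · subst h
    exact ff_isE_mulK hK' i.1 y
  · rw [Submodule.map_zero]
    exact NearLE.of_le bot_le

theorem sl_incA (i : ↥Qs) :
    (ff_ball i.1 0).map (LinearMap.single k (fun _ : ↥Qs => K') i) ≤ slLat Qs := by
  rintro _ ⟨a, ha, rfl⟩
  rw [mem_slLat]
  intro Q
  rw [LinearMap.single_apply]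
  by_cases h : Q = i
  · subst h; rw [Pi.single_eq_same]; exact ha
  · rw [Pi.single_eq_of_ne h]; exact Submodule.zero_mem _

theorem sl_prA (i : ↥Qs) :
    (slLat Qs).map (LinearMap.proj i : (↥Qs → K') →ₗ[k] K') ≤ ff_ball i.1 0 := by
  rintro _ ⟨a, ha, rfl⟩
  exact (mem_slLat Qs a).mp ha i

/-- (T1), block part: the semilocal residue is the sum of the local ones. -/
theorem tres_slLat (hK' : IsFunctionField k K') (ρ' : ↥Qs → K' →ₗ[k] K')
    (hρ' : ∀ Q : ↥Qs, LinearMap.IsProj (ff_ball Q.1 0) (ρ' Q)) (y x' : K') :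
    tres (∑ Q : ↥Qs, LinearMap.single k (fun _ : ↥Qs => K') Q ∘ₗ ρ' Q ∘ₗ LinearMap.proj Q)
        (slMul Qs y) (slMul Qs x') = ∑ Q : ↥Qs, ff_tres (ρ' Q) y x' := by
  rw [tres_block (fun Q : ↥Qs => LinearMap.single k (fun _ : ↥Qs => K') Q)
    (fun Q : ↥Qs => (LinearMap.proj Q : (↥Qs → K') →ₗ[k] K')) (sl_hpi Qs) (sl_hsum Qs)
    (fun Q : ↥Qs => ff_ball Q.1 0) (slLat Qs) (sl_incA Qs) (sl_prA Qs) ρ' hρ'
    (fun _ => ff_mulK x') (fun Q => ff_isE_mulK hK' Q.1 x') _ (sl_mul_inc Qs x') _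
    (sl_hf Qs hK' y)]
  refine Finset.sum_congr rfl fun Q _ => ?_
  rw [sl_block, if_pos rfl]
  rfl

theorem isProj_slLat (ρ' : ↥Qs → K' →ₗ[k] K')
    (hρ' : ∀ Q : ↥Qs, LinearMap.IsProj (ff_ball Q.1 0) (ρ' Q)) :
    LinearMap.IsProj (slLat Qs)
      (∑ Q : ↥Qs, LinearMap.single k (fun _ : ↥Qs => K') Q ∘ₗ ρ' Q ∘ₗ LinearMap.proj Q) :=
  isProj_block _ _ (sl_hpi Qs) (sl_hsum Qs) (fun Q : ↥Qs => ff_ball Q.1 0) (slLat Qs)
    (mem_slLat Qs) ρ' hρ'

theorem isE_slLat (hK' : IsFunctionField k K') (y : K') : IsE (slLat Qs) (slMul (k := k) Qs y) :=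
  isE_block _ _ (sl_hpi Qs) (sl_hsum Qs) (fun Q : ↥Qs => ff_ball Q.1 0) (slLat Qs)
    (mem_slLat Qs) _ (sl_hf Qs hK' y)

end semilocal

section main

attribute [local instance] Classical.propDecidable

theorem exists_bound_over (P : Place k K) (Qs : Finset (Place k K'))
    (hQs : ∀ Q ∈ Qs, IsOver Q P) (S : Finset K') :
    ∃ N : ℕ, ∀ c : K, P.1 c ≤ WithZero.exp (-(N : ℤ)) → ∀ z ∈ S, ∀ Q ∈ Qs,
      Q.1 (algebraMap K K' c * z) ≤ 1 := by
  obtain ⟨B, hB⟩ := Finset.exists_le
    (insert (1 : WithZero (Multiplicative ℤ)) ((Qs ×ˢ S).image fun p => p.1.1 p.2))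
  have hB1 : 1 ≤ B := hB 1 (Finset.mem_insert_self _ _)
  have hB0 : B ≠ 0 := fun h => by rw [h] at hB1; exact absurd hB1 (not_le.mpr zero_lt_one)
  refine ⟨(WithZero.log B).toNat, fun c hc z hz Q hQ => ?_⟩
  obtain ⟨e, he⟩ := hQs Q hQ
  have he0 : e ≠ 0 := Groth.Agent.Lib.Helper63.FunFldExt.isOverWith_ne_zero he
  have hlog : 0 ≤ WithZero.log B := by
    rw [← WithZero.exp_le_exp, WithZero.exp_log hB0, WithZero.exp_zero]
    exact hB1
  have hN : ((WithZero.log B).toNat : ℤ) = WithZero.log B := Int.toNat_of_nonneg hlog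
  have hc1 : P.1 c ≤ 1 := hc.trans (by
    rw [← WithZero.exp_zero, WithZero.exp_le_exp]; omega)
  have h1 : Q.1 (algebraMap K K' c) ≤ WithZero.exp (-(WithZero.log B)) := by
    rw [he c]
    calc P.1 c ^ e ≤ P.1 c := pow_le_of_le_one zero_le hc1 he0
      _ ≤ _ := by rw [← hN]; exact hc
  have h2 : Q.1 z ≤ B := hB _ (Finset.mem_insert_of_mem (Finset.mem_image.mpr
    ⟨(Q, z), Finset.mem_product.mpr ⟨hQ, hz⟩, rfl⟩))
  rw [map_mul]
  calc Q.1 (algebraMap K K' c) * Q.1 z ≤ WithZero.exp (-(WithZero.log B)) * B := mul_le_mul' h1 h2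
    _ = 1 := by
      conv_lhs => rw [← WithZero.exp_log hB0, WithZero.log_exp, ← WithZero.exp_add]
      rw [neg_add_cancel, WithZero.exp_zero]

/-- S12578: the residue of the trace is the sum of the residues above. -/
theorem ff_locRes_trace [FiniteDimensional K K'] (hK : IsFunctionField k K)
    (hK' : IsFunctionField k K') (P : Place k K)
    {F : Type w} [Field F] [Algebra k F] [FiniteDimensional k F]
    (φ : K →ₐ[k] LaurentSeries F) (hφ : IsExpansionAt P.1 φ)
    (Qs : Finset (Place k K')) (hQs : ∀ Q, Q ∈ Qs ↔ IsOver Q P)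
    (F' : Place k K' → Type w) [∀ Q, Field (F' Q)] [∀ Q, Algebra k (F' Q)]
    [∀ Q, FiniteDimensional k (F' Q)]
    (ψ : ∀ Q, K' →ₐ[k] LaurentSeries (F' Q)) (hψ : ∀ Q ∈ Qs, IsExpansionAt Q.1 (ψ Q))
    (y : K') (x : K) :
    locRes φ (Algebra.trace K K' y) x = ∑ Q ∈ Qs, locRes (ψ Q) y (algebraMap K K' x) := by
  obtain ⟨ρ, hρ⟩ := ff_exists_proj (k := k) P
  choose ρ' hρ' using fun Q : Place k K' => ff_exists_proj (k := k) Q
  -- the integral basis
  obtain ⟨M, hM, u, hli, hint⟩ :=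
    Groth.Agent.Lib.Helper63.IntClosure.exists_integral_basis (K' := K') hK P
  obtain ⟨t, ht⟩ := ff_exists_uniformizer P
  have ht0 := ff_uniformizer_ne_zero P ht
  have hOver : ∀ Q ∈ Qs, IsOver Q P := fun Q hQ => (hQs Q).mp hQ
  have hspan : ⊤ ≤ Submodule.span K (Set.range u) := by
    intro z _
    obtain ⟨N, hN⟩ := exists_bound_over P Qs hOver {z}
    set c : K := t ^ N with hc
    have hc0 : c ≠ 0 := pow_ne_zero _ ht0
    have hcv : P.1 c ≤ WithZero.exp (-(N : ℤ)) := by
      rw [hc, map_pow, ht, ← WithZero.exp_nsmul]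
      simp
    obtain ⟨a, -, ha⟩ := hint (algebraMap K K' c * z) (fun Q hQ =>
      hN c hcv z (Finset.mem_singleton_self z) Q ((hQs Q).mpr hQ))
    have hz : z = c⁻¹ • ∑ m, a m • u m := by
      rw [← ha, Algebra.smul_def, ← mul_assoc, ← map_mul, inv_mul_cancel₀ hc0, map_one, one_mul]
    rw [hz]
    refine Submodule.smul_mem _ _ (Submodule.sum_mem _ fun m _ => ?_)
    exact Submodule.smul_mem _ _ (Submodule.subset_span ⟨m, rfl⟩)
  set b : Basis M K K' := Basis.mk hli hspan with hb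
  have hbu : ∀ m, b m = u m := fun m => by rw [hb, Basis.mk_apply]
  -- the two lattices on `K'`
  set O' : Submodule k K' := (slLat Qs).comap (slDiag Qs) with hO'
  have hmemO' : ∀ z, z ∈ O' ↔ ∀ Q ∈ Qs, Q.1 z ≤ 1 := by
    intro z
    rw [hO', Submodule.mem_comap, mem_slLat]
    constructor
    · intro h Q hQ
      have := h ⟨Q, hQ⟩
      rwa [slDiag_apply, ff_mem_ball, WithZero.exp_zero] at this
    · intro h Q
      rw [slDiag_apply, ff_mem_ball, WithZero.exp_zero]
      exact h Q.1 Q.2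
  have near2 : O' ≤ trLat b P := by
    intro z hz
    rw [hmemO'] at hz
    obtain ⟨a, ha1, ha2⟩ := hint z (fun Q hQ => hz Q ((hQs Q).mpr hQ))
    rw [mem_trLat]
    intro m
    have : b.repr z m = a m := by
      rw [ha2]
      simp only [map_sum, map_smul, ← hbu, b.repr_self, Finsupp.coe_finsetSum, Finset.sum_apply,
        Finsupp.smul_apply, Finsupp.single_apply, smul_eq_mul, mul_ite, mul_one, mul_zero,
        Finset.sum_ite_eq', Finset.mem_univ, if_true]
    rw [trPr_apply, this, ff_mem_ball, WithZero.exp_zero]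
    exact ha1 m
  have near1 : NearLE (trLat b P) O' := by
    obtain ⟨N, hN⟩ := exists_bound_over P Qs hOver (Finset.univ.image u)
    obtain ⟨F₀, hF₀fd, hF₀⟩ := ff_ball_nearLE hK P 0 (-(N : ℤ))
    have hfd : ∀ m, FiniteDimensional k (F₀.map (trInc (k := k) b m)) := fun m => inferInstance
    refine ⟨⨆ m, F₀.map (trInc (k := k) b m), inferInstance, ?_⟩
    intro z hz
    rw [mem_trLat] at hz
    have hdec : ∀ m, ∃ α ∈ ff_ball P (-(N : ℤ)), ∃ β ∈ F₀, trPr (k := k) b m z = α + β := by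
      intro m
      obtain ⟨α, hα, β, hβ, h⟩ := Submodule.mem_sup.mp (hF₀ (hz m))
      exact ⟨α, hα, β, hβ, h.symm⟩
    choose α hα β hβ hαβ using hdec
    have hzsum : z = ∑ m, trInc (k := k) b m (α m) + ∑ m, trInc (k := k) b m (β m) := by
      rw [← Finset.sum_add_distrib]
      have := LinearMap.congr_fun (trSum (k := k) b) z
      rw [LinearMap.sum_apply, LinearMap.id_apply] at this
      conv_lhs => rw [← this]
      refine Finset.sum_congr rfl fun m _ => ?_
      rw [LinearMap.comp_apply, hαβ m, map_add]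
    rw [hzsum]
    refine Submodule.add_mem_sup (Submodule.sum_mem _ fun m _ => ?_)
      (Submodule.sum_mem _ fun m _ => ?_)
    · rw [hmemO']
      intro Q hQ
      rw [trInc_apply, hbu, Algebra.smul_def]
      exact hN (α m) (hα m) (u m) (Finset.mem_image_of_mem u (Finset.mem_univ m)) Q hQ
    · exact Submodule.mem_iSup_of_mem m (Submodule.mem_map_of_mem (hβ m))
  -- projections
  have hπB := isProj_trLat (k := k) b P hρ
  obtain ⟨C, hC⟩ := Submodule.exists_isCompl O'
  set πO : K' →ₗ[k] K' := O'.projection C hC with hπOdef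
  have hπO : LinearMap.IsProj O' πO :=
    ⟨fun v => Submodule.projection_apply_mem hC v,
      fun a ha => Submodule.projection_apply_of_mem_left hC ha⟩
  have hπS := isProj_slLat (k := k) Qs (fun Q => ρ' Q.1) (fun Q => hρ' Q.1)
  set x' : K' := algebraMap K K' x with hx'
  have hEy : IsE (trLat b P) (ff_mulK (k := k) y) := isE_trLat b hK P y
  have hEx : IsE (trLat b P) (ff_mulK (k := k) x') := isE_trLat b hK P x'
  have hEyO : IsE O' (ff_mulK (k := k) y) := hEy.congr near1 (NearLE.of_le near2)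
  have hExO : IsE O' (ff_mulK (k := k) x') := hEx.congr near1 (NearLE.of_le near2)
  -- the chain
  have step1 : locRes φ (Algebra.trace K K' y) x = ff_tres ρ (Algebra.trace K K' y) x :=
    (ff_tres_eq_locRes hK P φ hφ hρ _ _).symm
  have step2 := tres_trLat (k := k) b hK P hρ y x
  have step3 : tres (∑ i, trInc (k := k) b i ∘ₗ ρ ∘ₗ trPr b i) (ff_mulK y) (ff_mulK x') =
      tres πO (ff_mulK y) (ff_mulK x') :=
    tres_congr hπB hπO near1 (NearLE.of_le near2) hEy hEx
      (fun v => by simp only [ff_mulK_apply]; ring)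
  obtain ⟨Q₀, hQ₀⟩ := Groth.Agent.Lib.Helper63.PurelyInsep.exists_isOver (K' := K') hK P
  have hQ₀s : Q₀ ∈ Qs := (hQs Q₀).mpr hQ₀
  have hinj : Function.Injective (slDiag (k := k) Qs) := by
    intro a a' h
    exact congrFun h ⟨Q₀, hQ₀s⟩
  have hsup : LinearMap.range (slDiag (k := k) Qs) ⊔ slLat Qs = ⊤ := by
    rw [eq_top_iff]
    intro a _
    obtain ⟨z, hz⟩ := Groth.Agent.Lib.Helper63.Approx.exists_approx
      (fun Q : ↥Qs => Q.1.1) (fun Q => Q.1.2.2)
      (fun Q Q' h => Subtype.ext (Subtype.ext h)) a (δ := 1) one_ne_zero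
    have : a = slDiag (k := k) Qs z + (a - slDiag (k := k) Qs z) := by abel
    rw [this]
    refine Submodule.add_mem_sup ⟨z, rfl⟩ ?_
    rw [mem_slLat]
    intro Q
    rw [Pi.sub_apply, slDiag_apply, ff_mem_ball, WithZero.exp_zero, Valuation.map_sub_swap]
    exact (hz Q).le
  have step4 : tres πO (ff_mulK y) (ff_mulK x') =
      tres (∑ Q : ↥Qs, LinearMap.single k (fun _ : ↥Qs => K') Q ∘ₗ ρ' Q.1 ∘ₗ LinearMap.proj Q)
        (slMul Qs y) (slMul Qs x') :=
    tres_excision (slDiag (k := k) Qs) hinj hO' hsup hπO hπS hEyO hExO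
      (isE_slLat Qs hK' y) (isE_slLat Qs hK' x')
      (fun v => by simp only [ff_mulK_apply]; ring)
      (fun v => by
        funext Q
        simp only [slMul_apply]
        ring)
      (fun v => rfl) (fun v => rfl)
  have step5 := tres_slLat (k := k) Qs hK' (fun Q => ρ' Q.1) (fun Q => hρ' Q.1) y x'
  rw [step1, ← step2, step3, step4, step5,
    Finset.sum_coe_sort Qs (fun Q => ff_tres (ρ' Q) y x')]
  refine Finset.sum_congr rfl fun Q hQ => ?_
  exact ff_tres_eq_locRes hK' Q (ψ Q) (hψ Q hQ) (hρ' Q) y x'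

end main

end Groth.Agent.Lib.Helper55
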