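import Groth.Agent.Lib.Helper55.FunFld.AdjCoord
import Groth.Agent.Lib.Helper55.FunFld.TraceRes
import Groth.Agent.Lib.Helper55.FunFld.Approx
import Groth.Agent.Lib.Helper63.LocResBasic

/-! Local tools for the adjoint divisor (S12613): places of a rational function field,
residues of regular differentials and of simple poles. -/

set_option autoImplicit false
set_option linter.unusedSectionVars false
set_option linter.style.haveILetI false

open FunFld Module LocRes

namespace Groth.Agent.Lib.Helper55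

section Rational

variable {k F : Type*} [Field k] [Field F] [Algebra k F]

open Polynomial in
/-- factorisation of an element of `k(g)` at `α`. -/
theorem al_factor {g : F} (hgen : (IntermediateField.adjoin k {g} : IntermediateField k F) = ⊤)
    (α : k) (c : F) (hc : c ≠ 0) :
    ∃ (a b : ℕ) (p q : k[X]), p.eval α ≠ 0 ∧ q.eval α ≠ 0 ∧
      c * ((g - algebraMap k F α) ^ b * aeval g q) = (g - algebraMap k F α) ^ a * aeval g p := by
  have hmem : c ∈ (IntermediateField.adjoin k {g} : IntermediateField k F) := by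
    rw [hgen]; trivial
  obtain ⟨r, s, hrs⟩ := (IntermediateField.mem_adjoin_simple_iff k c).1 hmem
  have hs0 : aeval g s ≠ 0 := by
    intro h0
    rw [h0, div_zero] at hrs
    exact hc hrs
  have hr0 : aeval g r ≠ 0 := by
    intro h0
    rw [h0, zero_div] at hrs
    exact hc hrs
  have hs0' : s ≠ 0 := by rintro rfl; simp at hs0
  have hr0' : r ≠ 0 := by rintro rfl; simp at hr0
  obtain ⟨p, hp, hpd⟩ := exists_eq_pow_rootMultiplicity_mul_and_not_dvd r hr0' α
  obtain ⟨q, hq, hqd⟩ := exists_eq_pow_rootMultiplicity_mul_and_not_dvd s hs0' α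
  refine ⟨rootMultiplicity α r, rootMultiplicity α s, p, q, ?_, ?_, ?_⟩
  · intro h0; exact hpd (dvd_iff_isRoot.2 h0)
  · intro h0; exact hqd (dvd_iff_isRoot.2 h0)
  · have e1 : aeval g r = (g - algebraMap k F α) ^ rootMultiplicity α r * aeval g p := by
      conv_lhs => rw [hp]
      simp only [map_mul, map_pow, map_sub, aeval_X, aeval_C]
    have e2 : aeval g s = (g - algebraMap k F α) ^ rootMultiplicity α s * aeval g q := by
      conv_lhs => rw [hq]
      simp only [map_mul, map_pow, map_sub, aeval_X, aeval_C]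
    rw [← e1, ← e2, hrs]
    field_simp

open Polynomial in
theorem al_val_aeval_eq_one (P : Place k F) {g : F} {α : k}
    (hα : P.1 (g - algebraMap k F α) < 1) (p : k[X]) (hp : p.eval α ≠ 0) :
    P.1 (aeval g p) = 1 := by
  have hdiv : (X - C α) ∣ p - C (p.eval α) := by
    rw [dvd_iff_isRoot]; simp
  obtain ⟨q, hq⟩ := hdiv
  have hg1 : P.1 g ≤ 1 := by
    have : g = (g - algebraMap k F α) + algebraMap k F α := by ring
    rw [this]
    exact (P.1.map_add _ _).trans (max_le hα.le (P.2.1 _))
  have e1 : aeval g p = algebraMap k F (p.eval α) + (g - algebraMap k F α) * aeval g q := by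
    have := congrArg (aeval g) hq
    simp only [map_sub, map_mul, aeval_X, aeval_C] at this
    rw [← this]; ring
  rw [e1]
  have h1 : P.1 ((g - algebraMap k F α) * aeval g q) < 1 := by
    rw [map_mul]
    calc P.1 (g - algebraMap k F α) * P.1 (aeval g q) ≤ P.1 (g - algebraMap k F α) * 1 :=
          mul_le_mul' le_rfl (ff_aeval_mem_O P hg1 q)
      _ = _ := mul_one _
      _ < 1 := hα
  rw [Valuation.map_add_eq_of_lt_left _ (by rw [ff_val_const P hp]; exact h1), ff_val_const P hp]

/-- `g - α` is a uniformizer at the place of `k(g)` where `g = α`. -/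
theorem al_val_sub_eq (P : Place k F) {g : F}
    (hgen : (IntermediateField.adjoin k {g} : IntermediateField k F) = ⊤) {α : k}
    (hα : P.1 (g - algebraMap k F α) < 1) :
    P.1 (g - algebraMap k F α) = WithZero.exp (-1) := by
  obtain ⟨t, ht⟩ := ff_exists_uniformizer P
  have ht0 : t ≠ 0 := ff_uniformizer_ne_zero P ht
  obtain ⟨a, b, p, q, hp, hq, heq⟩ := al_factor hgen α t ht0
  have h1 := congrArg P.1 heq
  rw [map_mul, map_mul, map_mul, map_pow, map_pow, al_val_aeval_eq_one P hα p hp,
    al_val_aeval_eq_one P hα q hq, mul_one, mul_one, ht] at h1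
  have hv0 : P.1 (g - algebraMap k F α) ≠ 0 := by
    intro h0
    have hg : g = algebraMap k F α := by
      have := (map_eq_zero P.1).1 h0
      exact sub_eq_zero.1 this
    have hmem : t ∈ (IntermediateField.adjoin k {g} : IntermediateField k F) := by
      rw [hgen]; trivial
    rw [hg] at hmem
    have hbot : (IntermediateField.adjoin k {algebraMap k F α} : IntermediateField k F) = ⊥ := by
      rw [IntermediateField.adjoin_simple_eq_bot_iff]
      exact IntermediateField.algebraMap_mem _ _
    rw [hbot, IntermediateField.mem_bot] at hmem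
    obtain ⟨c, rfl⟩ := hmem
    by_cases hc : c = 0
    · rw [hc, map_zero] at ht0
      exact ht0 rfl
    · rw [ff_val_const P hc, ← WithZero.exp_zero, WithZero.exp_inj] at ht
      omega
  obtain ⟨m, hm⟩ : ∃ m : ℤ, P.1 (g - algebraMap k F α) = WithZero.exp m :=
    ⟨WithZero.log _, (WithZero.exp_log hv0).symm⟩
  rw [hm] at h1 ⊢
  rw [hm, ← WithZero.exp_zero, WithZero.exp_lt_exp] at hα
  rw [← WithZero.exp_nsmul, ← WithZero.exp_nsmul, ← WithZero.exp_add, WithZero.exp_inj] at h1
  rw [WithZero.exp_inj]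
  simp only [nsmul_eq_mul] at h1
  have h2 : m * ((a : ℤ) - b) = -1 := by linarith
  have h3 : m ∣ 1 := ⟨-((a : ℤ) - b), by linarith⟩
  have h4 := Int.isUnit_iff.1 (isUnit_of_dvd_one h3)
  omega

open Polynomial in
/-- Elements integral at the place `g = α` are fractions with denominator not vanishing at `α`. -/
theorem al_integral_frac (P : Place k F) {g : F}
    (hgen : (IntermediateField.adjoin k {g} : IntermediateField k F) = ⊤) {α : k}
    (hα : P.1 (g - algebraMap k F α) < 1) {c : F} (hc : P.1 c ≤ 1) :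
    ∃ p q : k[X], q.eval α ≠ 0 ∧ c * aeval g q = aeval g p := by
  by_cases hc0 : c = 0
  · exact ⟨0, 1, by simp, by rw [hc0]; simp⟩
  obtain ⟨a, b, p, q, hp, hq, heq⟩ := al_factor hgen α c hc0
  have hv := al_val_sub_eq P hgen hα
  have h1 := congrArg P.1 heq
  rw [map_mul, map_mul, map_mul, map_pow, map_pow, al_val_aeval_eq_one P hα p hp,
    al_val_aeval_eq_one P hα q hq, mul_one, mul_one, hv] at h1
  have hab : b ≤ a := by
    by_contra hlt
    push Not at hlt
    have h2 : WithZero.exp (-1 : ℤ) ^ a ≤ WithZero.exp (-1 : ℤ) ^ b := by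
      rw [← h1]
      calc P.1 c * WithZero.exp (-1 : ℤ) ^ b ≤ 1 * WithZero.exp (-1 : ℤ) ^ b :=
            mul_le_mul' hc le_rfl
        _ = _ := one_mul _
    rw [← WithZero.exp_nsmul, ← WithZero.exp_nsmul, WithZero.exp_le_exp] at h2
    simp only [nsmul_eq_mul] at h2
    have : (a : ℤ) < b := by exact_mod_cast hlt
    linarith
  have ht0 : g - algebraMap k F α ≠ 0 := by
    intro h0
    rw [h0, map_zero] at hv
    exact WithZero.exp_ne_zero hv.symm
  refine ⟨(X - C α) ^ (a - b) * p, q, hq, ?_⟩
  obtain ⟨d, rfl⟩ := Nat.exists_eq_add_of_le hab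
  rw [Nat.add_sub_cancel_left]
  simp only [map_mul, map_pow, map_sub, aeval_X, aeval_C]
  have hb0 : (g - algebraMap k F α) ^ b ≠ 0 := pow_ne_zero _ ht0
  apply mul_left_cancel₀ hb0
  rw [pow_add] at heq
  linear_combination heq

/-- The place of `k(g)` with `g = α` is unique. -/
theorem al_place_unique (P P' : Place k F) {g : F}
    (hgen : (IntermediateField.adjoin k {g} : IntermediateField k F) = ⊤) {α : k}
    (hα : P.1 (g - algebraMap k F α) < 1) (hα' : P'.1 (g - algebraMap k F α) < 1) : P = P' := by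
  apply ff_place_eq_of_O_le
  intro c hc
  obtain ⟨p, q, hq, heq⟩ := al_integral_frac P hgen hα (show P.1 c ≤ 1 from hc)
  have hg1 : P'.1 g ≤ 1 := by
    have : g = (g - algebraMap k F α) + algebraMap k F α := by ring
    rw [this]
    exact (P'.1.map_add _ _).trans (max_le hα'.le (P'.2.1 _))
  have h1 := congrArg P'.1 heq
  rw [map_mul, al_val_aeval_eq_one P' hα' q hq, mul_one] at h1
  change P'.1 c ≤ 1
  rw [h1]
  exact ff_aeval_mem_O P' hg1 p

end Rational

section Residue

open LaurentSeries

variable {k K : Type*} [Field k] [Field K] [Algebra k K]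

theorem al_vDiff_mul (w : Valuation K (WithZero (Multiplicative ℤ))) (φ : K →ₐ[k] LaurentSeries k)
    (hφ : ∀ f : K, Valued.v (φ f) = w f) (a u v : K) :
    vDiff φ (a * u) v = w a * vDiff φ u v := by
  unfold vDiff
  rw [_root_.map_mul φ a u, mul_assoc, _root_.map_mul Valued.v (φ a), hφ]

theorem al_resExp_eq_zero_of_vDiff_le (φ : K →ₐ[k] LaurentSeries k) (u v : K)
    (h : vDiff φ u v ≤ 1) : resExp φ u v = 0 := by
  unfold vDiff at h
  have h' : Valued.v (φ u * LocRes.D k (φ v)) ≤ WithZero.exp (-(0 : ℤ)) := by simpa using h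
  rw [resExp, res_apply]
  exact (valuation_le_iff_coeff_lt_eq_zero k).1 h' (-1) (by norm_num)

theorem al_resExp_ne_zero_of_vDiff_eq (φ : K →ₐ[k] LaurentSeries k) (u v : K)
    (h : vDiff φ u v = WithZero.exp 1) : resExp φ u v ≠ 0 := by
  unfold vDiff at h
  have h' : Valued.v (φ u * LocRes.D k (φ v)) = WithZero.exp (-(-1 : ℤ)) := by simpa using h
  rw [resExp, res_apply]
  exact (Groth.Agent.Lib.Helper63.LocResBasic.val_eq_exp_iff.1 h').2

/-- `vDiff φ 1 g = 1` when `g - α` is a uniformizer. -/
theorem al_vDiff_one_of_uniformizer (w : Valuation K (WithZero (Multiplicative ℤ)))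
    (φ : K →ₐ[k] LaurentSeries k) (hφ : ∀ f : K, Valued.v (φ f) = w f) {g : K} {α : k}
    (ht : w (g - algebraMap k K α) = WithZero.exp (-1)) : vDiff φ 1 g = 1 := by
  unfold vDiff
  rw [map_one, one_mul]
  have h1 := Groth.Agent.Lib.Helper63.LocResBasic.val_D_uniformizer w φ hφ ht
  have h2 : LocRes.D k (φ (g - algebraMap k K α)) = LocRes.D k (φ g) := by
    rw [map_sub, map_sub, LocRes.map_algebraMap, LocRes.D_apply k (HahnSeries.C _),
      LocRes.derivative_C, sub_zero]
  rw [← h2]
  exact h1

/-- An element of `k(g)` all of whose multiples by integral elements have zero residue against `dg`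
is integral. -/
theorem al_integral_of_res_eq_zero {F : Type*} [Field F] [Algebra k F] (P : Place k F) {g : F}
    (hgen : (IntermediateField.adjoin k {g} : IntermediateField k F) = ⊤) {α : k}
    (hα : P.1 (g - algebraMap k F α) < 1) (φ : F →ₐ[k] LaurentSeries k)
    (hφ : IsExpansionAt P.1 φ) (u : F)
    (h : ∀ r : F, P.1 r ≤ 1 → resExp φ (r * u) g = 0) : P.1 u ≤ 1 := by
  by_contra hlt
  push Not at hlt
  have hu0 : P.1 u ≠ 0 := (lt_trans zero_lt_one hlt).ne'
  obtain ⟨m, hm⟩ : ∃ m : ℤ, P.1 u = WithZero.exp m := ⟨WithZero.log _, (WithZero.exp_log hu0).symm⟩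
  rw [hm, ← WithZero.exp_zero, WithZero.exp_lt_exp] at hlt
  have ht := al_val_sub_eq P hgen hα
  obtain ⟨n, hn⟩ : ∃ n : ℕ, (n : ℤ) = m - 1 := ⟨(m - 1).toNat, Int.toNat_of_nonneg (by omega)⟩
  have hr : P.1 ((g - algebraMap k F α) ^ n) = WithZero.exp (-(m - 1)) := by
    rw [map_pow, ht, ← WithZero.exp_nsmul, nsmul_eq_mul, hn]
    congr 1
    ring
  have h1 := h ((g - algebraMap k F α) ^ n) (by
    rw [hr, ← WithZero.exp_zero, WithZero.exp_le_exp]; omega)
  apply al_resExp_ne_zero_of_vDiff_eq φ _ _ _ h1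
  rw [← mul_one ((g - algebraMap k F α) ^ n * u), al_vDiff_mul P.1 φ hφ.1,
    al_vDiff_one_of_uniformizer P.1 φ hφ.1 ht, mul_one, map_mul, hr, hm, ← WithZero.exp_add]
  congr 1
  ring

end Residue

end Groth.Agent.Lib.Helper55
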