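import Groth.Agent.Lib.Helper55.FunFld.AdjLocal2
import Mathlib.RingTheory.DedekindDomain.Different

/-! Local duality for `A[y]`, `A` the valuation ring of a place of `k(x)` (S12613). -/

set_option autoImplicit false
set_option linter.unusedSectionVars false
set_option linter.style.haveILetI false

open FunFld Module Polynomial LocRes

namespace Groth.Agent.Lib.Helper55

universe u v

section Dual

variable {k : Type u} {F K : Type v} [Field k] [Field F] [Field K] [Algebra k F] [Algebra F K]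
  [Algebra k K] [IsScalarTower k F K] [FiniteDimensional F K] [Algebra.IsSeparable F K]

/-- The dual statement in elementary terms: the `O_{P₀}`-module `O_{P₀}[y]` has trace dual
`m'(y)⁻¹ O_{P₀}[y]`. -/
theorem al_dual (P₀ : Place k F) {y : K} (htop : Algebra.adjoin F {y} = ⊤)
    (hcoef : ∀ i, P₀.1 ((minpoly F y).coeff i) ≤ 1) (u : K) :
    (∀ G : Polynomial F, (∀ i, P₀.1 (G.coeff i) ≤ 1) →
        P₀.1 (Algebra.trace F K (u * aeval y G)) ≤ 1) ↔
      ∃ G : Polynomial F, (∀ i, P₀.1 (G.coeff i) ≤ 1) ∧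
        u = (aeval y (derivative (minpoly F y)))⁻¹ * aeval y G := by
  classical
  letI algAK : Algebra ↥P₀.O K := ((algebraMap F K).comp (algebraMap ↥P₀.O F)).toAlgebra
  haveI : IsScalarTower ↥P₀.O F K := IsScalarTower.of_algebraMap_eq (fun _ => rfl)
  have hyint : IsIntegral F y := IsIntegral.of_finite F y
  -- lifting polynomials with integral coefficients
  have hlift : ∀ G : Polynomial F, (∀ i, P₀.1 (G.coeff i) ≤ 1) →
      ∃ p : Polynomial ↥P₀.O, p.map (algebraMap ↥P₀.O F) = G := by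
    intro G hG
    refine ⟨∑ i ∈ Finset.range (G.natDegree + 1),
      C (⟨G.coeff i, hG i⟩ : ↥P₀.O) * X ^ i, ?_⟩
    simp only [Polynomial.map_sum, Polynomial.map_mul, Polynomial.map_pow, map_X, map_C]
    conv_rhs => rw [G.as_sum_range_C_mul_X_pow]
    rfl
  have hinj : Function.Injective (algebraMap ↥P₀.O F) := Subtype.val_injective
  -- `y` is integral over `A`
  have hAy : IsIntegral ↥P₀.O y := by
    obtain ⟨p, hp⟩ := hlift (minpoly F y) hcoef
    refine ⟨p, ?_, ?_⟩
    · have hmon : (p.map (algebraMap ↥P₀.O F)).Monic := by rw [hp]; exact minpoly.monic hyint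
      exact Polynomial.monic_of_injective hinj hmon
    · have h1 : aeval y (p.map (algebraMap ↥P₀.O F)) = 0 := by rw [hp]; exact minpoly.aeval F y
      rw [aeval_map_algebraMap] at h1
      exact h1
  have hdual := traceForm_dualSubmodule_adjoin ↥P₀.O F htop hAy
  have hmemA : ∀ g : K, g ∈ Algebra.adjoin ↥P₀.O {y} ↔
      ∃ G : Polynomial F, (∀ i, P₀.1 (G.coeff i) ≤ 1) ∧ g = aeval y G := by
    intro g
    rw [Algebra.adjoin_singleton_eq_range_aeval]
    constructor
    · rintro ⟨p, rfl⟩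
      refine ⟨p.map (algebraMap ↥P₀.O F), fun i => ?_, ?_⟩
      · rw [coeff_map]; exact (p.coeff i).2
      · rw [aeval_map_algebraMap]; rfl
    · rintro ⟨G, hG, rfl⟩
      obtain ⟨p, hp⟩ := hlift G hG
      refine ⟨p, ?_⟩
      rw [← hp, aeval_map_algebraMap]
      rfl
  have hmemD : ∀ u : K, u ∈ (Algebra.traceForm F K).dualSubmodule
      (Subalgebra.toSubmodule (Algebra.adjoin ↥P₀.O {y})) ↔
      ∀ G : Polynomial F, (∀ i, P₀.1 (G.coeff i) ≤ 1) →
        P₀.1 (Algebra.trace F K (u * aeval y G)) ≤ 1 := by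
    intro u
    rw [LinearMap.BilinForm.mem_dualSubmodule]
    constructor
    · intro h G hG
      have h1 := h (aeval y G) ((hmemA _).2 ⟨G, hG, rfl⟩)
      rw [Algebra.traceForm_apply, Submodule.mem_one] at h1
      obtain ⟨a, ha⟩ := h1
      rw [← ha]
      exact a.2
    · intro h g hg
      obtain ⟨G, hG, rfl⟩ := (hmemA g).1 hg
      rw [Algebra.traceForm_apply, Submodule.mem_one]
      exact ⟨⟨_, h G hG⟩, rfl⟩
  rw [← hmemD, hdual, Submodule.mem_smul_pointwise_iff_exists]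
  constructor
  · rintro ⟨b, hb, rfl⟩
    obtain ⟨G, hG, rfl⟩ := (hmemA b).1 hb
    exact ⟨G, hG, rfl⟩
  · rintro ⟨G, hG, rfl⟩
    exact ⟨aeval y G, (hmemA _).2 ⟨G, hG, rfl⟩, rfl⟩

end Dual

section Trace

variable {k : Type u} {F K : Type v} [Field k] [Field F] [Field K] [Algebra k F] [Algebra F K]
  [Algebra k K] [IsScalarTower k F K] [FiniteDimensional F K] [Algebra.IsSeparable F K]

theorem al_isOver_le {Q : Place k K} {P₀ : Place k F} (h : IsOver Q P₀) {c : F}
    (hc : P₀.1 c ≤ 1) : Q.1 (algebraMap F K c) ≤ 1 := by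
  obtain ⟨e, he⟩ := h
  rw [he c]
  exact pow_le_one' hc e

theorem al_val_aeval_le_one {Q : Place k K} {P₀ : Place k F} (h : IsOver Q P₀) {y : K}
    (hy : Q.1 y ≤ 1) (G : Polynomial F) (hG : ∀ i, P₀.1 (G.coeff i) ≤ 1) :
    Q.1 (aeval y G) ≤ 1 := by
  rw [aeval_eq_sum_range]
  refine Q.1.map_sum_le fun i _ => ?_
  rw [Algebra.smul_def, map_mul, map_pow]
  exact mul_le_one' (al_isOver_le h (hG i)) (pow_le_one' hy i)

variable (hF : IsFunctionField k F) (hK : IsFunctionField k K) (P₀ : Place k F) {g : F}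
  (hgen : (IntermediateField.adjoin k {g} : IntermediateField k F) = ⊤) {α : k}
  (hα : P₀.1 (g - algebraMap k F α) < 1) {y : K} (htop : Algebra.adjoin F {y} = ⊤)
  (hcoef : ∀ i, P₀.1 ((minpoly F y).coeff i) ≤ 1)
  (Qs : Finset (Place k K)) (hQs : ∀ Q, Q ∈ Qs ↔ IsOver Q P₀)
  (φ₀ : F →ₐ[k] LaurentSeries k) (hφ₀ : IsExpansionAt P₀.1 φ₀)
  (ψ : Place k K → (K →ₐ[k] LaurentSeries k)) (hψ : ∀ Q ∈ Qs, IsExpansionAt Q.1 (ψ Q))
  (hyQ : ∀ Q ∈ Qs, Q.1 y ≤ 1)

include hF hK hQs hφ₀ hψ in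
theorem al_trace_res (w : K) :
    resExp φ₀ (Algebra.trace F K w) g = ∑ Q ∈ Qs, resExp (ψ Q) w (algebraMap F K g) := by
  have h := ff_locRes_trace hF hK P₀ φ₀ hφ₀ Qs hQs (fun _ => k) ψ hψ w g
  unfold locRes at h
  rw [Algebra.trace_self_apply] at h
  rw [h]
  refine Finset.sum_congr rfl fun Q _ => ?_
  exact Algebra.trace_self_apply _

theorem al_deriv_ne_zero (y : K) : aeval y (derivative (minpoly F y)) ≠ 0 :=
  (Algebra.IsSeparable.isSeparable F y).aeval_derivative_ne_zero (minpoly.aeval _ _)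

include hF hK hgen hα htop hcoef hQs hφ₀ hψ hyQ in
/-- Key lemma: an element `z` with `z m'(y)⁻¹ dx` regular at all places over `P₀` lies in
`O_{P₀}[y]`. -/
theorem al_key (z : K)
    (hz : ∀ Q ∈ Qs, vDiff (ψ Q) (z * (aeval y (derivative (minpoly F y)))⁻¹)
      (algebraMap F K g) ≤ 1) :
    ∃ G : Polynomial F, (∀ i, P₀.1 (G.coeff i) ≤ 1) ∧ z = aeval y G := by
  have hm := al_deriv_ne_zero (F := F) y
  obtain ⟨G, hG, hzG⟩ := (al_dual P₀ htop hcoef
    (z * (aeval y (derivative (minpoly F y)))⁻¹)).1 (by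
      intro G hG
      apply al_integral_of_res_eq_zero P₀ hgen hα φ₀ hφ₀
      intro r hr
      have e1 : r * Algebra.trace F K (z * (aeval y (derivative (minpoly F y)))⁻¹ * aeval y G) =
          Algebra.trace F K ((algebraMap F K r * aeval y G) *
            (z * (aeval y (derivative (minpoly F y)))⁻¹)) := by
        rw [← smul_eq_mul, ← map_smul, Algebra.smul_def]
        congr 1
        ring
      rw [e1, al_trace_res hF hK P₀ Qs hQs φ₀ hφ₀ ψ hψ]
      refine Finset.sum_eq_zero fun Q hQ => ?_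
      apply al_resExp_eq_zero_of_vDiff_le
      rw [al_vDiff_mul Q.1 (ψ Q) (hψ Q hQ).1]
      have hQo := (hQs Q).1 hQ
      have h1 : Q.1 (algebraMap F K r * aeval y G) ≤ 1 := by
        rw [map_mul]
        exact mul_le_one' (al_isOver_le hQo hr) (al_val_aeval_le_one hQo (hyQ Q hQ) G hG)
      exact mul_le_one' h1 (hz Q hQ))
  refine ⟨G, hG, ?_⟩
  have e2 : z = (z * (aeval y (derivative (minpoly F y)))⁻¹) *
      aeval y (derivative (minpoly F y)) := by
    rw [mul_assoc, inv_mul_cancel₀ hm, mul_one]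
  rw [e2, hzG, mul_comm, ← mul_assoc, mul_inv_cancel₀ hm, one_mul]

include hF hK hgen hα htop hcoef hQs hφ₀ hψ in
/-- Lemma E: the residues of `b m'(y)⁻¹ dx`, `b ∈ O_{P₀}[y]`, over `P₀` sum to zero. -/
theorem al_sum_res (G : Polynomial F) (hG : ∀ i, P₀.1 (G.coeff i) ≤ 1) :
    ∑ Q ∈ Qs, resExp (ψ Q) (aeval y G * (aeval y (derivative (minpoly F y)))⁻¹)
      (algebraMap F K g) = 0 := by
  rw [← al_trace_res hF hK P₀ Qs hQs φ₀ hφ₀ ψ hψ]
  have h1 : P₀.1 (Algebra.trace F K
      (aeval y G * (aeval y (derivative (minpoly F y)))⁻¹)) ≤ 1 := by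
    have := (al_dual P₀ htop hcoef ((aeval y (derivative (minpoly F y)))⁻¹)).2
      ⟨1, fun i => by
        rw [coeff_one]
        split_ifs
        · rw [map_one]
        · rw [map_zero]; exact zero_le, by rw [map_one, mul_one]⟩ G hG
    rwa [mul_comm] at this
  have hg1 : P₀.1 g ≤ 1 := by
    have : g = (g - algebraMap k F α) + algebraMap k F α := by ring
    rw [this]
    exact (P₀.1.map_add _ _).trans (max_le hα.le (P₀.2.1 _))
  exact Groth.Agent.Lib.Helper63.LocResBasic.resExp_eq_zero_of_le_one P₀.1 φ₀ hφ₀.1 h1 hg1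

end Trace

end Groth.Agent.Lib.Helper55
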