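import Groth.Agent.Lib.Helper55.FunFld.PlaneJac

/-! The Jacobian criterion for projective curves in `P^n` (S11071). -/

set_option autoImplicit false
set_option linter.unusedSectionVars false
set_option linter.style.haveILetI false

open FunFld Module

namespace Groth.Agent.Lib.Helper55

variable {k K : Type*} [Field k] [Field K] [Algebra k K]

/-- Second-order Taylor expansion. -/
theorem ff_taylor2 {ι : Type*} [Fintype ι] (b : ι → k) (G : MvPolynomial ι k) :
    ∃ h : ι → ι → MvPolynomial ι k,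
      G = MvPolynomial.C (MvPolynomial.eval b G) +
        ∑ i, MvPolynomial.C (MvPolynomial.eval b (MvPolynomial.pderiv i G)) *
          (MvPolynomial.X i - MvPolynomial.C (b i)) +
        ∑ i, ∑ j, (MvPolynomial.X i - MvPolynomial.C (b i)) *
          (MvPolynomial.X j - MvPolynomial.C (b j)) * h i j := by
  obtain ⟨h1, hG, hh1⟩ := ff_taylor_exact b G
  choose h2 hh2 _ using fun i => ff_taylor_exact b (h1 i)
  refine ⟨h2, ?_⟩
  conv_lhs => rw [hG]
  rw [add_assoc]
  congr 1
  rw [← Finset.sum_add_distrib]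
  refine Finset.sum_congr rfl fun i _ => ?_
  conv_lhs => rw [hh2 i, hh1 i]
  rw [mul_add, Finset.mul_sum, mul_comm]
  congr 1
  refine Finset.sum_congr rfl fun j _ => ?_
  ring

/-- Second-order Taylor expansion evaluated at a point of `K`. -/
theorem ff_taylor2_aeval {ι : Type*} [Fintype ι] (b : ι → k) (x : ι → K)
    (G : MvPolynomial ι k) :
    ∃ h : ι → ι → MvPolynomial ι k,
      MvPolynomial.aeval x G = algebraMap k K (MvPolynomial.eval b G) +
        ∑ i, algebraMap k K (MvPolynomial.eval b (MvPolynomial.pderiv i G)) *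
          (x i - algebraMap k K (b i)) +
        ∑ i, ∑ j, (x i - algebraMap k K (b i)) * (x j - algebraMap k K (b j)) *
          MvPolynomial.aeval x (h i j) := by
  obtain ⟨h, hG⟩ := ff_taylor2 b G
  refine ⟨h, ?_⟩
  conv_lhs => rw [hG]
  simp only [map_add, map_sum, map_mul, map_sub, MvPolynomial.aeval_C, MvPolynomial.aeval_X]

/-- rank is invariant under a bijective field homomorphism. -/
theorem ff_rank_map_of_bijective {κ : Type*} [Field κ] [Algebra k κ]
    (hbij : Function.Bijective (algebraMap k κ)) {r n : ℕ} (J : Matrix (Fin r) (Fin n) k) :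
    (J.map (algebraMap k κ)).rank = J.rank := by
  classical
  rw [Matrix.rank_eq_finrank_span_row, Matrix.rank_eq_finrank_span_row]
  let e0 : k ≃ₗ[k] κ := LinearEquiv.ofBijective (Algebra.linearMap k κ) hbij
  let e : (Fin n → k) ≃ₗ[k] (Fin n → κ) := LinearEquiv.piCongrRight fun _ => e0
  have he : ∀ v : Fin n → k, e v = fun j => algebraMap k κ (v j) := fun v => rfl
  have h1 : finrank κ ↥(Submodule.span κ (Set.range (J.map (algebraMap k κ)).row)) =
      finrank k ↥((Submodule.span κ (Set.range (J.map (algebraMap k κ)).row)).restrictScalars k) := by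
    have hκ : finrank k κ = 1 := by
      rw [← LinearEquiv.finrank_eq e0, finrank_self]
    have := Module.finrank_mul_finrank k κ
      ↥(Submodule.span κ (Set.range (J.map (algebraMap k κ)).row))
    rw [hκ, one_mul] at this
    rw [this]
    rfl
  have h2 : (Submodule.span κ (Set.range (J.map (algebraMap k κ)).row)).restrictScalars k =
      (Submodule.span k (Set.range J.row)).map (e : (Fin n → k) →ₗ[k] (Fin n → κ)) := by
    rw [Submodule.map_span]
    apply le_antisymm
    · intro v hv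
      rw [Submodule.restrictScalars_mem] at hv
      induction hv using Submodule.span_induction with
      | mem v hv =>
        obtain ⟨i, rfl⟩ := hv
        apply Submodule.subset_span
        exact ⟨J.row i, ⟨i, rfl⟩, rfl⟩
      | zero => exact Submodule.zero_mem _
      | add v w _ _ hv hw => exact Submodule.add_mem _ hv hw
      | smul a v _ hv =>
        obtain ⟨a', rfl⟩ := hbij.2 a
        have : algebraMap k κ a' • v = a' • v := by
          ext j
          simp [Algebra.smul_def]
        rw [this]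
        exact Submodule.smul_mem _ _ hv
    · rw [Submodule.span_le]
      rintro _ ⟨_, ⟨i, rfl⟩, rfl⟩
      rw [SetLike.mem_coe, Submodule.restrictScalars_mem]
      apply Submodule.subset_span
      exact ⟨i, rfl⟩
  rw [h1, h2]
  exact LinearEquiv.finrank_map_eq e _

section LocRing

variable (R : Subalgebra k K) (P : Place k K)

theorem ffj_val_le_one (hR : ∀ z ∈ R, P.1 z ≤ 1) {z : K} (hz : z ∈ ff_locRing R P) :
    P.1 z ≤ 1 := by
  obtain ⟨u, hu, w, hw, hw1, hzw⟩ := hz
  have h1 : P.1 z * P.1 w = P.1 u := by rw [← map_mul, hzw]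
  rw [hw1, mul_one] at h1
  rw [h1]
  exact hR u hu

theorem ffj_inv_mem {z : K} (hz : z ∈ ff_locRing R P) (h1 : P.1 z = 1) :
    z⁻¹ ∈ ff_locRing R P := by
  obtain ⟨u, hu, w, hw, hw1, hzw⟩ := hz
  have hz0 : z ≠ 0 := by
    rintro rfl
    rw [map_zero] at h1
    exact zero_ne_one h1
  have hu1 : P.1 u = 1 := by rw [← hzw, map_mul, h1, hw1, one_mul]
  refine ⟨w, hw, u, hu, hu1, ?_⟩
  rw [← hzw]
  field_simp

/-- Elements of valuation `< 1` lie in the Jacobson radical of the local ring. -/
theorem ffj_mem_jacobson (hR : ∀ z ∈ R, P.1 z ≤ 1) (s : ↥(ff_locRing R P))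
    (hs : P.1 (s : K) < 1) : s ∈ Ideal.jacobson (⊥ : Ideal ↥(ff_locRing R P)) := by
  rw [Ideal.mem_jacobson_bot]
  intro t
  have ht : P.1 (t : K) ≤ 1 := ffj_val_le_one R P hR t.2
  have h1 : P.1 ((s * t + 1 : ↥(ff_locRing R P)) : K) = 1 := by
    have : ((s * t + 1 : ↥(ff_locRing R P)) : K) = 1 + (s : K) * (t : K) := by
      push_cast; ring
    rw [this]
    apply Valuation.map_one_add_of_lt
    rw [map_mul]
    calc P.1 (s : K) * P.1 (t : K) ≤ P.1 (s : K) * 1 := mul_le_mul' le_rfl ht
      _ = P.1 (s : K) := mul_one _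
      _ < 1 := hs
  rw [isUnit_iff_exists_inv]
  refine ⟨⟨((s * t + 1 : ↥(ff_locRing R P)) : K)⁻¹,
    ffj_inv_mem R P (s * t + 1).2 h1⟩, ?_⟩
  apply Subtype.ext
  push_cast
  apply mul_inv_cancel₀
  intro h0
  have : ((s * t + 1 : ↥(ff_locRing R P)) : K) = (s : K) * (t : K) + 1 := by push_cast; ring
  rw [this, h0, map_zero] at h1
  exact zero_ne_one h1

end LocRing

section Main

variable [IsAlgClosed k]

theorem ff_jac_nonsing_of_rank (hK : IsFunctionField k K) (P : Place k K) {n r : ℕ}
    (x : Fin (n + 1) → K) (b : Fin (n + 1) → k) (hx0 : x 0 = 1) (hb0 : b 0 = 1)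
    (hx1 : ∀ i, P.1 (x i) ≤ 1) (hb : ∀ i, P.1 (x i - algebraMap k K (b i)) < 1)
    (f : Fin r → MvPolynomial (Fin (n + 1)) k) (hfx : ∀ i, MvPolynomial.aeval x (f i) = 0)
    (J : Matrix (Fin r) (Fin n) k)
    (hJ : ∀ i j, J i j = MvPolynomial.eval b (MvPolynomial.pderiv j.succ (f i)))
    (hfrac : ∀ z : K, ∃ r w : K, r ∈ Algebra.adjoin k (Set.range x) ∧
      w ∈ Algebra.adjoin k (Set.range x) ∧ w ≠ 0 ∧ z * w = r)
    (hrank : J.rank + 1 = n) {z : K} (hz : P.1 z ≤ 1) :
    z ∈ ff_locRing (Algebra.adjoin k (Set.range x)) P := by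
  classical
  obtain ⟨R, hRdef⟩ : ∃ R : Subalgebra k K, R = Algebra.adjoin k (Set.range x) := ⟨_, rfl⟩
  rw [← hRdef]
  simp only [← hRdef] at hfrac
  have hRaeval : ∀ z ∈ R, ∃ G : MvPolynomial (Fin (n + 1)) k, MvPolynomial.aeval x G = z := by
    intro z hz
    rw [hRdef, Algebra.adjoin_range_eq_range_aeval] at hz
    exact hz
  have haevalR : ∀ G : MvPolynomial (Fin (n + 1)) k, MvPolynomial.aeval x G ∈ R := by
    intro G
    rw [hRdef, Algebra.adjoin_range_eq_range_aeval]
    exact ⟨G, rfl⟩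
  have hRle : ∀ z ∈ R, P.1 z ≤ 1 := by
    intro z hz
    obtain ⟨G, rfl⟩ := hRaeval z hz
    exact ff_val_aeval_le_one P x hx1 G
  obtain ⟨y, hy⟩ : ∃ y : Fin (n + 1) → K, y = fun i => x i - algebraMap k K (b i) := ⟨_, rfl⟩
  have hy0 : y 0 = 0 := by
    rw [hy]
    simp only
    rw [hx0, hb0, map_one, sub_self]
  have hylt : ∀ i, P.1 (y i) < 1 := fun i => by rw [hy]; exact hb i
  have hyR : ∀ i, y i ∈ R := by
    intro i
    rw [hy, hRdef]
    exact Subalgebra.sub_mem _ (Algebra.subset_adjoin ⟨i, rfl⟩) (Subalgebra.algebraMap_mem _ _)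
  have hfb : ∀ i, MvPolynomial.eval b (f i) = 0 := by
    intro i
    have h1 := ff_val_aeval_sub_lt_one P x b hb hx1 (f i)
    rw [hfx i, zero_sub, Valuation.map_neg] at h1
    by_contra hne
    rw [ff_val_const P hne] at h1
    exact lt_irrefl _ h1
  -- linear algebra
  obtain ⟨W, hW⟩ : ∃ W : Submodule k (Fin n → k), W = Submodule.span k (Set.range J.row) :=
    ⟨_, rfl⟩
  have hWrank : finrank k W = J.rank := by rw [hW]; exact (Matrix.rank_eq_finrank_span_row J).symm
  have hexl : ∃ l : Fin n, (Pi.single l 1 : Fin n → k) ∉ W := by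
    by_contra hcon
    push Not at hcon
    have : W = ⊤ := by
      rw [eq_top_iff, ← (Pi.basisFun k (Fin n)).span_eq, Submodule.span_le]
      rintro _ ⟨l, rfl⟩
      rw [Pi.basisFun_apply]
      exact hcon l
    rw [this, finrank_top, Module.finrank_fin_fun] at hWrank
    omega
  obtain ⟨l, hl⟩ := hexl
  have hel0 : (Pi.single l 1 : Fin n → k) ≠ 0 := by
    intro h
    apply hl
    rw [h]
    exact W.zero_mem
  have hsup : W ⊔ Submodule.span k {(Pi.single l 1 : Fin n → k)} = ⊤ := by
    apply Submodule.eq_top_of_finrank_eq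
    have h1 := Submodule.finrank_sup_add_finrank_inf_eq W
      (Submodule.span k {(Pi.single l 1 : Fin n → k)})
    have h2 : W ⊓ Submodule.span k {(Pi.single l 1 : Fin n → k)} = ⊥ := by
      rw [← disjoint_iff, Submodule.disjoint_span_singleton' hel0]
      exact hl
    rw [h2, finrank_bot, add_zero, finrank_span_singleton hel0, hWrank] at h1
    rw [h1, Module.finrank_fin_fun, hrank]
  have hdecomp : ∀ j : Fin n, ∃ (a : Fin r → k) (d : k), ∀ p : Fin n,
      (Pi.single j 1 : Fin n → k) p = ∑ i, a i * J i p + d * (Pi.single l 1 : Fin n → k) p := by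
    intro j
    have hmem : (Pi.single j 1 : Fin n → k) ∈
        W ⊔ Submodule.span k {(Pi.single l 1 : Fin n → k)} := by
      rw [hsup]; trivial
    obtain ⟨w, hw, v, hv, hwv⟩ := Submodule.mem_sup.1 hmem
    rw [hW] at hw
    obtain ⟨a, ha⟩ := (Submodule.mem_span_range_iff_exists_fun k).1 hw
    obtain ⟨d, hd⟩ := Submodule.mem_span_singleton.1 hv
    refine ⟨a, d, fun p => ?_⟩
    rw [← hwv, ← ha, ← hd]
    simp only [Pi.add_apply, Finset.sum_apply, Pi.smul_apply, smul_eq_mul, Matrix.row]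
  -- Taylor for the equations
  choose h hh using fun i => ff_taylor2_aeval b x (f i)
  have hTay : ∀ i, ∑ p : Fin n, algebraMap k K (J i p) * y p.succ =
      -∑ p, ∑ p', y p * y p' * MvPolynomial.aeval x (h i p p') := by
    intro i
    have h1 := hh i
    rw [hfx i, hfb i, map_zero, zero_add, Fin.sum_univ_succ] at h1
    have h2 : x 0 - algebraMap k K (b 0) = 0 := by rw [hx0, hb0, map_one, sub_self]
    rw [h2, mul_zero, zero_add] at h1
    rw [eq_neg_iff_add_eq_zero]
    rw [h1]
    congr 1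
    · refine Finset.sum_congr rfl fun p _ => ?_
      rw [hJ, hy]
    · rw [hy]
  -- the local ring
  obtain ⟨S, hS⟩ : ∃ S : Subalgebra k K, S = ff_locRing R P := ⟨_, rfl⟩
  rw [← hS]
  have hRS : ∀ z ∈ R, z ∈ S := fun z hz => by rw [hS]; exact ff_le_locRing R P hz
  have hSle : ∀ z ∈ S, P.1 z ≤ 1 := fun z hz => by
    rw [hS] at hz; exact ffj_val_le_one R P hRle hz
  have hSinv : ∀ z ∈ S, P.1 z = 1 → z⁻¹ ∈ S := fun z hz h1 => by
    rw [hS] at hz ⊢; exact ff_inv_mem_locRing R P hz h1
  let Yf : Fin (n + 1) → ↥S := fun p => ⟨y p, hRS _ (hyR p)⟩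
  obtain ⟨𝔪, h𝔪⟩ : ∃ 𝔪 : Ideal ↥S, 𝔪 = Ideal.span (Set.range fun j : Fin n => Yf j.succ) :=
    ⟨_, rfl⟩
  have hYf𝔪 : ∀ p, Yf p ∈ 𝔪 := by
    intro p
    refine Fin.cases ?_ (fun j => ?_) p
    · have : Yf 0 = 0 := Subtype.ext hy0
      rw [this]
      exact 𝔪.zero_mem
    · rw [h𝔪]
      exact Ideal.subset_span ⟨j, rfl⟩
  have h𝔪lt : ∀ s ∈ 𝔪, P.1 (s : K) < 1 := by
    intro s hs
    rw [h𝔪] at hs
    induction hs using Submodule.span_induction with
    | mem s hs =>
      obtain ⟨j, rfl⟩ := hs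
      exact hylt _
    | zero => simp
    | add s t _ _ hs ht => exact (P.1.map_add _ _).trans_lt (max_lt hs ht)
    | smul a s _ hs =>
      change P.1 ((a : K) * (s : K)) < 1
      rw [map_mul]
      calc P.1 (a : K) * P.1 (s : K) ≤ 1 * P.1 (s : K) := mul_le_mul' (hSle _ a.2) le_rfl
        _ = P.1 (s : K) := one_mul _
        _ < 1 := hs
  have hjac : 𝔪 ≤ Ideal.jacobson ⊥ := by
    intro s hs
    have := h𝔪lt s hs
    subst hS
    exact ffj_mem_jacobson R P hRle s this
  have hfg : (𝔪 : Submodule ↥S ↥S).FG := by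
    rw [h𝔪]
    exact Submodule.fg_span (Set.finite_range _)
  have hNN : 𝔪 ≤ Ideal.span {Yf l.succ} ⊔ 𝔪 • 𝔪 := by
    conv_lhs => rw [h𝔪]
    rw [Ideal.span_le]
    rintro _ ⟨j, rfl⟩
    obtain ⟨a, d, had⟩ := hdecomp j
    let q : Fin r → ↥S := fun i => ∑ p, ∑ p', Yf p * Yf p' *
      ⟨MvPolynomial.aeval x (h i p p'), hRS _ (haevalR _)⟩
    have hq𝔪 : ∀ i, q i ∈ 𝔪 • 𝔪 := by
      intro i
      refine Submodule.sum_mem _ fun p _ => Submodule.sum_mem _ fun p' _ => ?_
      rw [smul_eq_mul]
      exact Ideal.mul_mem_right _ _ (Ideal.mul_mem_mul (hYf𝔪 p) (hYf𝔪 p'))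
    have hqK : ∀ i, ((q i : ↥S) : K) =
        ∑ p, ∑ p', y p * y p' * MvPolynomial.aeval x (h i p p') := by
      intro i
      simp only [q, AddSubmonoidClass.coe_finsetSum, MulMemClass.coe_mul]
      rfl
    have key : Yf j.succ = algebraMap k ↥S d * Yf l.succ +
        (-∑ i, algebraMap k ↥S (a i) * q i) := by
      apply Subtype.ext
      have e1 : y j.succ =
          ∑ p : Fin n, algebraMap k K ((Pi.single j 1 : Fin n → k) p) * y p.succ := by
        rw [Finset.sum_eq_single j]
        · rw [Pi.single_eq_same, map_one, one_mul]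
        · intro p _ hp
          rw [Pi.single_eq_of_ne hp, map_zero, zero_mul]
        · intro h; exact absurd (Finset.mem_univ j) h
      have e2 : ∑ p : Fin n, algebraMap k K ((Pi.single l 1 : Fin n → k) p) * y p.succ =
          y l.succ := by
        rw [Finset.sum_eq_single l]
        · rw [Pi.single_eq_same, map_one, one_mul]
        · intro p _ hp
          rw [Pi.single_eq_of_ne hp, map_zero, zero_mul]
        · intro h; exact absurd (Finset.mem_univ l) h
      change y j.succ = _
      rw [e1]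
      simp only [had, map_add, map_sum, map_mul, add_mul, Finset.sum_add_distrib, Finset.sum_mul]
      rw [Finset.sum_comm]
      push_cast
      simp only [hqK]
      have e3 : ∀ i, ∑ p : Fin n, algebraMap k K (a i) * algebraMap k K (J i p) * y p.succ =
          algebraMap k K (a i) * -∑ p, ∑ p', y p * y p' * MvPolynomial.aeval x (h i p p') := by
        intro i
        rw [← hTay i, Finset.mul_sum]
        refine Finset.sum_congr rfl fun p _ => ?_
        ring
      rw [Finset.sum_congr rfl fun i _ => e3 i]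
      have e4 : ∑ p : Fin n, algebraMap k K d * algebraMap k K ((Pi.single l 1 : Fin n → k) p) *
          y p.succ = algebraMap k K d * y l.succ := by
        rw [← e2, Finset.mul_sum]
        refine Finset.sum_congr rfl fun p _ => ?_
        ring
      rw [e4]
      simp only [mul_neg, Finset.sum_neg_distrib]
      rw [add_comm]
    change Yf j.succ ∈ _
    rw [key]
    refine Submodule.add_mem_sup (Ideal.mul_mem_left _ _ (Ideal.subset_span rfl))
      (Submodule.neg_mem _ (Submodule.sum_mem _ fun i _ => ?_))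
    exact Ideal.mul_mem_left _ _ (hq𝔪 i)
  have h𝔪t : 𝔪 ≤ Ideal.span {Yf l.succ} :=
    Submodule.le_of_le_smul_of_le_jacobson_bot hfg hjac hNN
  obtain ⟨t, ht⟩ : ∃ t : K, t = y l.succ := ⟨_, rfl⟩
  have htS : t ∈ S := by rw [ht]; exact hRS _ (hyR _)
  have htlt : P.1 t < 1 := by rw [ht]; exact hylt _
  -- every element of `S` of valuation `< 1` is divisible by `t`
  have hdiv : ∀ z ∈ S, P.1 z < 1 → ∃ s ∈ S, z = t * s := by
    intro z hzS hzlt
    have hzS' := hzS
    rw [hS] at hzS'
    obtain ⟨u, hu, w, hw, hw1, hzw⟩ := hzS'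
    obtain ⟨U, rfl⟩ := hRaeval u hu
    have hUb : MvPolynomial.eval b U = 0 := by
      have h1 := ff_val_aeval_sub_lt_one P x b hb hx1 U
      by_contra hne
      have h2 : P.1 (MvPolynomial.aeval x U) < 1 := by
        rw [← hzw, map_mul, hw1, mul_one]; exact hzlt
      have h3 : P.1 (algebraMap k K (MvPolynomial.eval b U)) < 1 := by
        have : algebraMap k K (MvPolynomial.eval b U) = MvPolynomial.aeval x U -
            (MvPolynomial.aeval x U - algebraMap k K (MvPolynomial.eval b U)) := by ring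
        rw [this]
        exact (P.1.map_sub _ _).trans_lt (max_lt h2 h1)
      rw [ff_val_const P hne] at h3
      exact lt_irrefl _ h3
    obtain ⟨g, hg, -⟩ := ff_taylor_exact b U
    have hu𝔪 : (⟨MvPolynomial.aeval x U, hRS _ hu⟩ : ↥S) ∈ 𝔪 := by
      have : (⟨MvPolynomial.aeval x U, hRS _ hu⟩ : ↥S) =
          ∑ p, Yf p * ⟨MvPolynomial.aeval x (g p), hRS _ (haevalR _)⟩ := by
        apply Subtype.ext
        simp only [AddSubmonoidClass.coe_finsetSum, MulMemClass.coe_mul]
        conv_lhs => rw [hg, hUb]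
        simp only [map_add, map_sum, map_mul, map_sub, MvPolynomial.aeval_C,
          MvPolynomial.aeval_X, map_zero, zero_add]
        refine Finset.sum_congr rfl fun p _ => ?_
        change _ = y p * _
        rw [hy]
      rw [this]
      exact Submodule.sum_mem _ fun p _ => Ideal.mul_mem_right _ _ (hYf𝔪 p)
    obtain ⟨s', hs'⟩ := Ideal.mem_span_singleton'.1 (h𝔪t hu𝔪)
    have hs'K : (s' : K) * t = MvPolynomial.aeval x U := by
      have := congrArg (Subtype.val) hs'
      rw [ht]; exact this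
    have hwinv : w⁻¹ ∈ S := hSinv w (hRS _ hw) hw1
    have hw0 : w ≠ 0 := by
      rintro rfl
      rw [map_zero] at hw1
      exact zero_ne_one hw1
    refine ⟨s' * w⁻¹, S.mul_mem s'.2 hwinv, ?_⟩
    rw [← mul_assoc, mul_comm t, hs'K, ← hzw]
    field_simp
  have hdescent : ∀ N : ℕ, ∀ z ∈ S, z ≠ 0 → WithZero.exp (-(N : ℤ)) ≤ P.1 z →
      ∃ (m : ℕ) (v : K), v ∈ S ∧ P.1 v = 1 ∧ z = t ^ m * v := by
    intro N
    induction N with
    | zero =>
      intro z hzS hz0 hle
      rw [Nat.cast_zero, neg_zero, WithZero.exp_zero] at hle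
      exact ⟨0, z, hzS, le_antisymm (hSle z hzS) hle, by rw [pow_zero, one_mul]⟩
    | succ N ih =>
      intro z hzS hz0 hle
      by_cases h1 : P.1 z = 1
      · exact ⟨0, z, hzS, h1, by rw [pow_zero, one_mul]⟩
      · have hlt : P.1 z < 1 := lt_of_le_of_ne (hSle z hzS) h1
        obtain ⟨s, hsS, hzs⟩ := hdiv z hzS hlt
        have hs0 : s ≠ 0 := by
          rintro rfl
          rw [mul_zero] at hzs
          exact hz0 hzs
        have hsle : WithZero.exp (-(N : ℤ)) ≤ P.1 s := by
          have h2 : P.1 z = P.1 t * P.1 s := by rw [hzs, map_mul]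
          have h3 : P.1 t ≤ WithZero.exp (-1) := ff_lt_one_iff.1 htlt
          by_contra hcon
          push Not at hcon
          have h4 : P.1 s ≤ WithZero.exp (-(N : ℤ) - 1) := ff_lt_exp_iff.1 hcon
          have h5 : P.1 z ≤ WithZero.exp (-1) * WithZero.exp (-(N : ℤ) - 1) := by
            rw [h2]; exact mul_le_mul' h3 h4
          rw [← WithZero.exp_add] at h5
          have h6 := hle.trans h5
          rw [WithZero.exp_le_exp] at h6
          push_cast at h6
          omega
        obtain ⟨m, v, hvS, hv1, hsv⟩ := ih s hsS hs0 hsle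
        exact ⟨m + 1, v, hvS, hv1, by rw [hzs, hsv, pow_succ]; ring⟩
  have hdec : ∀ z ∈ S, z ≠ 0 → ∃ (m : ℕ) (v : K), v ∈ S ∧ P.1 v = 1 ∧ z = t ^ m * v := by
    intro z hzS hz0
    obtain ⟨N, hN⟩ : ∃ N : ℕ, WithZero.exp (-(N : ℤ)) ≤ P.1 z := by
      have hne := ff_val_ne_zero P hz0
      refine ⟨(-(WithZero.log (P.1 z))).toNat, ?_⟩
      conv_rhs => rw [← WithZero.exp_log hne]
      rw [WithZero.exp_le_exp]
      have := Int.self_le_toNat (-(WithZero.log (P.1 z)))
      omega
    exact hdescent N z hzS hz0 hN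
  by_cases hz0 : z = 0
  · rw [hz0]; exact S.zero_mem
  obtain ⟨rr, w, hrR, hwR, hw0, hzw⟩ := hfrac z
  have hr0 : rr ≠ 0 := by
    rintro rfl
    exact (mul_ne_zero hz0 hw0) hzw
  obtain ⟨m, v, hvS, hv1, hrv⟩ := hdec rr (hRS _ hrR) hr0
  obtain ⟨m', v', hv'S, hv'1, hwv⟩ := hdec w (hRS _ hwR) hw0
  have hv'0 : v' ≠ 0 := by
    rintro rfl
    rw [map_zero] at hv'1
    exact zero_ne_one hv'1
  by_cases hmm : m' ≤ m
  · have htm' : t ^ m' ≠ 0 := by
      intro h0
      rw [h0, zero_mul] at hwv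
      exact hw0 hwv
    have hzeq : z = t ^ (m - m') * (v * v'⁻¹) := by
      have h1 : z = rr / w := by rw [← hzw]; field_simp
      obtain ⟨d, rfl⟩ := Nat.exists_eq_add_of_le hmm
      rw [h1, hrv, hwv, Nat.add_sub_cancel_left, pow_add]
      field_simp
    rw [hzeq]
    exact S.mul_mem (S.pow_mem htS _) (S.mul_mem hvS (hSinv v' hv'S hv'1))
  · exfalso
    push Not at hmm
    have ht0 : t ≠ 0 := by
      rintro rfl
      rw [zero_pow (by omega), zero_mul] at hwv
      exact hw0 hwv
    have hPt0 : P.1 t ≠ 0 := ff_val_ne_zero P ht0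
    have h1 : P.1 z * P.1 t ^ m' = P.1 t ^ m := by
      have := congrArg P.1 hzw
      rw [map_mul, hwv, hrv, map_mul, map_mul, map_pow, map_pow, hv1, hv'1, mul_one, mul_one] at this
      exact this
    have h2 : P.1 t ^ m ≤ P.1 t ^ m' := by
      rw [← h1]
      calc P.1 z * P.1 t ^ m' ≤ 1 * P.1 t ^ m' := mul_le_mul' hz le_rfl
        _ = P.1 t ^ m' := one_mul _
    have h3 : P.1 t ^ m' < P.1 t ^ m :=
      pow_lt_pow_right_of_lt_one₀ (pos_iff_ne_zero.2 hPt0) htlt hmm
    exact absurd h2 (not_le.2 h3)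

theorem ff_eval_pderiv_mul_of_eval_eq_zero {ι : Type*} (b : ι → k) (A B : MvPolynomial ι k)
    (hA : MvPolynomial.eval b A = 0) (i : ι) :
    MvPolynomial.eval b (MvPolynomial.pderiv i (A * B)) =
      MvPolynomial.eval b (MvPolynomial.pderiv i A) * MvPolynomial.eval b B := by
  rw [Derivation.leibniz, smul_eq_mul, smul_eq_mul, map_add, map_mul, map_mul, hA, zero_mul,
    zero_add, mul_comm]

theorem ff_jac_rank_of_nonsing (hK : IsFunctionField k K) (P : Place k K) {n r : ℕ}
    (x : Fin (n + 1) → K) (b : Fin (n + 1) → k) (hx0 : x 0 = 1) (hb0 : b 0 = 1)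
    (hx1 : ∀ i, P.1 (x i) ≤ 1) (hb : ∀ i, P.1 (x i - algebraMap k K (b i)) < 1)
    (f : Fin r → MvPolynomial (Fin (n + 1)) k) (hfx : ∀ i, MvPolynomial.aeval x (f i) = 0)
    (J : Matrix (Fin r) (Fin n) k)
    (hJ : ∀ i j, J i j = MvPolynomial.eval b (MvPolynomial.pderiv j.succ (f i)))
    (hgrad : ∀ G : MvPolynomial (Fin (n + 1)) k, MvPolynomial.aeval x G = 0 →
      ∃ c : Fin r → k, ∀ j : Fin n,
        MvPolynomial.eval b (MvPolynomial.pderiv j.succ G) = ∑ i, c i * J i j)
    (hns : ∀ z : K, P.1 z ≤ 1 → z ∈ ff_locRing (Algebra.adjoin k (Set.range x)) P) :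
    J.rank + 1 = n := by
  classical
  obtain ⟨R, hRdef⟩ : ∃ R : Subalgebra k K, R = Algebra.adjoin k (Set.range x) := ⟨_, rfl⟩
  rw [← hRdef] at hns
  have hRaeval : ∀ z ∈ R, ∃ G : MvPolynomial (Fin (n + 1)) k, MvPolynomial.aeval x G = z := by
    intro z hz
    rw [hRdef, Algebra.adjoin_range_eq_range_aeval] at hz
    exact hz
  obtain ⟨y, hy⟩ : ∃ y : Fin (n + 1) → K, y = fun i => x i - algebraMap k K (b i) := ⟨_, rfl⟩
  have hy0 : y 0 = 0 := by
    rw [hy]
    simp only
    rw [hx0, hb0, map_one, sub_self]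
  have hylt : ∀ i, P.1 (y i) < 1 := fun i => by rw [hy]; exact hb i
  have hyle : ∀ i, P.1 (y i) ≤ WithZero.exp (-1) := fun i => ff_lt_one_iff.1 (hylt i)
  have hevalb : ∀ U : MvPolynomial (Fin (n + 1)) k, P.1 (MvPolynomial.aeval x U) < 1 →
      MvPolynomial.eval b U = 0 := by
    intro U h2
    have h1 := ff_val_aeval_sub_lt_one P x b hb hx1 U
    by_contra hne
    have h3 : P.1 (algebraMap k K (MvPolynomial.eval b U)) < 1 := by
      have : algebraMap k K (MvPolynomial.eval b U) = MvPolynomial.aeval x U -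
          (MvPolynomial.aeval x U - algebraMap k K (MvPolynomial.eval b U)) := by ring
      rw [this]
      exact (P.1.map_sub _ _).trans_lt (max_lt h2 h1)
    rw [ff_val_const P hne] at h3
    exact lt_irrefl _ h3
  have hevalb' : ∀ U : MvPolynomial (Fin (n + 1)) k, P.1 (MvPolynomial.aeval x U) = 1 →
      MvPolynomial.eval b U ≠ 0 := by
    intro U h2 h0
    have h1 := ff_val_aeval_sub_lt_one P x b hb hx1 U
    rw [h0, map_zero, sub_zero, h2] at h1
    exact lt_irrefl _ h1
  have hfb : ∀ i, MvPolynomial.eval b (f i) = 0 := fun i =>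
    hevalb _ (by rw [hfx i, map_zero]; exact zero_lt_one)
  -- the linear form
  obtain ⟨ℓ, hℓ⟩ : ∃ ℓ : (Fin n → k) → K, ℓ = fun c => ∑ j, algebraMap k K (c j) * y j.succ :=
    ⟨_, rfl⟩
  have hℓadd : ∀ c c', ℓ (c + c') = ℓ c + ℓ c' := by
    intro c c'
    rw [hℓ]
    simp only [Pi.add_apply, map_add, add_mul, Finset.sum_add_distrib]
  have hℓsmul : ∀ (a : k) c, ℓ (a • c) = algebraMap k K a * ℓ c := by
    intro a c
    rw [hℓ]
    simp only [Pi.smul_apply, smul_eq_mul, map_mul, Finset.mul_sum, mul_assoc]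
  have hℓlt : ∀ c, P.1 (ℓ c) ≤ WithZero.exp (-1) := by
    intro c
    rw [hℓ]
    refine P.1.map_sum_le fun j _ => ?_
    rw [map_mul]
    calc P.1 (algebraMap k K (c j)) * P.1 (y j.succ) ≤ 1 * WithZero.exp (-1) :=
          mul_le_mul' (P.2.1 _) (hyle _)
      _ = WithZero.exp (-1) := one_mul _
  -- Taylor: aeval x G = ℓ (grad G) + rest
  have hT : ∀ G : MvPolynomial (Fin (n + 1)) k, MvPolynomial.eval b G = 0 →
      P.1 (MvPolynomial.aeval x G -
        ℓ (fun j => MvPolynomial.eval b (MvPolynomial.pderiv j.succ G))) ≤ WithZero.exp (-2) := by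
    intro G hG
    obtain ⟨h, hh⟩ := ff_taylor2_aeval b x G
    rw [hG, map_zero, zero_add, Fin.sum_univ_succ] at hh
    have h2 : x 0 - algebraMap k K (b 0) = 0 := by rw [hx0, hb0, map_one, sub_self]
    rw [h2, mul_zero, zero_add] at hh
    have h3 : MvPolynomial.aeval x G -
        ℓ (fun j => MvPolynomial.eval b (MvPolynomial.pderiv j.succ G)) =
        ∑ i, ∑ j, y i * y j * MvPolynomial.aeval x (h i j) := by
      rw [hh, hℓ, hy]
      simp only [add_sub_cancel_left]
    rw [h3]
    refine P.1.map_sum_le fun i _ => P.1.map_sum_le fun j _ => ?_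
    rw [map_mul, map_mul]
    calc P.1 (y i) * P.1 (y j) * P.1 (MvPolynomial.aeval x (h i j))
        ≤ WithZero.exp (-1) * WithZero.exp (-1) * 1 :=
          mul_le_mul' (mul_le_mul' (hyle i) (hyle j)) (ff_val_aeval_le_one P x hx1 _)
      _ = WithZero.exp (-2) := by rw [mul_one, ← WithZero.exp_add]; rfl
  -- the subspace V
  let V : Submodule k (Fin n → k) :=
    { carrier := {c | P.1 (ℓ c) ≤ WithZero.exp (-2)}
      add_mem' := by
        intro c c' hc hc'
        change P.1 (ℓ (c + c')) ≤ _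
        rw [hℓadd]
        exact (P.1.map_add _ _).trans (max_le hc hc')
      zero_mem' := by
        change P.1 (ℓ 0) ≤ _
        have : ℓ 0 = 0 := by rw [hℓ]; simp
        rw [this, map_zero]
        exact zero_le
      smul_mem' := by
        intro a c hc
        change P.1 (ℓ (a • c)) ≤ _
        rw [hℓsmul, map_mul]
        calc P.1 (algebraMap k K a) * P.1 (ℓ c) ≤ 1 * WithZero.exp (-2) :=
              mul_le_mul' (P.2.1 _) hc
          _ = WithZero.exp (-2) := one_mul _ }
  have hVmem : ∀ c, c ∈ V ↔ P.1 (ℓ c) ≤ WithZero.exp (-2) := fun c => Iff.rfl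
  obtain ⟨W, hW⟩ : ∃ W : Submodule k (Fin n → k), W = Submodule.span k (Set.range J.row) :=
    ⟨_, rfl⟩
  have hWrank : finrank k W = J.rank := by rw [hW]; exact (Matrix.rank_eq_finrank_span_row J).symm
  have hWV : W ≤ V := by
    rw [hW, Submodule.span_le]
    rintro _ ⟨i, rfl⟩
    rw [SetLike.mem_coe, hVmem]
    have h1 := hT (f i) (hfb i)
    rw [hfx i, zero_sub, Valuation.map_neg] at h1
    have : (fun j => MvPolynomial.eval b (MvPolynomial.pderiv j.succ (f i))) = J.row i := by
      funext j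
      rw [Matrix.row, hJ]
    rw [this] at h1
    exact h1
  obtain ⟨t, ht⟩ := ff_exists_uniformizer P
  have ht0 : t ≠ 0 := by
    rintro rfl
    rw [map_zero] at ht
    exact WithZero.exp_ne_zero ht.symm
  obtain ⟨u, hu, w, hw, hw1, htw⟩ := hns t (by
    rw [ht, ← WithZero.exp_zero, WithZero.exp_le_exp]; norm_num)
  obtain ⟨U, rfl⟩ := hRaeval u hu
  obtain ⟨Wp, rfl⟩ := hRaeval w hw
  have hPU : P.1 (MvPolynomial.aeval x U) = WithZero.exp (-1) := by
    rw [← htw, map_mul, hw1, mul_one, ht]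
  have hUb : MvPolynomial.eval b U = 0 := hevalb U (by
    rw [hPU, ← WithZero.exp_zero, WithZero.exp_lt_exp]; norm_num)
  have hWb : MvPolynomial.eval b Wp ≠ 0 := hevalb' Wp hw1
  have hVW : V ≤ W := by
    intro c hc
    rw [hVmem] at hc
    -- z = ℓ c / t^2
    have hz1 : P.1 (ℓ c / t ^ 2) ≤ 1 := by
      rw [map_div₀, map_pow, ht, ← WithZero.exp_nsmul]
      apply div_le_one_of_le₀ _ zero_le
      exact hc
    obtain ⟨u', hu', w', hw', hw'1, hzw'⟩ := hns _ hz1
    obtain ⟨U', rfl⟩ := hRaeval u' hu'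
    obtain ⟨W', rfl⟩ := hRaeval w' hw'
    have hW'b : MvPolynomial.eval b W' ≠ 0 := hevalb' W' hw'1
    let Lc : MvPolynomial (Fin (n + 1)) k :=
      ∑ j : Fin n, MvPolynomial.C (c j) * (MvPolynomial.X j.succ - MvPolynomial.C (b j.succ))
    have hLc : MvPolynomial.aeval x Lc = ℓ c := by
      rw [hℓ, hy]
      simp only [Lc, map_sum, map_mul, map_sub, MvPolynomial.aeval_C, MvPolynomial.aeval_X]
    have hLcb : MvPolynomial.eval b Lc = 0 := by
      simp only [Lc, map_sum, map_mul, map_sub, MvPolynomial.eval_C, MvPolynomial.eval_X,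
        sub_self, mul_zero, Finset.sum_const_zero]
    have hLcd : ∀ j : Fin n, MvPolynomial.eval b (MvPolynomial.pderiv j.succ Lc) = c j := by
      intro j
      simp only [Lc, map_sum, Derivation.leibniz, MvPolynomial.pderiv_C, smul_zero, add_zero,
        map_sub, MvPolynomial.pderiv_X, smul_eq_mul, map_mul, MvPolynomial.eval_C]
      rw [Finset.sum_eq_single j]
      · rw [Pi.single_eq_same]; simp
      · intro j' _ hj'
        have : j'.succ ≠ j.succ := fun h => hj' (Fin.succ_injective _ h)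
        rw [Pi.single_eq_of_ne this]; simp
      · intro h; exact absurd (Finset.mem_univ j) h
    have hG0 : MvPolynomial.aeval x (Lc * (Wp ^ 2 * W') - U * (U * U')) = 0 := by
      rw [map_sub, map_mul, map_mul, map_mul, map_mul, map_pow, hLc, ← htw, ← hzw']
      field_simp
      ring
    obtain ⟨c', hc'⟩ := hgrad _ hG0
    have hcj : ∀ j : Fin n, c j * (MvPolynomial.eval b Wp ^ 2 * MvPolynomial.eval b W') =
        ∑ i, c' i * J i j := by
      intro j
      rw [← hc' j, map_sub, map_sub, ff_eval_pderiv_mul_of_eval_eq_zero b _ _ hLcb,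
        ff_eval_pderiv_mul_of_eval_eq_zero b _ _ hUb, hLcd, map_mul, map_mul, map_pow, hUb,
        zero_mul, mul_zero, sub_zero]
    have hκ : MvPolynomial.eval b Wp ^ 2 * MvPolynomial.eval b W' ≠ 0 :=
      mul_ne_zero (pow_ne_zero _ hWb) hW'b
    have : c = (MvPolynomial.eval b Wp ^ 2 * MvPolynomial.eval b W')⁻¹ • ∑ i, c' i • J.row i := by
      funext j
      rw [Pi.smul_apply, Finset.sum_apply, smul_eq_mul]
      simp only [Pi.smul_apply, smul_eq_mul, Matrix.row]
      rw [← hcj j]
      field_simp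
    rw [this, hW]
    exact Submodule.smul_mem _ _ (Submodule.sum_mem _ fun i _ =>
      Submodule.smul_mem _ _ (Submodule.subset_span ⟨i, rfl⟩))
  have hVeqW : V = W := le_antisymm hVW hWV
  -- V is a hyperplane
  have hexc : ∃ c₀ : Fin n → k, c₀ ∉ V := by
    by_contra hcon
    push Not at hcon
    have h1 := hT U hUb
    have h2 : P.1 (ℓ (fun j => MvPolynomial.eval b (MvPolynomial.pderiv j.succ U))) ≤
        WithZero.exp (-2) := (hVmem _).1 (hcon _)
    have h3 : P.1 (MvPolynomial.aeval x U) ≤ WithZero.exp (-2) := by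
      have : MvPolynomial.aeval x U = (MvPolynomial.aeval x U -
          ℓ (fun j => MvPolynomial.eval b (MvPolynomial.pderiv j.succ U))) +
          ℓ (fun j => MvPolynomial.eval b (MvPolynomial.pderiv j.succ U)) := by ring
      rw [this]
      exact (P.1.map_add _ _).trans (max_le h1 h2)
    rw [hPU, WithZero.exp_le_exp] at h3
    omega
  obtain ⟨c₀, hc₀⟩ := hexc
  have hc₀0 : c₀ ≠ 0 := by
    rintro rfl
    exact hc₀ V.zero_mem
  have hℓc₀ : P.1 (ℓ c₀) = WithZero.exp (-1) := by
    apply le_antisymm (hℓlt c₀)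
    by_contra hcon
    push Not at hcon
    apply hc₀
    rw [hVmem]
    have := ff_lt_exp_iff.1 hcon
    exact this
  have hsup : V ⊔ Submodule.span k {c₀} = ⊤ := by
    rw [eq_top_iff]
    intro c _
    have hz1 : P.1 (ℓ c / ℓ c₀) ≤ 1 := by
      rw [map_div₀, hℓc₀]
      exact div_le_one_of_le₀ (hℓlt c) zero_le
    obtain ⟨lam, hlam⟩ := ff_exists_const_approx hK P hz1
    have hℓc₀0 : ℓ c₀ ≠ 0 := by
      intro h0
      rw [h0, map_zero] at hℓc₀
      exact WithZero.exp_ne_zero hℓc₀.symm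
    have h1 : P.1 (ℓ (c - lam • c₀)) ≤ WithZero.exp (-2) := by
      have e1 : ℓ (c - lam • c₀) = (ℓ c / ℓ c₀ - algebraMap k K lam) * ℓ c₀ := by
        have : c - lam • c₀ = c + (-lam) • c₀ := by rw [neg_smul, sub_eq_add_neg]
        rw [this, hℓadd, hℓsmul, map_neg]
        field_simp
        ring
      rw [e1, map_mul, hℓc₀]
      have := ff_lt_one_iff.1 hlam
      calc P.1 (ℓ c / ℓ c₀ - algebraMap k K lam) * WithZero.exp (-1)
          ≤ WithZero.exp (-1) * WithZero.exp (-1) := mul_le_mul' this le_rfl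
        _ = WithZero.exp (-2) := by rw [← WithZero.exp_add]; rfl
    have : c = (c - lam • c₀) + lam • c₀ := by abel
    rw [this]
    exact Submodule.add_mem_sup ((hVmem _).2 h1)
      (Submodule.smul_mem _ _ (Submodule.mem_span_singleton_self c₀))
  have h1 := Submodule.finrank_sup_add_finrank_inf_eq V (Submodule.span k {c₀})
  have h2 : V ⊓ Submodule.span k {c₀} = ⊥ := by
    rw [← disjoint_iff, Submodule.disjoint_span_singleton' hc₀0]
    exact hc₀
  rw [h2, finrank_bot, add_zero, finrank_span_singleton hc₀0, hsup, finrank_top,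
    Module.finrank_fin_fun, hVeqW, hWrank] at h1
  exact h1.symm

/-- S11071: the Jacobian criterion for a projective curve in `P^n`. -/
theorem ff_jacobian_general (hK : IsFunctionField k K) {n : ℕ} (hn : 1 ≤ n)
    (φ : Fin (n + 1) → K) (hφ : LinearIndependent k φ)
    (hbir : IntermediateField.adjoin k (Set.range fun i => φ i / φ 0) = ⊤)
    (P : Place k K) (hP : ∀ i, P.1 (φ i) ≤ P.1 (φ 0)) {r : ℕ}
    (f : Fin r → MvPolynomial (Fin (n + 1)) k)
    (hhom : ∀ i, (f i).IsHomogeneous (f i).totalDegree)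
    (hgen : Ideal.span (Set.range f) =
      RingHom.ker (MvPolynomial.aeval fun i => Polynomial.C (φ i) * Polynomial.X))
    (M : Matrix (Fin r) (Fin n) P.O)
    (hM : ∀ i j, ((M i j : P.O) : K) =
      MvPolynomial.aeval (fun l => φ l / φ 0) (MvPolynomial.pderiv j.succ (f i))) :
    IsNonsingularAt φ P ↔ (M.map (IsLocalRing.residue P.O)).rank = n - 1 := by
  classical
  have hφ0 : ∀ i, φ i ≠ 0 := fun i => hφ.ne_zero i
  obtain ⟨x, hx⟩ : ∃ x : Fin (n + 1) → K, x = fun i => φ i / φ 0 := ⟨_, rfl⟩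
  have hxi : ∀ i, x i = φ i / φ 0 := fun i => by rw [hx]
  have hx0 : x 0 = 1 := by rw [hxi]; exact div_self (hφ0 0)
  have hx1 : ∀ i, P.1 (x i) ≤ 1 := by
    intro i
    rw [hxi, map_div₀]
    exact div_le_one_of_le₀ (hP i) zero_le
  choose b hb using fun i => ff_exists_const_approx hK P (hx1 i)
  have hb0 : b 0 = 1 := by
    have h1 := hb 0
    rw [hx0] at h1
    have h2' : P.1 ((1 : K) - algebraMap k K 1) < 1 := by
      rw [map_one, sub_self, map_zero]; exact zero_lt_one
    exact ff_const_approx_unique P h1 h2'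
  -- the equations vanish at x
  have hfφ : ∀ i, MvPolynomial.aeval φ (f i) = 0 := by
    intro i
    have h1 : f i ∈ RingHom.ker (MvPolynomial.aeval fun i => Polynomial.C (φ i) * Polynomial.X :
        MvPolynomial (Fin (n + 1)) k →ₐ[k] Polynomial K) := by
      rw [← hgen]
      exact Ideal.subset_span ⟨i, rfl⟩
    rw [RingHom.mem_ker] at h1
    have h2 := ff_aeval_CX_of_isHomogeneous φ (f i) (hhom i)
    have h3 : Polynomial.C (MvPolynomial.aeval φ (f i)) * Polynomial.X ^ (f i).totalDegree =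
        (0 : Polynomial K) := by
      rw [← h2]; exact h1
    rcases mul_eq_zero.1 h3 with h4 | h4
    · exact Polynomial.C_eq_zero.1 h4
    · exact absurd h4 (pow_ne_zero _ Polynomial.X_ne_zero)
  have hfx : ∀ i, MvPolynomial.aeval x (f i) = 0 := by
    intro i
    have := ff_aeval_smul_of_isHomogeneous' (f i) (hhom i) (φ 0)⁻¹ φ
    rw [hfφ i, mul_zero] at this
    have hxe : x = fun i => (φ 0)⁻¹ * φ i := by
      funext i
      rw [hxi, inv_mul_eq_div]
    rw [hxe]
    exact this
  have hfb : ∀ i, MvPolynomial.eval b (f i) = 0 := by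
    intro i
    have h1 := ff_val_aeval_sub_lt_one P x b hb hx1 (f i)
    rw [hfx i, zero_sub, Valuation.map_neg] at h1
    by_contra hne
    rw [ff_val_const P hne] at h1
    exact lt_irrefl _ h1
  obtain ⟨J, hJdef⟩ : ∃ J : Matrix (Fin r) (Fin n) k,
      J = Matrix.of fun i j => MvPolynomial.eval b (MvPolynomial.pderiv j.succ (f i)) := ⟨_, rfl⟩
  have hJ : ∀ i j, J i j = MvPolynomial.eval b (MvPolynomial.pderiv j.succ (f i)) := by
    intro i j; rw [hJdef]; rfl
  -- gradient membership
  have hgrad : ∀ G : MvPolynomial (Fin (n + 1)) k, MvPolynomial.aeval x G = 0 →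
      ∃ c : Fin r → k, ∀ j : Fin n,
        MvPolynomial.eval b (MvPolynomial.pderiv j.succ G) = ∑ i, c i * J i j := by
    intro G hG
    obtain ⟨H, B, D, hGH, hH⟩ := ff_exists_homogenization x 0 hx0 G
    rw [hG, map_zero, zero_mul] at hH
    have hHφ : MvPolynomial.aeval (fun i => Polynomial.C (φ i) * Polynomial.X) H =
        (0 : Polynomial K) := by
      let ψ : Polynomial K →ₐ[k] Polynomial K :=
        (Polynomial.aeval (Polynomial.C (φ 0) * Polynomial.X) :
          Polynomial K →ₐ[K] Polynomial K).restrictScalars k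
      have h1 := MvPolynomial.comp_aeval_apply
        (f := fun i => Polynomial.C (x i) * (Polynomial.X : Polynomial K)) ψ H
      rw [hH, map_zero] at h1
      rw [h1]
      congr 2
      funext i
      change _ = Polynomial.aeval (Polynomial.C (φ 0) * Polynomial.X)
        (Polynomial.C (x i) * (Polynomial.X : Polynomial K))
      rw [map_mul, Polynomial.aeval_C, Polynomial.aeval_X, Polynomial.algebraMap_eq, ← mul_assoc,
        ← Polynomial.C_mul, hxi, div_mul_cancel₀ _ (hφ0 0)]
    have hHmem : H ∈ Ideal.span (Set.range f) := by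
      rw [hgen, RingHom.mem_ker]
      exact hHφ
    obtain ⟨g, hg⟩ := (Ideal.mem_span_range_iff_exists_fun).1 hHmem
    refine ⟨fun i => MvPolynomial.eval b (g i), fun j => ?_⟩
    have hne : (j.succ : Fin (n + 1)) ≠ 0 := Fin.succ_ne_zero j
    rw [hGH, ← hg]
    simp only [map_add, map_sum, Derivation.leibniz, smul_eq_mul, map_mul, map_sub, map_one,
      MvPolynomial.pderiv_X, MvPolynomial.eval_X, hb0, sub_self, zero_mul, hfb, hJ,
      Pi.single_eq_of_ne hne.symm, mul_zero, add_zero, Derivation.map_one_eq_zero]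
  -- fractions
  have hfrac : ∀ z : K, ∃ r w : K, r ∈ Algebra.adjoin k (Set.range x) ∧
      w ∈ Algebra.adjoin k (Set.range x) ∧ w ≠ 0 ∧ z * w = r := by
    have hbirj : IntermediateField.adjoin k (Set.range x) = ⊤ := by
      rw [hx]; exact hbir
    intro z
    have : z ∈ IntermediateField.adjoin k (Set.range x) := by rw [hbirj]; trivial
    obtain ⟨r, hr, w, hw, rfl⟩ := IntermediateField.mem_adjoin_iff_div.mp this
    by_cases hw0 : w = 0
    · exact ⟨0, 1, Subalgebra.zero_mem _, Subalgebra.one_mem _, one_ne_zero, by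
        rw [hw0, div_zero, zero_mul]⟩
    · exact ⟨r, w, hr, hw, hw0, div_mul_cancel₀ r hw0⟩
  -- residue field
  have hfd := ff_finiteDimensional_residueField hK P
  have hint : Algebra.IsIntegral k (IsLocalRing.ResidueField P.O) :=
    @Algebra.IsIntegral.of_finite k (IsLocalRing.ResidueField P.O) _ _ (Place.algRes P) hfd
  have hbij := IsAlgClosed.algebraMap_bijective_of_isIntegral (k := k)
    (K := IsLocalRing.ResidueField P.O)
  have hMJ : M.map (IsLocalRing.residue P.O) =
      J.map (algebraMap k (IsLocalRing.ResidueField P.O)) := by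
    ext i j
    rw [Matrix.map_apply, Matrix.map_apply]
    have h1 : M i j - algebraMap k P.O (J i j) ∈ IsLocalRing.maximalIdeal P.O := by
      rw [ff_mem_maximalIdeal_iff]
      have : ((M i j - algebraMap k P.O (J i j) : P.O) : K) =
          MvPolynomial.aeval x (MvPolynomial.pderiv j.succ (f i)) - algebraMap k K (J i j) := by
        rw [hx, ← hM i j]; rfl
      rw [this, hJ]
      exact ff_val_aeval_sub_lt_one P x b hb hx1 _
    have h2 := (IsLocalRing.residue_eq_zero_iff _).mpr h1
    rw [map_sub, sub_eq_zero] at h2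
    rw [h2]
    rfl
  rw [hMJ, ff_rank_map_of_bijective hbij]
  have hlocal : ∀ z, InLocRing φ P z ↔ z ∈ ff_locRing (Algebra.adjoin k (Set.range x)) P :=
    fun z => by
      rw [hx]; exact ff_inLocRing_iff φ P 0 (hφ0 0) hP z
  constructor
  · intro hns
    have := ff_jac_rank_of_nonsing hK P x b hx0 hb0 hx1 hb f hfx J hJ hgrad
      (fun z hz => (hlocal z).1 (hns z hz))
    omega
  · intro hrank z hz
    rw [hlocal]
    exact ff_jac_nonsing_of_rank hK P x b hx0 hb0 hx1 hb f hfx J hJ hfrac (by omega) hz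

end Main

end Groth.Agent.Lib.Helper55
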