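import Groth.Agent.Lib.Helper55.FunFld.AdjLocal3
import Groth.Agent.Lib.Helper55.FunFld.JacN

/-! The local theorem on the adjoint divisor at a finite place (S12613). -/

set_option autoImplicit false
set_option linter.unusedSectionVars false
set_option linter.style.haveILetI false

open FunFld Module Polynomial LocRes

namespace Groth.Agent.Lib.Helper55

universe u v

section SemiLoc

variable {k K : Type*} [Field k] [Field K] [Algebra k K]

/-- The semi-local ring of a subalgebra `R` at a set of places. -/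
def ff_semiLocRing (R : Subalgebra k K) (s : Set (Place k K)) : Subalgebra k K where
  carrier := {z | ∃ u ∈ R, ∃ w ∈ R, (∀ P ∈ s, P.1 w = 1) ∧ z * w = u}
  mul_mem' := by
    rintro z₁ z₂ ⟨u₁, hu₁, w₁, hw₁, h₁, e₁⟩ ⟨u₂, hu₂, w₂, hw₂, h₂, e₂⟩
    exact ⟨u₁ * u₂, R.mul_mem hu₁ hu₂, w₁ * w₂, R.mul_mem hw₁ hw₂,
      fun P hP => by rw [map_mul, h₁ P hP, h₂ P hP, one_mul], by rw [← e₁, ← e₂]; ring⟩
  add_mem' := by
    rintro z₁ z₂ ⟨u₁, hu₁, w₁, hw₁, h₁, e₁⟩ ⟨u₂, hu₂, w₂, hw₂, h₂, e₂⟩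
    exact ⟨u₁ * w₂ + u₂ * w₁, R.add_mem (R.mul_mem hu₁ hw₂) (R.mul_mem hu₂ hw₁), w₁ * w₂,
      R.mul_mem hw₁ hw₂, fun P hP => by rw [map_mul, h₁ P hP, h₂ P hP, one_mul],
      by rw [← e₁, ← e₂]; ring⟩
  algebraMap_mem' c := ⟨algebraMap k K c, R.algebraMap_mem c, 1, R.one_mem,
    fun _ _ => map_one _, mul_one _⟩

theorem ff_le_semiLocRing (R : Subalgebra k K) (s : Set (Place k K)) : R ≤ ff_semiLocRing R s :=
  fun x hx => ⟨x, hx, 1, R.one_mem, fun _ _ => map_one _, mul_one _⟩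

theorem ff_semiLocRing_le_locRing (R : Subalgebra k K) {s : Set (Place k K)} {P : Place k K}
    (hP : P ∈ s) : ff_semiLocRing R s ≤ ff_locRing R P := by
  rintro z ⟨u, hu, w, hw, h1, e⟩
  exact ⟨u, hu, w, hw, h1 P hP, e⟩

/-- A root of a monic polynomial with coefficients integral at `Q` is integral at `Q`. -/
theorem al_val_root_le_one (Q : Place k K) {y : K} (p : Polynomial K) (hp : p.Monic)
    (hy : p.eval y = 0) (hc : ∀ i, Q.1 (p.coeff i) ≤ 1) : Q.1 y ≤ 1 := by
  by_contra hlt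
  push Not at hlt
  have hy0 : Q.1 y ≠ 0 := (lt_trans zero_lt_one hlt).ne'
  rw [eval_eq_sum_range, Finset.sum_range_succ, hp.coeff_natDegree, one_mul] at hy
  have h1 : y ^ p.natDegree = -∑ i ∈ Finset.range p.natDegree, p.coeff i * y ^ i :=
    eq_neg_of_add_eq_zero_right hy
  have h2 : Q.1 (∑ i ∈ Finset.range p.natDegree, p.coeff i * y ^ i) < Q.1 y ^ p.natDegree := by
    apply Valuation.map_sum_lt _ (pow_ne_zero _ hy0)
    intro i hi
    rw [Finset.mem_range] at hi
    rw [map_mul, map_pow]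
    calc Q.1 (p.coeff i) * Q.1 y ^ i ≤ 1 * Q.1 y ^ i := mul_le_mul' (hc i) le_rfl
      _ = Q.1 y ^ i := one_mul _
      _ < Q.1 y ^ p.natDegree := pow_lt_pow_right₀ hlt hi
  have h3 := congrArg Q.1 h1
  rw [Valuation.map_neg, map_pow] at h3
  rw [← h3] at h2
  exact lt_irrefl _ h2

/-- Separating element with prescribed smallness at the other places. -/
theorem al_exists_small (R : Subalgebra k K) (Q : Place k K)
    (N : Place k K → ℕ) (s : Finset (Place k K))
    (hR : ∀ Q' ∈ s, ∀ r ∈ R, Q'.1 r ≤ 1)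
    (hsep : ∀ Q' ∈ s, ∃ a ∈ R, Q.1 a = 1 ∧ Q'.1 a < 1) :
    ∃ h ∈ R, Q.1 h = 1 ∧ ∀ Q' ∈ s, Q'.1 h ≤ WithZero.exp (-(N Q' : ℤ)) := by
  classical
  induction s using Finset.induction_on with
  | empty => exact ⟨1, R.one_mem, map_one _, by simp⟩
  | insert Q' s hQ' ih =>
    obtain ⟨h, hhR, hh1, hh⟩ := ih (fun Q'' hQ'' => hR Q'' (Finset.mem_insert_of_mem hQ''))
      (fun Q'' hQ'' => hsep Q'' (Finset.mem_insert_of_mem hQ''))
    obtain ⟨a, haR, ha1, ha⟩ := hsep Q' (Finset.mem_insert_self _ _)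
    refine ⟨a ^ N Q' * h, R.mul_mem (R.pow_mem haR _) hhR, by
      rw [map_mul, map_pow, ha1, one_pow, one_mul, hh1], ?_⟩
    intro Q'' hQ''
    rw [Finset.mem_insert] at hQ''
    rw [map_mul, map_pow]
    rcases hQ'' with rfl | hQ''
    · have h1 : Q''.1 a ≤ WithZero.exp (-1) := ff_lt_one_iff.mp ha
      have h2 : Q''.1 h ≤ 1 := hR Q'' (Finset.mem_insert_self _ _) h hhR
      calc Q''.1 a ^ N Q'' * Q''.1 h ≤ WithZero.exp (-1) ^ N Q'' * 1 :=
            mul_le_mul' (pow_le_pow_left' h1 _) h2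
        _ = WithZero.exp (-(N Q'' : ℤ)) := by
            rw [mul_one, ← WithZero.exp_nsmul, nsmul_eq_mul, mul_neg, mul_one]
    · have h1 : Q''.1 a ≤ 1 := hR Q'' (Finset.mem_insert_of_mem hQ'') a haR
      calc Q''.1 a ^ N Q' * Q''.1 h ≤ 1 * WithZero.exp (-(N Q'' : ℤ)) :=
            mul_le_mul' (pow_le_one' h1 _) (hh Q'' hQ'')
        _ = _ := one_mul _

end SemiLoc

section LocalThm

variable {k : Type u} {F K : Type v} [Field k] [Field F] [Field K] [Algebra k F] [Algebra F K]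
  [Algebra k K] [IsScalarTower k F K] [FiniteDimensional F K] [Algebra.IsSeparable F K]

/-- Integral elements of `k(g)` at `g = α` lie in the semi-local ring (at the places over `P₀`) of
any subalgebra containing `x = g`. -/
theorem al_base_mem_semiLoc {P₀ : Place k F} {g : F}
    (hgen : (IntermediateField.adjoin k {g} : IntermediateField k F) = ⊤) {α : k}
    (hα : P₀.1 (g - algebraMap k F α) < 1)
    (R : Subalgebra k K) (hxR : algebraMap F K g ∈ R) {c : F} (hc : P₀.1 c ≤ 1) :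
    algebraMap F K c ∈ ff_semiLocRing R {Q : Place k K | IsOver Q P₀} := by
  obtain ⟨p, q, hq, heq⟩ := al_integral_frac P₀ hgen hα hc
  have hαQ : ∀ Q : Place k K, IsOver Q P₀ → Q.1 (algebraMap F K g - algebraMap k K α) < 1 := by
    rintro Q ⟨e, he⟩
    have h1 := he (g - algebraMap k F α)
    rw [map_sub, ← IsScalarTower.algebraMap_apply] at h1
    rw [h1]
    have he0 : e ≠ 0 := Groth.Agent.Lib.Helper63.FunFldExt.isOverWith_ne_zero he
    exact pow_lt_one' hα he0
  have hmem : ∀ p : Polynomial k, aeval (algebraMap F K g) p ∈ R := by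
    intro p
    rw [aeval_eq_sum_range]
    exact R.sum_mem fun i _ => R.smul_mem (R.pow_mem hxR i) _
  refine ⟨aeval (algebraMap F K g) p, hmem p, aeval (algebraMap F K g) q, hmem q,
    fun Q hQ => al_val_aeval_eq_one Q (hαQ Q hQ) q hq, ?_⟩
  have := congrArg (algebraMap F K) heq
  rw [map_mul, ← aeval_algebraMap_apply, ← aeval_algebraMap_apply] at this
  exact this

theorem al_aeval_mem_semiLoc {P₀ : Place k F} {g : F}
    (hgen : (IntermediateField.adjoin k {g} : IntermediateField k F) = ⊤) {α : k}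
    (hα : P₀.1 (g - algebraMap k F α) < 1)
    (R : Subalgebra k K) (hxR : algebraMap F K g ∈ R) {y : K} (hyR : y ∈ R)
    (G : Polynomial F) (hG : ∀ i, P₀.1 (G.coeff i) ≤ 1) :
    aeval y G ∈ ff_semiLocRing R {Q : Place k K | IsOver Q P₀} := by
  rw [aeval_eq_sum_range]
  refine Subalgebra.sum_mem _ fun i _ => ?_
  rw [Algebra.smul_def]
  exact Subalgebra.mul_mem _ (al_base_mem_semiLoc hgen hα R hxR (hG i))
    (Subalgebra.pow_mem _ (ff_le_semiLocRing R _ hyR) i)

/-- Elements of `k[x, y]` are polynomials in `y` with coefficients integral at `P₀`. -/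
theorem al_adjoin_eq_aeval {P₀ : Place k F} {g : F} (hg1 : P₀.1 g ≤ 1) {y r : K}
    (hr : r ∈ Algebra.adjoin k ({algebraMap F K g, y} : Set K)) :
    ∃ G : Polynomial F, (∀ i, P₀.1 (G.coeff i) ≤ 1) ∧ r = aeval y G := by
  induction hr using Algebra.adjoin_induction with
  | mem r hr =>
    rcases hr with rfl | rfl
    · refine ⟨C g, fun i => ?_, by rw [aeval_C]⟩
      rw [coeff_C]
      split_ifs
      · exact hg1
      · rw [map_zero]; exact zero_le
    · refine ⟨X, fun i => ?_, by rw [aeval_X]⟩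
      rw [coeff_X]
      split_ifs
      · rw [map_one]
      · rw [map_zero]; exact zero_le
  | algebraMap c =>
    refine ⟨C (algebraMap k F c), fun i => ?_, by
      rw [aeval_C, ← IsScalarTower.algebraMap_apply]⟩
    rw [coeff_C]
    split_ifs
    · exact P₀.2.1 c
    · rw [map_zero]; exact zero_le
  | add a b _ _ ha hb =>
    obtain ⟨G₁, hG₁, rfl⟩ := ha
    obtain ⟨G₂, hG₂, rfl⟩ := hb
    refine ⟨G₁ + G₂, fun i => ?_, by rw [map_add]⟩
    rw [coeff_add]
    exact (P₀.1.map_add _ _).trans (max_le (hG₁ i) (hG₂ i))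
  | mul a b _ _ ha hb =>
    obtain ⟨G₁, hG₁, rfl⟩ := ha
    obtain ⟨G₂, hG₂, rfl⟩ := hb
    refine ⟨G₁ * G₂, fun i => ?_, by rw [map_mul]⟩
    rw [coeff_mul]
    refine P₀.1.map_sum_le fun p _ => ?_
    rw [map_mul]
    exact mul_le_one' (hG₁ _) (hG₂ _)

end LocalThm

end Groth.Agent.Lib.Helper55
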