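import Groth.Agent.Lib.Helper55.FunFld.AdjLocal4

/-! The local theorem on the adjoint divisor at a finite place (S12613), main part. -/

set_option autoImplicit false
set_option linter.unusedSectionVars false
set_option linter.style.haveILetI false

open FunFld Module Polynomial LocRes

namespace Groth.Agent.Lib.Helper55

universe u v

theorem al_mul_exp_neg_toNat_le (v : WithZero (Multiplicative ℤ)) :
    v * WithZero.exp (-((WithZero.log v).toNat : ℤ)) ≤ 1 := by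
  by_cases hv0 : v = 0
  · rw [hv0, zero_mul]; exact zero_le
  · conv_lhs => rw [← WithZero.exp_log hv0]
    rw [WithZero.log_exp, ← WithZero.exp_add]
    refine le_of_le_of_eq ?_ WithZero.exp_zero
    rw [WithZero.exp_le_exp]
    have := Int.self_le_toNat (WithZero.log v)
    omega

section LocalMain

variable {k : Type u} {F K : Type v} [Field k] [Field F] [Field K] [Algebra k F] [Algebra F K]
  [Algebra k K] [IsScalarTower k F K] [FiniteDimensional F K] [Algebra.IsSeparable F K]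

variable (hF : IsFunctionField k F) (hK : IsFunctionField k K) (P₀ : Place k F) {g : F}
  (hgen : (IntermediateField.adjoin k {g} : IntermediateField k F) = ⊤) {α : k}
  (hα : P₀.1 (g - algebraMap k F α) < 1) {y : K} (htop : Algebra.adjoin F {y} = ⊤)
  (hcoef : ∀ i, P₀.1 ((minpoly F y).coeff i) ≤ 1)
  (Qs : Finset (Place k K)) (hQs : ∀ Q, Q ∈ Qs ↔ IsOver Q P₀)
  (φ₀ : F →ₐ[k] LaurentSeries k) (hφ₀ : IsExpansionAt P₀.1 φ₀)
  (ψ : Place k K → (K →ₐ[k] LaurentSeries k)) (hψ : ∀ Q ∈ Qs, IsExpansionAt Q.1 (ψ Q))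

include hα in
theorem al_val_g_le_one : P₀.1 g ≤ 1 := by
  have : g = (g - algebraMap k F α) + algebraMap k F α := by ring
  rw [this]
  exact (P₀.1.map_add _ _).trans (max_le hα.le (P₀.2.1 _))

include hcoef in
theorem al_hyQ {Q : Place k K} (hQ : IsOver Q P₀) : Q.1 y ≤ 1 := by
  have hint : IsIntegral F y := IsIntegral.of_finite F y
  apply al_val_root_le_one Q ((minpoly F y).map (algebraMap F K)) ((minpoly.monic hint).map _)
  · rw [eval_map, ← aeval_def, minpoly.aeval]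
  · intro i
    rw [coeff_map]
    exact al_isOver_le hQ (hcoef i)

include hα hcoef in
/-- Elements of `k[x,y]` are integral at the places over `P₀`. -/
theorem al_adjoin_val_le_one {Q : Place k K} (hQ : IsOver Q P₀) {r : K}
    (hr : r ∈ Algebra.adjoin k ({algebraMap F K g, y} : Set K)) : Q.1 r ≤ 1 := by
  obtain ⟨G, hG, rfl⟩ := al_adjoin_eq_aeval (al_val_g_le_one P₀ hα) hr
  exact al_val_aeval_le_one hQ (al_hyQ P₀ hcoef hQ) G hG

include hF hK hgen hα htop hcoef hQs hφ₀ hψ in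
/-- (A): the order of `dx / m'(y)` at a place over `P₀` is at most `0`. -/
theorem al_adj_ge_one (Q : Place k K) (hQ : Q ∈ Qs)
    (hlt : vDiff (ψ Q) (aeval y (derivative (minpoly F y)))⁻¹ (algebraMap F K g) < 1) :
    False := by
  classical
  have hyQ : ∀ Q ∈ Qs, Q.1 y ≤ 1 := fun Q' hQ' => al_hyQ P₀ hcoef ((hQs Q').1 hQ')
  obtain ⟨z, hz⟩ := ff_weak_approx_eq Qs (fun _ => (0 : K))
    (fun Q' => if Q' = Q then 1 else
      - WithZero.log (vDiff (ψ Q') (aeval y (derivative (minpoly F y)))⁻¹ (algebraMap F K g)))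
  have hzQ : Q.1 z = WithZero.exp 1 := by
    have := hz Q hQ
    simpa using this
  obtain ⟨G, hG, hzG⟩ := al_key hF hK P₀ hgen hα htop hcoef Qs hQs φ₀ hφ₀ ψ hψ hyQ z (by
    intro Q' hQ'
    rw [al_vDiff_mul Q'.1 (ψ Q') (hψ Q' hQ').1]
    by_cases hQQ : Q' = Q
    · subst hQQ
      rw [hzQ]
      calc WithZero.exp 1 * _ ≤ WithZero.exp 1 * WithZero.exp (-1) :=
            mul_le_mul' le_rfl (ff_lt_one_iff.mp hlt)
        _ = 1 := by rw [← WithZero.exp_add]; simp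
    · have h1 := hz Q' hQ'
      simp only [sub_zero, if_neg hQQ] at h1
      rw [h1]
      by_cases hv0 : vDiff (ψ Q') (aeval y (derivative (minpoly F y)))⁻¹ (algebraMap F K g) = 0
      · rw [hv0, mul_zero]; exact zero_le
      · conv_lhs => rw [← WithZero.exp_log hv0]
        rw [WithZero.log_exp, ← WithZero.exp_add]
        simp)
  have := al_val_aeval_le_one ((hQs Q).1 hQ) (hyQ Q hQ) G hG
  rw [← hzG, hzQ, ← WithZero.exp_zero, WithZero.exp_le_exp] at this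
  omega

variable (R : Subalgebra k K) (hxR : algebraMap F K g ∈ R) (hyR : y ∈ R)
  (hRle : R ≤ Algebra.adjoin k ({algebraMap F K g, y} : Set K))

include hF hK hgen hα htop hcoef hQs hφ₀ hψ hxR hyR hRle in
/-- (B1): if `dx / m'(y)` has order `0` at `Q` then the local ring of `k[x,y]` at `Q` is the whole
valuation ring. -/
theorem al_adj_nonsing_of_eq_one (Q : Place k K) (hQ : Q ∈ Qs)
    (hv : vDiff (ψ Q) (aeval y (derivative (minpoly F y)))⁻¹ (algebraMap F K g) = 1)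
    (w₀ : K) (hw₀ : Q.1 w₀ ≤ 1) : w₀ ∈ ff_locRing R Q := by
  classical
  have hyQ : ∀ Q ∈ Qs, Q.1 y ≤ 1 := fun Q' hQ' => al_hyQ P₀ hcoef ((hQs Q').1 hQ')
  have hRint : ∀ Q' ∈ Qs, ∀ r ∈ R, Q'.1 r ≤ 1 := fun Q' hQ' r hr =>
    al_adjoin_val_le_one P₀ hα hcoef ((hQs Q').1 hQ') (hRle hr)
  obtain ⟨m', hm'⟩ : ∃ m', m' = aeval y (derivative (minpoly F y)) := ⟨_, rfl⟩
  rw [← hm'] at hv
  -- Step A: separation of `Q` from the other places over `P₀`
  have hsep : ∀ Q' ∈ Qs.erase Q, ∃ a ∈ R, Q.1 a = 1 ∧ Q'.1 a < 1 := by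
    intro Q' hQ'
    obtain ⟨hne, hQ'Qs⟩ := Finset.mem_erase.mp hQ'
    obtain ⟨z, hz⟩ := ff_weak_approx_eq Qs (fun Q'' => if Q'' = Q then (1 : K) else 0)
      (fun Q'' => if Q'' = Q then -1 else
        -1 - ((WithZero.log (vDiff (ψ Q'') m'⁻¹ (algebraMap F K g))).toNat : ℤ))
    have hzQ1 : Q.1 (z - 1) = WithZero.exp (-1) := by
      have := hz Q hQ
      simpa using this
    have hzQ : Q.1 z = 1 := by
      have : z = 1 + (z - 1) := by ring
      rw [this]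
      apply Valuation.map_one_add_of_lt
      rw [hzQ1, ← WithZero.exp_zero, WithZero.exp_lt_exp]
      norm_num
    have hzQ'' : ∀ Q'' ∈ Qs, Q'' ≠ Q → Q''.1 z = WithZero.exp
        (-1 - ((WithZero.log (vDiff (ψ Q'') m'⁻¹ (algebraMap F K g))).toNat : ℤ)) := by
      intro Q'' hQ'' hne''
      have := hz Q'' hQ''
      simpa [hne''] using this
    obtain ⟨G, hG, hzG⟩ := al_key hF hK P₀ hgen hα htop hcoef Qs hQs φ₀ hφ₀ ψ hψ hyQ z (by
      intro Q'' hQ''
      rw [← hm', al_vDiff_mul Q''.1 (ψ Q'') (hψ Q'' hQ'').1]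
      by_cases hQQ : Q'' = Q
      · subst hQQ
        rw [hzQ, hv, one_mul]
      · rw [hzQ'' Q'' hQ'' hQQ]
        obtain ⟨v'', hv''⟩ : ∃ v'', v'' = vDiff (ψ Q'') m'⁻¹ (algebraMap F K g) := ⟨_, rfl⟩
        rw [← hv'']
        have e1 : WithZero.exp (-1 - ((WithZero.log v'').toNat : ℤ)) =
            WithZero.exp (-1) * WithZero.exp (-((WithZero.log v'').toNat : ℤ)) := by
          rw [← WithZero.exp_add]; congr 1
        have e2 : WithZero.exp (-1 : ℤ) ≤ 1 := by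
          refine le_of_le_of_eq ?_ WithZero.exp_zero
          rw [WithZero.exp_le_exp]
          norm_num
        calc WithZero.exp (-1 - ((WithZero.log v'').toNat : ℤ)) * v''
            = WithZero.exp (-1) * (v'' * WithZero.exp (-((WithZero.log v'').toNat : ℤ))) := by
              rw [e1, mul_assoc, mul_comm v'']
          _ ≤ 1 * 1 := mul_le_mul' e2 (al_mul_exp_neg_toNat_le _)
          _ = 1 := one_mul _)
    obtain ⟨a, haR, b, hbR, hb1, hzb⟩ := al_aeval_mem_semiLoc hgen hα R hxR hyR G hG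
    rw [← hzG] at hzb
    refine ⟨a, haR, ?_, ?_⟩
    · rw [← hzb, map_mul, hzQ, hb1 Q ((hQs Q).1 hQ), one_mul]
    · rw [← hzb, map_mul, hb1 Q' ((hQs Q').1 hQ'Qs), mul_one, hzQ'' Q' hQ'Qs hne,
        ← WithZero.exp_zero, WithZero.exp_lt_exp]
      omega
  -- Step B
  obtain ⟨h, hhR, hh1, hh⟩ := al_exists_small R Q
    (fun Q' => (WithZero.log (Q'.1 w₀ * vDiff (ψ Q') m'⁻¹ (algebraMap F K g))).toNat)
    (Qs.erase Q) (fun Q' hQ' => hRint Q' (Finset.mem_of_mem_erase hQ')) hsep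
  obtain ⟨G, hG, hzG⟩ := al_key hF hK P₀ hgen hα htop hcoef Qs hQs φ₀ hφ₀ ψ hψ hyQ (w₀ * h) (by
    intro Q'' hQ''
    rw [← hm', al_vDiff_mul Q''.1 (ψ Q'') (hψ Q'' hQ'').1]
    by_cases hQQ : Q'' = Q
    · subst hQQ
      rw [hv, mul_one, map_mul, hh1, mul_one]
      exact hw₀
    · have h1 := hh Q'' (Finset.mem_erase.mpr ⟨hQQ, hQ''⟩)
      rw [map_mul, mul_right_comm]
      calc Q''.1 w₀ * vDiff (ψ Q'') m'⁻¹ (algebraMap F K g) * Q''.1 h
            ≤ Q''.1 w₀ * vDiff (ψ Q'') m'⁻¹ (algebraMap F K g) * WithZero.exp (-((WithZero.log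
                (Q''.1 w₀ * vDiff (ψ Q'') m'⁻¹ (algebraMap F K g))).toNat : ℤ)) :=
              mul_le_mul' le_rfl h1
          _ ≤ 1 := al_mul_exp_neg_toNat_le _)
  have hz_mem : w₀ * h ∈ ff_locRing R Q := by
    rw [hzG]
    exact ff_semiLocRing_le_locRing R (s := {Q : Place k K | IsOver Q P₀}) ((hQs Q).1 hQ)
      (al_aeval_mem_semiLoc hgen hα R hxR hyR G hG)
  have hh0 : h ≠ 0 := by
    intro h0
    rw [h0, map_zero] at hh1
    exact zero_ne_one hh1
  have hinv := ff_inv_mem_locRing R Q (ff_le_locRing R Q hhR) hh1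
  have : w₀ = (w₀ * h) * h⁻¹ := by rw [mul_assoc, mul_inv_cancel₀ hh0, mul_one]
  rw [this]
  exact Subalgebra.mul_mem _ hz_mem hinv

include hF hK hgen hα htop hcoef hQs hφ₀ hψ hxR hyR hRle in
/-- (B2): if the local ring of `k[x,y]` at `Q` is the whole valuation ring, then `dx / m'(y)` has
order `0` at `Q`. -/
theorem al_adj_eq_one_of_nonsing (Q : Place k K) (hQ : Q ∈ Qs)
    (hns : ∀ w₀ : K, Q.1 w₀ ≤ 1 → w₀ ∈ ff_locRing R Q)
    (hv0 : vDiff (ψ Q) (aeval y (derivative (minpoly F y)))⁻¹ (algebraMap F K g) ≠ 0) :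
    vDiff (ψ Q) (aeval y (derivative (minpoly F y)))⁻¹ (algebraMap F K g) = 1 := by
  classical
  have hyQ : ∀ Q ∈ Qs, Q.1 y ≤ 1 := fun Q' hQ' => al_hyQ P₀ hcoef ((hQs Q').1 hQ')
  have hRint : ∀ Q' ∈ Qs, ∀ r ∈ R, Q'.1 r ≤ 1 := fun Q' hQ' r hr =>
    al_adjoin_val_le_one P₀ hα hcoef ((hQs Q').1 hQ') (hRle hr)
  have hge : 1 ≤ vDiff (ψ Q) (aeval y (derivative (minpoly F y)))⁻¹ (algebraMap F K g) := by
    by_contra hlt
    push Not at hlt
    exact al_adj_ge_one hF hK P₀ hgen hα htop hcoef Qs hQs φ₀ hφ₀ ψ hψ Q hQ hlt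
  obtain ⟨m', hm'⟩ : ∃ m', m' = aeval y (derivative (minpoly F y)) := ⟨_, rfl⟩
  rw [← hm'] at hv0 hge ⊢
  by_contra hne1
  obtain ⟨m, hm⟩ : ∃ m : ℤ, vDiff (ψ Q) m'⁻¹ (algebraMap F K g) = WithZero.exp m :=
    ⟨WithZero.log _, (WithZero.exp_log hv0).symm⟩
  have hm1 : 1 ≤ m := by
    rw [hm, ← WithZero.exp_zero, WithZero.exp_le_exp] at hge
    rcases hge.lt_or_eq with h | h
    · omega
    · exfalso; apply hne1; rw [hm, ← h, WithZero.exp_zero]
  -- separation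
  have hsep : ∀ Q' ∈ Qs.erase Q, ∃ a ∈ R, Q.1 a = 1 ∧ Q'.1 a < 1 := by
    intro Q' hQ'
    obtain ⟨hne, hQ'Qs⟩ := Finset.mem_erase.mp hQ'
    obtain ⟨z, hzQ, hzQ'⟩ := ff_exists_zero_pole_of_ne (Ne.symm hne)
    have h1 : Q.1 (1 + z) = 1 := Valuation.map_one_add_of_lt _ hzQ
    have h2 : Q'.1 (1 + z) = Q'.1 z := by
      apply Valuation.map_add_eq_of_lt_right
      rw [map_one]; exact hzQ'
    have h10 : (1 + z) ≠ 0 := by
      intro h0
      rw [h0, map_zero] at h1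
      exact zero_ne_one h1
    obtain ⟨a, haR, b, hbR, hb1, hab⟩ := hns (1 + z)⁻¹ (by rw [map_inv₀, h1, inv_one])
    refine ⟨a, haR, ?_, ?_⟩
    · rw [← hab, map_mul, map_inv₀, h1, inv_one, hb1, one_mul]
    · rw [← hab, map_mul, map_inv₀, h2]
      have h3 : (Q'.1 z)⁻¹ < 1 := by
        rw [inv_lt_one₀ (lt_trans zero_lt_one hzQ')]
        exact hzQ'
      calc (Q'.1 z)⁻¹ * Q'.1 b ≤ (Q'.1 z)⁻¹ * 1 := mul_le_mul' le_rfl (hRint Q' hQ'Qs b hbR)
        _ < 1 := by rw [mul_one]; exact h3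
  obtain ⟨h, hhR, hh1, hh⟩ := al_exists_small R Q
    (fun Q' => (WithZero.log (vDiff (ψ Q') m'⁻¹ (algebraMap F K g))).toNat)
    (Qs.erase Q) (fun Q' hQ' => hRint Q' (Finset.mem_of_mem_erase hQ')) hsep
  -- uniformizer
  obtain ⟨t, ht⟩ := ff_exists_uniformizer Q
  obtain ⟨u, huR, w, hwR, hw1, htw⟩ := hns t (by
    rw [ht, ← WithZero.exp_zero, WithZero.exp_le_exp]; norm_num)
  have hu : Q.1 u = WithZero.exp (-1) := by rw [← htw, map_mul, hw1, mul_one, ht]
  obtain ⟨n, hn⟩ : ∃ n : ℕ, (n : ℤ) = m - 1 := ⟨(m - 1).toNat, Int.toNat_of_nonneg (by omega)⟩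
  have hbR : u ^ n * h ∈ R := R.mul_mem (R.pow_mem huR n) hhR
  obtain ⟨G, hG, hbG⟩ := al_adjoin_eq_aeval (al_val_g_le_one P₀ hα) (hRle hbR)
  have hsum := al_sum_res hF hK P₀ hgen hα htop hcoef Qs hQs φ₀ hφ₀ ψ hψ G hG
  rw [← hbG, ← hm', Finset.sum_eq_single_of_mem Q hQ] at hsum
  · apply al_resExp_ne_zero_of_vDiff_eq _ _ _ _ hsum
    rw [al_vDiff_mul Q.1 (ψ Q) (hψ Q hQ).1, hm, map_mul, map_pow, hu, hh1, mul_one,
      ← WithZero.exp_nsmul, ← WithZero.exp_add, nsmul_eq_mul, hn]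
    congr 1
    ring
  · intro Q' hQ' hne
    apply al_resExp_eq_zero_of_vDiff_le
    rw [al_vDiff_mul Q'.1 (ψ Q') (hψ Q' hQ').1, map_mul, map_pow]
    have h1 := hh Q' (Finset.mem_erase.mpr ⟨hne, hQ'⟩)
    have h2 : Q'.1 u ^ n ≤ 1 := pow_le_one' (hRint Q' hQ' u huR) n
    calc Q'.1 u ^ n * Q'.1 h * vDiff (ψ Q') m'⁻¹ (algebraMap F K g)
          ≤ 1 * WithZero.exp (-((WithZero.log
              (vDiff (ψ Q') m'⁻¹ (algebraMap F K g))).toNat : ℤ)) *
              vDiff (ψ Q') m'⁻¹ (algebraMap F K g) :=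
            mul_le_mul' (mul_le_mul' h2 h1) le_rfl
        _ ≤ 1 := by
            rw [one_mul, mul_comm]
            exact al_mul_exp_neg_toNat_le _

end LocalMain

end Groth.Agent.Lib.Helper55
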