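import Groth.Agent.Lib.Helper55.FunFld.AdjFinal

/-! The adjoint divisor coefficient theorem (S12613). -/

set_option autoImplicit false
set_option linter.unusedSectionVars false
set_option linter.style.haveILetI false

open FunFld Module LocRes

namespace Groth.Agent.Lib.Helper55

universe u v

variable {k : Type u} {K : Type v} [Field k] [Field K] [Algebra k K]

theorem al_adjoint_thm [IsAlgClosed k] (hK : IsFunctionField k K) (x y : K)
    (hxy : IntermediateField.adjoin k ({x, y} : Set K) = ⊤)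
    (f : MvPolynomial (Fin 2) k) (hf : Irreducible f) (hfxy : MvPolynomial.aeval ![x, y] f = 0)
    (Q : Place k K) (ΦQ : K →ₐ[k] LaurentSeries k) (hΦQ : IsExpansionAt Q.1 ΦQ)
    (hne : vDiff ΦQ (MvPolynomial.aeval ![x, y] (MvPolynomial.pderiv 1 f))⁻¹ x ≠ 0) :
    0 ≤ ((mapDiv k ![(1 : K), x, y]).deg - 3) * mapDiv k ![(1 : K), x, y] Q -
        ordDiff ΦQ (MvPolynomial.aeval ![x, y] (MvPolynomial.pderiv 1 f))⁻¹ x ∧
    (((mapDiv k ![(1 : K), x, y]).deg - 3) * mapDiv k ![(1 : K), x, y] Q -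
        ordDiff ΦQ (MvPolynomial.aeval ![x, y] (MvPolynomial.pderiv 1 f))⁻¹ x = 0 ↔
      IsNonsingularAt ![(1 : K), x, y] Q) := by
  classical
  have hFh := alHom_isHomogeneous f
  have hFxy : MvPolynomial.aeval ![(1 : K), x, y] (alHom f) = 0 := by
    rw [← al_aeval_alDeh, alDeh_alHom, hfxy]
  have hF2eq : MvPolynomial.aeval ![(1 : K), x, y] (MvPolynomial.pderiv 2 (alHom f)) =
      MvPolynomial.aeval ![x, y] (MvPolynomial.pderiv 1 f) := by
    rw [← al_aeval_alDeh, ← al_pderiv_alDeh, alDeh_alHom]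
  have he := ff_plane_degree hK x y hxy f hf hfxy
  rw [← hF2eq] at hne ⊢
  obtain ⟨Pt, hPt0, hPt⟩ := al_exists_top_poly hf.ne_zero
  obtain ⟨F1, hF1⟩ : ∃ F1, F1 = MvPolynomial.aeval ![(1 : K), x, y]
    (MvPolynomial.pderiv 1 (alHom f)) := ⟨_, rfl⟩
  obtain ⟨F2, hF2⟩ : ∃ F2, F2 = MvPolynomial.aeval ![(1 : K), x, y]
    (MvPolynomial.pderiv 2 (alHom f)) := ⟨_, rfl⟩
  have hF20 : F2 ≠ 0 := by
    rintro rfl
    apply hne
    rw [← hF2]
    unfold vDiff
    rw [inv_zero, map_zero, zero_mul, map_zero]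
  have hfin2 : {c : k | algebraMap k K c * F1 + F2 = 0}.Finite := by
    apply Set.Subsingleton.finite
    intro c hc c' hc'
    rw [Set.mem_ofPred_eq] at hc hc'
    by_contra hcc
    have h1 : algebraMap k K (c - c') * F1 = 0 := by
      rw [map_sub, sub_mul]
      linear_combination hc - hc'
    rcases mul_eq_zero.mp h1 with h | h
    · rw [map_eq_zero, sub_eq_zero] at h
      exact hcc h
    · rw [h, mul_zero, zero_add] at hc
      exact hF20 hc
  have hfin3 : {c : k | Q.1 (x - algebraMap k K c * y) < Q.1 y}.Finite := by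
    apply Set.Subsingleton.finite
    intro c hc c' hc'
    rw [Set.mem_ofPred_eq] at hc hc'
    by_contra hcc
    have h1 : algebraMap k K (c' - c) * y = (x - algebraMap k K c * y) -
        (x - algebraMap k K c' * y) := by
      rw [map_sub]; ring
    have h2 : Q.1 (algebraMap k K (c' - c) * y) = Q.1 y := by
      rw [map_mul, ff_val_const Q (sub_ne_zero.mpr (Ne.symm hcc)), one_mul]
    have h3 : Q.1 (algebraMap k K (c' - c) * y) < Q.1 y := by
      rw [h1]
      exact (Q.1.map_sub _ _).trans_lt (max_lt hc hc')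
    rw [h2] at h3
    exact lt_irrefl _ h3
  obtain ⟨c₁, hc₁⟩ := Infinite.exists_notMem_finset
    (Pt.roots.toFinset ∪ hfin2.toFinset ∪ hfin3.toFinset)
  rw [Finset.mem_union, Finset.mem_union, not_or, not_or, Multiset.mem_toFinset,
    Polynomial.mem_roots hPt0, Set.Finite.mem_toFinset, Set.Finite.mem_toFinset,
    Set.mem_ofPred_eq, Set.mem_ofPred_eq, Polynomial.IsRoot, hPt, not_lt] at hc₁
  obtain ⟨⟨hc1, hc2⟩, hc3⟩ := hc₁
  have hmonic : MvPolynomial.aeval (![0, c₁, 1] : Fin 3 → k) (alHom f) ≠ 0 := by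
    change MvPolynomial.eval ![0, c₁, 1] (alHom f) ≠ 0
    rw [al_eval_alHom]
    exact hc1
  by_cases hcase : Q.1 (x - algebraMap k K c₁ * y) ≤ 1
  · -- Case I
    refine al_global_step hK x y hxy (alHom f) _ hFh hFxy he Q ΦQ hΦQ hne
      !![1, 0, 0; 0, 1, c₁; 0, 0, 1] ?_ ![1, x - algebraMap k K c₁ * y, y] ?_ ?_ ?_ ?_ ?_
    · rw [Matrix.det_fin_three]; simp
    · intro i
      fin_cases i
      · simp [Fin.sum_univ_three]
      · simp [Fin.sum_univ_three]
      · simp [Fin.sum_univ_three]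
    · simp
    · intro i
      fin_cases i
      · simp
      · simpa using hcase
      · simpa using hc3.trans hcase
    · simpa using hmonic
    · rw [Fin.sum_univ_three, ← hF1, ← hF2]
      simpa using hc2
  · -- Case II
    push Not at hcase
    have hx10 : x - algebraMap k K c₁ * y ≠ 0 := by
      intro h0
      rw [h0, map_zero] at hcase
      exact not_lt.mpr zero_le hcase
    refine al_global_step hK x y hxy (alHom f) _ hFh hFxy he Q ΦQ hΦQ hne
      !![0, 1, 0; 1, 0, c₁; 0, 0, 1] ?_ ![x - algebraMap k K c₁ * y, 1, y] ?_ ?_ ?_ ?_ ?_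
    · rw [Matrix.det_fin_three]; simp
    · intro i
      fin_cases i
      · simp [Fin.sum_univ_three]
      · simp [Fin.sum_univ_three]
      · simp [Fin.sum_univ_three]
    · simpa using hx10
    · intro i
      fin_cases i
      · simp
      · simpa using hcase.le
      · simpa using hc3
    · simpa using hmonic
    · rw [Fin.sum_univ_three, ← hF1, ← hF2]
      simpa using hc2

end Groth.Agent.Lib.Helper55
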