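import Groth.Agent.Lib.Helper55.FunFld.GenusOne

/-! Algebraically closed constant field: places have degree one; Weierstrass gaps. -/

set_option autoImplicit false

open FunFld Module

namespace Groth.Agent.Lib.Helper55

variable {k K : Type*} [Field k] [Field K] [Algebra k K]

/-- Over an algebraically closed constant field every place has degree one. -/
theorem ff_deg_eq_one_of_isAlgClosed [IsAlgClosed k] (hK : IsFunctionField k K) (P : Place k K) :
    P.deg = 1 := by
  have hfd := ff_finiteDimensional_residueField hK P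
  let _ : Algebra k (IsLocalRing.ResidueField P.O) := Place.algRes P
  have hint : Algebra.IsIntegral k (IsLocalRing.ResidueField P.O) :=
    @Algebra.IsIntegral.of_finite k (IsLocalRing.ResidueField P.O) _ _ (Place.algRes P) hfd
  have hbij := IsAlgClosed.algebraMap_bijective_of_isIntegral (k := k)
    (K := IsLocalRing.ResidueField P.O)
  let e : k ≃ₗ[k] IsLocalRing.ResidueField P.O :=
    LinearEquiv.ofBijective (Algebra.linearMap k (IsLocalRing.ResidueField P.O)) hbij
  unfold Place.deg
  exact e.finrank_eq.symm.trans (Module.finrank_self k)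

/-- `ℓ(P) = 1` for a rational place in positive genus. -/
theorem ff_ell_single_eq_one (hK : IsFunctionField k K) (hg : 0 < genus k K) (P : Place k K)
    (hP : P.deg = 1) : ell (Finsupp.single P 1 : Divisor k K) = 1 := by
  have h1 : 1 ≤ ell (Finsupp.single P 1 : Divisor k K) :=
    ff_one_le_ell hK (Finsupp.single_nonneg.mpr zero_le_one)
  by_contra hne
  have h2 : ell (0 : Divisor k K) < ell (Finsupp.single P 1 : Divisor k K) := by
    rw [ff_ell_zero hK]; omega
  obtain ⟨x, hx1, hx0⟩ := ff_exists_mem_not_mem_of_ell_lt hK h2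
  have hord : P.ord x = -1 := by
    apply ff_ord_eq_of_mem_not_mem hx1
    simpa using hx0
  have hpos : ∀ Q : Place k K, Q ≠ P → 0 ≤ Q.ord x := by
    have hpd := ff_poleDiv_eq_single_of_mem_L hK zero_le_one hx1 hord
    exact (ff_ord_of_poleDiv_eq_single hK hpd).2
  obtain ⟨y, hy⟩ := (ff_exists_simple_pole_iff hK).mp ⟨x, P, hP, hord, hpos⟩
  have := ((ff_genus_zero_iff hK).mpr ⟨y, hy⟩).1
  omega

/-- `ℓ(D - P) < ℓ(D)` for `deg D ≥ 2g` or `D` canonical, `g > 0`, `P` rational. -/
theorem ff_ell_sub_single_lt (hK : IsFunctionField k K) (hg : 0 < genus k K) (D : Divisor k K)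
    (hD : 2 * (genus k K : ℤ) ≤ D.deg ∨ IsCanonical k K D) (P : Place k K) (hP : P.deg = 1) :
    ell (D - Finsupp.single P 1) < ell D := by
  have hdegP : Divisor.deg (Finsupp.single P 1 : Divisor k K) = 1 := by
    rw [ff_deg_single, hP]; norm_num
  rcases hD with hD | hD
  · have h1 := ff_ell_eq_of_deg_ge hK D (by linarith)
    have h2 := ff_ell_eq_of_deg_ge hK (D - Finsupp.single P 1)
      (by rw [ff_deg_sub, hdegP]; linarith)
    rw [ff_deg_sub, hdegP] at h2
    have : (ell (D - Finsupp.single P 1) : ℤ) < ell D := by linarith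
    exact_mod_cast this
  · obtain ⟨h1, h2⟩ := ff_canonical_ell_deg hK hD
    have h3 := ff_riemann_roch hK hD (D - Finsupp.single P 1)
    rw [show D - (D - Finsupp.single P 1) = Finsupp.single P 1 by abel,
      ff_ell_single_eq_one hK hg P hP, ff_deg_sub, hdegP, h2] at h3
    have : (ell (D - Finsupp.single P 1) : ℤ) < ell D := by
      rw [h3, h1]; push_cast; linarith
    exact_mod_cast this

theorem ff_exists_of_L_ne {P : Place k K} {m : ℤ}
    (h : L (Finsupp.single P m : Divisor k K) ≠ L (Finsupp.single P (m - 1) : Divisor k K)) :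
    ∃ x ∈ L (Finsupp.single P m : Divisor k K), x ∉ L (Finsupp.single P (m - 1) : Divisor k K) := by
  have hle : L (Finsupp.single P (m - 1) : Divisor k K) ≤ L (Finsupp.single P m : Divisor k K) :=
    ff_L_mono (ff_single_le_single P (by omega))
  exact SetLike.exists_of_lt (lt_of_le_of_ne hle (Ne.symm h))

/-- Non-gaps are closed under addition. -/
theorem ff_nongap_add {P : Place k K} {m₁ m₂ : ℤ}
    (h1 : L (Finsupp.single P m₁ : Divisor k K) ≠ L (Finsupp.single P (m₁ - 1) : Divisor k K))
    (h2 : L (Finsupp.single P m₂ : Divisor k K) ≠ L (Finsupp.single P (m₂ - 1) : Divisor k K)) :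
    L (Finsupp.single P (m₁ + m₂) : Divisor k K) ≠
      L (Finsupp.single P (m₁ + m₂ - 1) : Divisor k K) := by
  obtain ⟨x₁, hx₁, hx₁'⟩ := ff_exists_of_L_ne h1
  obtain ⟨x₂, hx₂, hx₂'⟩ := ff_exists_of_L_ne h2
  have ho1 := ff_ord_eq_of_mem_not_mem hx₁ hx₁'
  have ho2 := ff_ord_eq_of_mem_not_mem hx₂ hx₂'
  have hx₁0 : x₁ ≠ 0 := fun h => hx₁' (h ▸ Submodule.zero_mem _)
  have hx₂0 : x₂ ≠ 0 := fun h => hx₂' (h ▸ Submodule.zero_mem _)
  have hmem := ff_mul_mem_L hx₁ hx₂
  rw [← Finsupp.single_add] at hmem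
  intro heq
  rw [heq] at hmem
  have := hmem P
  rw [Finsupp.single_eq_same, ff_val_eq_exp_neg_ord P (mul_ne_zero hx₁0 hx₂0),
    ff_ord_mul P hx₁0 hx₂0, ho1, ho2, WithZero.exp_le_exp] at this
  omega

/-- If `n` is a gap at `P`, at least half of `1, …, n - 1` are gaps. -/
theorem ff_gap_count (P : Place k K) (n : ℕ) (_hn : 1 ≤ n)
    (hgap : L (Finsupp.single P (n : ℤ) : Divisor k K) =
      L (Finsupp.single P ((n : ℤ) - 1) : Divisor k K)) :
    n - 1 ≤ 2 * Set.ncard {m : ℕ | 1 ≤ m ∧ m < n ∧
      L (Finsupp.single P (m : ℤ) : Divisor k K) =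
        L (Finsupp.single P ((m : ℤ) - 1) : Divisor k K)} := by
  classical
  set gap : ℕ → Prop := fun m => L (Finsupp.single P (m : ℤ) : Divisor k K) =
    L (Finsupp.single P ((m : ℤ) - 1) : Divisor k K) with hgapdef
  have hset : {m : ℕ | 1 ≤ m ∧ m < n ∧ gap m} = ↑((Finset.Ico 1 n).filter gap) := by
    ext m
    simp [and_assoc]
  change n - 1 ≤ 2 * Set.ncard {m : ℕ | 1 ≤ m ∧ m < n ∧ gap m}
  rw [hset, Set.ncard_coe_finset]
  have hcard := Finset.card_filter_add_card_filter_not (s := Finset.Ico 1 n) gap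
  have hinj : ((Finset.Ico 1 n).filter (fun m => ¬ gap m)).card ≤
      ((Finset.Ico 1 n).filter gap).card := by
    apply Finset.card_le_card_of_injOn (fun m => n - m)
    · intro m hm
      rw [Finset.mem_coe, Finset.mem_filter, Finset.mem_Ico] at hm
      rw [Finset.mem_coe, Finset.mem_filter, Finset.mem_Ico]
      beta_reduce
      refine ⟨⟨by omega, by omega⟩, ?_⟩
      by_contra hng
      have h3 := ff_nongap_add (P := P) (m₁ := (m : ℤ)) (m₂ := ((n - m : ℕ) : ℤ)) hm.2 hng
      have h4 : (m : ℤ) + ((n - m : ℕ) : ℤ) = n := by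
        have : m ≤ n := by omega
        push_cast [Nat.cast_sub this]; ring
      rw [h4] at h3
      exact h3 hgap
    · intro a ha b hb hab
      rw [Finset.mem_coe, Finset.mem_filter, Finset.mem_Ico] at ha hb
      beta_reduce at hab
      omega
  rw [Nat.card_Ico] at hcard
  omega

/-- For a rational place, `ℓ((m+1)P) = ℓ(mP)` at a gap and `ℓ(mP) + 1` otherwise. -/
theorem ff_ell_single_succ (hK : IsFunctionField k K) (P : Place k K) (hP : P.deg = 1) (m : ℤ) :
    (L (Finsupp.single P (m + 1) : Divisor k K) = L (Finsupp.single P m : Divisor k K) →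
      ell (Finsupp.single P (m + 1) : Divisor k K) = ell (Finsupp.single P m : Divisor k K)) ∧
    (L (Finsupp.single P (m + 1) : Divisor k K) ≠ L (Finsupp.single P m : Divisor k K) →
      ell (Finsupp.single P (m + 1) : Divisor k K) =
        ell (Finsupp.single P m : Divisor k K) + 1) := by
  constructor
  · intro h
    unfold ell
    rw [h]
  · intro h
    have hle : (Finsupp.single P m : Divisor k K) ≤ Finsupp.single P (m + 1) :=
      ff_single_le_single P (by omega)
    have h1 := ff_ell_sub_le hK hle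
    rw [ff_deg_single, ff_deg_single, hP] at h1
    have hlt : L (Finsupp.single P m : Divisor k K) < L (Finsupp.single P (m + 1) : Divisor k K) :=
      lt_of_le_of_ne (ff_L_mono hle) (Ne.symm h)
    have := ff_L_finiteDimensional hK (Finsupp.single P (m + 1) : Divisor k K)
    have h2 := Submodule.finrank_lt_finrank_of_lt hlt
    unfold ell at h1 ⊢
    push_cast at h1
    have h3 : (finrank k ↥(L (Finsupp.single P (m + 1) : Divisor k K)) : ℤ) ≤
        finrank k ↥(L (Finsupp.single P m : Divisor k K)) + 1 := by linarith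
    have h4 : finrank k ↥(L (Finsupp.single P (m + 1) : Divisor k K)) ≤
        finrank k ↥(L (Finsupp.single P m : Divisor k K)) + 1 := by exact_mod_cast h3
    omega

/-- `ℓ(nP) = 1 + #{non-gaps in [1, n]}` for a rational place `P`. -/
theorem ff_ell_single_formula (hK : IsFunctionField k K) (P : Place k K) (hP : P.deg = 1)
    (n : ℕ) :
    ell (Finsupp.single P (n : ℤ) : Divisor k K) = 1 + ((Finset.Ico 1 (n + 1)).filter
      (fun m : ℕ => ¬ (L (Finsupp.single P (m : ℤ) : Divisor k K) =
        L (Finsupp.single P ((m : ℤ) - 1) : Divisor k K)))).card := by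
  classical
  induction n with
  | zero =>
    simp only [Nat.cast_zero, Finsupp.single_zero, zero_add, Finset.Ico_self,
      Finset.filter_empty, Finset.card_empty, add_zero]
    exact ff_ell_zero hK
  | succ n ih =>
    rw [Nat.Ico_succ_right_eq_insert_Ico (by omega : 1 ≤ n + 1), Finset.filter_insert]
    obtain ⟨h1, h2⟩ := ff_ell_single_succ hK P hP (n : ℤ)
    have hcast : ((n + 1 : ℕ) : ℤ) = (n : ℤ) + 1 := by push_cast; ring
    have hcast' : ((n + 1 : ℕ) : ℤ) - 1 = (n : ℤ) := by push_cast; ring
    have e1 : (n : ℤ) + 1 - 1 = n := by ring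
    split_ifs with hgap
    · rw [hcast, e1] at hgap
      rw [hcast, h1 hgap, ih]
    · rw [Finset.card_insert_of_notMem (by simp), hcast]
      rw [hcast, e1] at hgap
      rw [h2 hgap, ih]
      ring

/-- Clifford's bound for multiples of a rational place: `2 ℓ(nP) ≤ n + 2` for `n ≤ 2g - 1`. -/
theorem ff_two_mul_ell_single_le (hK : IsFunctionField k K) (P : Place k K) (hP : P.deg = 1) :
    ∀ (d n : ℕ), (n : ℤ) + d = 2 * (genus k K : ℤ) - 1 →
      2 * ell (Finsupp.single P (n : ℤ) : Divisor k K) ≤ n + 2 := by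
  classical
  intro d
  induction d with
  | zero =>
    intro n hn
    have hdeg : Divisor.deg (Finsupp.single P (n : ℤ) : Divisor k K) = n := by
      rw [ff_deg_single, hP]; simp
    have h1 := ff_ell_eq_of_deg_ge hK (Finsupp.single P (n : ℤ)) (by rw [hdeg]; push_cast at hn; linarith)
    rw [hdeg] at h1
    have : (2 * ell (Finsupp.single P (n : ℤ) : Divisor k K) : ℤ) ≤ n + 2 := by
      push_cast at hn; linarith
    exact_mod_cast this
  | succ d ih =>
    intro n hn
    have h1 := ih (n + 1) (by push_cast at hn ⊢; linarith)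
    obtain ⟨h2, h3⟩ := ff_ell_single_succ hK P hP (n : ℤ)
    have hcast : ((n + 1 : ℕ) : ℤ) = (n : ℤ) + 1 := by push_cast; ring
    rw [hcast] at h1
    by_cases hgap : L (Finsupp.single P ((n : ℤ) + 1) : Divisor k K) =
        L (Finsupp.single P (n : ℤ) : Divisor k K)
    · -- `n + 1` is a gap
      have hgap' : L (Finsupp.single P ((n + 1 : ℕ) : ℤ) : Divisor k K) =
          L (Finsupp.single P (((n + 1 : ℕ) : ℤ) - 1) : Divisor k K) := by
        rw [hcast]; rw [show (n : ℤ) + 1 - 1 = n by ring]; exact hgap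
      have h4 := ff_gap_count P (n + 1) (by omega) hgap'
      have hset : {m : ℕ | 1 ≤ m ∧ m < n + 1 ∧ L (Finsupp.single P (m : ℤ) : Divisor k K) =
          L (Finsupp.single P ((m : ℤ) - 1) : Divisor k K)} =
          ↑((Finset.Ico 1 (n + 1)).filter (fun m : ℕ =>
            L (Finsupp.single P (m : ℤ) : Divisor k K) =
              L (Finsupp.single P ((m : ℤ) - 1) : Divisor k K))) := by
        ext m
        simp [and_assoc]
      rw [hset, Set.ncard_coe_finset] at h4
      have h5 := ff_ell_single_formula hK P hP n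
      have h6 := Finset.card_filter_add_card_filter_not (s := Finset.Ico 1 (n + 1))
        (fun m : ℕ => L (Finsupp.single P (m : ℤ) : Divisor k K) =
              L (Finsupp.single P ((m : ℤ) - 1) : Divisor k K))
      rw [Nat.card_Ico] at h6
      omega
    · rw [h3 hgap] at h1
      omega

/-- The `l`-th gap number at a rational place is at most `2l - 1` (`1 ≤ l ≤ g`). -/
theorem ff_gap_le (hK : IsFunctionField k K) (P : Place k K) (hP : P.deg = 1) (l : ℕ)
    (hl : 1 ≤ l) (hlg : l ≤ genus k K) :
    l ≤ Set.ncard {m : ℕ | 1 ≤ m ∧ m ≤ 2 * l - 1 ∧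
      L (Finsupp.single P (m : ℤ) : Divisor k K) =
        L (Finsupp.single P ((m : ℤ) - 1) : Divisor k K)} := by
  classical
  have hset : {m : ℕ | 1 ≤ m ∧ m ≤ 2 * l - 1 ∧ L (Finsupp.single P (m : ℤ) : Divisor k K) =
      L (Finsupp.single P ((m : ℤ) - 1) : Divisor k K)} =
      ↑((Finset.Ico 1 (2 * l - 1 + 1)).filter (fun m : ℕ =>
        L (Finsupp.single P (m : ℤ) : Divisor k K) =
          L (Finsupp.single P ((m : ℤ) - 1) : Divisor k K))) := by
    ext m
    simp [and_assoc]
  rw [hset, Set.ncard_coe_finset]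
  have h1 := ff_two_mul_ell_single_le hK P hP (2 * (genus k K) - 2 * l) (2 * l - 1) (by
    have : 2 * l ≤ 2 * genus k K := by omega
    push_cast [Nat.cast_sub this, Nat.cast_sub (by omega : 1 ≤ 2 * l)]
    ring)
  have h2 := ff_ell_single_formula hK P hP (2 * l - 1)
  have h3 := Finset.card_filter_add_card_filter_not (s := Finset.Ico 1 (2 * l - 1 + 1))
    (fun m : ℕ => L (Finsupp.single P (m : ℤ) : Divisor k K) =
          L (Finsupp.single P ((m : ℤ) - 1) : Divisor k K))
  rw [Nat.card_Ico] at h3
  omega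

end Groth.Agent.Lib.Helper55
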