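import Groth.Agent.Lib.Helper55.FunFld.WeilDim

/-! Consequences of Riemann–Roch: nonspecial divisors, rational function fields,
strong approximation. -/

set_option autoImplicit false

open FunFld Module

namespace Groth.Agent.Lib.Helper55

variable {k K : Type*} [Field k] [Field K] [Algebra k K]

/-- `ℓ(D) = deg D + 1 - g` for `deg D ≥ 2g - 1`. -/
theorem ff_ell_eq_of_deg_ge (hK : IsFunctionField k K) (D : Divisor k K)
    (h : 2 * (genus k K : ℤ) - 1 ≤ D.deg) : (ell D : ℤ) = D.deg + 1 - genus k K := by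
  obtain ⟨W, hW⟩ := ff_exists_canonical hK
  obtain ⟨-, hW2⟩ := ff_canonical_ell_deg hK hW
  have h1 := ff_riemann_roch hK hW D
  have h2 : (W - D).deg < 0 := by rw [ff_deg_sub, hW2]; linarith
  rw [ff_ell_eq_zero_of_deg_neg hK h2] at h1
  simpa using h1

/-- Powers `1, x, …, x^r` lie in `L(r (x)_∞)`. -/
theorem ff_pow_mem_L_poleDiv (hK : IsFunctionField k K) (x : K) {r j : ℕ} (hj : j ≤ r) :
    x ^ j ∈ L (r • (ff_poleDiv x : Divisor k K)) := by
  intro P
  rw [map_pow, Finsupp.smul_apply]
  have h1le : (1 : WithZero (Multiplicative ℤ)) ≤ WithZero.exp ((ff_poleDiv x : Divisor k K) P) := by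
    rw [← WithZero.exp_zero, WithZero.exp_le_exp]; exact ff_poleDiv_nonneg x P
  calc (P.1 x) ^ j ≤ (WithZero.exp ((ff_poleDiv x : Divisor k K) P)) ^ j :=
        pow_le_pow_left' (ff_val_le_exp_poleDiv hK x P) _
    _ ≤ (WithZero.exp ((ff_poleDiv x : Divisor k K) P)) ^ r := pow_le_pow_right' h1le hj
    _ = WithZero.exp (r • (ff_poleDiv x : Divisor k K) P) := (WithZero.exp_nsmul _ _).symm

theorem ff_linearIndependent_pow {x : K} (hx : Transcendental k x) (m : ℕ) :
    LinearIndependent k (fun j : Fin m => x ^ (j : ℕ)) := by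
  have h := (ff_linearIndependent_pow_gen hx m).map'
    (IntermediateField.val (IntermediateField.adjoin k ({x} : Set K))).toLinearMap
    (LinearMap.ker_eq_bot.mpr (fun a b hab => Subtype.ext hab))
  have heq : (fun j : Fin m => x ^ (j : ℕ)) =
      (IntermediateField.val (IntermediateField.adjoin k ({x} : Set K))).toLinearMap ∘
        fun j : Fin m => (IntermediateField.AdjoinSimple.gen k x) ^ (j : ℕ) := by
    ext j
    simp
  rw [heq]
  exact h

/-- `r + 1 ≤ ℓ(r (x)_∞)` for transcendental `x`. -/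
theorem ff_succ_le_ell_poleDiv (hK : IsFunctionField k K) {x : K} (hx : Transcendental k x)
    (r : ℕ) : r + 1 ≤ ell (r • (ff_poleDiv x : Divisor k K)) := by
  have hli := ff_linearIndependent_pow hx (r + 1)
  have hspan : Submodule.span k (Set.range fun j : Fin (r + 1) => x ^ (j : ℕ)) ≤
      L (r • (ff_poleDiv x : Divisor k K)) :=
    Submodule.span_le.mpr (by
      rintro _ ⟨j, rfl⟩
      exact ff_pow_mem_L_poleDiv hK x (Nat.lt_succ_iff.mp j.2))
  have hfd := ff_L_finiteDimensional hK (r • (ff_poleDiv x : Divisor k K))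
  have h1 := Submodule.finrank_mono hspan
  rw [finrank_span_eq_card hli] at h1
  simpa [ell] using h1

/-- If `[K : k(x)] = 1` then the genus is `0`. -/
theorem ff_genus_eq_zero_of_finrank_eq_one (hK : IsFunctionField k K) {x : K}
    (hx : Transcendental k x)
    (h1 : finrank (IntermediateField.adjoin k ({x} : Set K)) K = 1) : genus k K = 0 := by
  obtain ⟨N, hN⟩ := ff_riemann hK
  have hdeg : (ff_poleDiv x : Divisor k K).deg = 1 := by
    rw [ff_deg_poleDiv hK hx, h1]; rfl
  set r : ℕ := N.toNat with hr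
  have hrN : N ≤ (r • (ff_poleDiv x : Divisor k K)).deg := by
    rw [ff_deg_nsmul, hdeg, mul_one]; exact Int.self_le_toNat N
  have h2 := hN _ hrN
  rw [ff_deg_nsmul, hdeg, mul_one] at h2
  have h3 : ((r : ℤ) + 1) ≤ ell (r • (ff_poleDiv x : Divisor k K)) := by
    exact_mod_cast ff_succ_le_ell_poleDiv hK hx r
  have : (genus k K : ℤ) ≤ 0 := by linarith
  omega

theorem ff_eq_single_of_deg_eq_one (hK : IsFunctionField k K) {D : Divisor k K} (h0 : 0 ≤ D)
    (hdeg : D.deg = 1) : ∃ P : Place k K, D = Finsupp.single P 1 ∧ P.deg = 1 := by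
  classical
  have hD0 : D ≠ 0 := by
    rintro rfl
    rw [ff_deg_zero] at hdeg
    exact zero_ne_one hdeg
  obtain ⟨P, hP⟩ := Finsupp.ne_iff.mp hD0
  have hP1 : 1 ≤ D P := by
    have h1 := h0 P
    have h2 : D P ≠ 0 := hP
    change (0 : ℤ) ≤ D P at h1
    omega
  have hE0 : 0 ≤ D - Finsupp.single P 1 := by
    intro Q
    rw [Finsupp.sub_apply, Finsupp.single_apply]
    change (0 : ℤ) ≤ _
    split_ifs with h
    · subst h; omega
    · have := h0 Q
      change (0 : ℤ) ≤ D Q at this
      omega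
  have hdegE := ff_deg_nonneg hE0
  rw [ff_deg_sub, ff_deg_single, hdeg, one_mul] at hdegE
  have hdegP : (1 : ℤ) ≤ P.deg := by exact_mod_cast ff_deg_pos hK P
  have hdegP1 : (P.deg : ℤ) = 1 := by linarith
  have hE : (0 : Divisor k K) = D - Finsupp.single P 1 := by
    apply ff_eq_of_le_of_deg_eq hK hE0
    rw [ff_deg_zero, ff_deg_sub, ff_deg_single, hdeg, hdegP1]; ring
  refine ⟨P, ?_, by exact_mod_cast hdegP1⟩
  exact (sub_eq_zero.mp hE.symm)

theorem ff_poleDiv_eq_single (hK : IsFunctionField k K) {x : K} {P : Place k K}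
    (h1 : P.ord x = -1) (h2 : ∀ Q : Place k K, Q ≠ P → 0 ≤ Q.ord x) :
    (ff_poleDiv x : Divisor k K) = Finsupp.single P 1 := by
  classical
  ext Q
  rw [ff_poleDiv_apply hK, Finsupp.single_apply]
  split_ifs with h
  · subst h; rw [h1]; rfl
  · have := h2 Q (Ne.symm h)
    exact max_eq_right (by omega)

theorem ff_ord_of_poleDiv_eq_single (hK : IsFunctionField k K) {x : K} {P : Place k K}
    (h : (ff_poleDiv x : Divisor k K) = Finsupp.single P 1) :
    P.ord x = -1 ∧ ∀ Q : Place k K, Q ≠ P → 0 ≤ Q.ord x := by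
  classical
  constructor
  · have := ff_poleDiv_apply hK x P
    rw [h, Finsupp.single_eq_same] at this
    rcases max_cases (-P.ord x) 0 with ⟨h1, _⟩ | ⟨h1, _⟩
    · omega
    · omega
  · intro Q hQ
    have := ff_poleDiv_apply hK x Q
    rw [h, Finsupp.single_apply, if_neg (Ne.symm hQ)] at this
    have h2 := le_max_left (-Q.ord x) 0
    omega

theorem ff_transcendental_of_adjoin_eq_top (hK : IsFunctionField k K) {x : K}
    (h : IntermediateField.adjoin k ({x} : Set K) = ⊤) : Transcendental k x := by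
  intro halg
  obtain ⟨c, rfl⟩ := hK.2 x halg
  obtain ⟨⟨x₀, hx₀, -⟩, -⟩ := id hK
  have h1 : x₀ ∈ IntermediateField.adjoin k ({algebraMap k K c} : Set K) := by
    rw [h]; exact IntermediateField.mem_top
  have h2 : IntermediateField.adjoin k ({algebraMap k K c} : Set K) = ⊥ := by
    rw [IntermediateField.adjoin_simple_eq_bot_iff]
    exact IntermediateField.algebraMap_mem _ c
  rw [h2, IntermediateField.mem_bot] at h1
  obtain ⟨d, rfl⟩ := h1
  exact hx₀ (isAlgebraic_algebraMap d)

/-- A simple pole at a rational place, no other poles, iff rational function field. -/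
theorem ff_exists_simple_pole_iff (hK : IsFunctionField k K) :
    (∃ (x : K) (P : Place k K), P.deg = 1 ∧ P.ord x = -1 ∧
        ∀ Q : Place k K, Q ≠ P → 0 ≤ Q.ord x) ↔
      ∃ x : K, IntermediateField.adjoin k ({x} : Set K) = ⊤ := by
  constructor
  · rintro ⟨x, P, hP, h1, h2⟩
    refine ⟨x, ?_⟩
    have hx : Transcendental k x := by
      apply ff_transcendental_of_not_mem_range hK
      rintro ⟨c, rfl⟩
      rw [ff_ord_const] at h1
      omega
    have h3 := ff_deg_poleDiv hK hx
    rw [ff_poleDiv_eq_single hK h1 h2, ff_deg_single, hP] at h3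
    have := ff_finite_of_transcendental hK hx
    apply IntermediateField.finrank_eq_one_iff_eq_top.mp
    have : ((1 : ℕ) : ℤ) = finrank (IntermediateField.adjoin k ({x} : Set K)) K := by
      rw [← h3]; simp
    exact_mod_cast this.symm
  · rintro ⟨x, hx⟩
    have hxt := ff_transcendental_of_adjoin_eq_top hK hx
    have h1 : finrank (IntermediateField.adjoin k ({x} : Set K)) K = 1 :=
      IntermediateField.finrank_eq_one_iff_eq_top.mpr hx
    have h2 := ff_deg_poleDiv hK hxt
    rw [h1] at h2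
    obtain ⟨P, hP1, hP2⟩ := ff_eq_single_of_deg_eq_one hK (ff_poleDiv_nonneg x) (by simpa using h2)
    obtain ⟨h3, h4⟩ := ff_ord_of_poleDiv_eq_single hK hP1
    exact ⟨x, P, hP2, h3, h4⟩

/-- Genus `0` with a rational place iff rational function field. -/
theorem ff_genus_zero_iff (hK : IsFunctionField k K) :
    (genus k K = 0 ∧ ∃ P : Place k K, P.deg = 1) ↔
      ∃ x : K, IntermediateField.adjoin k ({x} : Set K) = ⊤ := by
  classical
  constructor
  · rintro ⟨hg, P, hP⟩
    rw [← ff_exists_simple_pole_iff hK]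
    have hdeg : Divisor.deg (Finsupp.single P 1 : Divisor k K) = 1 := by
      rw [ff_deg_single, hP]; rfl
    have h1 := ff_ell_eq_of_deg_ge hK (Finsupp.single P 1) (by rw [hg, hdeg]; norm_num)
    rw [hdeg, hg] at h1
    have h2 : ell (Finsupp.single P 1 : Divisor k K) = 2 := by
      have : (ell (Finsupp.single P 1 : Divisor k K) : ℤ) = 2 := by rw [h1]; norm_num
      exact_mod_cast this
    -- a nonconstant element of `L(P)`
    have hex : ∃ x ∈ L (Finsupp.single P 1 : Divisor k K), x ∉ Set.range (algebraMap k K) := by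
      by_contra hcon
      push Not at hcon
      have hle : L (Finsupp.single P 1 : Divisor k K) ≤ (1 : Submodule k K) := by
        intro x hx
        rw [Submodule.mem_one]
        exact hcon x hx
      have := Submodule.finrank_mono hle
      rw [ff_finrank_one] at this
      unfold ell at h2
      omega
    obtain ⟨x, hxL, hxk⟩ := hex
    have hx0 : x ≠ 0 := fun h => hxk ⟨0, by rw [h, map_zero]⟩
    have h3 := (ff_mem_L_iff_div hK _ hx0).mp hxL
    obtain ⟨-, Q, hQ⟩ := ff_exists_zero_and_pole hK hxk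
    have h4 : ∀ R : Place k K, R ≠ P → 0 ≤ R.ord x := by
      intro R hR
      have := h3 R
      rw [Finsupp.add_apply, Finsupp.single_apply, if_neg (Ne.symm hR), ff_div_apply hK] at this
      change (0 : ℤ) ≤ _ at this
      omega
    have hQP : Q = P := by
      by_contra hne
      have := h4 Q hne
      omega
    subst hQP
    have h5 := h3 Q
    rw [Finsupp.add_apply, Finsupp.single_eq_same, ff_div_apply hK] at h5
    change (0 : ℤ) ≤ _ at h5
    exact ⟨x, Q, hP, by omega, h4⟩
  · rintro ⟨x, hx⟩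
    have hxt := ff_transcendental_of_adjoin_eq_top hK hx
    have h1 : finrank (IntermediateField.adjoin k ({x} : Set K)) K = 1 :=
      IntermediateField.finrank_eq_one_iff_eq_top.mpr hx
    refine ⟨ff_genus_eq_zero_of_finrank_eq_one hK hxt h1, ?_⟩
    obtain ⟨x', P, hP, -, -⟩ := (ff_exists_simple_pole_iff hK).mpr ⟨x, hx⟩
    exact ⟨P, hP⟩

/-- In positive genus, distinct rational places are not linearly equivalent. -/
theorem ff_eq_of_single_sub_single_eq_div (hK : IsFunctionField k K) (hg : 0 < genus k K)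
    (P P' : Place k K) (hP' : P'.deg = 1) (x : K)
    (h : Finsupp.single P 1 - Finsupp.single P' 1 = FunFld.div k x) : P = P' := by
  classical
  by_contra hne
  have hord : ∀ Q : Place k K, Q.ord x = (if P = Q then 1 else 0) - (if P' = Q then 1 else 0) := by
    intro Q
    rw [← ff_div_apply hK, ← h, Finsupp.sub_apply, Finsupp.single_apply, Finsupp.single_apply]
  have h1 : P'.ord x = -1 := by
    rw [hord, if_neg hne, if_pos rfl]; norm_num
  have h2 : ∀ Q : Place k K, Q ≠ P' → 0 ≤ Q.ord x := by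
    intro Q hQ
    rw [hord, if_neg (Ne.symm hQ)]
    split_ifs <;> norm_num
  obtain ⟨y, hy⟩ := (ff_exists_simple_pole_iff hK).mp ⟨x, P', hP', h1, h2⟩
  have := ((ff_genus_zero_iff hK).mpr ⟨y, hy⟩).1
  omega

theorem ff_sum_single_apply (s : Finset (Place k K)) (f : Place k K → ℤ) (Q : Place k K)
    [Decidable (Q ∈ s)] :
    (∑ P ∈ s, Finsupp.single P (f P) : Divisor k K) Q = if Q ∈ s then f Q else 0 := by
  classical
  simp only [Finsupp.finsetSum_apply, Finsupp.single_apply]
  rw [Finset.sum_ite_eq' s Q]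
  congr

/-- Strong approximation, `≤` form. -/
theorem ff_strong_approx_le (hK : IsFunctionField k K) (s : Finset (Place k K))
    (Pinf : Place k K) (hinf : Pinf ∉ s) (y : Place k K → K) (γ : Place k K → ℤ) :
    ∃ z : K, (∀ P ∈ s, P.1 (z - y P) ≤ WithZero.exp (γ P)) ∧
      ∀ Q : Place k K, Q ∉ s → Q ≠ Pinf → Q.1 z ≤ 1 := by
  classical
  obtain ⟨N, hN⟩ := ff_riemann hK
  set E : Divisor k K := ∑ P ∈ s, Finsupp.single P (γ P) with hE
  set M : ℕ := (N - E.deg).toNat with hM
  set D : Divisor k K := Finsupp.single Pinf (M : ℤ) + E with hD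
  have hdegP : (1 : ℤ) ≤ Pinf.deg := by exact_mod_cast ff_deg_pos hK Pinf
  have hdeg : N ≤ D.deg := by
    rw [hD, ff_deg_add, ff_deg_single]
    have h1 : N - E.deg ≤ M := Int.self_le_toNat _
    have h2 : (0 : ℤ) ≤ M := Int.natCast_nonneg _
    nlinarith
  have hadele := ff_adele_eq_of_nonspecial hK (hN D hdeg)
  set α : Place k K → K := fun P => if P ∈ s then y P else 0 with hα
  have hαmem : α ∈ adele k K := by
    rw [ff_mem_adele_iff]
    refine s.finite_toSet.subset ?_
    intro P hP
    by_contra hPs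
    apply hP
    have : P ∉ s := hPs
    simp [hα, this]
  rw [hadele] at hαmem
  obtain ⟨β, hβ, _, ⟨z, rfl⟩, hsum⟩ := Submodule.mem_sup.mp hαmem
  have hDs : ∀ P ∈ s, D P = γ P := by
    intro P hP
    have hne : Pinf ≠ P := fun h => hinf (h ▸ hP)
    rw [hD, Finsupp.add_apply, Finsupp.single_apply, if_neg hne, hE, ff_sum_single_apply,
      if_pos hP, zero_add]
  have hDns : ∀ Q, Q ∉ s → Q ≠ Pinf → D Q = 0 := by
    intro Q hQ hQinf
    rw [hD, Finsupp.add_apply, Finsupp.single_apply, if_neg (Ne.symm hQinf), hE,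
      ff_sum_single_apply, if_neg hQ, zero_add]
  refine ⟨z, fun P hP => ?_, fun Q hQ hQinf => ?_⟩
  · have h1 := congrFun hsum P
    simp only [Pi.add_apply, ff_diag_apply, hα, if_pos hP] at h1
    have h2 : z - y P = -β P := by rw [← h1]; ring
    rw [h2, Valuation.map_neg, ← hDs P hP]
    exact hβ P
  · have h1 := congrFun hsum Q
    simp only [Pi.add_apply, ff_diag_apply, hα, if_neg hQ] at h1
    have h2 : z = -β Q := by linear_combination h1
    rw [h2, Valuation.map_neg]
    have := hβ Q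
    rwa [hDns Q hQ hQinf, WithZero.exp_zero] at this

/-- Strong approximation with exact valuations. -/
theorem ff_strong_approx_eq (hK : IsFunctionField k K) (s : Finset (Place k K))
    (Pinf : Place k K) (hinf : Pinf ∉ s) (y : Place k K → K) (γ : Place k K → ℤ) :
    ∃ z : K, (∀ P ∈ s, P.1 (z - y P) = WithZero.exp (γ P)) ∧
      ∀ Q : Place k K, Q ∉ s → Q ≠ Pinf → Q.1 z ≤ 1 := by
  obtain ⟨z₁, hz₁, hz₁'⟩ := ff_strong_approx_le hK s Pinf hinf y (fun P => γ P - 1)
  choose c hc using fun P : Place k K => P.2.2 (WithZero.exp (γ P))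
  obtain ⟨z₂, hz₂, hz₂'⟩ := ff_strong_approx_le hK s Pinf hinf c (fun P => γ P - 1)
  refine ⟨z₁ + z₂, fun P hP => ?_, fun Q hQ hQinf => ?_⟩
  · have h1 : P.1 (z₁ - y P) < WithZero.exp (γ P) := ff_lt_exp_iff.mpr (hz₁ P hP)
    have h2 : P.1 (z₂ - c P) < WithZero.exp (γ P) := ff_lt_exp_iff.mpr (hz₂ P hP)
    have h3 : P.1 z₂ = WithZero.exp (γ P) := by
      have : z₂ = c P + (z₂ - c P) := by ring
      rw [this, Valuation.map_add_eq_of_lt_left _ (by rw [hc]; exact h2), hc]
    have : z₁ + z₂ - y P = z₂ + (z₁ - y P) := by ring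
    rw [this, Valuation.map_add_eq_of_lt_left _ (by rw [h3]; exact h1), h3]
  · exact (Q.1.map_add _ _).trans (max_le (hz₁' Q hQ hQinf) (hz₂' Q hQ hQinf))

/-- Strong approximation in the indexed form. -/
theorem ff_strong_approx (hK : IsFunctionField k K) (Pinf : Place k K) (n : ℕ)
    (P : Fin n → Place k K) (hP : Function.Injective P) (hinf : Pinf ∉ Set.range P)
    (x : Fin n → K) (m : Fin n → ℤ) :
    ∃ y : K, (∀ i, (P i).1 (y - x i) = WithZero.exp (-(m i))) ∧
      ∀ Q : Place k K, Q ≠ Pinf → Q ∉ Set.range P → Q.1 y ≤ 1 := by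
  classical
  set s : Finset (Place k K) := Finset.univ.image P with hs
  have hmem : ∀ Q, Q ∈ s ↔ Q ∈ Set.range P := by
    intro Q
    simp [hs]
  have hinf' : Pinf ∉ s := fun h => hinf ((hmem _).mp h)
  set yy : Place k K → K := fun Q => if h : ∃ i, P i = Q then x h.choose else 0 with hyy
  set γ : Place k K → ℤ := fun Q => if h : ∃ i, P i = Q then -(m h.choose) else 0 with hγ
  have hch : ∀ i, ∀ h : ∃ j, P j = P i, h.choose = i := fun i h => hP h.choose_spec
  obtain ⟨z, hz1, hz2⟩ := ff_strong_approx_eq hK s Pinf hinf' yy γ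
  refine ⟨z, fun i => ?_, fun Q hQinf hQ => hz2 Q (fun h => hQ ((hmem _).mp h)) hQinf⟩
  have h1 := hz1 (P i) ((hmem _).mpr ⟨i, rfl⟩)
  have hex : ∃ j, P j = P i := ⟨i, rfl⟩
  simp only [hyy, hγ, dif_pos hex, hch i hex] at h1
  exact h1

end Groth.Agent.Lib.Helper55
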