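import Groth.Agent.Lib.Helper55.FunFld.ProjMap
import Mathlib.Data.Set.Card

/-!
# An automorphism fixing more than `2g + 2` places is the identity (S11047)
-/

open FunFld Module

namespace Groth.Agent.Lib.Helper55

variable {k K : Type*} [Field k] [Field K] [Algebra k K]

/-- The place `P ∘ σ`. -/
noncomputable def ff_comapPlace (σ : K ≃ₐ[k] K) (P : Place k K) : Place k K :=
  ⟨P.1.comap (σ : K →+* K), fun c => by
      simp only [Valuation.comap_apply]
      have : (σ : K →+* K) (algebraMap k K c) = algebraMap k K c := σ.commutes c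
      rw [this]
      exact P.2.1 c,
    fun γ => by
      obtain ⟨z, hz⟩ := P.2.2 γ
      refine ⟨σ.symm z, ?_⟩
      simp only [Valuation.comap_apply]
      have : (σ : K →+* K) (σ.symm z) = z := σ.apply_symm_apply z
      rw [this, hz]⟩

theorem ff_comapPlace_apply (σ : K ≃ₐ[k] K) (P : Place k K) (z : K) :
    (ff_comapPlace σ P).1 z = P.1 (σ z) := rfl

theorem ff_comapPlace_injective (σ : K ≃ₐ[k] K) : Function.Injective (ff_comapPlace σ) := by
  intro P Q h
  apply Subtype.ext
  ext z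
  have := congrArg (fun R : Place k K => R.1 (σ.symm z)) h
  simpa [ff_comapPlace_apply] using this

/-- A place whose maximal ideal is mapped into itself by `σ` is fixed by `σ`. -/
theorem ff_comapPlace_eq_of_fixed (σ : K ≃ₐ[k] K) (P : Place k K)
    (h : ∀ x : K, P.1 x < 1 → P.1 (σ x) < 1) : ff_comapPlace σ P = P := by
  apply ff_place_eq_of_O_le
  intro z hz
  have hz' : P.1 (σ z) ≤ 1 := (Valuation.mem_valuationSubring_iff _ _).mp hz
  refine (Valuation.mem_valuationSubring_iff _ _).mpr ?_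
  by_contra hcon
  push Not at hcon
  have hz0 : z ≠ 0 := by
    rintro rfl
    rw [map_zero] at hcon
    exact absurd hcon (not_lt.mpr zero_le)
  have h1 : P.1 z⁻¹ < 1 := by
    rw [map_inv₀]
    exact (inv_lt_one₀ (zero_lt_iff.mpr (ff_val_ne_zero P hz0))).mpr hcon
  have h2 := h _ h1
  rw [map_inv₀, map_inv₀] at h2
  have hσz0 : P.1 (σ z) ≠ 0 := ff_val_ne_zero P (by simpa using hz0)
  have h3 : 1 < P.1 (σ z) := (inv_lt_one₀ (zero_lt_iff.mpr hσz0)).mp h2
  exact absurd hz' (not_le.mpr h3)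

theorem ff_val_apply_of_fixed (σ : K ≃ₐ[k] K) (P : Place k K)
    (h : ∀ x : K, P.1 x < 1 → P.1 (σ x) < 1) (z : K) : P.1 (σ z) = P.1 z := by
  have := ff_comapPlace_eq_of_fixed σ P h
  rw [← ff_comapPlace_apply, this]

/-- At a fixed place (residue field `k`), `σ z - z` vanishes for `z` integral. -/
theorem ff_val_sub_lt_one_of_fixed [IsAlgClosed k] (hK : IsFunctionField k K) (σ : K ≃ₐ[k] K)
    (Q : Place k K) (h : ∀ x : K, Q.1 x < 1 → Q.1 (σ x) < 1) {z : K} (hz : Q.1 z ≤ 1) :
    Q.1 (σ z - z) < 1 := by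
  obtain ⟨c, hc⟩ := ff_exists_const_approx hK Q hz
  have h1 : Q.1 (σ z - algebraMap k K c) < 1 := by
    have : σ z - algebraMap k K c = σ (z - algebraMap k K c) := by
      rw [map_sub, σ.commutes]
    rw [this, ff_val_apply_of_fixed σ Q h]
    exact hc
  have h2 : σ z - z = (σ z - algebraMap k K c) - (z - algebraMap k K c) := by ring
  rw [h2]
  exact lt_of_le_of_lt (Valuation.map_sub _ _ _) (max_lt h1 hc)

/-- `σ` fixes `L(nP)` pointwise when `P` and more than `n` further places are fixed. -/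
theorem ff_fixes_L_of_many_fixed [IsAlgClosed k] (hK : IsFunctionField k K) (σ : K ≃ₐ[k] K)
    (P : Place k K) (hP : ∀ x : K, P.1 x < 1 → P.1 (σ x) < 1) (T : Finset (Place k K))
    (hT : ∀ Q ∈ T, Q ≠ P ∧ ∀ x : K, Q.1 x < 1 → Q.1 (σ x) < 1)
    (n : ℕ) (hn : n < T.card) {z : K} (hz : z ∈ L (Finsupp.single P (n : ℤ) : Divisor k K)) :
    σ z = z := by
  classical
  have hPfix : ff_comapPlace σ P = P := ff_comapPlace_eq_of_fixed σ P hP
  have hσz : σ z ∈ L (Finsupp.single P (n : ℤ) : Divisor k K) := by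
    rw [ff_mem_L_iff]
    intro Q
    have h1 := (ff_mem_L_iff _ _).mp hz (ff_comapPlace σ Q)
    rw [ff_comapPlace_apply] at h1
    refine h1.trans (WithZero.exp_le_exp.mpr ?_)
    by_cases hQ : Q = P
    · rw [hQ, hPfix]
    · have hne : ff_comapPlace σ Q ≠ P := fun h =>
        hQ (ff_comapPlace_injective σ (h.trans hPfix.symm))
      rw [Finsupp.single_apply, if_neg (Ne.symm hne), Finsupp.single_apply, if_neg (Ne.symm hQ)]
  set y := σ z - z with hy
  have hyL : y ∈ L (Finsupp.single P (n : ℤ) : Divisor k K) := Submodule.sub_mem _ hσz hz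
  by_contra hne
  have hy0 : y ≠ 0 := sub_ne_zero.mpr hne
  have hzeros : ∀ Q ∈ T, Q.1 y < 1 := by
    intro Q hQ
    obtain ⟨hQP, hQfix⟩ := hT Q hQ
    have hzQ : Q.1 z ≤ 1 := by
      have := (ff_mem_L_iff _ _).mp hz Q
      rwa [Finsupp.single_apply, if_neg (Ne.symm hQP), WithZero.exp_zero] at this
    exact ff_val_sub_lt_one_of_fixed hK σ Q hQfix hzQ
  obtain ⟨Q₁, hQ₁⟩ : T.Nonempty := Finset.card_pos.mp (by omega)
  have hync : y ∉ Set.range (algebraMap k K) := by
    rintro ⟨c, hc⟩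
    have hc0 : c ≠ 0 := by
      rintro rfl
      rw [map_zero] at hc
      exact hy0 hc.symm
    have := hzeros Q₁ hQ₁
    rw [← hc, ff_val_const Q₁ hc0] at this
    exact lt_irrefl _ this
  have hyt : Transcendental k y := ff_transcendental_of_not_mem_range hK hync
  have h1 := ff_sum_ord_mul_deg_le hK hyt T hzeros
  have h2 : (T.card : ℤ) ≤ ∑ Q ∈ T, Q.ord y * (Q.deg : ℤ) := by
    have := Finset.card_nsmul_le_sum T (fun Q => Q.ord y * (Q.deg : ℤ)) 1 (by
      intro Q hQ
      have h3 : 0 < Q.ord y := (ff_ord_pos_iff Q hy0).mpr (hzeros Q hQ)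
      rw [ff_deg_eq_one_of_isAlgClosed hK Q]
      push_cast
      omega)
    simpa using this
  have h3 : (ff_poleDiv y : Divisor k K) ≤ Finsupp.single P (n : ℤ) := by
    intro Q
    rw [ff_poleDiv_apply hK]
    have h4 := (ff_mem_L_iff _ _).mp hyL Q
    rw [ff_val_eq_exp_neg_ord Q hy0, WithZero.exp_le_exp] at h4
    have h5 : (0 : ℤ) ≤ (Finsupp.single P (n : ℤ) : Divisor k K) Q := by
      rw [Finsupp.single_apply]
      split_ifs <;> omega
    omega
  have h4 := ff_deg_mono h3
  rw [ff_deg_poleDiv hK hyt, ff_deg_single, ff_deg_eq_one_of_isAlgClosed hK P] at h4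
  push_cast at h4
  have : (n : ℤ) < T.card := by exact_mod_cast hn
  omega

/-- For `n ≥ max(2g, 1)` there is a function with pole divisor exactly `nP`. -/
theorem ff_exists_exact_pole (hK : IsFunctionField k K) (P : Place k K) (hP : P.deg = 1)
    (n : ℕ) (hn : 2 * genus k K ≤ n) (hn1 : 1 ≤ n) :
    ∃ x ∈ L (Finsupp.single P (n : ℤ) : Divisor k K), Transcendental k x ∧
      finrank (IntermediateField.adjoin k ({x} : Set K)) K = n := by
  have hdeg : ∀ m : ℤ, Divisor.deg (Finsupp.single P m : Divisor k K) = m := by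
    intro m
    rw [ff_deg_single, hP]
    simp
  have h1 := ff_ell_eq_of_deg_ge hK (Finsupp.single P (n : ℤ)) (by
    rw [hdeg]; have : (2 * (genus k K : ℤ)) ≤ n := by exact_mod_cast hn
    omega)
  have h2 := ff_ell_eq_of_deg_ge hK (Finsupp.single P ((n : ℤ) - 1)) (by
    rw [hdeg]; have : (2 * (genus k K : ℤ)) ≤ n := by exact_mod_cast hn
    omega)
  rw [hdeg] at h1 h2
  have hlt : ell (Finsupp.single P ((n : ℤ) - 1) : Divisor k K) <
      ell (Finsupp.single P (n : ℤ) : Divisor k K) := by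
    have : (ell (Finsupp.single P ((n : ℤ) - 1) : Divisor k K) : ℤ) <
        ell (Finsupp.single P (n : ℤ) : Divisor k K) := by rw [h1, h2]; omega
    exact_mod_cast this
  obtain ⟨x, hx1, hx2⟩ := ff_exists_mem_not_mem_of_ell_lt hK hlt
  have hord : P.ord x = -(n : ℤ) := ff_ord_eq_of_mem_not_mem hx1 hx2
  have hxnc : x ∉ Set.range (algebraMap k K) := by
    rintro ⟨c, rfl⟩
    rw [ff_ord_const] at hord
    have : (1 : ℤ) ≤ n := by exact_mod_cast hn1
    omega
  have hxt : Transcendental k x := ff_transcendental_of_not_mem_range hK hxnc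
  refine ⟨x, hx1, hxt, ?_⟩
  have hpd := ff_poleDiv_eq_single_of_mem_L hK (Int.natCast_nonneg n) hx1 hord
  have h3 := ff_deg_poleDiv hK hxt
  rw [hpd, hdeg] at h3
  exact_mod_cast h3.symm

/-- S11047: an automorphism fixing more than `2g + 2` places is the identity. -/
theorem ff_algEquiv_eq_one_of_many_fixed [IsAlgClosed k] (hK : IsFunctionField k K)
    (σ : K ≃ₐ[k] K)
    (h : ((2 * genus k K + 2 : ℕ) : ℕ∞) <
      Set.encard {P : Place k K | ∀ x : K, P.1 x < 1 → P.1 (σ x) < 1}) : σ = 1 := by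
  classical
  set g := genus k K with hg
  have h' : ((2 * g + 3 : ℕ) : ℕ∞) ≤
      Set.encard {P : Place k K | ∀ x : K, P.1 x < 1 → P.1 (σ x) < 1} := by
    have := Order.add_one_le_of_lt h
    exact_mod_cast this
  obtain ⟨T₀, hT₀S, hT₀c⟩ := Set.exists_subset_encard_eq h'
  have hT₀fin : T₀.Finite := Set.finite_of_encard_eq_coe hT₀c
  have hcard : hT₀fin.toFinset.card = 2 * g + 3 := by
    have := hT₀fin.encard_eq_coe_toFinset_card
    rw [hT₀c] at this
    exact_mod_cast this.symm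
  obtain ⟨P, hPT⟩ : hT₀fin.toFinset.Nonempty := Finset.card_pos.mp (by omega)
  have hPfix : ∀ x : K, P.1 x < 1 → P.1 (σ x) < 1 := hT₀S ((Set.Finite.mem_toFinset _).mp hPT)
  set T := hT₀fin.toFinset.erase P with hT
  have hTcard : T.card = 2 * g + 2 := by
    rw [hT, Finset.card_erase_of_mem hPT, hcard]
    rfl
  have hTfix : ∀ Q ∈ T, Q ≠ P ∧ ∀ x : K, Q.1 x < 1 → Q.1 (σ x) < 1 := by
    intro Q hQ
    rw [hT, Finset.mem_erase] at hQ
    exact ⟨hQ.1, hT₀S ((Set.Finite.mem_toFinset _).mp hQ.2)⟩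
  have hfixL : ∀ z ∈ L (Finsupp.single P ((2 * g + 1 : ℕ) : ℤ) : Divisor k K), σ z = z :=
    fun z hz => ff_fixes_L_of_many_fixed hK σ P hPfix T hTfix (2 * g + 1) (by omega) hz
  -- the fixed field of `σ`
  let Fσ : IntermediateField k K :=
    (AlgHom.equalizer (σ : K →ₐ[k] K) (AlgHom.id k K)).toIntermediateField (fun z hz => by
      rw [AlgHom.mem_equalizer] at hz ⊢
      simp only [AlgHom.coe_coe, AlgHom.coe_id, id_eq] at hz ⊢
      rw [map_inv₀, hz])
  have hmemFσ : ∀ z : K, z ∈ Fσ ↔ σ z = z := by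
    intro z
    change z ∈ AlgHom.equalizer (σ : K →ₐ[k] K) (AlgHom.id k K) ↔ _
    rw [AlgHom.mem_equalizer]
    simp
  have hPdeg : P.deg = 1 := ff_deg_eq_one_of_isAlgClosed hK P
  -- `K` is generated by `L((2g+1)P)`
  have htop : Fσ = ⊤ := by
    obtain ⟨x₂, hx₂L, hx₂t, hx₂d⟩ := ff_exists_exact_pole hK P hPdeg (2 * g + 1) (by omega)
      (by omega)
    have hx₂F : IntermediateField.adjoin k ({x₂} : Set K) ≤ Fσ := by
      rw [IntermediateField.adjoin_le_iff]
      rintro z rfl
      exact (hmemFσ z).mpr (hfixL z hx₂L)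
    have := ff_finite_of_transcendental hK hx₂t
    have hd2 := IntermediateField.finrank_dvd_of_le_left (L := K) hx₂F
    rw [hx₂d] at hd2
    apply IntermediateField.finrank_eq_one_iff_eq_top.mp
    by_cases hg0 : g = 0
    · rw [hg0] at hd2
      exact Nat.dvd_one.mp (by simpa using hd2)
    · obtain ⟨x₁, hx₁L, hx₁t, hx₁d⟩ := ff_exists_exact_pole hK P hPdeg (2 * g) le_rfl
        (by omega)
      have hx₁L' : x₁ ∈ L (Finsupp.single P ((2 * g + 1 : ℕ) : ℤ) : Divisor k K) :=
        ff_L_mono (ff_single_le_single P (by push_cast; omega)) hx₁L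
      have hx₁F : IntermediateField.adjoin k ({x₁} : Set K) ≤ Fσ := by
        rw [IntermediateField.adjoin_le_iff]
        rintro z rfl
        exact (hmemFσ z).mpr (hfixL z hx₁L')
      have := ff_finite_of_transcendental hK hx₁t
      have hd1 := IntermediateField.finrank_dvd_of_le_left (L := K) hx₁F
      rw [hx₁d] at hd1
      have h1 : finrank Fσ K ∣ 1 := by
        have := Nat.dvd_sub hd2 hd1
        simpa using this
      exact Nat.dvd_one.mp h1
  ext z
  have : z ∈ Fσ := by rw [htop]; trivial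
  simpa using (hmemFσ z).mp this

end Groth.Agent.Lib.Helper55
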