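import Groth.Prelude.Def_W4bk4goldsch23FF
import Mathlib.FieldTheory.IntermediateField.Adjoin.Algebra
import Mathlib.RingTheory.AlgebraicIndependent.TranscendenceBasis
import Mathlib.RingTheory.EssentialFiniteness
import Mathlib.RingTheory.AlgebraicIndependent.Transcendental

/-!
# Function fields of one variable: basic facts (helper55 library)

Basic facts on places of a function field of one variable, in the setting of the prelude
`FunFld` namespace.
-/

set_option autoImplicit false

namespace Groth.Agent.Lib.Helper55

open FunFld

variable {k K : Type*} [Field k] [Field K] [Algebra k K]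

/-- A place is trivial on nonzero constants. -/
theorem ff_val_const (P : Place k K) {c : k} (hc : c ≠ 0) : P.1 (algebraMap k K c) = 1 := by
  apply le_antisymm (P.2.1 c)
  have h1 := P.2.1 c⁻¹
  have hne : algebraMap k K c ≠ 0 := by
    simpa using hc
  rw [map_inv₀, map_inv₀] at h1
  have hv : P.1 (algebraMap k K c) ≠ 0 := (Valuation.ne_zero_iff _).mpr hne
  by_contra hlt
  rw [not_le] at hlt
  have : 1 < (P.1 (algebraMap k K c))⁻¹ := by
    exact (one_lt_inv₀ (zero_lt_iff.mpr hv)).mpr hlt
  exact absurd h1 (not_le.mpr this)

/-- Every place has a uniformizer. -/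
theorem ff_exists_uniformizer (P : Place k K) : ∃ t : K, P.1 t = WithZero.exp (-1 : ℤ) :=
  P.2.2 _

open scoped IntermediateField.algebraAdjoinAdjoin in
/-- In a function field of one variable, `K` is finite over `k(x)` for every transcendental `x`. -/
theorem ff_finite_of_transcendental (hK : IsFunctionField k K) {x : K} (hx : Transcendental k x) :
    FiniteDimensional (IntermediateField.adjoin k ({x} : Set K)) K := by
  obtain ⟨⟨x₀, hx₀, hfin⟩, -⟩ := hK
  have : Algebra.EssFiniteType k (IntermediateField.adjoin k ({x₀} : Set K)) :=
    IntermediateField.essFiniteType_iff.mpr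
      (IntermediateField.fg_adjoin_of_finite (Set.finite_singleton x₀))
  have : Algebra.EssFiniteType (IntermediateField.adjoin k ({x₀} : Set K)) K := inferInstance
  have : Algebra.EssFiniteType k K :=
    Algebra.EssFiniteType.comp k (IntermediateField.adjoin k ({x₀} : Set K)) K
  have : Algebra.EssFiniteType (IntermediateField.adjoin k ({x} : Set K)) K :=
    Algebra.EssFiniteType.of_comp k _ K
  have : Algebra.IsAlgebraic (IntermediateField.adjoin k ({x₀} : Set K)) K :=
    Algebra.IsAlgebraic.of_finite _ _
  have : Algebra.IsAlgebraic (Algebra.adjoin k ({x₀} : Set K)) K :=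
    Algebra.IsAlgebraic.trans (Algebra.adjoin k ({x₀} : Set K))
      (IntermediateField.adjoin k ({x₀} : Set K)) K
  have htr : Algebra.trdeg k K ≤ 1 := by
    have := Algebra.IsAlgebraic.trdeg_le_cardinalMk k ({x₀} : Set K)
    simpa using this
  have hai : AlgebraicIndependent k (fun _ : Unit => x) :=
    algebraicIndependent_unique_type_iff.mpr hx
  have hbasis : IsTranscendenceBasis k (fun _ : Unit => x) :=
    hai.isTranscendenceBasis_of_lift_trdeg_le_of_finite (by simpa using htr)
  have : Algebra.IsAlgebraic (IntermediateField.adjoin k ({x} : Set K)) K := by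
    have := hbasis.isAlgebraic_field
    have hrange : Set.range (fun _ : Unit => x) = {x} := by
      ext y; simp [eq_comm]
    rwa [hrange] at this
  exact Algebra.finite_of_essFiniteType_of_isAlgebraic

end Groth.Agent.Lib.Helper55
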