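import Groth.Agent.Lib.Helper55.FunFld.ProjMap
import Mathlib.RingTheory.Nakayama
import Mathlib.Algebra.Module.Submodule.Union

/-!
# Very ample complete linear systems give nonsingular projective maps

Pencil trick + Nakayama: if `E ≥ 0` is a divisor with `ℓ(E - Q - Q') + 2 ≤ ℓ(E)` for all places
`Q, Q'`, then at every place `P` outside the support of `E` the local ring of `k[L(E)]` is the
whole valuation ring.
-/

open FunFld Module

namespace Groth.Agent.Lib.Helper55

variable {k K : Type*} [Field k] [Field K] [Algebra k K]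

theorem ff_mem_L_sub_single_iff (E : Divisor k K) (Q : Place k K) (x : K) :
    x ∈ L (E - Finsupp.single Q 1) ↔ x ∈ L E ∧ Q.1 x < WithZero.exp (E Q) := by
  classical
  simp only [ff_mem_L_iff]
  constructor
  · intro h
    refine ⟨fun R => (h R).trans ?_, ?_⟩
    · rw [WithZero.exp_le_exp, Finsupp.sub_apply, Finsupp.single_apply]
      split_ifs <;> omega
    · rw [ff_lt_exp_iff]
      simpa using h Q
  · rintro ⟨h1, h2⟩ R
    by_cases hR : R = Q
    · subst hR
      rw [ff_lt_exp_iff] at h2
      simpa using h2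
    · have : (E - Finsupp.single Q 1 : Divisor k K) R = E R := by
        rw [Finsupp.sub_apply, Finsupp.single_apply, if_neg (Ne.symm hR), sub_zero]
      rw [this]
      exact h1 R

/-- A "general" element of `L(E)`: exact pole order `E(Q)` at every `Q` in the support of `E`,
provided `L(E - Q) ≠ L(E)` for those `Q`. -/
theorem ff_exists_general [Infinite k] (E : Divisor k K)
    (hbpf : ∀ Q : Place k K, E Q ≠ 0 → ∃ x ∈ L E, x ∉ L (E - Finsupp.single Q 1)) :
    ∃ t ∈ L E, ∀ Q : Place k K, E Q ≠ 0 → Q.1 t = WithZero.exp (E Q) := by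
  classical
  let p : E.support → Submodule k (L E) := fun Q =>
    (L (E - Finsupp.single Q.1 1)).comap (L E).subtype
  have hp : ∀ Q, p Q ≠ ⊤ := by
    intro Q h
    obtain ⟨x, hx, hx'⟩ := hbpf Q.1 (Finsupp.mem_support_iff.mp Q.2)
    have : (⟨x, hx⟩ : L E) ∈ p Q := by rw [h]; trivial
    exact hx' this
  obtain ⟨t, ht⟩ := Submodule.exists_forall_notMem_of_forall_ne_top p hp
  refine ⟨t.1, t.2, fun Q hQ => ?_⟩
  have h1 : Q.1 t.1 ≤ WithZero.exp (E Q) := (ff_mem_L_iff E t.1).mp t.2 Q
  have h2 : t.1 ∉ L (E - Finsupp.single Q 1) := ht ⟨Q, Finsupp.mem_support_iff.mpr hQ⟩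
  by_contra hne
  exact h2 ((ff_mem_L_sub_single_iff E Q t.1).mpr ⟨t.2, lt_of_le_of_ne h1 hne⟩)

/-- Base-point-free pencil trick with the pencil `(1, t)`. -/
theorem ff_pencil (hK : IsFunctionField k K) {E : Divisor k K} (hE : 0 ≤ E) {t : K}
    (ht : t ∈ L E) (ht0 : t ≠ 0) (hgen : ∀ Q : Place k K, E Q ≠ 0 → Q.1 t = WithZero.exp (E Q))
    (F : Divisor k K) (hF : 2 * (genus k K : ℤ) - 1 ≤ (F - E).deg) :
    L (E + F) = L F ⊔ (L F).map (LinearMap.mulLeft k t) := by
  have := ff_L_finiteDimensional hK F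
  have := ff_L_finiteDimensional hK (E + F)
  have := ff_L_finiteDimensional hK (F - E)
  have hinj : Function.Injective (LinearMap.mulLeft k t) :=
    fun a b h => mul_left_cancel₀ ht0 (by simpa using h)
  have hle : L F ⊔ (L F).map (LinearMap.mulLeft k t) ≤ L (E + F) := by
    refine sup_le (ff_L_mono (le_add_of_nonneg_left hE)) ?_
    rintro _ ⟨b, hb, rfl⟩
    exact ff_mul_mem_L ht hb
  have hinf : L F ⊓ (L F).map (LinearMap.mulLeft k t) =
      (L (F - E)).map (LinearMap.mulLeft k t) := by
    ext x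
    constructor
    · rintro ⟨hx, b, hb, rfl⟩
      refine ⟨b, ?_, rfl⟩
      rw [SetLike.mem_coe, ff_mem_L_iff]
      intro Q
      rw [Finsupp.sub_apply]
      by_cases hQ : E Q = 0
      · rw [hQ, sub_zero]
        exact (ff_mem_L_iff F b).mp hb Q
      · have h1 := (ff_mem_L_iff F _).mp hx Q
        simp only [LinearMap.mulLeft_apply, map_mul, hgen Q hQ] at h1
        calc Q.1 b = WithZero.exp (-(E Q)) * (WithZero.exp (E Q) * Q.1 b) := by
              rw [← mul_assoc, ← WithZero.exp_add, neg_add_cancel, WithZero.exp_zero, one_mul]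
          _ ≤ WithZero.exp (-(E Q)) * WithZero.exp (F Q) := mul_le_mul' le_rfl h1
          _ = WithZero.exp (F Q - E Q) := by rw [← WithZero.exp_add]; congr 1; ring
    · rintro ⟨b, hb, rfl⟩
      have hbF : b ∈ L F := ff_L_mono (sub_le_self F hE) hb
      refine ⟨?_, b, hbF, rfl⟩
      have := ff_mul_mem_L ht hb
      rwa [add_sub_cancel] at this
  have h1 := Submodule.finrank_sup_add_finrank_inf_eq (L F) ((L F).map (LinearMap.mulLeft k t))
  rw [hinf, (Submodule.equivMapOfInjective _ hinj (L F)).finrank_eq.symm,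
    (Submodule.equivMapOfInjective _ hinj (L (F - E))).finrank_eq.symm] at h1
  have hdegE : 0 ≤ E.deg := ff_deg_nonneg hE
  have e1 := ff_ell_eq_of_deg_ge hK (F - E) hF
  have e2 := ff_ell_eq_of_deg_ge hK F (by rw [ff_deg_sub] at hF; omega)
  have e3 := ff_ell_eq_of_deg_ge hK (E + F) (by rw [ff_deg_sub] at hF; rw [ff_deg_add]; omega)
  rw [ff_deg_sub] at e1
  rw [ff_deg_add] at e3
  unfold ell at e1 e2 e3
  symm
  refine Submodule.eq_of_le_of_finrank_eq hle ?_
  zify at h1 ⊢
  omega

/-- The local ring at `P` of a subalgebra `R`: fractions `u / w`, `u, w ∈ R`, `w` a unit at `P`. -/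
def ff_locRing (R : Subalgebra k K) (P : Place k K) : Subalgebra k K where
  carrier := {z | ∃ u ∈ R, ∃ w ∈ R, P.1 w = 1 ∧ z * w = u}
  mul_mem' := by
    rintro z₁ z₂ ⟨u₁, hu₁, w₁, hw₁, h₁, e₁⟩ ⟨u₂, hu₂, w₂, hw₂, h₂, e₂⟩
    exact ⟨u₁ * u₂, R.mul_mem hu₁ hu₂, w₁ * w₂, R.mul_mem hw₁ hw₂,
      by rw [map_mul, h₁, h₂, one_mul], by rw [← e₁, ← e₂]; ring⟩
  add_mem' := by
    rintro z₁ z₂ ⟨u₁, hu₁, w₁, hw₁, h₁, e₁⟩ ⟨u₂, hu₂, w₂, hw₂, h₂, e₂⟩
    exact ⟨u₁ * w₂ + u₂ * w₁, R.add_mem (R.mul_mem hu₁ hw₂) (R.mul_mem hu₂ hw₁), w₁ * w₂,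
      R.mul_mem hw₁ hw₂, by rw [map_mul, h₁, h₂, one_mul], by rw [← e₁, ← e₂]; ring⟩
  algebraMap_mem' c := ⟨algebraMap k K c, R.algebraMap_mem c, 1, R.one_mem, map_one _, mul_one _⟩

theorem ff_mem_locRing (R : Subalgebra k K) (P : Place k K) (z : K) :
    z ∈ ff_locRing R P ↔ ∃ u ∈ R, ∃ w ∈ R, P.1 w = 1 ∧ z * w = u := Iff.rfl

theorem ff_le_locRing (R : Subalgebra k K) (P : Place k K) : R ≤ ff_locRing R P :=
  fun x hx => ⟨x, hx, 1, R.one_mem, map_one _, mul_one _⟩

/-- Elements of `k[L(E)]` are integral at a place outside the support of `E`. -/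
theorem ff_adjoin_L_val_le_one {E : Divisor k K} (P : Place k K) (hP : E P = 0) {x : K}
    (hx : x ∈ Algebra.adjoin k (L E : Set K)) : P.1 x ≤ 1 := by
  induction hx using Algebra.adjoin_induction with
  | mem x hx =>
    have := (ff_mem_L_iff E x).mp hx P
    rwa [hP, WithZero.exp_zero] at this
  | algebraMap c => exact P.2.1 c
  | add x y _ _ hx hy => exact (P.1.map_add x y).trans (max_le hx hy)
  | mul x y _ _ hx hy => rw [map_mul]; exact mul_le_one' hx hy

theorem ff_locRing_val_le_one {E : Divisor k K} (P : Place k K) (hP : E P = 0) {z : K}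
    (hz : z ∈ ff_locRing (Algebra.adjoin k (L E : Set K)) P) : P.1 z ≤ 1 := by
  obtain ⟨u, hu, w, -, hw1, hzw⟩ := hz
  have := ff_adjoin_L_val_le_one P hP hu
  rwa [← hzw, map_mul, hw1, mul_one] at this

/-- Units at `P` of the local ring are invertible in it. -/
theorem ff_inv_mem_locRing (R : Subalgebra k K) (P : Place k K) {z : K}
    (hz : z ∈ ff_locRing R P) (h1 : P.1 z = 1) : z⁻¹ ∈ ff_locRing R P := by
  obtain ⟨u, hu, w, hw, hw1, hzw⟩ := hz
  have hz0 : z ≠ 0 := by
    intro h0
    rw [h0, map_zero] at h1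
    exact zero_ne_one h1
  refine ⟨w, hw, u, hu, ?_, ?_⟩
  · rw [← hzw, map_mul, h1, hw1, one_mul]
  · rw [← hzw, ← mul_assoc, inv_mul_cancel₀ hz0, one_mul]

/-- Clearing the poles outside `supp E ∪ {P}` of an element by a unit at `P` of `k[L(E)]`. -/
theorem ff_clear_poles (hK : IsFunctionField k K) {E : Divisor k K}
    (P : Place k K) (hP : E P = 0)
    (hsep : ∀ Q : Place k K, Q ≠ P → ∃ h ∈ L (E - Finsupp.single Q 1),
      h ∉ L (E - Finsupp.single Q 1 - Finsupp.single P 1)) :
    ∀ (n : ℕ) (A : Divisor k K), 0 ≤ A → A P = 0 → A.deg ≤ n → ∀ (N : ℕ) (z : K),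
      z ∈ L (A + N • E) →
      ∃ h ∈ Algebra.adjoin k (L E : Set K), P.1 h = 1 ∧ ∃ M : ℕ, h * z ∈ L (M • E) := by
  classical
  intro n
  induction n with
  | zero =>
    intro A hA hAP hdeg N z hz
    have hA0 : A = 0 := by
      by_contra hne
      obtain ⟨Q, hQ⟩ : ∃ Q, A Q ≠ 0 := by
        by_contra hcon
        push Not at hcon
        exact hne (Finsupp.ext hcon)
      have hQpos : 0 < A Q := lt_of_le_of_ne (hA Q) (Ne.symm hQ)
      have hA' : (0 : Divisor k K) ≤ A - Finsupp.single Q 1 := by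
        intro R
        rw [Finsupp.sub_apply, Finsupp.single_apply]
        split_ifs with hR
        · subst hR; simp only [Finsupp.coe_zero, Pi.zero_apply]; omega
        · simpa using hA R
      have h1 := ff_deg_nonneg hA'
      rw [ff_deg_sub, ff_deg_single] at h1
      have := ff_deg_pos hK Q
      push_cast at hdeg
      nlinarith
    subst hA0
    refine ⟨1, Subalgebra.one_mem _, map_one _, N, ?_⟩
    rwa [one_mul, ← zero_add (N • E)]
  | succ n ih =>
    intro A hA hAP hdeg N z hz
    by_cases hA0 : A = 0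
    · subst hA0
      refine ⟨1, Subalgebra.one_mem _, map_one _, N, ?_⟩
      rwa [one_mul, ← zero_add (N • E)]
    obtain ⟨Q, hQ⟩ : ∃ Q, A Q ≠ 0 := by
      by_contra hcon
      push Not at hcon
      exact hA0 (Finsupp.ext hcon)
    have hQpos : 0 < A Q := lt_of_le_of_ne (hA Q) (Ne.symm hQ)
    have hQP : Q ≠ P := by
      rintro rfl
      exact hQ hAP
    have hA' : (0 : Divisor k K) ≤ A - Finsupp.single Q 1 := by
      intro R
      rw [Finsupp.sub_apply, Finsupp.single_apply]
      split_ifs with hR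
      · subst hR; simp only [Finsupp.coe_zero, Pi.zero_apply]; omega
      · simpa using hA R
    have hA'P : (A - Finsupp.single Q 1 : Divisor k K) P = 0 := by
      rw [Finsupp.sub_apply, Finsupp.single_apply, if_neg hQP, hAP, sub_zero]
    have hdeg' : (A - Finsupp.single Q 1 : Divisor k K).deg ≤ n := by
      rw [ff_deg_sub, ff_deg_single]
      have := ff_deg_pos hK Q
      push_cast at hdeg
      have : (1 : ℤ) ≤ (Q.deg : ℤ) := by exact_mod_cast this
      linarith
    obtain ⟨hQ', hQ'1, hQ'2⟩ := hsep Q hQP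
    have hmul : hQ' * z ∈ L ((A - Finsupp.single Q 1) + (N + 1) • E) := by
      have := ff_mul_mem_L hQ'1 hz
      have e : E - Finsupp.single Q 1 + (A + N • E) = (A - Finsupp.single Q 1) + (N + 1) • E := by
        rw [succ_nsmul]; abel
      rwa [e] at this
    obtain ⟨h', hh', hh'1, M, hM⟩ := ih _ hA' hA'P hdeg' (N + 1) _ hmul
    have hQ'L : hQ' ∈ L E := ff_L_mono (sub_le_self E (by
      intro R; rw [Finsupp.single_apply]; split_ifs <;> simp)) hQ'1
    have hQ'val : P.1 hQ' = 1 := by
      have h1 := (ff_mem_L_iff _ _).mp hQ'1 P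
      rw [Finsupp.sub_apply, Finsupp.single_apply, if_neg hQP, hP, sub_zero,
        WithZero.exp_zero] at h1
      refine le_antisymm h1 ?_
      by_contra hlt
      push Not at hlt
      apply hQ'2
      rw [ff_mem_L_sub_single_iff]
      refine ⟨hQ'1, ?_⟩
      rwa [Finsupp.sub_apply, Finsupp.single_apply, if_neg hQP, hP, sub_zero, WithZero.exp_zero]
    refine ⟨h' * hQ', Subalgebra.mul_mem _ hh' (Algebra.subset_adjoin hQ'L), ?_, M, ?_⟩
    · rw [map_mul, hh'1, hQ'val, one_mul]
    · rwa [mul_assoc]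

/-- **Core**: for an effective divisor `E` whose complete linear system separates points and
tangent vectors, the local ring of `k[L(E)]` at a place outside `supp E` is the whole valuation
ring. -/
theorem ff_locRing_eq_of_veryAmple [IsAlgClosed k] (hK : IsFunctionField k K) {E : Divisor k K}
    (hE : 0 ≤ E) (hdeg : 1 ≤ E.deg)
    (hVA : ∀ Q Q' : Place k K,
      ell (E - Finsupp.single Q 1 - Finsupp.single Q' 1) + 2 ≤ ell E)
    (P : Place k K) (hP : E P = 0) {z : K} (hz : P.1 z ≤ 1) :
    z ∈ ff_locRing (Algebra.adjoin k (L E : Set K)) P := by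
  classical
  set R := Algebra.adjoin k (L E : Set K) with hR
  set Oa := ff_locRing R P with hOa
  have hsingle : ∀ Q : Place k K, (0 : Divisor k K) ≤ Finsupp.single Q 1 := by
    intro Q R'
    rw [Finsupp.single_apply]
    split_ifs <;> simp
  have hstep : ∀ (D : Divisor k K) (Q : Place k K),
      ell D ≤ ell (D - Finsupp.single Q 1) + 1 := by
    intro D Q
    have h := ff_ell_sub_le hK (sub_le_self D (hsingle Q))
    rw [ff_deg_sub, ff_deg_single, ff_deg_eq_one_of_isAlgClosed hK Q] at h
    push_cast at h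
    omega
  have hlt1 : ∀ Q, ell (E - Finsupp.single Q 1) < ell E := by
    intro Q
    have h1 := hVA Q Q
    have h2 := hstep (E - Finsupp.single Q 1) Q
    omega
  have hlt2 : ∀ Q Q', ell (E - Finsupp.single Q 1 - Finsupp.single Q' 1) <
      ell (E - Finsupp.single Q 1) := by
    intro Q Q'
    have h1 := hVA Q Q'
    have h2 := hstep E Q
    omega
  -- a general element of `L(E)`
  obtain ⟨t, htL, htgen⟩ :=
    ff_exists_general E (fun Q _ => ff_exists_mem_not_mem_of_ell_lt hK (hlt1 Q))
  obtain ⟨Q₀, hQ₀⟩ : ∃ Q, E Q ≠ 0 := by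
    by_contra hcon
    push Not at hcon
    have : E = 0 := Finsupp.ext hcon
    rw [this, ff_deg_zero] at hdeg
    omega
  have ht0 : t ≠ 0 := by
    rintro rfl
    have := htgen Q₀ hQ₀
    rw [map_zero] at this
    exact WithZero.exp_ne_zero this.symm
  -- a uniformizer at `P` in `L(E)`
  obtain ⟨tP, htP1, htP2⟩ := ff_exists_mem_not_mem_of_ell_lt hK (hlt2 P P)
  have hEP : (E - Finsupp.single P 1 : Divisor k K) P = -1 := by
    rw [Finsupp.sub_apply, Finsupp.single_eq_same, hP]; norm_num
  have htPval : P.1 tP = WithZero.exp (-1 : ℤ) := by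
    have h1 := (ff_mem_L_iff _ _).mp htP1 P
    rw [hEP] at h1
    refine le_antisymm h1 ?_
    by_contra hlt
    push Not at hlt
    apply htP2
    rw [ff_mem_L_sub_single_iff]
    exact ⟨htP1, by rwa [hEP]⟩
  have htP0 : tP ≠ 0 := ff_uniformizer_ne_zero P htPval
  have htPL : tP ∈ L E := ff_L_mono (sub_le_self E (hsingle P)) htP1
  have htPOa : tP ∈ Oa := ff_le_locRing R P (Algebra.subset_adjoin htPL)
  have htOa : t ∈ Oa := ff_le_locRing R P (Algebra.subset_adjoin htL)
  -- the maximal ideal of the local ring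
  let I : Ideal Oa :=
    { carrier := {x | P.1 (x : K) < 1}
      add_mem' := fun {a b} ha hb => lt_of_le_of_lt (P.1.map_add _ _) (max_lt ha hb)
      zero_mem' := by simp
      smul_mem' := fun c x hx => by
        change P.1 ((c : K) * (x : K)) < 1
        rw [map_mul]
        calc P.1 (c : K) * P.1 (x : K) ≤ 1 * P.1 (x : K) :=
              mul_le_mul' (ff_locRing_val_le_one P hP c.2) le_rfl
          _ = P.1 (x : K) := one_mul _
          _ < 1 := hx }
  have hIJ : I ≤ Ideal.jacobson ⊥ := by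
    intro x hx
    rw [Ideal.mem_jacobson_bot]
    intro y
    have hxy : P.1 ((x : K) * (y : K)) < 1 := by
      rw [map_mul]
      calc P.1 (x : K) * P.1 (y : K) ≤ P.1 (x : K) * 1 :=
            mul_le_mul' le_rfl (ff_locRing_val_le_one P hP y.2)
        _ = P.1 (x : K) := mul_one _
        _ < 1 := hx
    have hval : P.1 (((x * y + 1 : Oa) : Oa) : K) = 1 := by
      have : (((x * y + 1 : Oa) : Oa) : K) = 1 + (x : K) * (y : K) := by
        push_cast; ring
      rw [this, Valuation.map_add_eq_of_lt_left P.1 (by rwa [map_one]), map_one]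
    have hne : (((x * y + 1 : Oa) : Oa) : K) ≠ 0 := by
      intro h0
      rw [h0, map_zero] at hval
      exact zero_ne_one hval
    rw [isUnit_iff_exists_inv]
    exact ⟨⟨_, ff_inv_mem_locRing R P (x * y + 1).2 hval⟩, Subtype.ext (mul_inv_cancel₀ hne)⟩
  -- the finitely generated module
  set m₀ : ℕ := 2 * genus k K + 1 with hm₀
  set N' : Submodule Oa K := Submodule.span Oa (L (m₀ • E) : Set K) with hN'
  set N : Submodule Oa K := Submodule.span Oa {1} with hN
  have hFG : N'.FG := by
    have hfd := ff_L_finiteDimensional hK (m₀ • E)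
    obtain ⟨s, hs⟩ := (Submodule.fg_iff_finiteDimensional (L (m₀ • E))).mpr hfd
    refine ⟨s, ?_⟩
    rw [hN', ← hs]
    exact (Submodule.span_span_of_tower k Oa (s : Set K)).symm
  have hLm : ∀ m, m₀ ≤ m → ∀ x ∈ L (m • E), x ∈ N' := by
    intro m hm
    induction m, hm using Nat.le_induction with
    | base => intro x hx; exact Submodule.subset_span hx
    | succ m hm ih =>
      intro x hx
      have hF : 2 * (genus k K : ℤ) - 1 ≤ (m • E - E).deg := by
        rw [ff_deg_sub, ff_deg_nsmul]
        have h1 : (2 * (genus k K : ℤ) + 1 : ℤ) ≤ m := by exact_mod_cast hm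
        nlinarith [mul_nonneg (sub_nonneg.mpr h1) (sub_nonneg.mpr hdeg),
          mul_nonneg (Int.natCast_nonneg (genus k K)) (sub_nonneg.mpr hdeg)]
      have e : (m + 1) • E = E + m • E := by rw [succ_nsmul, add_comm]
      rw [e, ff_pencil hK hE htL ht0 htgen (m • E) hF] at hx
      obtain ⟨a, ha, b', ⟨b, hb, rfl⟩, rfl⟩ := Submodule.mem_sup.mp hx
      refine N'.add_mem (ih a ha) ?_
      have : (LinearMap.mulLeft k t) b = (⟨t, htOa⟩ : Oa) • b := rfl
      rw [this]
      exact N'.smul_mem _ (ih b hb)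
  have hsep : ∀ Q : Place k K, Q ≠ P → ∃ h ∈ L (E - Finsupp.single Q 1),
      h ∉ L (E - Finsupp.single Q 1 - Finsupp.single P 1) :=
    fun Q _ => ff_exists_mem_not_mem_of_ell_lt hK (hlt2 Q P)
  have hOP : ∀ y : K, P.1 y ≤ 1 → y ∈ N' := by
    intro y hy
    have hA0 : (0 : Divisor k K) ≤ ff_poleDiv y := ff_poleDiv_nonneg y
    have hAP : (ff_poleDiv y : Divisor k K) P = 0 := by
      rw [ff_poleDiv_apply hK]
      by_cases hy0 : y = 0
      · subst hy0; simp [ff_ord_zero]
      · have := (ff_ord_nonneg_iff P hy0).mpr hy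
        omega
    have hyL : y ∈ L (ff_poleDiv y + 0 • E) := by
      rw [zero_nsmul, add_zero, ff_mem_L_iff]
      exact fun Q => ff_val_le_exp_poleDiv hK y Q
    obtain ⟨h, hh, hh1, M, hM⟩ := ff_clear_poles hK P hP hsep (ff_poleDiv y).deg.toNat _ hA0 hAP
      (by rw [Int.toNat_of_nonneg (ff_deg_nonneg hA0)]) 0 y hyL
    have hM' : h * y ∈ L ((max M m₀) • E) :=
      ff_L_mono (nsmul_le_nsmul_left hE (le_max_left _ _)) hM
    have h1 := hLm _ (le_max_right _ _) _ hM'
    have hhOa : h ∈ Oa := ff_le_locRing R P hh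
    have hinv : h⁻¹ ∈ Oa := ff_inv_mem_locRing R P hhOa hh1
    have h0 : h ≠ 0 := by
      intro h0
      rw [h0, map_zero] at hh1
      exact zero_ne_one hh1
    have : y = (⟨h⁻¹, hinv⟩ : Oa) • (h * y) := by
      change y = h⁻¹ * (h * y)
      rw [← mul_assoc, inv_mul_cancel₀ h0, one_mul]
    rw [this]
    exact N'.smul_mem _ h1
  have hNN : N' ≤ N ⊔ I • N' := by
    rw [hN', Submodule.span_le]
    intro y hy
    have hyv : P.1 y ≤ 1 := by
      have := (ff_mem_L_iff _ _).mp hy P
      rwa [Finsupp.smul_apply, hP, smul_zero, WithZero.exp_zero] at this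
    obtain ⟨c, hc⟩ := ff_exists_const_approx hK P hyv
    have hq : P.1 ((y - algebraMap k K c) / tP) ≤ 1 := by
      rw [map_div₀, htPval]
      rw [ff_lt_one_iff] at hc
      exact (div_le_one₀ (zero_lt_iff.mpr WithZero.exp_ne_zero)).mpr hc
    have hdecomp : y = (algebraMap k Oa c) • (1 : K) +
        (⟨tP, htPOa⟩ : Oa) • ((y - algebraMap k K c) / tP) := by
      change y = algebraMap k K c * 1 + tP * ((y - algebraMap k K c) / tP)
      field_simp
      ring
    rw [hdecomp]
    refine Submodule.add_mem _ (Submodule.mem_sup_left ?_) (Submodule.mem_sup_right ?_)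
    · exact Submodule.smul_mem _ _ (Submodule.subset_span rfl)
    · refine Submodule.smul_mem_smul ?_ (hOP _ hq)
      change P.1 tP < 1
      rw [htPval, ← WithZero.exp_zero, WithZero.exp_lt_exp]
      norm_num
  have hfinal := Submodule.le_of_le_smul_of_le_jacobson_bot hFG hIJ hNN
  have hzN : z ∈ N := hfinal (hOP z hz)
  obtain ⟨a, ha⟩ := Submodule.mem_span_singleton.mp hzN
  have : z = (a : K) := by
    rw [← ha]
    change (a : K) * 1 = (a : K)
    rw [mul_one]
  rw [this]
  exact a.2

/-- A very ample complete linear system gives a projective map that is nonsingular everywhere. -/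
theorem ff_isNonsingularAt_of_veryAmple [IsAlgClosed k] (hK : IsFunctionField k K)
    (D : Divisor k K) (hdeg : 1 ≤ D.deg)
    (hVA : ∀ Q Q' : Place k K,
      ell (D - Finsupp.single Q 1 - Finsupp.single Q' 1) + 2 ≤ ell D)
    {n : ℕ} (φ : Fin (n + 1) → K) (hφ : LinearIndependent k φ)
    (hspan : Submodule.span k (Set.range φ) = L D) (P : Place k K) :
    IsNonsingularAt φ P := by
  classical
  obtain ⟨j, -, hj⟩ := Finset.exists_max_image Finset.univ (fun i => P.1 (φ i))
    Finset.univ_nonempty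
  have hmax : ∀ i, P.1 (φ i) ≤ P.1 (φ j) := fun i => hj i (Finset.mem_univ i)
  set f := φ j with hf
  have hf0 : f ≠ 0 := hφ.ne_zero j
  have hfL : f ∈ L D := by
    rw [← hspan]
    exact Submodule.subset_span ⟨j, rfl⟩
  -- every element of `L(D)` has valuation at most that of `f` at `P`
  have hLmax : ∀ x ∈ L D, P.1 x ≤ P.1 f := by
    intro x hx
    rw [← hspan] at hx
    induction hx using Submodule.span_induction with
    | mem x hx =>
      obtain ⟨i, rfl⟩ := hx
      exact hmax i
    | zero => simp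
    | add x y _ _ hx hy => exact (P.1.map_add x y).trans (max_le hx hy)
    | smul c x _ hx =>
      rw [Algebra.smul_def, map_mul]
      calc P.1 (algebraMap k K c) * P.1 x ≤ 1 * P.1 x := mul_le_mul' (P.2.1 c) le_rfl
        _ = P.1 x := one_mul _
        _ ≤ P.1 f := hx
  set E : Divisor k K := D + FunFld.div k f with hE
  have hE0 : 0 ≤ E := (ff_mem_L_iff_div hK D hf0).mp hfL
  have hEdeg : 1 ≤ E.deg := by
    rw [hE, ff_deg_add, ff_deg_div hK, add_zero]
    exact hdeg
  have hEell : ell E = ell D := ff_ell_add_div hK D hf0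
  have hVAE : ∀ Q Q' : Place k K,
      ell (E - Finsupp.single Q 1 - Finsupp.single Q' 1) + 2 ≤ ell E := by
    intro Q Q'
    have e : E - Finsupp.single Q 1 - Finsupp.single Q' 1 =
        (D - Finsupp.single Q 1 - Finsupp.single Q' 1) + FunFld.div k f := by
      rw [hE]; abel
    rw [e, ff_ell_add_div hK _ hf0, hEell]
    exact hVA Q Q'
  -- `P` is not in the support of `E`
  have hsingle : (0 : Divisor k K) ≤ Finsupp.single P 1 := by
    intro R'
    rw [Finsupp.single_apply]
    split_ifs <;> simp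
  have hlt : ell (D - Finsupp.single P 1) < ell D := by
    have h1 := hVA P P
    have h := ff_ell_sub_le hK (sub_le_self (D - Finsupp.single P 1) hsingle)
    rw [ff_deg_sub (D - Finsupp.single P 1) (Finsupp.single P 1), ff_deg_single,
      ff_deg_eq_one_of_isAlgClosed hK P] at h
    push_cast at h
    omega
  have hEP : E P = 0 := by
    obtain ⟨x, hx1, hx2⟩ := ff_exists_mem_not_mem_of_ell_lt hK hlt
    have hxv : WithZero.exp (D P) ≤ P.1 x := by
      by_contra hlt'
      push Not at hlt'
      exact hx2 ((ff_mem_L_sub_single_iff D P x).mpr ⟨hx1, hlt'⟩)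
    have h1 : P.1 f = WithZero.exp (D P) :=
      le_antisymm ((ff_mem_L_iff D f).mp hfL P) (hxv.trans (hLmax x hx1))
    rw [ff_val_eq_exp_neg_ord P hf0] at h1
    have h2 : -P.ord f = D P := WithZero.exp_injective h1
    rw [hE, Finsupp.add_apply, ff_div_apply hK]
    omega
  -- `k[L(E)]` is the ring generated by the ratios
  have hadj : Algebra.adjoin k (L E : Set K) ≤
      Algebra.adjoin k (Set.range fun i => φ i / f) := by
    refine Algebra.adjoin_le ?_
    intro x hx
    have hfx : f * x ∈ L D := (ff_mul_mem_L_iff hK D f x hf0).mpr hx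
    have key : ∀ y ∈ Submodule.span k (Set.range φ),
        y / f ∈ Algebra.adjoin k (Set.range fun i => φ i / f) := by
      intro y hy
      induction hy using Submodule.span_induction with
      | mem y hy =>
        obtain ⟨i, rfl⟩ := hy
        exact Algebra.subset_adjoin ⟨i, rfl⟩
      | zero => rw [zero_div]; exact Subalgebra.zero_mem _
      | add a b _ _ ha hb => rw [add_div]; exact Subalgebra.add_mem _ ha hb
      | smul c a _ ha => rw [smul_div_assoc]; exact Subalgebra.smul_mem _ ha c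
    rw [← hspan] at hfx
    have := key _ hfx
    rwa [mul_div_cancel_left₀ x hf0] at this
  intro z hz
  obtain ⟨u, hu, w, hw, hw1, hzw⟩ := ff_locRing_eq_of_veryAmple hK hE0 hEdeg hVAE P hEP hz
  exact ⟨j, hf0, hmax, u, hadj hu, w, hadj hw, hw1, hzw⟩

/-- `deg D ≥ 2g + 1` implies the embedding criterion. -/
theorem ff_isNonsingularAt_of_deg_ge [IsAlgClosed k] (hK : IsFunctionField k K)
    (D : Divisor k K) (hD : 2 * (genus k K : ℤ) + 1 ≤ D.deg) {n : ℕ} (φ : Fin (n + 1) → K)
    (hφ : LinearIndependent k φ) (hspan : Submodule.span k (Set.range φ) = L D)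
    (P : Place k K) : IsNonsingularAt φ P := by
  refine ff_isNonsingularAt_of_veryAmple hK D (by omega) ?_ φ hφ hspan P
  intro Q Q'
  have h1 := ff_ell_eq_of_deg_ge hK D (by omega)
  have h2 := ff_ell_eq_of_deg_ge hK (D - Finsupp.single Q 1 - Finsupp.single Q' 1) (by
    rw [ff_deg_sub, ff_deg_sub, ff_deg_single, ff_deg_single,
      ff_deg_eq_one_of_isAlgClosed hK Q, ff_deg_eq_one_of_isAlgClosed hK Q']
    push_cast; omega)
  rw [ff_deg_sub, ff_deg_sub, ff_deg_single, ff_deg_single,
    ff_deg_eq_one_of_isAlgClosed hK Q, ff_deg_eq_one_of_isAlgClosed hK Q'] at h2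
  push_cast at h2
  omega

/-- If every nonconstant function has degree more than `d`, then `ℓ(A) = 1` (at most) for
effective divisors of degree at most `d`. -/
theorem ff_ell_le_one_of_finrank_gt (hK : IsFunctionField k K) {d : ℕ}
    (h2 : ∀ x : K, Transcendental k x →
      d < Module.finrank (IntermediateField.adjoin k ({x} : Set K)) K)
    {A : Divisor k K} (hA : 0 ≤ A) (hdeg : A.deg ≤ d) : ell A ≤ 1 := by
  by_contra hcon
  push Not at hcon
  have h0 : ell (0 : Divisor k K) < ell A := by rw [ff_ell_zero hK]; exact hcon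
  obtain ⟨x, hx1, hx2⟩ := ff_exists_mem_not_mem_of_ell_lt hK h0
  rw [ff_L_zero hK, Submodule.mem_one] at hx2
  have hxt : Transcendental k x := ff_transcendental_of_not_mem_range hK hx2
  have hx0 : x ≠ 0 := by
    rintro rfl
    exact hx2 ⟨0, map_zero _⟩
  have hle : (ff_poleDiv x : Divisor k K) ≤ A := by
    intro R
    rw [ff_poleDiv_apply hK]
    have h1 := (ff_mem_L_iff A x).mp hx1 R
    rw [ff_val_eq_exp_neg_ord R hx0, WithZero.exp_le_exp] at h1
    have h3 := hA R
    simp only [Finsupp.coe_zero, Pi.zero_apply] at h3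
    omega
  have h3 := ff_deg_mono hle
  rw [ff_deg_poleDiv hK hxt] at h3
  have h4 := h2 x hxt
  have : (d : ℤ) < (Module.finrank (IntermediateField.adjoin k ({x} : Set K)) K : ℤ) := by
    exact_mod_cast h4
  omega

/-- The canonical map of a function field without functions of degree `≤ 2` is an embedding. -/
theorem ff_isNonsingularAt_of_canonical [IsAlgClosed k] (hK : IsFunctionField k K)
    (h2 : ∀ x : K, Transcendental k x →
      2 < Module.finrank (IntermediateField.adjoin k ({x} : Set K)) K)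
    (D : Divisor k K) (hD : IsCanonical k K D) {n : ℕ} (φ : Fin (n + 1) → K)
    (hφ : LinearIndependent k φ) (hspan : Submodule.span k (Set.range φ) = L D)
    (P : Place k K) : IsNonsingularAt φ P := by
  classical
  have hsingle : ∀ Q : Place k K, (0 : Divisor k K) ≤ Finsupp.single Q 1 := by
    intro Q R'
    rw [Finsupp.single_apply]
    split_ifs <;> simp
  have hpair : ∀ Q Q' : Place k K,
      ell (Finsupp.single Q 1 + Finsupp.single Q' 1 : Divisor k K) ≤ 1 := by
    intro Q Q'
    refine ff_ell_le_one_of_finrank_gt hK h2 (add_nonneg (hsingle Q) (hsingle Q')) ?_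
    rw [ff_deg_add, ff_deg_single, ff_deg_single, ff_deg_eq_one_of_isAlgClosed hK Q,
      ff_deg_eq_one_of_isAlgClosed hK Q']
    norm_num
  obtain ⟨hell, hdeg⟩ := ff_canonical_ell_deg hK hD
  have hpairdeg : ∀ Q Q' : Place k K,
      (Finsupp.single Q 1 + Finsupp.single Q' 1 : Divisor k K).deg = 2 := by
    intro Q Q'
    rw [ff_deg_add, ff_deg_single, ff_deg_single, ff_deg_eq_one_of_isAlgClosed hK Q,
      ff_deg_eq_one_of_isAlgClosed hK Q']
    norm_num
  have hg : 2 ≤ genus k K := by
    have h1 := ff_delta_le_genus hK (Finsupp.single P 1 + Finsupp.single P 1)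
    rw [hpairdeg] at h1
    have h3 := hpair P P
    omega
  refine ff_isNonsingularAt_of_veryAmple hK D (by omega) ?_ φ hφ hspan P
  intro Q Q'
  have hrr := ff_riemann_roch hK hD (Finsupp.single Q 1 + Finsupp.single Q' 1)
  rw [hpairdeg, sub_add_eq_sub_sub] at hrr
  have h3 := hpair Q Q'
  rw [hell]
  omega

end Groth.Agent.Lib.Helper55
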