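import Groth.Agent.Lib.Helper55.FunFld.ZetaLog
import Groth.Agent.Lib.Helper55.FunFld.Apps
import Groth.Agent.Lib.Helper55.FunFld.VeryAmple
import Groth.Agent.Lib.Helper63.Galois

/-! Bombieri's upper bound for the number of (twisted) rational places of a function field over a
finite field having a place of degree one. -/

set_option autoImplicit false
set_option linter.unusedSectionVars false
set_option linter.style.haveILetI false

open FunFld Module WithZero
open Groth.Agent.Lib.Helper63.FunFldExt Groth.Agent.Lib.Helper63.FundIneq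
  Groth.Agent.Lib.Helper63.Galois

namespace Groth.Agent.Lib.Helper55

universe u v

variable {k : Type u} {F : Type v} [Field k] [Field F] [Algebra k F]

theorem bb_card_jumps (b : ℕ → ℕ) (hmono : ∀ j, b j ≤ b (j + 1)) (hstep : ∀ j, b (j + 1) ≤ b j + 1)
    (N : ℕ) : ((Finset.range N).filter (fun j => b j < b (j + 1))).card = b N - b 0 := by
  have hmono' : ∀ j, b 0 ≤ b j := by
    intro j
    induction j with
    | zero => exact le_rfl
    | succ j ih => exact ih.trans (hmono j)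
  induction N with
  | zero => simp
  | succ N ih =>
    rw [Finset.range_add_one, Finset.filter_insert]
    have h0 := hmono' N
    have h1 := hmono N
    have h2 := hstep N
    split_ifs with h
    · rw [Finset.card_insert_of_notMem (by simp), ih]
      omega
    · rw [ih]; omega

/-- A sum of elements with pairwise distinct valuations (among the nonzero ones), not all zero, is
nonzero. -/
theorem bb_sum_ne_zero {ι : Type*} (v : Valuation F ℤᵐ⁰) (s : Finset ι) (f : ι → F)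
    (hinj : ∀ i ∈ s, ∀ j ∈ s, f i ≠ 0 → f j ≠ 0 → v (f i) = v (f j) → i = j)
    (hne : ∃ i ∈ s, f i ≠ 0) : ∑ i ∈ s, f i ≠ 0 := by
  classical
  have hne' : (s.filter (fun i => f i ≠ 0)).Nonempty := by
    obtain ⟨i, hi, hfi⟩ := hne
    exact ⟨i, Finset.mem_filter.2 ⟨hi, hfi⟩⟩
  obtain ⟨i₀, hi₀, hmax⟩ := Finset.exists_max_image _ (fun i => v (f i)) hne'
  rw [Finset.mem_filter] at hi₀
  have hv0 : v (f i₀) ≠ 0 := (Valuation.ne_zero_iff v).2 hi₀.2
  have hlt : ∀ i ∈ s.erase i₀, v (f i) < v (f i₀) := by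
    intro i hi
    rw [Finset.mem_erase] at hi
    by_cases hfi : f i = 0
    · rw [hfi, map_zero]; exact zero_lt_iff.2 hv0
    · have hle := hmax i (Finset.mem_filter.2 ⟨hi.2, hfi⟩)
      refine lt_of_le_of_ne hle fun heq => hi.1 ?_
      exact hinj i hi.2 i₀ hi₀.1 hfi hi₀.2 heq
  have hsum : v (∑ i ∈ s.erase i₀, f i) < v (f i₀) := Valuation.map_sum_lt v hv0 hlt
  rw [← Finset.add_sum_erase s f hi₀.1]
  intro h0
  have := Valuation.map_add_eq_of_lt_left v hsum
  rw [h0, map_zero] at this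
  exact hv0 this.symm

/-- Pole numbers: there are at least `ℓ(mQ)` integers `i ≤ m` admitting a function with a pole of
exact order `i` at the degree-one place `Q` and no other poles. -/
theorem bb_exists_pole_family (hF : IsFunctionField k F) (Q : Place k F) (hQ : Q.deg = 1) (m : ℕ) :
    ∃ (I : Finset ℕ) (u : ℕ → F), (∀ i ∈ I, i ≤ m) ∧
      (∀ i ∈ I, u i ∈ L (Finsupp.single Q (i : ℤ) : Divisor k F) ∧ Q.1 (u i) = exp (i : ℤ)) ∧
      ell (Finsupp.single Q (m : ℤ) : Divisor k F) ≤ I.card := by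
  classical
  set b : ℕ → ℕ := fun j => ell (Finsupp.single Q ((j : ℤ) - 1) : Divisor k F) with hb
  have hle : ∀ j : ℕ, (Finsupp.single Q ((j : ℤ) - 1) : Divisor k F) ≤
      Finsupp.single Q (((j + 1 : ℕ) : ℤ) - 1) := by
    intro j P
    rw [Finsupp.single_apply, Finsupp.single_apply]
    split_ifs
    · push_cast; omega
    · exact le_rfl
  have hmono : ∀ j, b j ≤ b (j + 1) := by
    intro j
    have := ff_L_finiteDimensional hF (Finsupp.single Q (((j + 1 : ℕ) : ℤ) - 1) : Divisor k F)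
    exact Submodule.finrank_mono (ff_L_mono (hle j))
  have hstep : ∀ j, b (j + 1) ≤ b j + 1 := by
    intro j
    have h1 := ff_ell_sub_le hF (hle j)
    rw [ff_deg_single, ff_deg_single, hQ] at h1
    have : ((b (j + 1) : ℕ) : ℤ) - b j ≤ 1 := by
      refine h1.trans ?_
      push_cast; omega
    omega
  have hb0 : b 0 = 0 := by
    apply ff_ell_eq_zero_of_deg_neg hF
    rw [ff_deg_single, hQ]
    norm_num
  have hcard := bb_card_jumps b hmono hstep (m + 1)
  rw [hb0, Nat.sub_zero] at hcard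
  set I := (Finset.range (m + 1)).filter (fun j => b j < b (j + 1)) with hI
  have hex : ∀ i ∈ I, ∃ u : F, u ∈ L (Finsupp.single Q (i : ℤ) : Divisor k F) ∧
      Q.1 u = exp (i : ℤ) := by
    intro i hi
    rw [hI, Finset.mem_filter] at hi
    have hlt : L (Finsupp.single Q ((i : ℤ) - 1) : Divisor k F) <
        L (Finsupp.single Q (((i + 1 : ℕ) : ℤ) - 1) : Divisor k F) := by
      refine lt_of_le_of_ne (ff_L_mono (hle i)) fun heq => ?_
      have : b i = b (i + 1) := by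
        change ell _ = ell _
        unfold ell
        rw [heq]
      omega
    obtain ⟨u, hu1, hu2⟩ := SetLike.exists_of_lt hlt
    have hcast : (((i + 1 : ℕ) : ℤ) - 1) = (i : ℤ) := by push_cast; ring
    rw [hcast] at hu1
    refine ⟨u, hu1, ?_⟩
    have hsub : (Finsupp.single Q ((i : ℤ) - 1) : Divisor k F) =
        Finsupp.single Q (i : ℤ) - Finsupp.single Q 1 := by
      rw [← Finsupp.single_sub]
    rw [hsub, ff_mem_L_sub_single_iff, not_and] at hu2
    have h1 := hu2 hu1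
    rw [Finsupp.single_eq_same, not_lt] at h1
    have h2 := hu1 Q
    rw [Finsupp.single_eq_same] at h2
    exact le_antisymm h2 h1
  choose! u hu using hex
  refine ⟨I, u, ?_, hu, ?_⟩
  · intro i hi
    rw [hI, Finset.mem_filter, Finset.mem_range] at hi
    omega
  · rw [hcard]
    change ell _ ≤ ell _
    have hcast : (((m + 1 : ℕ) : ℤ) - 1) = (m : ℤ) := by push_cast; ring
    rw [hcast]


/-- The Frobenius condition at a place: `σ z ≡ z ^ N` modulo `P` on the valuation ring. -/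
def FrobAt (σ : F ≃ₐ[k] F) (N : ℕ) (P : Place k F) : Prop :=
  ∀ z : F, P.1 z ≤ 1 → P.1 (σ z - z ^ N) < 1

theorem bb_frob_pow [Fintype k] (s : ℕ) (z : F) :
    ((FiniteField.frobeniusAlgHom k F) ^ s) z = z ^ (Fintype.card k ^ s) := by
  rw [AlgHom.coe_pow, FiniteField.coe_frobeniusAlgHom, pow_iterate]

theorem bb_comap_comap (σ : F ≃ₐ[k] F) (P : Place k F) :
    comapEquiv (K := k) σ.symm (comapEquiv (K := k) σ P) = P := by
  apply place_ext
  intro x
  rw [comapEquiv_apply, comapEquiv_apply, AlgEquiv.apply_symm_apply]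

theorem bb_comap_comap' (σ : F ≃ₐ[k] F) (P : Place k F) :
    comapEquiv (K := k) σ (comapEquiv (K := k) σ.symm P) = P := by
  apply place_ext
  intro x
  rw [comapEquiv_apply, comapEquiv_apply, AlgEquiv.symm_apply_apply]

theorem bb_val_le_of_mem_single {Q P : Place k F} {a : ℤ} {x : F}
    (hx : x ∈ L (Finsupp.single Q a : Divisor k F)) (hPQ : P ≠ Q) : P.1 x ≤ 1 := by
  have := hx P
  rwa [Finsupp.single_eq_of_ne hPQ, exp_zero] at this

theorem bb_pow_mem_single {Q : Place k F} {a : ℤ} {x : F}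
    (hx : x ∈ L (Finsupp.single Q a : Divisor k F)) (N : ℕ) :
    x ^ N ∈ L (Finsupp.single Q ((N : ℤ) * a) : Divisor k F) := by
  classical
  intro P
  rw [map_pow]
  have h1 := hx P
  calc P.1 x ^ N ≤ exp ((Finsupp.single Q a : Divisor k F) P) ^ N := pow_le_pow_left₀ zero_le h1 N
    _ = exp ((Finsupp.single Q ((N : ℤ) * a) : Divisor k F) P) := by
      rw [← exp_nsmul, Finsupp.single_apply, Finsupp.single_apply]
      split_ifs
      · rw [nsmul_eq_mul]
      · rw [smul_zero]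

theorem bb_mul_mem {D E : Divisor k F} {x y : F} (hx : x ∈ L D) (hy : y ∈ L E) :
    x * y ∈ L (D + E) := by
  intro P
  rw [map_mul, Finsupp.add_apply, exp_add]
  exact mul_le_mul' (hx P) (hy P)


theorem bb_map_mem (σ : F ≃ₐ[k] F) {Q : Place k F} {a : ℤ} {x : F}
    (hx : x ∈ L (Finsupp.single Q a : Divisor k F)) :
    σ x ∈ L (Finsupp.single (comapEquiv (K := k) σ.symm Q) a : Divisor k F) := by
  classical
  intro P
  have h1 := hx (comapEquiv (K := k) σ P)
  rw [comapEquiv_apply] at h1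
  refine h1.trans_eq ?_
  rw [Finsupp.single_apply, Finsupp.single_apply]
  by_cases h : Q = comapEquiv (K := k) σ P
  · rw [if_pos h, if_pos (by rw [h, bb_comap_comap])]
  · rw [if_neg h, if_neg (fun h' => h (by rw [← h', bb_comap_comap']))]

theorem bb_single_mono {Q : Place k F} {a b : ℤ} (h : a ≤ b) :
    (Finsupp.single Q a : Divisor k F) ≤ Finsupp.single Q b := by
  classical
  intro P
  rw [Finsupp.single_apply, Finsupp.single_apply]
  split_ifs
  · exact h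
  · exact le_rfl

/-- The kernel element in Bombieri's argument. -/
theorem bb_exists_kernel (hF : IsFunctionField k F) (Q₀ : Place k F) (hQ₀ : Q₀.deg = 1)
    (σ : F ≃ₐ[k] F) (q₀ : ℕ) (hg : (genus k F + 1) ^ 2 < q₀) :
    ∃ (I : Finset ℕ) (u : ℕ → F) (z : ℕ → F),
      (∀ i ∈ I, i ≤ q₀ - 1) ∧
      (∀ i ∈ I, u i ∈ L (Finsupp.single Q₀ (i : ℤ) : Divisor k F) ∧ Q₀.1 (u i) = exp (i : ℤ)) ∧
      (∀ i ∈ I, z i ∈ L (Finsupp.single Q₀ ((2 * genus k F + q₀ : ℕ) : ℤ) : Divisor k F)) ∧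
      (∃ i ∈ I, z i ≠ 0) ∧
      ∑ i ∈ I, u i ^ q₀ * σ (z i) = 0 := by
  classical
  set g := genus k F with hgdef
  set m := q₀ - 1 with hm
  set n := 2 * g + q₀ with hn
  have hq₀1 : 1 ≤ q₀ := by
    have : 1 ≤ (g + 1) ^ 2 := Nat.one_le_pow _ _ (by omega)
    omega
  obtain ⟨I, u, hIm, hu, hIcard⟩ := bb_exists_pole_family hF Q₀ hQ₀ m
  set D₁ : Divisor k F := Finsupp.single Q₀ (n : ℤ) with hD₁
  set Q' := comapEquiv (K := k) σ.symm Q₀ with hQ'
  set D₂ : Divisor k F := Finsupp.single Q₀ ((q₀ : ℤ) * (m : ℤ)) + Finsupp.single Q' (n : ℤ) with hD₂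
  haveI := ff_L_finiteDimensional hF D₁
  haveI := ff_L_finiteDimensional hF D₂
  let Ψ : (↥I → ↥(L D₁)) →ₗ[k] F := ∑ i : ↥I, (LinearMap.mulLeft k (u i ^ q₀)) ∘ₗ
    σ.toLinearMap ∘ₗ (L D₁).subtype ∘ₗ LinearMap.proj i
  have hΨ : ∀ z : ↥I → ↥(L D₁), Ψ z = ∑ i : ↥I, u i ^ q₀ * σ (z i : F) := by
    intro z
    simp only [Ψ, LinearMap.sum_apply, LinearMap.comp_apply, LinearMap.proj_apply,
      Submodule.subtype_apply, LinearMap.mulLeft_apply, AlgEquiv.toLinearMap_apply]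
  have hmem : ∀ z : ↥I → ↥(L D₁), Ψ z ∈ L D₂ := by
    intro z
    rw [hΨ]
    refine Submodule.sum_mem _ fun i _ => ?_
    refine bb_mul_mem ?_ (bb_map_mem σ (z i).2)
    have h1 : u i ∈ L (Finsupp.single Q₀ (m : ℤ) : Divisor k F) :=
      ff_L_mono (bb_single_mono (by exact_mod_cast hIm i i.2)) (hu i i.2).1
    exact bb_pow_mem_single h1 q₀
  let Ψ' : (↥I → ↥(L D₁)) →ₗ[k] ↥(L D₂) := Ψ.codRestrict (L D₂) hmem
  have hdegQ' : Q'.deg = 1 := by rw [hQ', comapEquiv_deg, hQ₀]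
  have hdegD₂ : D₂.deg = (q₀ : ℤ) * m + n := by
    rw [hD₂, ff_deg_add, ff_deg_single, ff_deg_single, hQ₀, hdegQ']
    push_cast; ring
  have hellD₂ : (ell D₂ : ℤ) = (q₀ : ℤ) * m + n + 1 - g := by
    rw [ff_ell_eq_of_deg_ge hF D₂, hdegD₂]
    rw [hdegD₂, hn]
    push_cast
    have : (0 : ℤ) ≤ (q₀ : ℤ) * m := by positivity
    linarith
  have hellD₁ : (n : ℤ) + 1 - g ≤ ell D₁ := by
    have := ff_delta_le_genus hF D₁
    rw [hD₁, ff_deg_single, hQ₀] at this
    push_cast at this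
    linarith
  have hellm : (m : ℤ) + 1 - g ≤ I.card := by
    have := ff_delta_le_genus hF (Finsupp.single Q₀ (m : ℤ) : Divisor k F)
    rw [ff_deg_single, hQ₀] at this
    push_cast at this
    have h2 : (ell (Finsupp.single Q₀ (m : ℤ) : Divisor k F) : ℤ) ≤ I.card := by
      exact_mod_cast hIcard
    linarith
  have hdimX : Module.finrank k (↥I → ↥(L D₁)) = I.card * ell D₁ := by
    rw [Module.finrank_pi_fintype, Finset.sum_const, Finset.card_univ, Fintype.card_coe,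
      smul_eq_mul]
    rfl
  have hlt : Module.finrank k ↥(L D₂) < Module.finrank k (↥I → ↥(L D₁)) := by
    rw [hdimX]
    change ell D₂ < _
    have hmz : (m : ℤ) = (q₀ : ℤ) - 1 := by rw [hm]; push_cast [Nat.cast_sub hq₀1]; ring
    have hnz : (n : ℤ) = 2 * (g : ℤ) + q₀ := by rw [hn]; push_cast; ring
    have hgz : ((g : ℤ) + 1) ^ 2 < q₀ := by exact_mod_cast hg
    rw [hmz] at hellm hellD₂
    rw [hnz] at hellD₁ hellD₂
    have ha : (0 : ℤ) < (q₀ : ℤ) - g := by nlinarith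
    have hb : (0 : ℤ) < (q₀ : ℤ) + g + 1 := by positivity
    have h1 : ((q₀ : ℤ) - g) * ((q₀ : ℤ) + g + 1) ≤ (I.card : ℤ) * (ell D₁ : ℤ) := by
      apply mul_le_mul (by linarith) (by linarith) hb.le
      linarith
    have h2 : (ell D₂ : ℤ) < (I.card : ℤ) * (ell D₁ : ℤ) := by
      rw [hellD₂]
      nlinarith
    exact_mod_cast h2
  have hninj : ¬ Function.Injective Ψ' := by
    intro hinj
    have := LinearMap.finrank_le_finrank_of_injective hinj
    omega
  rw [← LinearMap.ker_eq_bot, Submodule.eq_bot_iff] at hninj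
  push Not at hninj
  obtain ⟨z', hz'ker, hz'ne⟩ := hninj
  rw [LinearMap.mem_ker] at hz'ker
  have hz'Ψ : Ψ z' = 0 := by
    have := congrArg Subtype.val hz'ker
    exact this
  refine ⟨I, u, fun i => if h : i ∈ I then ((z' ⟨i, h⟩ : ↥(L D₁)) : F) else 0, hIm, hu, ?_, ?_, ?_⟩
  · intro i hi
    beta_reduce
    rw [dif_pos hi]
    exact (z' ⟨i, hi⟩).2
  · by_contra hall
    push Not at hall
    apply hz'ne
    funext i
    apply Subtype.ext
    have := hall i.1 i.2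
    beta_reduce at this
    rw [dif_pos i.2] at this
    exact this
  · rw [← Finset.sum_coe_sort I (fun i => u i ^ q₀ * σ (if h : i ∈ I then ((z' ⟨i, h⟩ : ↥(L D₁)) : F) else 0)),
      ← hz'Ψ, hΨ]
    refine Finset.sum_congr rfl fun i _ => ?_
    beta_reduce
    rw [dif_pos i.2]


theorem bb_phi_ne_zero (Q₀ : Place k F) (q₀ : ℕ) (hq₀ : 0 < q₀) (I : Finset ℕ) (u z : ℕ → F)
    (hIm : ∀ i ∈ I, i ≤ q₀ - 1) (hu : ∀ i ∈ I, Q₀.1 (u i) = exp (i : ℤ))
    (hz : ∃ i ∈ I, z i ≠ 0) : ∑ i ∈ I, u i * z i ^ q₀ ≠ 0 := by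
  have hu0 : ∀ i ∈ I, u i ≠ 0 := by
    intro i hi h0
    have := hu i hi
    rw [h0, map_zero] at this
    exact exp_ne_zero this.symm
  apply bb_sum_ne_zero Q₀.1 I
  · intro i hi j hj hfi hfj heq
    have hzi : z i ≠ 0 := fun h => hfi (by rw [h, zero_pow hq₀.ne', mul_zero])
    have hzj : z j ≠ 0 := fun h => hfj (by rw [h, zero_pow hq₀.ne', mul_zero])
    rw [map_mul, map_mul, map_pow, map_pow, hu i hi, hu j hj, ff_val_eq_exp_neg_ord Q₀ hzi,
      ff_val_eq_exp_neg_ord Q₀ hzj, ← exp_nsmul, ← exp_nsmul, ← exp_add, ← exp_add] at heq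
    have h1 := exp_injective heq
    rw [nsmul_eq_mul, nsmul_eq_mul] at h1
    have h2 : (q₀ : ℤ) ∣ (i : ℤ) - j := ⟨Q₀.ord (z i) - Q₀.ord (z j), by linarith⟩
    have hi' := hIm i hi
    have hj' := hIm j hj
    have h3 : |(i : ℤ) - j| < q₀ := by
      rw [abs_lt]
      constructor <;> omega
    have h4 := Int.eq_zero_of_abs_lt_dvd h2 h3
    omega
  · obtain ⟨i, hi, hzi⟩ := hz
    exact ⟨i, hi, mul_ne_zero (hu0 i hi) (pow_ne_zero _ hzi)⟩

theorem bb_vanish [Finite k] (Q₀ : Place k F) (σ : F ≃ₐ[k] F) (s : ℕ) (n : ℤ) (I : Finset ℕ)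
    (u z : ℕ → F) (hu : ∀ i ∈ I, u i ∈ L (Finsupp.single Q₀ (i : ℤ) : Divisor k F))
    (hz : ∀ i ∈ I, z i ∈ L (Finsupp.single Q₀ n : Divisor k F))
    (hker : ∑ i ∈ I, u i ^ (Nat.card k ^ s) * σ (z i) = 0) (P : Place k F)
    (hP : FrobAt σ (Nat.card k ^ (2 * s)) P) (hPQ : P ≠ Q₀) :
    P.1 (∑ i ∈ I, u i * z i ^ (Nat.card k ^ s)) < 1 := by
  classical
  letI := Fintype.ofFinite k
  set q₀ := Nat.card k ^ s with hq₀
  have hq₀0 : q₀ ≠ 0 := pow_ne_zero _ Nat.card_pos.ne'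
  have hFr : ∀ y : F, ((FiniteField.frobeniusAlgHom k F) ^ s) y = y ^ q₀ := by
    intro y
    rw [bb_frob_pow, ← Nat.card_eq_fintype_card]
  set x := ∑ i ∈ I, u i * z i ^ q₀ with hx
  have h1 : x ^ q₀ = ∑ i ∈ I, u i ^ q₀ * ((z i ^ q₀) ^ q₀ - σ (z i)) := by
    have h2 : x ^ q₀ = ∑ i ∈ I, u i ^ q₀ * (z i ^ q₀) ^ q₀ := by
      rw [← hFr, hx, map_sum]
      refine Finset.sum_congr rfl fun i _ => ?_
      rw [map_mul, hFr, hFr]
    rw [h2, ← sub_zero (∑ i ∈ I, u i ^ q₀ * (z i ^ q₀) ^ q₀), ← hker, ← Finset.sum_sub_distrib]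
    refine Finset.sum_congr rfl fun i _ => ?_
    ring
  have h3 : P.1 (x ^ q₀) < 1 := by
    rw [h1]
    apply Valuation.map_sum_lt _ one_ne_zero
    intro i hi
    rw [map_mul, map_pow]
    have hui : P.1 (u i) ≤ 1 := bb_val_le_of_mem_single (hu i hi) hPQ
    have hzi : P.1 (z i) ≤ 1 := bb_val_le_of_mem_single (hz i hi) hPQ
    have h4 := hP (z i) hzi
    have h5 : (z i ^ q₀) ^ q₀ - σ (z i) = -(σ (z i) - z i ^ (Nat.card k ^ (2 * s))) := by
      rw [← pow_mul, hq₀, ← pow_add, two_mul]; ring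
    rw [h5, Valuation.map_neg]
    calc P.1 (u i) ^ q₀ * P.1 (σ (z i) - z i ^ (Nat.card k ^ (2 * s)))
        ≤ 1 * P.1 (σ (z i) - z i ^ (Nat.card k ^ (2 * s))) :=
          mul_le_mul' (pow_le_one₀ zero_le hui) le_rfl
      _ < 1 := by rw [one_mul]; exact h4
  rw [map_pow] at h3
  by_contra hcon
  push Not at hcon
  exact absurd h3 (not_lt.2 (one_le_pow₀ hcon))

/-- Bombieri's bound for the twisted rational places. -/
theorem ff_bombieri [Finite k] (hF : IsFunctionField k F) (Q₀ : Place k F) (hQ₀ : Q₀.deg = 1)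
    (σ : F ≃ₐ[k] F) (s : ℕ) (hs : (genus k F + 1) ^ 2 < Nat.card k ^ s) (T : Finset (Place k F))
    (hT : ∀ P ∈ T, FrobAt σ (Nat.card k ^ (2 * s)) P) :
    ∑ P ∈ T, P.deg ≤ Nat.card k ^ (2 * s) + (2 * genus k F + 1) * Nat.card k ^ s + 1 := by
  classical
  set g := genus k F with hg
  set q₀ := Nat.card k ^ s with hq₀
  have hq₀1 : 1 ≤ q₀ := Nat.one_le_pow _ _ Nat.card_pos
  obtain ⟨I, u, z, hIm, hu, hz, hzne, hker⟩ := bb_exists_kernel hF Q₀ hQ₀ σ q₀ hs
  set x := ∑ i ∈ I, u i * z i ^ q₀ with hx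
  have hx0 : x ≠ 0 := bb_phi_ne_zero Q₀ q₀ hq₀1 I u z hIm (fun i hi => (hu i hi).2) hzne
  set n := 2 * g + q₀ with hn
  set D₃ : Divisor k F := Finsupp.single Q₀ (((q₀ - 1 : ℕ) : ℤ) + (q₀ : ℤ) * (n : ℤ)) with hD₃
  have hxD₃ : x ∈ L D₃ := by
    rw [hx]
    refine Submodule.sum_mem _ fun i hi => ?_
    have h1 : u i ∈ L (Finsupp.single Q₀ ((q₀ - 1 : ℕ) : ℤ) : Divisor k F) :=
      ff_L_mono (bb_single_mono (by exact_mod_cast hIm i hi)) (hu i hi).1
    have h2 := bb_mul_mem h1 (bb_pow_mem_single (hz i hi) q₀)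
    rw [← Finsupp.single_add] at h2
    exact h2
  set T' := T.erase Q₀ with hT'
  have hvan : ∀ P ∈ T', P.1 x < 1 := by
    intro P hP
    rw [hT', Finset.mem_erase] at hP
    exact bb_vanish Q₀ σ s _ I u z (fun i hi => (hu i hi).1) hz hker P (hT P hP.2) hP.1
  set D₄ : Divisor k F := D₃ - ∑ P ∈ T', Finsupp.single P 1 with hD₄
  have hsumapply : ∀ P : Place k F, (∑ P' ∈ T', (Finsupp.single P' 1 : Divisor k F)) P =
      if P ∈ T' then 1 else 0 := by
    intro P
    rw [Finsupp.finsetSum_apply]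
    simp only [Finsupp.single_apply]
    rw [Finset.sum_ite_eq' T' P]
  have hxD₄ : x ∈ L D₄ := by
    intro P
    rw [hD₄, Finsupp.sub_apply, hsumapply]
    by_cases hP : P ∈ T'
    · rw [if_pos hP]
      have hPQ : P ≠ Q₀ := by
        rw [hT', Finset.mem_erase] at hP
        exact hP.1
      rw [hD₃, Finsupp.single_eq_of_ne hPQ, zero_sub]
      exact le_exp_neg_one_of_lt_one (hvan P hP)
    · rw [if_neg hP, sub_zero]
      exact hxD₃ P
  have hdeg : ¬ D₄.deg < 0 := by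
    intro hneg
    have := ff_L_eq_bot_of_deg_neg hF D₄ hneg
    rw [this, Submodule.mem_bot] at hxD₄
    exact hx0 hxD₄
  rw [hD₄, ff_deg_sub, ff_deg_sum, hD₃, ff_deg_single, hQ₀] at hdeg
  simp only [ff_deg_single, one_mul] at hdeg
  push Not at hdeg
  have h1 : ((∑ P ∈ T', P.deg : ℕ) : ℤ) ≤ ((q₀ - 1 : ℕ) : ℤ) + (q₀ : ℤ) * (n : ℤ) := by
    push_cast
    push_cast at hdeg
    linarith
  have h2 : ∑ P ∈ T', P.deg ≤ (q₀ - 1) + q₀ * n := by exact_mod_cast h1
  have h3 : ∑ P ∈ T, P.deg ≤ ∑ P ∈ T', P.deg + 1 := by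
    by_cases hQT : Q₀ ∈ T
    · rw [hT', ← Finset.sum_erase_add T _ hQT, hQ₀]
    · rw [hT', Finset.erase_eq_of_notMem hQT]
      omega
  have h4 : Nat.card k ^ (2 * s) = q₀ * q₀ := by rw [hq₀, ← pow_add, two_mul]
  rw [h4]
  have h5 : (q₀ - 1) + q₀ * n + 1 = q₀ * q₀ + 2 * g * q₀ + q₀ := by
    rw [hn]
    have : q₀ - 1 + 1 = q₀ := Nat.sub_add_cancel hq₀1
    calc q₀ - 1 + q₀ * (2 * g + q₀) + 1 = (q₀ - 1 + 1) + q₀ * (2 * g + q₀) := by ring
      _ = q₀ * q₀ + 2 * g * q₀ + q₀ := by rw [this]; ring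
  calc ∑ P ∈ T, P.deg ≤ (q₀ - 1) + q₀ * n + 1 := by omega
    _ = q₀ * q₀ + 2 * g * q₀ + q₀ := h5
    _ ≤ q₀ * q₀ + (2 * g + 1) * q₀ + 1 := by
      have : (2 * g + 1) * q₀ = 2 * g * q₀ + q₀ := by ring
      omega

end Groth.Agent.Lib.Helper55
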