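import Groth.Agent.Lib.Helper55.FunFld.MulW

/-! `dim_K W_K = 1`, canonical divisors, Riemann–Roch. -/

set_option autoImplicit false

open FunFld Module

namespace Groth.Agent.Lib.Helper55

variable {k K : Type*} [Field k] [Field K] [Algebra k K]

theorem ff_nonempty_place (hK : IsFunctionField k K) : Nonempty (Place k K) := by
  obtain ⟨⟨x, hx, -⟩, -⟩ := id hK
  obtain ⟨P, -⟩ := ff_exists_zero hK hx
  exact ⟨P⟩

theorem ff_mulWL_injective (hK : IsFunctionField k K) {ω : Module.Dual k (adele k K)}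
    (hω : ω ≠ 0) : Function.Injective (ff_mulWL hK ω) := by
  rw [← LinearMap.ker_eq_bot, LinearMap.ker_eq_bot']
  intro x hx
  exact (ff_mulW_eq_zero_iff hK (ff_smul_mem_adele hK x) hω).mp hx

theorem ff_mulWL_mem_WD (hK : IsFunctionField k K) {ω : Module.Dual k (adele k K)}
    {C D : Divisor k K} (hω : ω ∈ WD C) {x : K} (hx : x ∈ L D) :
    ff_mulWL hK ω x ∈ WD (C - D) :=
  Groth.Agent.S10986.result k K C D x hx (ff_smul_mem_adele hK x) ω hω

theorem ff_ell_eq_zero_of_deg_neg (hK : IsFunctionField k K) {D : Divisor k K} (h : D.deg < 0) :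
    ell D = 0 := by
  unfold ell
  rw [ff_L_eq_bot_of_deg_neg hK D h]
  exact finrank_bot k K

/-- `dim_K W_K = 1`. -/
theorem ff_exists_mulW_eq (hK : IsFunctionField k K) (ω₁ ω₂ : Module.Dual k (adele k K))
    (h₁ : IsWeil ω₁) (h0 : ω₁ ≠ 0) (h₂ : IsWeil ω₂) : ∃ x : K, ff_mulWL hK ω₁ x = ω₂ := by
  by_cases h20 : ω₂ = 0
  · exact ⟨0, by rw [map_zero, h20]⟩
  obtain ⟨A₁, hA₁⟩ := h₁
  obtain ⟨A₂, hA₂⟩ := h₂
  obtain ⟨P⟩ := ff_nonempty_place hK
  set g : ℤ := (genus k K : ℤ) with hg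
  set m : ℕ := (3 * g - A₁.deg - A₂.deg).toNat + 1 with hm
  set B : Divisor k K := Finsupp.single P (m : ℤ) with hB
  have hm1 : 3 * g - A₁.deg - A₂.deg + 1 ≤ m := by
    have := Int.self_le_toNat (3 * g - A₁.deg - A₂.deg)
    rw [hm]; push_cast; linarith
  have hm0 : (1 : ℤ) ≤ m := by rw [hm]; push_cast; linarith [Int.natCast_nonneg (3 * g - A₁.deg - A₂.deg).toNat]
  have hdegP : (1 : ℤ) ≤ P.deg := by exact_mod_cast ff_deg_pos hK P
  have hdegB : (m : ℤ) ≤ B.deg := by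
    rw [hB, ff_deg_single]; nlinarith
  -- the two subspaces
  set U₁ := (L (A₁ + B)).map (ff_mulWL hK ω₁) with hU₁
  set U₂ := (L (A₂ + B)).map (ff_mulWL hK ω₂) with hU₂
  have hU₁le : U₁ ≤ WD (-B) := by
    rintro _ ⟨x, hx, rfl⟩
    have := ff_mulWL_mem_WD hK hA₁ hx
    rwa [show A₁ - (A₁ + B) = -B by abel] at this
  have hU₂le : U₂ ≤ WD (-B) := by
    rintro _ ⟨x, hx, rfl⟩
    have := ff_mulWL_mem_WD hK hA₂ hx
    rwa [show A₂ - (A₂ + B) = -B by abel] at this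
  obtain ⟨hfdW, hrkW⟩ := ff_finrank_WD hK (-B)
  have hfd1 : FiniteDimensional k U₁ := Submodule.finiteDimensional_of_le hU₁le
  have hfd2 : FiniteDimensional k U₂ := Submodule.finiteDimensional_of_le hU₂le
  have hr1 : finrank k U₁ = ell (A₁ + B) :=
    (Submodule.equivMapOfInjective _ (ff_mulWL_injective hK h0) _).finrank_eq.symm
  have hr2 : finrank k U₂ = ell (A₂ + B) :=
    (Submodule.equivMapOfInjective _ (ff_mulWL_injective hK h20) _).finrank_eq.symm
  have hsum := Submodule.finrank_sup_add_finrank_inf_eq U₁ U₂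
  have hsup : finrank k ↥(U₁ ⊔ U₂) ≤ finrank k (WD (-B)) :=
    Submodule.finrank_mono (sup_le hU₁le hU₂le)
  have hnegB : (-B).deg < 0 := by rw [ff_deg_neg]; linarith
  have hellB := ff_ell_eq_zero_of_deg_neg hK hnegB
  rw [hellB, ff_deg_neg] at hrkW
  have he1 := ff_delta_le_genus hK (A₁ + B)
  have he2 := ff_delta_le_genus hK (A₂ + B)
  rw [ff_deg_add] at he1 he2
  have hpos : 0 < finrank k ↥(U₁ ⊓ U₂) := by
    have h1 : (finrank k ↥(U₁ ⊔ U₂) : ℤ) + finrank k ↥(U₁ ⊓ U₂) =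
        ell (A₁ + B) + ell (A₂ + B) := by
      rw [← hr1, ← hr2]; exact_mod_cast hsum
    have h2 : (finrank k ↥(U₁ ⊔ U₂) : ℤ) ≤ finrank k (WD (-B)) := by exact_mod_cast hsup
    have : (0 : ℤ) < finrank k ↥(U₁ ⊓ U₂) := by
      push_cast at hrkW
      linarith
    exact_mod_cast this
  have := Module.nontrivial_of_finrank_pos hpos
  obtain ⟨η, hη⟩ := exists_ne (0 : ↥(U₁ ⊓ U₂))
  obtain ⟨x₁, -, hx₁⟩ := η.2.1
  obtain ⟨x₂, -, hx₂⟩ := η.2.2
  have hη0 : (η : Module.Dual k (adele k K)) ≠ 0 := fun h => hη (Subtype.ext h)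
  have hx₂0 : x₂ ≠ 0 := by
    rintro rfl
    rw [map_zero] at hx₂
    exact hη0 hx₂.symm
  refine ⟨x₂⁻¹ * x₁, ?_⟩
  rw [ff_mulWL_apply, ← ff_mulW_mulW x₂⁻¹ x₁ (ff_smul_mem_adele hK x₂⁻¹)
    (ff_smul_mem_adele hK x₁)]
  have h3 : mulW x₁ (ff_smul_mem_adele hK x₁) ω₁ = mulW x₂ (ff_smul_mem_adele hK x₂) ω₂ := by
    rw [← ff_mulWL_apply hK, ← ff_mulWL_apply hK, hx₁, hx₂]
  rw [h3]
  exact ff_mulW_inv_mulW hK hx₂0 _ ω₂

theorem ff_isDivOf_ne_zero (hK : IsFunctionField k K) {ω : Module.Dual k (adele k K)}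
    {C : Divisor k K} (h : IsDivOf ω C) : ω ≠ 0 := by
  rintro rfl
  obtain ⟨P⟩ := ff_nonempty_place hK
  have h1 := (h (C + Finsupp.single P 1)).mp (Submodule.zero_mem _)
  have h2 := h1 P
  simp at h2

theorem ff_isDivOf_isWeil {ω : Module.Dual k (adele k K)} {C : Divisor k K}
    (h : IsDivOf ω C) : IsWeil ω := ⟨C, (h C).mpr le_rfl⟩

/-- Canonical divisors are linearly equivalent. -/
theorem ff_canonical_equiv (hK : IsFunctionField k K) {C₁ C₂ : Divisor k K}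
    (h₁ : IsCanonical k K C₁) (h₂ : IsCanonical k K C₂) :
    ∃ x : K, x ≠ 0 ∧ C₂ = C₁ + FunFld.div k x := by
  obtain ⟨ω₁, h10, hd1⟩ := h₁
  obtain ⟨ω₂, h20, hd2⟩ := h₂
  obtain ⟨x, hx⟩ := ff_exists_mulW_eq hK ω₁ ω₂ (ff_isDivOf_isWeil hd1) h10 (ff_isDivOf_isWeil hd2)
  have hx0 : x ≠ 0 := by
    rintro rfl
    rw [map_zero] at hx
    exact h20 hx.symm
  refine ⟨x, hx0, ?_⟩
  have := ff_isDivOf_mulW hK hx0 (ff_smul_mem_adele hK x) hd1
  rw [← ff_mulWL_apply hK, hx] at this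
  exact ff_isDivOf_unique hd2 this

/-- Multiplication by `ω` is a bijection `L(C - D) → W(D)`. -/
theorem ff_existsUnique_mulW (hK : IsFunctionField k K) {ω : Module.Dual k (adele k K)}
    {C : Divisor k K} (hω : IsDivOf ω C) (D : Divisor k K) {ω' : Module.Dual k (adele k K)}
    (hω' : ω' ∈ WD D) : ∃! x : K, x ∈ L (C - D) ∧ ff_mulWL hK ω x = ω' := by
  have h0 := ff_isDivOf_ne_zero hK hω
  obtain ⟨x, hx⟩ := ff_exists_mulW_eq hK ω ω' (ff_isDivOf_isWeil hω) h0 ⟨D, hω'⟩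
  refine ⟨x, ⟨?_, hx⟩, fun y hy => ff_mulWL_injective hK h0 (hy.2.trans hx.symm)⟩
  by_cases hx0 : x = 0
  · rw [hx0]; exact Submodule.zero_mem _
  · have h1 := ff_isDivOf_mulW hK hx0 (ff_smul_mem_adele hK x) hω
    rw [← ff_mulWL_apply hK, hx] at h1
    have hD := (h1 D).mp hω'
    rw [ff_mem_L_iff_div hK _ hx0]
    have : C - D + FunFld.div k x = (C + FunFld.div k x) - D := by abel
    rw [this]
    exact sub_nonneg.mpr hD

/-- Riemann–Roch. -/
theorem ff_riemann_roch (hK : IsFunctionField k K) {C : Divisor k K} (hC : IsCanonical k K C)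
    (D : Divisor k K) :
    (ell D : ℤ) = D.deg + 1 - genus k K + ell (C - D) := by
  obtain ⟨ω, h0, hω⟩ := hC
  have hmap : (L (C - D)).map (ff_mulWL hK ω) = WD D := by
    apply le_antisymm
    · rintro _ ⟨x, hx, rfl⟩
      have := ff_mulWL_mem_WD hK ((hω C).mpr le_rfl) hx
      rwa [show C - (C - D) = D by abel] at this
    · intro ω' hω'
      obtain ⟨x, ⟨hx1, hx2⟩, -⟩ := ff_existsUnique_mulW hK hω D hω'
      exact ⟨x, hx1, hx2⟩
  have h1 : finrank k (WD D) = ell (C - D) := by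
    rw [← hmap]
    exact (Submodule.equivMapOfInjective _ (ff_mulWL_injective hK h0) _).finrank_eq.symm
  obtain ⟨-, h2⟩ := ff_finrank_WD hK D
  rw [h1] at h2
  linarith

theorem ff_exists_canonical (hK : IsFunctionField k K) : ∃ W : Divisor k K, IsCanonical k K W := by
  obtain ⟨P⟩ := ff_nonempty_place hK
  set D : Divisor k K := Finsupp.single P (-2 : ℤ) with hD
  have hdegP : (1 : ℤ) ≤ P.deg := by exact_mod_cast ff_deg_pos hK P
  have hdeg : D.deg ≤ -2 := by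
    rw [hD, ff_deg_single]; linarith
  obtain ⟨hfd, hrk⟩ := ff_finrank_WD hK D
  rw [ff_ell_eq_zero_of_deg_neg hK (by linarith : D.deg < 0)] at hrk
  have hpos : 0 < finrank k (WD D) := by
    have : (0 : ℤ) < finrank k (WD D) := by
      rw [hrk]; push_cast; linarith [Int.natCast_nonneg (genus k K)]
    exact_mod_cast this
  have := Module.nontrivial_of_finrank_pos hpos
  obtain ⟨ω, hω⟩ := exists_ne (0 : ↥(WD D))
  have hω0 : (ω : Module.Dual k (adele k K)) ≠ 0 := fun h => hω (Subtype.ext h)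
  obtain ⟨W, hW⟩ := ff_exists_isDivOf hK ω.1 ⟨D, ω.2⟩ hω0
  exact ⟨W, ω.1, hω0, hW⟩

theorem ff_canonical_ell_deg (hK : IsFunctionField k K) {C : Divisor k K}
    (hC : IsCanonical k K C) : ell C = genus k K ∧ C.deg = 2 * (genus k K : ℤ) - 2 := by
  have h1 := ff_riemann_roch hK hC 0
  have h2 := ff_riemann_roch hK hC C
  rw [sub_zero, ff_ell_zero hK, ff_deg_zero] at h1
  rw [sub_self, ff_ell_zero hK] at h2
  push_cast at h1 h2
  constructor
  · have : (ell C : ℤ) = genus k K := by linarith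
    exact_mod_cast this
  · linarith

/-- Characterisation of canonical divisors. -/
theorem ff_isCanonical_iff (hK : IsFunctionField k K) (C : Divisor k K) :
    IsCanonical k K C ↔ (ell C = genus k K ∧ C.deg = 2 * (genus k K : ℤ) - 2) := by
  constructor
  · exact ff_canonical_ell_deg hK
  · rintro ⟨h1, h2⟩
    obtain ⟨W, hW⟩ := ff_exists_canonical hK
    obtain ⟨hW1, hW2⟩ := ff_canonical_ell_deg hK hW
    have h3 := ff_riemann_roch hK hW C
    rw [h1, h2] at h3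
    have hpos : 0 < ell (W - C) := by
      have : (0 : ℤ) < ell (W - C) := by linarith
      exact_mod_cast this
    obtain ⟨z, hz0, hz⟩ := ff_exists_ne_zero_of_ell_pos hpos
    have h4 := (ff_mem_L_iff_div hK _ hz0).mp hz
    have h5 : (W - C + FunFld.div k z).deg = (0 : Divisor k K).deg := by
      rw [ff_deg_add, ff_deg_sub, ff_deg_div hK, ff_deg_zero, hW2, h2]; ring
    have h6 := ff_eq_of_le_of_deg_eq hK h4 h5.symm
    have h7 : C = W + FunFld.div k z := by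
      have : W + FunFld.div k z = C + (W - C + FunFld.div k z) := by abel
      rw [this, ← h6, add_zero]
    obtain ⟨ω, hω0, hω⟩ := hW
    refine ⟨mulW z (ff_smul_mem_adele hK z) ω, ?_, ?_⟩
    · intro h
      exact hz0 ((ff_mulW_eq_zero_iff hK _ hω0).mp h)
    · rw [h7]
      exact ff_isDivOf_mulW hK hz0 _ hω

end Groth.Agent.Lib.Helper55
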