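import Groth.Agent.Lib.Helper55.FunFld.HasseLocal
import Groth.Agent.Lib.Helper55.FunFld.Apps
import Groth.Agent.Lib.Helper55.FunFld.WeilDim

/-! Finite constant field: finitely many places of bounded degree, finiteness of the class group,
the number of effective divisors of large degree (S11037). -/

set_option autoImplicit false
set_option linter.unusedSectionVars false

open FunFld Module Polynomial

namespace Groth.Agent.Lib.Helper55

variable {k K : Type*} [Field k] [Field K] [Algebra k K]

theorem ff_evalP_pow (P : Place k K) {z : K} (hz : P.1 z ≤ 1) (n : ℕ) :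
    evalP P (z ^ n) = evalP P z ^ n := by
  induction n with
  | zero => rw [pow_zero, pow_zero, ff_evalP_one]
  | succ n ih =>
    have hzn : P.1 (z ^ n) ≤ 1 := by rw [map_pow]; exact pow_le_one₀ zero_le hz
    rw [pow_succ, pow_succ, ff_evalP_mul P hzn hz, ih]

/-- A place of degree `≤ n` at which `x` is integral is a zero of `p(x)` for a nonzero
polynomial of degree `≤ n`. -/
theorem ff_exists_poly_zero (hK : IsFunctionField k K) (P : Place k K) {x : K}
    (hx : P.1 x ≤ 1) : ∃ p : k[X], p ≠ 0 ∧ p.natDegree ≤ P.deg ∧ P.1 (aeval x p) < 1 := by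
  classical
  have hfd := ff_finiteDimensional_residueField hK P
  set d := P.deg with hd
  have hnli : ¬ LinearIndependent k (fun i : Fin (d + 1) => evalP P x ^ (i : ℕ)) := by
    intro hli
    have := hli.fintype_card_le_finrank
    rw [Fintype.card_fin] at this
    change d + 1 ≤ P.deg at this
    omega
  rw [Fintype.not_linearIndependent_iff] at hnli
  obtain ⟨c, hc, i₀, hi₀⟩ := hnli
  refine ⟨∑ i : Fin (d + 1), C (c i) * X ^ (i : ℕ), ?_, ?_, ?_⟩
  · intro h0
    have := congrArg (fun p : k[X] => p.coeff (i₀ : ℕ)) h0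
    simp only [finsetSum_coeff, coeff_C_mul, coeff_X_pow, coeff_zero] at this
    rw [Finset.sum_eq_single i₀] at this
    · simp at this; exact hi₀ this
    · intro j _ hj
      rw [if_neg (fun h => hj (Fin.ext h.symm)), mul_zero]
    · intro h; exact absurd (Finset.mem_univ _) h
  · refine (natDegree_sum_le _ _).trans ?_
    rw [Finset.fold_max_le]
    refine ⟨Nat.zero_le _, fun i _ => ?_⟩
    refine (natDegree_C_mul_X_pow_le _ _).trans ?_
    have := i.2
    omega
  · have hint : ∀ i : Fin (d + 1), P.1 (c i • x ^ (i : ℕ)) ≤ 1 := by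
      intro i
      rw [Algebra.smul_def, map_mul, map_pow]
      exact (mul_le_mul' (P.2.1 _) (pow_le_one₀ zero_le hx)).trans_eq (one_mul _)
    have h1 : aeval x (∑ i : Fin (d + 1), C (c i) * X ^ (i : ℕ)) =
        ∑ i : Fin (d + 1), c i • x ^ (i : ℕ) := by
      rw [map_sum]
      refine Finset.sum_congr rfl fun i _ => ?_
      rw [map_mul, aeval_C, map_pow, aeval_X, Algebra.smul_def]
    rw [h1, ← ff_evalP_eq_zero_iff P (by
      exact (Valuation.map_sum_le _ fun i _ => hint i)), ff_evalP_sum P _ _ fun i _ => hint i]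
    rw [← hc]
    refine Finset.sum_congr rfl fun i _ => ?_
    have hxi : P.1 (x ^ (i : ℕ)) ≤ 1 := by rw [map_pow]; exact pow_le_one₀ zero_le hx
    rw [ff_evalP_smul P _ hxi, ff_evalP_pow P hx]
    exact (Algebra.smul_def _ _).symm

/-- Over a finite constant field there are finitely many places of bounded degree. -/
theorem ff_finite_places_deg_le [Finite k] (hK : IsFunctionField k K) (n : ℕ) :
    {P : Place k K | P.deg ≤ n}.Finite := by
  classical
  obtain ⟨⟨x, hxt, -⟩, -⟩ := id hK
  have hx0 : x ≠ 0 := fun h => hxt (h ▸ isAlgebraic_zero)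
  have hS₁ : {P : Place k K | 1 < P.1 x}.Finite := by
    refine (ff_finite_support_ord hK x).subset fun P hP => ?_
    rw [Function.mem_support]
    rw [Set.mem_ofPred_eq, ff_val_eq_exp_neg_ord P hx0, ← WithZero.exp_zero, WithZero.exp_lt_exp] at hP
    omega
  have hfinT : Finite (degreeLT k (n + 1)) :=
    Finite.of_equiv _ (degreeLTEquiv k (n + 1)).symm.toEquiv
  have hT : ((degreeLT k (n + 1) : Submodule k k[X]) : Set k[X]).Finite := Set.toFinite _
  have hU : (⋃ p ∈ ((degreeLT k (n + 1) : Submodule k k[X]) : Set k[X]),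
      {P : Place k K | p ≠ 0 ∧ P.1 (aeval x p) < 1}).Finite := by
    refine hT.biUnion fun p _ => ?_
    by_cases hp : p = 0
    · refine Set.finite_empty.subset fun P hP => ?_
      exact absurd hp hP.1
    · have hne : aeval x p ≠ 0 := fun h => hxt ⟨p, hp, h⟩
      exact (ff_finite_zeros_of_ne_zero hK hne).subset fun P hP => hP.2
  refine (hS₁.union hU).subset fun P hP => ?_
  by_cases hPx : 1 < P.1 x
  · exact Or.inl hPx
  · right
    push Not at hPx
    obtain ⟨p, hp0, hpd, hpz⟩ := ff_exists_poly_zero hK P hPx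
    rw [Set.mem_iUnion₂]
    refine ⟨p, ?_, hp0, hpz⟩
    rw [SetLike.mem_coe, mem_degreeLT]
    have hP' : P.deg ≤ n := hP
    calc p.degree ≤ (p.natDegree : WithBot ℕ) := degree_le_natDegree
      _ < ((n + 1 : ℕ) : WithBot ℕ) := by exact_mod_cast (by omega : p.natDegree < n + 1)

/-- Over a finite constant field there are finitely many effective divisors of a given degree. -/
theorem ff_finite_effDiv [Finite k] (hK : IsFunctionField k K) (n : ℕ) :
    {D : Divisor k K | 0 ≤ D ∧ D.deg = n}.Finite := by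
  classical
  have hS := ff_finite_places_deg_le hK n
  have hbound : ∀ D : Divisor k K, 0 ≤ D → D.deg = n → ∀ P, D P * (P.deg : ℤ) ≤ n := by
    intro D hD hdeg P
    have h1 : (Finsupp.single P (D P) : Divisor k K) ≤ D := by
      intro Q
      rw [Finsupp.single_apply]
      split_ifs with h
      · subst h; exact le_rfl
      · exact hD Q
    have h2 := ff_deg_mono h1
    rw [ff_deg_single, hdeg] at h2
    exact h2
  have hfin : Finite (↥hS.toFinset → Fin (n + 1)) := inferInstance
  rw [← Set.finite_coe_iff]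
  refine Finite.of_injective
    (fun D : {D : Divisor k K | 0 ≤ D ∧ D.deg = n} => fun P : ↥hS.toFinset =>
      (⟨(D.1 P.1).toNat, by
        have h1 := hbound D.1 D.2.1 D.2.2 P.1
        have h2 : (1 : ℤ) ≤ P.1.deg := by exact_mod_cast ff_deg_pos hK P.1
        have h3 := D.2.1 P.1
        have h3' : (0 : ℤ) ≤ D.1 P.1 := h3
        have : D.1 P.1 ≤ n := by nlinarith
        omega⟩ : Fin (n + 1))) ?_
  rintro ⟨D, hD0, hDn⟩ ⟨D', hD'0, hD'n⟩ h
  apply Subtype.ext
  ext P
  change D P = D' P
  have hP0 : (0 : ℤ) ≤ D P := hD0 P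
  have hP'0 : (0 : ℤ) ≤ D' P := hD'0 P
  by_cases hPS : P ∈ hS.toFinset
  · have := congrArg Fin.val (congrFun h ⟨P, hPS⟩)
    simp only at this
    omega
  · rw [Set.Finite.mem_toFinset, Set.mem_ofPred_eq, not_le] at hPS
    have h1 := hbound D hD0 hDn P
    have h2 := hbound D' hD'0 hD'n P
    have hlt : (n : ℤ) < P.deg := by exact_mod_cast hPS
    have e1 : D P = 0 := by
      by_contra hne
      have : (1 : ℤ) ≤ D P := by omega
      nlinarith
    have e2 : D' P = 0 := by
      by_contra hne
      have : (1 : ℤ) ≤ D' P := by omega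
      nlinarith
    rw [e1, e2]

theorem ff_mem_prinDivs_iff (hK : IsFunctionField k K) (D : Divisor k K) :
    D ∈ prinDivs k K ↔ ∃ z : K, z ≠ 0 ∧ D = FunFld.div k z := by
  constructor
  · intro h
    unfold prinDivs at h
    induction h using AddSubgroup.closure_induction with
    | mem x hx =>
      obtain ⟨z, rfl⟩ := hx
      by_cases hz : z = 0
      · refine ⟨1, one_ne_zero, ?_⟩
        rw [hz]
        have h1 : FunFld.div k (0 : K) = 0 := by
          ext P
          rw [ff_div_apply hK, ff_ord_zero]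
          rfl
        have h2 : FunFld.div k (1 : K) = 0 := by
          have := ff_div_const hK (1 : k)
          rwa [map_one] at this
        rw [h1, h2]
      · exact ⟨z, hz, rfl⟩
    | zero =>
      refine ⟨1, one_ne_zero, ?_⟩
      have := ff_div_const hK (1 : k)
      rw [map_one] at this
      exact this.symm
    | add x y _ _ hx hy =>
      obtain ⟨z, hz, rfl⟩ := hx
      obtain ⟨w, hw, rfl⟩ := hy
      exact ⟨z * w, mul_ne_zero hz hw, (ff_div_mul hK hz hw).symm⟩
    | neg x _ hx =>
      obtain ⟨z, hz, rfl⟩ := hx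
      exact ⟨z⁻¹, inv_ne_zero hz, (ff_div_inv hK z).symm⟩
  · rintro ⟨z, -, rfl⟩
    exact AddSubgroup.subset_closure ⟨z, rfl⟩

/-- The number of effective divisors in a linear system. -/
theorem ff_card_linear_system [Finite k] (hK : IsFunctionField k K) (A : Divisor k K) :
    (Nat.card k - 1) *
      Nat.card {D : Divisor k K // 0 ≤ D ∧ ∃ z : K, z ≠ 0 ∧ D = A + FunFld.div k z} =
        Nat.card k ^ ell A - 1 := by
  classical
  set X := {x : L A // x ≠ 0} with hX
  set Y := {D : Divisor k K // 0 ≤ D ∧ ∃ z : K, z ≠ 0 ∧ D = A + FunFld.div k z} with hY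
  have hLfd := ff_L_finiteDimensional hK A
  have hLfin : Finite (L A) := Module.finite_of_finite k
  let Ψ : X → Y := fun x => ⟨A + FunFld.div k (x.1 : K),
    (ff_mem_L_iff_div hK A (fun h => x.2 (Subtype.ext h))).mp x.1.2,
    (x.1 : K), fun h => x.2 (Subtype.ext h), rfl⟩
  have hcardX : Nat.card X = Nat.card k ^ ell A - 1 := by
    have h1 : Nat.card (L A) = Nat.card k ^ ell A := Module.natCard_eq_pow_finrank
    have h2 : Nat.card X = Nat.card (L A) - 1 := by
      have : Fintype (L A) := Fintype.ofFinite _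
      rw [hX, Nat.card_eq_fintype_card, Nat.card_eq_fintype_card,
        Fintype.card_subtype_compl, Fintype.card_subtype_eq]
    rw [h2, h1]
  have hfiber : ∀ D : Y, Nat.card {x : X // Ψ x = D} = Nat.card k - 1 := by
    rintro ⟨D, hD0, z, hz0, hDz⟩
    have hzL : z ∈ L A := (ff_mem_L_iff_div hK A hz0).mpr (hDz ▸ hD0)
    rw [← Nat.card_units]
    symm
    refine Nat.card_congr (Equiv.ofBijective
      (fun c : kˣ => (⟨⟨⟨(c : k) • z, Submodule.smul_mem _ _ hzL⟩, fun h => by
          have := congrArg Subtype.val h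
          simp only [Submodule.coe_zero, smul_eq_zero] at this
          rcases this with h | h
          · exact c.ne_zero h
          · exact hz0 h⟩, by
        apply Subtype.ext
        change A + FunFld.div k ((c : k) • z) = D
        rw [hDz, Algebra.smul_def, ff_div_mul hK (by
          rw [Ne, map_eq_zero_iff _ (algebraMap k K).injective]; exact c.ne_zero) hz0,
          ff_div_const hK, zero_add]⟩ : {x : X // Ψ x = ⟨D, hD0, z, hz0, hDz⟩})) ⟨?_, ?_⟩)
    · intro c c' h
      have h1 := congrArg (fun x : {x : X // Ψ x = ⟨D, hD0, z, hz0, hDz⟩} => ((x.1.1 : L A) : K)) h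
      simp only at h1
      have h2 : ((c : k) - (c' : k)) • z = 0 := by rw [sub_smul, h1, sub_self]
      rw [smul_eq_zero] at h2
      rcases h2 with h2 | h2
      · exact Units.ext (sub_eq_zero.mp h2)
      · exact absurd h2 hz0
    · rintro ⟨⟨⟨x, hxL⟩, hx0⟩, hx⟩
      have hx0' : x ≠ 0 := fun h => hx0 (Subtype.ext h)
      have hdiv : FunFld.div k x = FunFld.div k z := by
        have := congrArg Subtype.val hx
        change A + FunFld.div k x = D at this
        rw [hDz] at this
        exact add_left_cancel this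
      have h1 : x * z⁻¹ ∈ L (0 : Divisor k K) := by
        rw [ff_mem_L_iff_div hK 0 (mul_ne_zero hx0' (inv_ne_zero hz0)), zero_add,
          ff_div_mul hK hx0' (inv_ne_zero hz0), ff_div_inv hK, hdiv, add_neg_cancel]
      rw [ff_L_zero hK, Submodule.mem_one] at h1
      obtain ⟨c, hc⟩ := h1
      have hc0 : c ≠ 0 := by
        rintro rfl
        rw [map_zero] at hc
        exact mul_ne_zero hx0' (inv_ne_zero hz0) hc.symm
      refine ⟨Units.mk0 c hc0, ?_⟩
      apply Subtype.ext
      apply Subtype.ext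
      apply Subtype.ext
      change (c : k) • z = x
      rw [Algebra.smul_def, hc, mul_assoc, inv_mul_cancel₀ hz0, mul_one]
  have hYfin : Finite Y := by
    have hsurj : Function.Surjective Ψ := by
      rintro ⟨D, hD0, z, hz0, hDz⟩
      have hzL : z ∈ L A := (ff_mem_L_iff_div hK A hz0).mpr (hDz ▸ hD0)
      exact ⟨⟨⟨z, hzL⟩, fun h => hz0 (congrArg Subtype.val h)⟩, Subtype.ext hDz.symm⟩
    have : Finite X := Subtype.finite
    exact Finite.of_surjective Ψ hsurj
  have : Fintype Y := Fintype.ofFinite Y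
  have hXfin : Finite X := Subtype.finite
  have hsig := Nat.card_congr (Equiv.sigmaFiberEquiv Ψ)
  rw [Nat.card_sigma] at hsig
  rw [← hcardX, ← hsig, Finset.sum_congr rfl fun D _ => hfiber D, Finset.sum_const,
    Finset.card_univ, smul_eq_mul, ← Nat.card_eq_fintype_card (α := Y), mul_comm]


theorem ff_degHom_apply (D : Divisor k K) : degHom k K D = D.deg := by
  unfold degHom Divisor.deg
  rw [Finsupp.liftAddHom_apply]
  rfl

/-- The class map from effective divisors of degree `n` to the degree zero class group. -/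
noncomputable def ff_theta (D₀ : Divisor k K) (n : ℕ) (hD₀ : D₀.deg = n) :
    {D : Divisor k K // 0 ≤ D ∧ D.deg = n} →
      (degHom k K).ker ⧸ (prinDivs k K).addSubgroupOf (degHom k K).ker :=
  fun D => QuotientAddGroup.mk ⟨D.1 - D₀, by
    rw [AddMonoidHom.mem_ker, ff_degHom_apply, ff_deg_sub, D.2.2, hD₀, sub_self]⟩

theorem ff_theta_eq_iff (hK : IsFunctionField k K) (D₀ : Divisor k K) (n : ℕ) (hD₀ : D₀.deg = n)
    (D : {D : Divisor k K // 0 ≤ D ∧ D.deg = n}) (b : (degHom k K).ker) :
    ff_theta D₀ n hD₀ D = QuotientAddGroup.mk b ↔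
      ∃ z : K, z ≠ 0 ∧ D.1 = (D₀ + b.1) + FunFld.div k z := by
  unfold ff_theta
  rw [QuotientAddGroup.eq, AddSubgroup.mem_addSubgroupOf, ff_mem_prinDivs_iff hK]
  constructor
  · rintro ⟨z, hz0, hz⟩
    refine ⟨z⁻¹, inv_ne_zero hz0, ?_⟩
    rw [ff_div_inv hK, ← hz]
    simp only [AddSubgroup.coe_add, AddSubgroup.coe_neg]
    abel
  · rintro ⟨z, hz0, hz⟩
    refine ⟨z⁻¹, inv_ne_zero hz0, ?_⟩
    rw [ff_div_inv hK]
    simp only [AddSubgroup.coe_add, AddSubgroup.coe_neg]
    rw [hz]
    abel

theorem ff_card_theta_fiber [Finite k] (hK : IsFunctionField k K) (D₀ : Divisor k K) (n : ℕ)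
    (hD₀ : D₀.deg = n) (b : (degHom k K).ker) :
    (Nat.card k - 1) * Nat.card {D : {D : Divisor k K // 0 ≤ D ∧ D.deg = n} //
        ff_theta D₀ n hD₀ D = QuotientAddGroup.mk b} = Nat.card k ^ ell (D₀ + b.1) - 1 := by
  rw [← ff_card_linear_system hK (D₀ + b.1)]
  congr 1
  refine Nat.card_congr
    { toFun := fun D => ⟨D.1.1, D.1.2.1, (ff_theta_eq_iff hK D₀ n hD₀ D.1 b).mp D.2⟩
      invFun := fun D => ⟨⟨D.1, D.2.1, ?_⟩, ?_⟩
      left_inv := fun D => rfl
      right_inv := fun D => rfl }
  · obtain ⟨z, -, hz⟩ := D.2.2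
    have hb : b.1.deg = 0 := by rw [← ff_degHom_apply]; exact b.2
    rw [hz, ff_deg_add, ff_deg_add, ff_deg_div hK, hD₀, hb, add_zero, add_zero]
  · exact (ff_theta_eq_iff hK D₀ n hD₀ _ b).mpr D.2.2

/-- Surjectivity of the class map in degree `g · deg P₀`. -/
theorem ff_theta_surjective (hK : IsFunctionField k K) (D₀ : Divisor k K) (n : ℕ)
    (hD₀ : D₀.deg = n) (hn : genus k K ≤ n) : Function.Surjective (ff_theta D₀ n hD₀) := by
  intro c
  obtain ⟨b, rfl⟩ := QuotientAddGroup.mk_surjective c
  have hb : b.1.deg = 0 := by rw [← ff_degHom_apply]; exact b.2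
  have h1 := ff_delta_le_genus hK (D₀ + b.1)
  rw [ff_deg_add, hD₀, hb, add_zero] at h1
  have hpos : 0 < ell (D₀ + b.1) := by
    have : (0 : ℤ) < (ell (D₀ + b.1) : ℤ) := by
      have : (genus k K : ℤ) ≤ n := by exact_mod_cast hn
      linarith
    exact_mod_cast this
  obtain ⟨z, hz0, hzL⟩ := ff_exists_ne_zero_of_ell_pos hpos
  have hD0 := (ff_mem_L_iff_div hK _ hz0).mp hzL
  refine ⟨⟨D₀ + b.1 + FunFld.div k z, hD0, ?_⟩, ?_⟩
  · rw [ff_deg_add, ff_deg_add, ff_deg_div hK, hD₀, hb, add_zero, add_zero]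
  · exact (ff_theta_eq_iff hK D₀ n hD₀ _ b).mpr ⟨z, hz0, rfl⟩

theorem ff_finite_classGroup [Finite k] (hK : IsFunctionField k K) :
    Finite ((degHom k K).ker ⧸ (prinDivs k K).addSubgroupOf (degHom k K).ker) := by
  obtain ⟨P₀⟩ := ff_nonempty_place hK
  set g := genus k K
  have hdeg : Divisor.deg (Finsupp.single P₀ (g : ℤ) : Divisor k K) = ((g * P₀.deg : ℕ) : ℤ) := by
    rw [ff_deg_single]; push_cast; ring
  have hle : g ≤ g * P₀.deg := Nat.le_mul_of_pos_right _ (ff_deg_pos hK P₀)
  have hfin : Finite {D : Divisor k K // 0 ≤ D ∧ D.deg = ((g * P₀.deg : ℕ) : ℤ)} :=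
    (ff_finite_effDiv hK (g * P₀.deg)).to_subtype
  exact Finite.of_surjective _ (ff_theta_surjective hK _ _ hdeg hle)

theorem ff_effDivCount_eq [Finite k] (hK : IsFunctionField k K) (D₀ : Divisor k K) (n : ℕ)
    (hD₀ : D₀.deg = n) (hn : 2 * genus k K ≤ n + 1) :
    (Nat.card k - 1) * effDivCount k K n =
      classNum k K * (Nat.card k ^ (n + 1 - genus k K) - 1) := by
  classical
  have hfinC := ff_finite_classGroup hK
  have : Fintype ((degHom k K).ker ⧸ (prinDivs k K).addSubgroupOf (degHom k K).ker) :=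
    Fintype.ofFinite _
  have hfinE : Finite {D : Divisor k K // 0 ≤ D ∧ D.deg = (n : ℤ)} :=
    (ff_finite_effDiv hK n).to_subtype
  have hsig := Nat.card_congr (Equiv.sigmaFiberEquiv (ff_theta D₀ n hD₀))
  rw [Nat.card_sigma] at hsig
  have hfib : ∀ c, (Nat.card k - 1) * Nat.card {D // ff_theta D₀ n hD₀ D = c} =
      Nat.card k ^ (n + 1 - genus k K) - 1 := by
    intro c
    obtain ⟨b, rfl⟩ := QuotientAddGroup.mk_surjective c
    rw [ff_card_theta_fiber hK D₀ n hD₀ b]
    have hb : b.1.deg = 0 := by rw [← ff_degHom_apply]; exact b.2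
    have h1 := ff_ell_eq_of_deg_ge hK (D₀ + b.1) (by
      rw [ff_deg_add, hD₀, hb, add_zero]
      have : ((2 * genus k K : ℕ) : ℤ) ≤ ((n + 1 : ℕ) : ℤ) := by exact_mod_cast hn
      push_cast at this
      linarith)
    rw [ff_deg_add, hD₀, hb, add_zero] at h1
    have : ell (D₀ + b.1) = n + 1 - genus k K := by omega
    rw [this]
  unfold effDivCount classNum
  rw [← hsig, Finset.mul_sum, Finset.sum_congr rfl fun c _ => hfib c, Finset.sum_const,
    Finset.card_univ, smul_eq_mul,
    Nat.card_eq_fintype_card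
      (α := (degHom k K).ker ⧸ (prinDivs k K).addSubgroupOf (degHom k K).ker)]

end Groth.Agent.Lib.Helper55
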