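import Groth.Agent.Lib.Helper63.ConstExtGeometric
import Groth.Agent.Lib.Helper63.GeometricPerfect
import Groth.Agent.Lib.Helper63.Galois
import Groth.Agent.Lib.Helper63.PurelyInsep
import Groth.Agent.Lib.Helper55.FunFld.ClassNum
import Mathlib.FieldTheory.Finite.Extension

/-! Constant field extensions over a finite field; F. K. Schmidt's theorem (S11035). -/

set_option autoImplicit false
set_option linter.unusedSectionVars false
set_option linter.style.haveILetI false

open FunFld Module Polynomial TensorProduct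

namespace Groth.Agent.Lib.Helper55

universe u v

section Build

variable {k : Type u} {K : Type v} [Field k] [Field K] [Algebra k K]

/-- Existence of the constant field extension attached to a monic irreducible polynomial. -/
theorem ce_exists_of_poly (hk : ∀ y : K, IsAlgebraic k y → y ∈ Set.range (algebraMap k K))
    (g : k[X]) (hgm : g.Monic) (hirr : Irreducible g) :
    ∃ (k' : Type u) (_ : Field k') (_ : Algebra k k') (_ : FiniteDimensional k k')
      (K' : Type v) (_ : Field K') (_ : Algebra K K') (_ : Algebra k' K') (_ : Algebra k K')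
      (_ : IsScalarTower k k' K') (_ : IsScalarTower k K K'),
      Module.finrank k k' = g.natDegree ∧
      Function.Bijective (Algebra.TensorProduct.productMap
        (IsScalarTower.toAlgHom k k' K') (IsScalarTower.toAlgHom k K K')) := by
  have hirrK : Irreducible (g.map (algebraMap k K)) :=
    Groth.Agent.Lib.Helper63.GeometricPerfect.irreducible_map hk hgm hirr
  haveI : Fact (Irreducible g) := ⟨hirr⟩
  haveI : Fact (Irreducible (g.map (algebraMap k K))) := ⟨hirrK⟩
  set gK := g.map (algebraMap k K) with hgK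
  have hg0 : g ≠ 0 := hgm.ne_zero
  have hgK0 : gK ≠ 0 := (hgm.map _).ne_zero
  have hroot : g.eval₂ (Algebra.ofId k (AdjoinRoot gK) : k →+* AdjoinRoot gK) (AdjoinRoot.root gK) = 0 := by
    change g.eval₂ (algebraMap k (AdjoinRoot gK)) (AdjoinRoot.root gK) = 0
    rw [← aeval_def, ← aeval_map_algebraMap K, AdjoinRoot.aeval_eq, AdjoinRoot.mk_self]
  let fa : AdjoinRoot g →ₐ[k] AdjoinRoot gK :=
    AdjoinRoot.liftAlgHom g (Algebra.ofId k (AdjoinRoot gK)) (AdjoinRoot.root gK) hroot
  have hfa : fa (AdjoinRoot.root g) = AdjoinRoot.root gK := AdjoinRoot.liftAlgHom_root _ _ _ _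
  letI : Algebra (AdjoinRoot g) (AdjoinRoot gK) := fa.toRingHom.toAlgebra
  haveI : IsScalarTower k (AdjoinRoot g) (AdjoinRoot gK) :=
    IsScalarTower.of_algebraMap_eq fun c => (fa.commutes c).symm
  haveI : FiniteDimensional k (AdjoinRoot g) := (AdjoinRoot.powerBasis hg0).finite
  refine ⟨AdjoinRoot g, inferInstance, inferInstance, inferInstance, AdjoinRoot gK, inferInstance,
    inferInstance, inferInstance, inferInstance, inferInstance, inferInstance, ?_, ?_⟩
  · rw [(AdjoinRoot.powerBasis hg0).finrank, AdjoinRoot.powerBasis_dim]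
  · -- bijectivity
    let ψ : K ⊗[k] AdjoinRoot g →ₐ[K] AdjoinRoot gK :=
      Algebra.TensorProduct.productLeftAlgHom (Algebra.ofId K (AdjoinRoot gK)) fa
    have hsurj : Function.Surjective ψ := by
      rw [← AlgHom.range_eq_top, eq_top_iff, ← AdjoinRoot.adjoinRoot_eq_top]
      apply Algebra.adjoin_le
      rw [Set.singleton_subset_iff]
      refine ⟨1 ⊗ₜ AdjoinRoot.root g, ?_⟩
      change ψ (1 ⊗ₜ AdjoinRoot.root g) = _
      rw [Algebra.TensorProduct.lift_tmul, map_one, one_mul, hfa]
    haveI : FiniteDimensional K (AdjoinRoot gK) := (AdjoinRoot.powerBasis hgK0).finite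
    have hdim : Module.finrank K (K ⊗[k] AdjoinRoot g) = Module.finrank K (AdjoinRoot gK) := by
      rw [Module.finrank_baseChange, (AdjoinRoot.powerBasis hgK0).finrank,
        AdjoinRoot.powerBasis_dim, hgK, natDegree_map, (AdjoinRoot.powerBasis hg0).finrank,
        AdjoinRoot.powerBasis_dim]
    have hinj : Function.Injective ψ :=
      (LinearMap.injective_iff_surjective_of_finrank_eq_finrank (f := ψ.toLinearMap) hdim).2 hsurj
    have h1 : (Algebra.TensorProduct.productMap
        (IsScalarTower.toAlgHom k (AdjoinRoot g) (AdjoinRoot gK))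
        (IsScalarTower.toAlgHom k K (AdjoinRoot gK)) : AdjoinRoot g ⊗[k] K → AdjoinRoot gK) =
        ψ ∘ (Algebra.TensorProduct.comm k (AdjoinRoot g) K) := by
      ext t
      induction t using TensorProduct.induction_on with
      | zero => simp
      | tmul a b =>
        simp only [ψ, Function.comp_apply, Algebra.TensorProduct.comm_tmul,
          Algebra.TensorProduct.productMap_apply_tmul, Algebra.TensorProduct.lift_tmul]
        rw [mul_comm]
        rfl
      | add a b ha hb => simp only [map_add, ha, hb, Function.comp_apply]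
    rw [h1]
    exact (show Function.Bijective ψ from ⟨hinj, hsurj⟩).comp
      (Algebra.TensorProduct.comm k (AdjoinRoot g) K).bijective

theorem exists_monic_irreducible_natDegree [Finite k] (n : ℕ) (hn : 0 < n) :
    ∃ g : k[X], g.Monic ∧ Irreducible g ∧ g.natDegree = n := by
  obtain ⟨p, hp⟩ := CharP.exists k
  haveI : Fact p.Prime := ⟨CharP.char_is_prime k p⟩
  haveI : NeZero n := ⟨hn.ne'⟩
  haveI : Algebra.IsSeparable k (FiniteField.Extension k p n) :=
    Algebra.IsAlgebraic.isSeparable_of_perfectField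
  obtain ⟨α, hα⟩ := Field.exists_primitive_element k (FiniteField.Extension k p n)
  have hint : IsIntegral k α := Algebra.IsIntegral.isIntegral α
  refine ⟨minpoly k α, minpoly.monic hint, minpoly.irreducible hint, ?_⟩
  rw [← IntermediateField.adjoin.finrank hint, hα, IntermediateField.finrank_top',
    FiniteField.finrank_extension]

end Build

section CE

open IsLocalRing Groth.Agent.Lib.Helper63.FunFldExt Groth.Agent.Lib.Helper63.FundIneq
  Groth.Agent.Lib.Helper63.Galois

variable {k k' : Type u} {K K' : Type v} [Field k] [Field k'] [Field K] [Field K']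
  [Algebra k k'] [FiniteDimensional k k'] [Algebra k K] [Algebra K K'] [Algebra k' K']
  [Algebra k K'] [IsScalarTower k k' K'] [IsScalarTower k K K']

variable (k k' K K') in
/-- `K' = k' ⊗ K`. -/
def IsCE : Prop := Function.Bijective (Algebra.TensorProduct.productMap
      (IsScalarTower.toAlgHom k k' K') (IsScalarTower.toAlgHom k K K'))

theorem ce_isFunctionField [Finite k] (h : IsCE k k' K K') (hK : IsFunctionField k K) :
    IsFunctionField k' K' :=
  Groth.Agent.Lib.Helper63.ConstExtGeometric.isFunctionField h hK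
    (Groth.Agent.Lib.Helper63.GeometricPerfect.isGeometric_of_perfectField hK)

/-- A place over `k` is a place over `k'`. -/
def ce_toConst (Q : Place k K') : Place k' K' :=
  ⟨Q.1, fun c => val_le_one_of_isIntegral Q.1 Q.2.1
    ((Algebra.IsIntegral.isIntegral (R := k) c).map (IsScalarTower.toAlgHom k k' K')), Q.2.2⟩

/-- A place over `k'` is a place over `k`. -/
def ce_ofConst (Q' : Place k' K') : Place k K' :=
  ⟨Q'.1, fun c => by rw [IsScalarTower.algebraMap_apply k k' K']; exact Q'.2.1 _, Q'.2.2⟩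

theorem ce_toConst_ofConst (Q' : Place k' K') : ce_toConst (k := k) (ce_ofConst Q') = Q' := rfl

theorem ce_ofConst_toConst (Q : Place k K') : ce_ofConst (ce_toConst (k' := k') Q) = Q := rfl

theorem ce_deg_toConst (Q : Place k K') :
    Q.deg = Module.finrank k k' * (ce_toConst (k' := k') Q).deg := by
  letI : Algebra k' Q.O := Place.algO (ce_toConst Q)
  haveI : IsScalarTower k k' Q.O := by
    refine IsScalarTower.of_algebraMap_eq fun c => ?_
    apply Subtype.ext
    exact IsScalarTower.algebraMap_apply k k' K' c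
  exact (Module.finrank_mul_finrank k k' (ResidueField Q.O)).symm

theorem ce_exists_frob [Finite k] (h : IsCE k k' K K') :
    ∃ σ : K' ≃ₐ[K] K', ∀ c : k', σ (algebraMap k' K' c) = algebraMap k' K' (c ^ Nat.card k) := by
  classical
  letI := Fintype.ofFinite k
  haveI := Groth.Agent.Lib.Helper63.ConstExtGeometric.finite_of_bijective h
  let e : k' ⊗[k] K ≃ₐ[k] K' := AlgEquiv.ofBijective _ h
  let fr : k' →ₐ[k] k' := FiniteField.frobeniusAlgHom k k'
  let φ : k' ⊗[k] K →ₐ[k] K' := Algebra.TensorProduct.productMap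
    ((IsScalarTower.toAlgHom k k' K').comp fr) (IsScalarTower.toAlgHom k K K')
  let σ₀ : K' →ₐ[k] K' := φ.comp e.symm.toAlgHom
  have he1 : ∀ x : K, e (1 ⊗ₜ x) = algebraMap K K' x := by
    intro x
    change Algebra.TensorProduct.productMap _ _ (1 ⊗ₜ x) = _
    rw [Algebra.TensorProduct.productMap_apply_tmul, map_one, one_mul]
    rfl
  have he2 : ∀ c : k', e (c ⊗ₜ 1) = algebraMap k' K' c := by
    intro c
    change Algebra.TensorProduct.productMap _ _ (c ⊗ₜ 1) = _
    rw [Algebra.TensorProduct.productMap_apply_tmul, map_one, mul_one]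
    rfl
  have hK : ∀ x : K, σ₀ (algebraMap K K' x) = algebraMap K K' x := by
    intro x
    change φ (e.symm (algebraMap K K' x)) = _
    rw [show e.symm (algebraMap K K' x) = 1 ⊗ₜ x from by rw [← he1, e.symm_apply_apply],
      Algebra.TensorProduct.productMap_apply_tmul, map_one, one_mul]
    rfl
  have hk' : ∀ c : k', σ₀ (algebraMap k' K' c) = algebraMap k' K' (c ^ Nat.card k) := by
    intro c
    change φ (e.symm (algebraMap k' K' c)) = _
    rw [show e.symm (algebraMap k' K' c) = c ⊗ₜ 1 from by rw [← he2, e.symm_apply_apply],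
      Algebra.TensorProduct.productMap_apply_tmul, map_one, mul_one, Nat.card_eq_fintype_card]
    rfl
  let σ₁ : K' →ₐ[K] K' := { σ₀.toRingHom with commutes' := hK }
  exact ⟨AlgEquiv.ofBijective σ₁ (AlgHom.bijective σ₁), hk'⟩

theorem ce_exists_approx [Finite k] (hK : IsFunctionField k K) {P : Place k K} {Q : Place k K'}
    {e : ℕ} (h : IsOverWith Q P e) (hdvd : Module.finrank k k' ∣ P.deg) (c : k') :
    ∃ b : K, P.1 b ≤ 1 ∧ Q.1 (algebraMap k' K' c - algebraMap K K' b) < 1 := by
  classical
  letI := algO h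
  haveI := isLocalHom_algebraMap h
  have hfdP := ff_finiteDimensional_residueField hK P
  haveI : Finite (ResidueField P.O) := Module.finite_of_finite k
  letI : Fintype (ResidueField P.O) := Fintype.ofFinite _
  set N := Fintype.card (ResidueField P.O) with hN
  have hNcard : N = Nat.card k ^ P.deg := by
    rw [hN, ← Nat.card_eq_fintype_card]
    exact Module.natCard_eq_pow_finrank
  haveI : Finite k' := Module.finite_of_finite k
  have hcN : c ^ N = c := by
    obtain ⟨m, hm⟩ := hdvd
    letI : Fintype k' := Fintype.ofFinite _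
    have hk'card : Fintype.card k' = Nat.card k ^ Module.finrank k k' := by
      rw [← Nat.card_eq_fintype_card]
      exact Module.natCard_eq_pow_finrank
    rw [hNcard, hm, pow_mul, ← hk'card]
    exact FiniteField.pow_card_pow m c
  have hc1 : Q.1 (algebraMap k' K' c) ≤ 1 := (ce_toConst (k' := k') Q).2.1 c
  set cO : Q.O := ⟨algebraMap k' K' c, hc1⟩ with hcOdef
  have hcO : cO ^ N = cO := by
    apply Subtype.ext
    change (algebraMap k' K' c) ^ N = algebraMap k' K' c
    rw [← map_pow, hcN]
  have hf0 : (X ^ N - X : (ResidueField P.O)[X]) ≠ 0 :=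
    FiniteField.X_pow_card_sub_X_ne_zero _ Fintype.one_lt_card
  have hsplit : (X ^ N - X : (ResidueField P.O)[X]).Splits := by
    rw [splits_iff_card_roots, FiniteField.roots_X_pow_card_sub_X,
      FiniteField.X_pow_card_sub_X_natDegree_eq _ Fintype.one_lt_card]
    rfl
  have hroot : ((X ^ N - X : (ResidueField P.O)[X]).map
      (algebraMap (ResidueField P.O) (ResidueField Q.O))).IsRoot (residue Q.O cO) := by
    simp only [Polynomial.map_sub, Polynomial.map_pow, map_X, IsRoot.def, eval_sub, eval_pow,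
      eval_X]
    rw [← map_pow, hcO, sub_self]
  obtain ⟨β, hβ⟩ := hsplit.mem_range_of_isRoot hf0 hroot
  obtain ⟨bO, rfl⟩ := residue_surjective β
  rw [ResidueField.algebraMap_residue] at hβ
  refine ⟨bO.1, bO.2, ?_⟩
  have h0 : residue Q.O (cO - algebraMap P.O Q.O bO) = 0 := by rw [map_sub, hβ, sub_self]
  rw [residue_eq_zero_iff, ff_mem_maximalIdeal_iff] at h0
  exact h0

theorem ce_frob_pow {σ : K' ≃ₐ[K] K'}
    (hσ : ∀ c : k', σ (algebraMap k' K' c) = algebraMap k' K' (c ^ Nat.card k)) (n : ℕ) (c : k') :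
    (σ ^ n) (algebraMap k' K' c) = algebraMap k' K' (c ^ (Nat.card k ^ n)) := by
  induction n generalizing c with
  | zero => simp
  | succ n ih =>
    rw [pow_succ, AlgEquiv.mul_apply, hσ, ih, ← pow_mul, pow_succ, mul_comm]

theorem ce_val_algebraMap_eq_one (Q : Place k K') {c : k'} (hc : c ≠ 0) :
    Q.1 (algebraMap k' K' c) = 1 := by
  have h1 : Q.1 (algebraMap k' K' c) ≤ 1 := (ce_toConst (k' := k') Q).2.1 c
  have h2 : Q.1 (algebraMap k' K' c⁻¹) ≤ 1 := (ce_toConst (k' := k') Q).2.1 c⁻¹
  have h3 : Q.1 (algebraMap k' K' c) * Q.1 (algebraMap k' K' c⁻¹) = 1 := by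
    rw [← map_mul, ← map_mul, mul_inv_cancel₀ hc, map_one, map_one]
  refine le_antisymm h1 ?_
  by_contra hlt
  push Not at hlt
  have : Q.1 (algebraMap k' K' c) * Q.1 (algebraMap k' K' c⁻¹) ≤
      Q.1 (algebraMap k' K' c) * 1 := mul_le_mul' le_rfl h2
  rw [h3, mul_one] at this
  exact absurd hlt (not_lt.mpr this)

theorem ce_conj_injective [Finite k] (hK : IsFunctionField k K) {P : Place k K} {Q : Place k K'}
    {e : ℕ} (h : IsOverWith Q P e) (hdvd : Module.finrank k k' ∣ P.deg) (σ : K' ≃ₐ[K] K')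
    (hσ : ∀ c : k', σ (algebraMap k' K' c) = algebraMap k' K' (c ^ Nat.card k)) :
    Function.Injective (fun j : Fin (Module.finrank k k') => comapEquiv (σ ^ (j : ℕ)) Q) := by
  classical
  letI := Fintype.ofFinite k
  haveI : Finite k' := Module.finite_of_finite k
  have key : ∀ i j : ℕ, i < j → j < Module.finrank k k' →
      comapEquiv (σ ^ i) Q ≠ comapEquiv (σ ^ j) Q := by
    intro i j hij hj heq
    obtain ⟨s, hs0, rfl⟩ : ∃ s, 0 < s ∧ j = s + i := ⟨j - i, by omega, by omega⟩
    have h1 : ∀ y : K', Q.1 y = Q.1 ((σ ^ s) y) := by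
      intro y
      have := congrArg (fun R : Place k K' => R.1 ((σ ^ i).symm y)) heq
      simp only [comapEquiv_apply] at this
      rw [AlgEquiv.apply_symm_apply, pow_add, AlgEquiv.mul_apply, AlgEquiv.apply_symm_apply]
        at this
      exact this
    have h2 : ∀ c : k', c ^ (Nat.card k ^ s) = c := by
      intro c
      obtain ⟨b, -, hb⟩ := ce_exists_approx hK h hdvd c
      have hb' : Q.1 (algebraMap k' K' (c ^ (Nat.card k ^ s)) - algebraMap K K' b) < 1 := by
        have hσs : (σ ^ s) (algebraMap k' K' c - algebraMap K K' b) =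
            algebraMap k' K' (c ^ (Nat.card k ^ s)) - algebraMap K K' b := by
          rw [map_sub (σ ^ s), ce_frob_pow hσ, AlgEquiv.commutes]
        rw [← hσs, ← h1]
        exact hb
      have h3 : Q.1 (algebraMap k' K' (c ^ (Nat.card k ^ s) - c)) < 1 := by
        have : algebraMap k' K' (c ^ (Nat.card k ^ s) - c) =
            (algebraMap k' K' (c ^ (Nat.card k ^ s)) - algebraMap K K' b) -
              (algebraMap k' K' c - algebraMap K K' b) := by
          rw [map_sub]; ring
        rw [this]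
        exact Valuation.map_sub_lt _ hb' hb
      by_contra hne
      have := ce_val_algebraMap_eq_one Q (sub_ne_zero.mpr hne)
      rw [this] at h3
      exact lt_irrefl _ h3
    have h3 : FiniteField.frobeniusAlgHom k k' ^ s = 1 := by
      apply AlgHom.ext
      intro c
      rw [AlgHom.coe_pow, FiniteField.coe_frobeniusAlgHom, pow_iterate, AlgHom.one_apply,
        ← Nat.card_eq_fintype_card]
      exact h2 c
    have hord := FiniteField.orderOf_frobeniusAlgHom k k'
    exact pow_ne_one_of_lt_orderOf hs0.ne' (by rw [hord]; omega) h3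
  intro i j hij
  by_contra hne
  rcases lt_or_gt_of_ne (fun h => hne (Fin.ext h)) with hlt | hlt
  · exact key i j hlt j.2 hij
  · exact key j i hlt i.2 hij.symm

theorem ce_two_places [Finite k] (hce : IsCE k k' K K') (hK : IsFunctionField k K)
    (h2 : 2 ≤ Module.finrank k k') (P : Place k K) (hdvd : Module.finrank k k' ∣ P.deg) :
    ∃ Q₁ Q₂ : Place k' K', Q₁ ≠ Q₂ ∧ IsOver (ce_ofConst (k := k) Q₁) P ∧
      IsOver (ce_ofConst (k := k) Q₂) P ∧
      Module.finrank k k' * Q₁.deg = P.deg ∧ Module.finrank k k' * Q₂.deg = P.deg := by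
  classical
  haveI := Groth.Agent.Lib.Helper63.ConstExtGeometric.finite_of_bijective hce
  have hK' := ce_isFunctionField hce hK
  obtain ⟨Q, e, h⟩ := Groth.Agent.Lib.Helper63.PurelyInsep.exists_isOver (K' := K') hK P
  obtain ⟨σ, hσ⟩ := ce_exists_frob hce
  have hinj := ce_conj_injective hK h hdvd σ hσ
  set d := Module.finrank k k' with hd
  set Qs : Finset (Place k K') :=
    Finset.univ.image (fun j : Fin d => comapEquiv (σ ^ (j : ℕ)) Q) with hQs
  have hle := sum_mul_deg_le P Qs (fun _ => e) (by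
    intro Q' hQ'
    rw [hQs, Finset.mem_image] at hQ'
    obtain ⟨j, -, rfl⟩ := hQ'
    exact comapEquiv_isOverWith _ h)
  rw [hQs, Finset.sum_image (fun i _ j _ hij => hinj hij),
    Finset.sum_congr rfl (fun j _ => by rw [comapEquiv_deg]), Finset.sum_const, Finset.card_univ,
    Fintype.card_fin, smul_eq_mul, Groth.Agent.Lib.Helper63.ConstExtGeometric.finrank_eq hce,
    ← hd] at hle
  have hd0 : 0 < d := by omega
  have hle' : e * Q.deg ≤ P.deg := Nat.le_of_mul_le_mul_left hle hd0
  have he0 : e ≠ 0 := isOverWith_ne_zero h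
  have hQdeg : Q.deg = d * (ce_toConst (k' := k') Q).deg := ce_deg_toConst Q
  have hQpos : 0 < Q.deg := by
    rw [hQdeg]
    exact Nat.mul_pos hd0 (ff_deg_pos hK' _)
  have hge : P.deg ≤ Q.deg := by
    letI := algO h
    haveI := isLocalHom_algebraMap h
    have := deg_eq_mul h
    rcases Nat.eq_zero_or_pos (Module.finrank (ResidueField P.O) (ResidueField Q.O)) with h0 | h0
    · rw [h0, mul_zero] at this; omega
    · rw [this]; exact Nat.le_mul_of_pos_right _ h0
  have heq : Q.deg = P.deg := by
    refine le_antisymm ?_ hge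
    calc Q.deg ≤ e * Q.deg := Nat.le_mul_of_pos_left _ (Nat.pos_of_ne_zero he0)
      _ ≤ P.deg := hle'
  refine ⟨ce_toConst Q, ce_toConst (comapEquiv (σ ^ 1) Q), ?_, ⟨e, h⟩,
    ⟨e, comapEquiv_isOverWith _ h⟩, ?_, ?_⟩
  · intro hcon
    have h01 : comapEquiv (σ ^ 0) Q = comapEquiv (σ ^ 1) Q := by
      have := congrArg (ce_ofConst (k := k)) hcon
      rw [ce_ofConst_toConst, ce_ofConst_toConst] at this
      rw [← this]
      apply Subtype.ext
      rfl
    have := @hinj ⟨0, by omega⟩ ⟨1, by omega⟩ h01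
    simp at this
  · rw [← hQdeg, heq]
  · rw [← ce_deg_toConst, comapEquiv_deg, heq]

section Count

variable (Q₁ Q₂ : Place k K → Place k' K')

/-- The divisor of `K'` attached to a pair of divisors of `K`. -/
noncomputable def cePair (D : Divisor k K × Divisor k K) : Divisor k' K' :=
  D.1.mapDomain Q₁ + D.2.mapDomain Q₂

variable {Q₁ Q₂}

theorem cePair_apply₁ (h₁ : Function.Injective Q₁) (h₁₂ : ∀ P P', Q₁ P ≠ Q₂ P')
    (D : Divisor k K × Divisor k K) (P : Place k K) : cePair Q₁ Q₂ D (Q₁ P) = D.1 P := by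
  unfold cePair
  rw [Finsupp.add_apply, Finsupp.mapDomain_apply h₁, Finsupp.mapDomain_of_notMem_range, add_zero]
  rintro ⟨P', hP'⟩
  exact h₁₂ P P' hP'.symm

theorem cePair_apply₂ (h₂ : Function.Injective Q₂) (h₁₂ : ∀ P P', Q₁ P ≠ Q₂ P')
    (D : Divisor k K × Divisor k K) (P : Place k K) : cePair Q₁ Q₂ D (Q₂ P) = D.2 P := by
  unfold cePair
  rw [Finsupp.add_apply, Finsupp.mapDomain_apply h₂, Finsupp.mapDomain_of_notMem_range, zero_add]
  rintro ⟨P', hP'⟩
  exact h₁₂ P' P hP'

theorem ce_mapDomain_nonneg {Q : Place k K → Place k' K'} (hQ : Function.Injective Q)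
    {D : Divisor k K} (hD : 0 ≤ D) : 0 ≤ D.mapDomain Q := by
  intro R
  by_cases hR : R ∈ Set.range Q
  · obtain ⟨P, rfl⟩ := hR
    rw [Finsupp.mapDomain_apply hQ]
    exact hD P
  · rw [Finsupp.mapDomain_of_notMem_range _ _ hR]
    rfl

theorem ce_deg_mapDomain {Q : Place k K → Place k' K'} {d : ℕ}
    (hdeg : ∀ P, d * (Q P).deg = P.deg) (D : Divisor k K) :
    (d : ℤ) * Divisor.deg (D.mapDomain Q : Divisor k' K') = D.deg := by
  unfold Divisor.deg
  rw [Finsupp.sum_mapDomain_index (fun _ => by simp) (fun _ _ _ => by ring), Finsupp.mul_sum]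
  refine Finsupp.sum_congr fun P _ => ?_
  rw [← hdeg P]
  push_cast
  ring

theorem cePair_nonneg (h₁ : Function.Injective Q₁) (h₂ : Function.Injective Q₂)
    {D : Divisor k K × Divisor k K} (hD₁ : 0 ≤ D.1) (hD₂ : 0 ≤ D.2) : 0 ≤ cePair Q₁ Q₂ D :=
  add_nonneg (ce_mapDomain_nonneg h₁ hD₁) (ce_mapDomain_nonneg h₂ hD₂)

theorem cePair_deg {d : ℕ} (hdeg₁ : ∀ P, d * (Q₁ P).deg = P.deg)
    (hdeg₂ : ∀ P, d * (Q₂ P).deg = P.deg) (D : Divisor k K × Divisor k K) :
    (d : ℤ) * (cePair Q₁ Q₂ D).deg = D.1.deg + D.2.deg := by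
  unfold cePair
  rw [ff_deg_add, mul_add, ce_deg_mapDomain hdeg₁, ce_deg_mapDomain hdeg₂]

theorem cePair_injective (h₁ : Function.Injective Q₁) (h₂ : Function.Injective Q₂)
    (h₁₂ : ∀ P P', Q₁ P ≠ Q₂ P') : Function.Injective (cePair Q₁ Q₂) := by
  intro D D' h
  refine Prod.ext (Finsupp.ext fun P => ?_) (Finsupp.ext fun P => ?_)
  · rw [← cePair_apply₁ h₁ h₁₂ D P, h, cePair_apply₁ h₁ h₁₂]
  · rw [← cePair_apply₂ h₂ h₁₂ D P, h, cePair_apply₂ h₂ h₁₂]

end Count

/-- If every place of `K` has degree divisible by `d = [k':k] ≥ 2`, pairs of effective divisors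
of `K` inject into effective divisors of `K'`. -/
theorem ce_count_le [Finite k] (hce : IsCE k k' K K') (hK : IsFunctionField k K)
    (h2 : 2 ≤ Module.finrank k k') (hall : ∀ P : Place k K, Module.finrank k k' ∣ P.deg)
    (N : ℕ) {ι : Type} [Fintype ι] (n m : ι → ℕ) (hn : Function.Injective n)
    (hsum : ∀ i, n i + m i = N * Module.finrank k k') :
    ∑ i, effDivCount k K (n i) * effDivCount k K (m i) ≤ effDivCount k' K' N := by
  classical
  have hK' := ce_isFunctionField hce hK
  haveI : Finite k' := Module.finite_of_finite k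
  choose Q₁ Q₂ hne hov₁ hov₂ hdeg₁ hdeg₂ using fun P => ce_two_places hce hK h2 P (hall P)
  set d := Module.finrank k k' with hd
  have hd0 : 0 < d := by omega
  have hinj₁ : Function.Injective Q₁ := fun P P' h =>
    isOver_unique_below (hov₁ P) (h ▸ hov₁ P')
  have hinj₂ : Function.Injective Q₂ := fun P P' h =>
    isOver_unique_below (hov₂ P) (h ▸ hov₂ P')
  have h₁₂ : ∀ P P', Q₁ P ≠ Q₂ P' := by
    intro P P' h
    have : P = P' := isOver_unique_below (hov₁ P) (h ▸ hov₂ P')
    subst this
    exact hne P h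
  have hfinE : ∀ n : ℕ, Finite {D : Divisor k K // 0 ≤ D ∧ D.deg = (n : ℤ)} := fun n =>
    (ff_finite_effDiv hK n).to_subtype
  have hfinE' : Finite {D : Divisor k' K' // 0 ≤ D ∧ D.deg = (N : ℤ)} :=
    (ff_finite_effDiv hK' N).to_subtype
  let F : (Σ i : ι, {D : Divisor k K // 0 ≤ D ∧ D.deg = (n i : ℤ)} ×
      {D : Divisor k K // 0 ≤ D ∧ D.deg = (m i : ℤ)}) →
      {D : Divisor k' K' // 0 ≤ D ∧ D.deg = (N : ℤ)} := fun x =>
    ⟨cePair Q₁ Q₂ (x.2.1.1, x.2.2.1), cePair_nonneg hinj₁ hinj₂ x.2.1.2.1 x.2.2.2.1, by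
      have h1 := cePair_deg (d := d) hdeg₁ hdeg₂ (x.2.1.1, x.2.2.1)
      simp only at h1
      rw [x.2.1.2.2, x.2.2.2.2] at h1
      have h2 : ((n x.1 : ℤ) + m x.1) = (d : ℤ) * N := by
        have := hsum x.1
        rw [mul_comm]
        exact_mod_cast this
      rw [h2] at h1
      exact mul_left_cancel₀ (by exact_mod_cast hd0.ne') h1⟩
  have hF : Function.Injective F := by
    rintro ⟨i, D₁, D₂⟩ ⟨i', D₁', D₂'⟩ h
    have h1 := cePair_injective hinj₁ hinj₂ h₁₂ (congrArg Subtype.val h)
    simp only [Prod.mk.injEq] at h1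
    obtain ⟨h11, h12⟩ := h1
    have hi : i = i' := by
      apply hn
      have := D₁.2.2
      rw [h11, D₁'.2.2] at this
      exact_mod_cast this.symm
    subst hi
    have e1 : D₁ = D₁' := Subtype.ext h11
    have e2 : D₂ = D₂' := Subtype.ext h12
    rw [e1, e2]
  have hcard := Nat.card_le_card_of_injective F hF
  rw [Nat.card_sigma] at hcard
  simp only [Nat.card_prod] at hcard
  exact hcard

end CE

section Schmidt

variable {k : Type u} {K : Type v} [Field k] [Field K] [Algebra k K]

theorem ff_effDivCount_ge [Finite k] (hK : IsFunctionField k K) (D₀ : Divisor k K) (n : ℕ)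
    (hD₀ : D₀.deg = n) (hn : 2 * genus k K ≤ n + 1) (hng : genus k K ≤ n) :
    Nat.card k ^ (n - genus k K) ≤ effDivCount k K n := by
  have h := ff_effDivCount_eq hK D₀ n hD₀ hn
  have hfin := ff_finite_classGroup hK
  have hh : 1 ≤ classNum k K := Nat.card_pos
  have hq : 1 < Nat.card k := Finite.one_lt_card
  obtain ⟨m, hm⟩ : ∃ m, n = m + genus k K := ⟨n - genus k K, by omega⟩
  have e1 : n + 1 - genus k K = m + 1 := by omega
  have e2 : n - genus k K = m := by omega
  rw [e1] at h
  rw [e2]
  have hqm : 1 ≤ Nat.card k ^ m := Nat.one_le_pow _ _ (by omega)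
  have h1 : (Nat.card k - 1) * Nat.card k ^ m ≤ Nat.card k ^ (m + 1) - 1 := by
    have : Nat.card k ^ (m + 1) = (Nat.card k - 1) * Nat.card k ^ m + Nat.card k ^ m := by
      rw [pow_succ]
      have : Nat.card k = (Nat.card k - 1) + 1 := by omega
      nth_rewrite 2 [this]
      ring
    omega
  have h2 : Nat.card k ^ (m + 1) - 1 ≤ classNum k K * (Nat.card k ^ (m + 1) - 1) :=
    Nat.le_mul_of_pos_left _ hh
  have h3 : (Nat.card k - 1) * Nat.card k ^ m ≤ (Nat.card k - 1) * effDivCount k K n := by
    rw [h]; exact h1.trans h2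
  exact Nat.le_of_mul_le_mul_left h3 (by omega)

theorem ff_effDivCount_le [Finite k] (hK : IsFunctionField k K) (n : ℕ)
    (hn : 2 * genus k K ≤ n + 1) :
    effDivCount k K n ≤ classNum k K * Nat.card k ^ (n + 1) := by
  have hq : 1 < Nat.card k := Finite.one_lt_card
  by_cases hex : ∃ D₀ : Divisor k K, D₀.deg = n
  · obtain ⟨D₀, hD₀⟩ := hex
    have h := ff_effDivCount_eq hK D₀ n hD₀ hn
    calc effDivCount k K n ≤ (Nat.card k - 1) * effDivCount k K n :=
          Nat.le_mul_of_pos_left _ (by omega)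
      _ = classNum k K * (Nat.card k ^ (n + 1 - genus k K) - 1) := h
      _ ≤ classNum k K * Nat.card k ^ (n + 1) := by
          refine Nat.mul_le_mul_left _ ((Nat.sub_le _ _).trans ?_)
          exact Nat.pow_le_pow_right (by omega) (Nat.sub_le _ _)
  · have : IsEmpty {D : Divisor k K // 0 ≤ D ∧ D.deg = (n : ℤ)} :=
      ⟨fun D => hex ⟨D.1, D.2.2⟩⟩
    unfold effDivCount
    rw [Nat.card_of_isEmpty]
    exact Nat.zero_le _

/-- F. K. Schmidt: over a finite constant field there is a divisor of degree one. -/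
theorem ff_deg_surjective [Finite k] (hK : IsFunctionField k K) :
    Function.Surjective (Divisor.deg : Divisor k K → ℤ) := by
  classical
  obtain ⟨P₀⟩ := ff_nonempty_place hK
  have hex : ∃ n : ℕ, 0 < n ∧ ∃ D : Divisor k K, D.deg = n :=
    ⟨P₀.deg, ff_deg_pos hK P₀, Finsupp.single P₀ 1, by rw [ff_deg_single, one_mul]⟩
  set d := Nat.find hex with hd
  obtain ⟨hd0, D₁, hD₁⟩ := Nat.find_spec hex
  rw [← hd] at hd0 hD₁
  have hzsmul : ∀ (z : ℤ) (D : Divisor k K), (z • D).deg = z * D.deg := by
    intro z D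
    rw [← ff_degHom_apply, map_zsmul, ff_degHom_apply, smul_eq_mul]
  have hdvd : ∀ D : Divisor k K, (d : ℤ) ∣ D.deg := by
    intro D
    have hd0' : (0 : ℤ) < d := by exact_mod_cast hd0
    rw [Int.dvd_iff_emod_eq_zero]
    by_contra hne
    have hr0 : 0 ≤ D.deg % d := Int.emod_nonneg _ hd0'.ne'
    have hrd : D.deg % d < d := Int.emod_lt_of_pos _ hd0'
    have hdeg : (D - (D.deg / d) • D₁).deg = D.deg % d := by
      rw [ff_deg_sub, hzsmul, hD₁, Int.emod_def]; ring
    have hmem : 0 < (D.deg % d).toNat ∧ ∃ D' : Divisor k K, D'.deg = ((D.deg % d).toNat : ℕ) := by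
      refine ⟨by omega, D - (D.deg / d) • D₁, ?_⟩
      rw [hdeg, Int.toNat_of_nonneg hr0]
    have := Nat.find_min' hex hmem
    rw [← hd] at this
    omega
  have hd1 : d = 1 := by
    by_contra hne
    have h2 : 2 ≤ d := by omega
    -- all places have degree divisible by `d`
    have hall : ∀ P : Place k K, d ∣ P.deg := by
      intro P
      have := hdvd (Finsupp.single P 1)
      rw [ff_deg_single, one_mul] at this
      exact_mod_cast this
    obtain ⟨g, hgm, hgirr, hgdeg⟩ := exists_monic_irreducible_natDegree (k := k) d hd0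
    obtain ⟨k', _, _, _, K', _, _, _, _, _, _, hfr, hbij⟩ := ce_exists_of_poly hK.2 g hgm hgirr
    rw [hgdeg] at hfr
    have hce : IsCE k k' K K' := hbij
    have hK' := ce_isFunctionField hce hK
    haveI : Finite k' := Module.finite_of_finite k
    have hq : 1 < Nat.card k := Finite.one_lt_card
    have hq' : Nat.card k' = Nat.card k ^ d := by
      rw [← hfr]; exact Module.natCard_eq_pow_finrank
    set g₀ := genus k K with hg₀
    set g' := genus k' K' with hg'
    set h' := classNum k' K' with hh'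
    set q := Nat.card k with hqdef
    set n₀ := 2 * g₀ + 1 with hn₀
    set M := h' * q ^ (d + 2 * g₀) + 1 with hM
    set N := 2 * n₀ + (M - 1) + 2 * g' with hN
    have hcount := ce_count_le hce hK (by rw [hfr]; exact h2) (by rw [hfr]; exact hall) N
      (ι := Fin M) (fun i => (n₀ + i) * d) (fun i => (n₀ + (M - 1 - i) + 2 * g') * d)
      (by
        intro i j hij
        simp only at hij
        have := Nat.eq_of_mul_eq_mul_right hd0 hij
        exact Fin.ext (by omega))
      (by
        intro i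
        rw [hfr, ← Nat.add_mul]
        congr 1
        have := i.2
        omega)
    have hupper := ff_effDivCount_le hK' N (by omega)
    rw [← hh', hq'] at hupper
    have hlow : ∀ i : Fin M, q ^ (N * d - 2 * g₀) ≤
        effDivCount k K ((n₀ + i) * d) * effDivCount k K ((n₀ + (M - 1 - i) + 2 * g') * d) := by
      intro i
      have hdegA : ((n₀ + (i : ℕ)) • D₁).deg = (((n₀ + i) * d : ℕ) : ℤ) := by
        rw [ff_deg_nsmul, hD₁]; push_cast; ring
      have hdegB : ((n₀ + (M - 1 - i) + 2 * g') • D₁).deg =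
          (((n₀ + (M - 1 - i) + 2 * g') * d : ℕ) : ℤ) := by
        rw [ff_deg_nsmul, hD₁]; push_cast; ring
      have hA1 : n₀ ≤ (n₀ + i) * d := by
        calc n₀ ≤ n₀ + i := Nat.le_add_right _ _
          _ ≤ (n₀ + i) * d := Nat.le_mul_of_pos_right _ hd0
      have hB1 : n₀ ≤ (n₀ + (M - 1 - i) + 2 * g') * d := by
        calc n₀ ≤ n₀ + (M - 1 - i) + 2 * g' := by omega
          _ ≤ (n₀ + (M - 1 - i) + 2 * g') * d := Nat.le_mul_of_pos_right _ hd0
      have hA := ff_effDivCount_ge hK _ _ hdegA (by omega) (by omega)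
      have hB := ff_effDivCount_ge hK _ _ hdegB (by omega) (by omega)
      have hsum : (n₀ + i) * d + (n₀ + (M - 1 - i) + 2 * g') * d = N * d := by
        rw [← Nat.add_mul]
        congr 1
        have := i.2
        omega
      calc q ^ (N * d - 2 * g₀)
          = q ^ ((n₀ + i) * d - g₀) * q ^ ((n₀ + (M - 1 - i) + 2 * g') * d - g₀) := by
            rw [← pow_add]
            congr 1
            rw [← hg₀] at *
            omega
        _ ≤ _ := Nat.mul_le_mul hA hB
    have hsumlow : M * q ^ (N * d - 2 * g₀) ≤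
        ∑ i : Fin M, effDivCount k K ((n₀ + i) * d) *
          effDivCount k K ((n₀ + (M - 1 - i) + 2 * g') * d) := by
      calc M * q ^ (N * d - 2 * g₀) = ∑ _i : Fin M, q ^ (N * d - 2 * g₀) := by
            rw [Finset.sum_const, Finset.card_univ, Fintype.card_fin, smul_eq_mul]
        _ ≤ _ := Finset.sum_le_sum fun i _ => hlow i
    have htot := hsumlow.trans (hcount.trans hupper)
    have hNd : 2 * g₀ ≤ N * d := by
      calc 2 * g₀ ≤ N := by omega
        _ ≤ N * d := Nat.le_mul_of_pos_right _ hd0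
    have hsplit : h' * (q ^ d) ^ (N + 1) = h' * q ^ (d + 2 * g₀) * q ^ (N * d - 2 * g₀) := by
      rw [mul_assoc, ← pow_mul, ← pow_add]
      congr 2
      have : d * (N + 1) = N * d + d := by ring
      omega
    rw [hsplit] at htot
    have hqpos : 0 < q ^ (N * d - 2 * g₀) := Nat.pow_pos (by omega)
    have := Nat.le_of_mul_le_mul_right htot hqpos
    omega
  intro z
  refine ⟨z • D₁, ?_⟩
  rw [hzsmul, hD₁, hd1]
  simp

end Schmidt

end Groth.Agent.Lib.Helper55
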