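import Groth.Agent.Lib.Helper55.FunFld.ZetaLog
import Groth.Agent.Lib.Helper63.Galois
import Groth.Agent.Lib.Helper63.SumEF
import Groth.Agent.Lib.Helper63.PurelyInsep
import Mathlib.FieldTheory.Finite.Extension

/-! Splitting of places in constant field extensions of function fields over finite fields
(all four universes independent). -/

set_option autoImplicit false
set_option linter.unusedSectionVars false
set_option linter.style.haveILetI false

open FunFld Module Polynomial TensorProduct IsLocalRing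
open Groth.Agent.Lib.Helper63.FunFldExt Groth.Agent.Lib.Helper63.FundIneq
  Groth.Agent.Lib.Helper63.Galois Groth.Agent.Lib.Helper63.SumEF

namespace Groth.Agent.Lib.Helper55

universe u₁ u₂ u₃ u₄

variable {k : Type u₁} {K : Type u₂} {k' : Type u₃} {K' : Type u₄} [Field k] [Field K] [Field k']
  [Field K'] [Algebra k K] [Algebra k k'] [Algebra K K'] [Algebra k' K'] [Algebra k K']
  [IsScalarTower k k' K'] [IsScalarTower k K K']

variable (k K k' K') in
/-- `K' = K k'` with `[K' : K] = [k' : k]`. -/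
structure IsCEG : Prop where
  gen : Algebra.adjoin K (Set.range (algebraMap k' K')) = ⊤
  dim : Module.finrank K K' = Module.finrank k k'

variable (k K k' K') in
/-- The `K`-algebra map `K ⊗ k' → K'`. -/
noncomputable def csψ : K ⊗[k] k' →ₐ[K] K' :=
  Algebra.TensorProduct.productLeftAlgHom (Algebra.ofId K K') (IsScalarTower.toAlgHom k k' K')

theorem csψ_tmul (x : K) (c : k') :
    csψ k K k' K' (x ⊗ₜ[k] c) = algebraMap K K' x * algebraMap k' K' c := by
  unfold csψ
  rw [Algebra.TensorProduct.lift_tmul]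
  rfl

theorem cs_surjective (h : IsCEG k K k' K') : Function.Surjective (csψ k K k' K') := by
  rw [← AlgHom.range_eq_top, eq_top_iff, ← h.gen]
  apply Algebra.adjoin_le
  rintro _ ⟨c, rfl⟩
  exact ⟨1 ⊗ₜ c, by
    change csψ k K k' K' (1 ⊗ₜ c) = _
    rw [csψ_tmul, map_one, one_mul]⟩

theorem cs_finite [Finite k'] (h : IsCEG k K k' K') : FiniteDimensional K K' := by
  haveI : Module.Finite k k' := Module.Finite.of_finite
  exact Module.Finite.of_surjective (csψ k K k' K').toLinearMap (cs_surjective h)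

theorem cs_bijective [Finite k'] (h : IsCEG k K k' K') : Function.Bijective (csψ k K k' K') := by
  haveI : Module.Finite k k' := Module.Finite.of_finite
  haveI := cs_finite h
  have hsurj := cs_surjective h
  have hdim : Module.finrank K (K ⊗[k] k') = Module.finrank K K' := by
    rw [Module.finrank_baseChange, h.dim]
  have hinj : Function.Injective (csψ k K k' K') :=
    (LinearMap.injective_iff_surjective_of_finrank_eq_finrank
      (f := (csψ k K k' K').toLinearMap) hdim).2 hsurj
  exact ⟨hinj, hsurj⟩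

theorem cs_exists_frob [Finite k] [Finite k'] (h : IsCEG k K k' K') :
    ∃ σ : K' ≃ₐ[K] K', ∀ c : k', σ (algebraMap k' K' c) = algebraMap k' K' (c ^ Nat.card k) := by
  classical
  letI := Fintype.ofFinite k
  have hbij := cs_bijective h
  haveI : FiniteDimensional K K' := cs_finite h
  let e : K ⊗[k] k' ≃ₐ[K] K' := AlgEquiv.ofBijective (csψ k K k' K') hbij
  let fr : k' →ₐ[k] k' := FiniteField.frobeniusAlgHom k k'
  let T : K ⊗[k] k' →ₐ[K] K ⊗[k] k' := Algebra.TensorProduct.map (AlgHom.id K K) fr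
  let σ₁ : K' →ₐ[K] K' := (e.toAlgHom.comp T).comp e.symm.toAlgHom
  have hk' : ∀ c : k', σ₁ (algebraMap k' K' c) = algebraMap k' K' (c ^ Nat.card k) := by
    intro c
    have hee : ∀ t, e t = csψ k K k' K' t := fun t => rfl
    have he : e.symm (algebraMap k' K' c) = 1 ⊗ₜ c := by
      rw [AlgEquiv.symm_apply_eq, hee, csψ_tmul, map_one, one_mul]
    change e (T (e.symm (algebraMap k' K' c))) = _
    rw [he, Algebra.TensorProduct.map_tmul, hee, AlgHom.id_apply, csψ_tmul, map_one, one_mul,
      Nat.card_eq_fintype_card]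
    rfl
  exact ⟨AlgEquiv.ofBijective σ₁ (AlgHom.bijective σ₁), hk'⟩

theorem cs_frob_pow {σ : K' ≃ₐ[K] K'}
    (hσ : ∀ c : k', σ (algebraMap k' K' c) = algebraMap k' K' (c ^ Nat.card k)) (n : ℕ) (c : k') :
    (σ ^ n) (algebraMap k' K' c) = algebraMap k' K' (c ^ (Nat.card k ^ n)) := by
  induction n generalizing c with
  | zero => simp
  | succ n ih =>
    rw [pow_succ, AlgEquiv.mul_apply, hσ, ih, ← pow_mul, pow_succ, mul_comm]

theorem cs_isGalois [Finite k] [Finite k'] (h : IsCEG k K k' K') : IsGalois K K' := by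
  classical
  letI := Fintype.ofFinite k
  haveI : Module.Finite k k' := Module.Finite.of_finite
  haveI : FiniteDimensional K K' := cs_finite h
  obtain ⟨σ, hσ⟩ := cs_exists_frob h
  apply IsGalois.of_card_aut_eq_finrank
  rw [Nat.card_eq_fintype_card]
  refine le_antisymm AlgEquiv.card_le ?_
  rw [h.dim]
  have hinj : Function.Injective (fun j : Fin (Module.finrank k k') => σ ^ (j : ℕ)) := by
    intro i j hij
    apply (FiniteField.bijective_frobeniusAlgHom_pow k k').1
    apply AlgHom.ext
    intro c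
    have h1 := congrArg (fun τ : K' ≃ₐ[K] K' => τ (algebraMap k' K' c)) hij
    simp only [cs_frob_pow hσ] at h1
    have h2 := (algebraMap k' K').injective h1
    simp only [AlgHom.coe_pow, FiniteField.coe_frobeniusAlgHom, pow_iterate,
      ← Nat.card_eq_fintype_card]
    exact h2
  have := Fintype.card_le_of_injective _ hinj
  rwa [Fintype.card_fin] at this

/-- A place over `k` is a place over `k'`. -/
def cs_toConst [Algebra.IsAlgebraic k k'] (Q : Place k K') : Place k' K' :=
  ⟨Q.1, fun c => val_le_one_of_isIntegral Q.1 Q.2.1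
    ((Algebra.IsIntegral.isIntegral (R := k) c).map (IsScalarTower.toAlgHom k k' K')), Q.2.2⟩

/-- A place over `k'` is a place over `k`. -/
def cs_ofConst (Q' : Place k' K') : Place k K' :=
  ⟨Q'.1, fun c => by rw [IsScalarTower.algebraMap_apply k k' K']; exact Q'.2.1 _, Q'.2.2⟩

theorem cs_toConst_ofConst [Algebra.IsAlgebraic k k'] (Q' : Place k' K') :
    cs_toConst (k := k) (cs_ofConst Q') = Q' := rfl

theorem cs_ofConst_toConst [Algebra.IsAlgebraic k k'] (Q : Place k K') :
    cs_ofConst (cs_toConst (k' := k') Q) = Q := rfl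

theorem cs_deg_ofConst (Q' : Place k' K') :
    (cs_ofConst (k := k) Q').deg = Module.finrank k k' * Q'.deg := by
  letI : Algebra k' (cs_ofConst (k := k) Q').O := Place.algO Q'
  haveI : IsScalarTower k k' (cs_ofConst (k := k) Q').O := by
    refine IsScalarTower.of_algebraMap_eq fun c => ?_
    apply Subtype.ext
    exact IsScalarTower.algebraMap_apply k k' K' c
  exact (Module.finrank_mul_finrank k k' (ResidueField (cs_ofConst (k := k) Q').O)).symm

theorem cs_exists_approx [Finite k] (hK : IsFunctionField k K) {P : Place k K} {Q : Place k K'}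
    {e : ℕ} (h : IsOverWith Q P e) (hQk' : ∀ c : k', Q.1 (algebraMap k' K' c) ≤ 1) (c : k')
    (hcN : c ^ (Nat.card k ^ P.deg) = c) :
    ∃ b : K, P.1 b ≤ 1 ∧ Q.1 (algebraMap k' K' c - algebraMap K K' b) < 1 := by
  classical
  letI := algO h
  haveI := isLocalHom_algebraMap h
  have hfdP := ff_finiteDimensional_residueField hK P
  haveI : Finite (ResidueField P.O) := Module.finite_of_finite k
  letI : Fintype (ResidueField P.O) := Fintype.ofFinite _
  set N := Fintype.card (ResidueField P.O) with hN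
  have hNcard : N = Nat.card k ^ P.deg := by
    rw [hN, ← Nat.card_eq_fintype_card]
    exact Module.natCard_eq_pow_finrank
  rw [← hNcard] at hcN
  have hc1 : Q.1 (algebraMap k' K' c) ≤ 1 := hQk' c
  set cO : Q.O := ⟨algebraMap k' K' c, hc1⟩ with hcOdef
  have hcO : cO ^ N = cO := by
    apply Subtype.ext
    change (algebraMap k' K' c) ^ N = algebraMap k' K' c
    rw [← map_pow, hcN]
  have hf0 : (X ^ N - X : (ResidueField P.O)[X]) ≠ 0 :=
    FiniteField.X_pow_card_sub_X_ne_zero _ Fintype.one_lt_card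
  have hsplit : (X ^ N - X : (ResidueField P.O)[X]).Splits := by
    rw [splits_iff_card_roots, FiniteField.roots_X_pow_card_sub_X,
      FiniteField.X_pow_card_sub_X_natDegree_eq _ Fintype.one_lt_card]
    rfl
  have hroot : ((X ^ N - X : (ResidueField P.O)[X]).map
      (algebraMap (ResidueField P.O) (ResidueField Q.O))).IsRoot (residue Q.O cO) := by
    simp only [Polynomial.map_sub, Polynomial.map_pow, map_X, IsRoot.def, eval_sub, eval_pow,
      eval_X]
    rw [← map_pow, hcO, sub_self]
  obtain ⟨β, hβ⟩ := hsplit.mem_range_of_isRoot hf0 hroot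
  obtain ⟨bO, rfl⟩ := residue_surjective β
  rw [ResidueField.algebraMap_residue] at hβ
  refine ⟨bO.1, bO.2, ?_⟩
  have h0 : residue Q.O (cO - algebraMap P.O Q.O bO) = 0 := by rw [map_sub, hβ, sub_self]
  rw [residue_eq_zero_iff, ff_mem_maximalIdeal_iff] at h0
  exact h0

theorem cs_val_algebraMap_eq_one (Q : Place k K') (hQk' : ∀ c : k', Q.1 (algebraMap k' K' c) ≤ 1)
    {c : k'} (hc : c ≠ 0) : Q.1 (algebraMap k' K' c) = 1 := by
  have h1 : Q.1 (algebraMap k' K' c) ≤ 1 := hQk' c
  have h2 : Q.1 (algebraMap k' K' c⁻¹) ≤ 1 := hQk' c⁻¹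
  have h3 : Q.1 (algebraMap k' K' c) * Q.1 (algebraMap k' K' c⁻¹) = 1 := by
    rw [← map_mul, ← map_mul, mul_inv_cancel₀ hc, map_one, map_one]
  refine le_antisymm h1 ?_
  by_contra hlt
  push Not at hlt
  have : Q.1 (algebraMap k' K' c) * Q.1 (algebraMap k' K' c⁻¹) ≤
      Q.1 (algebraMap k' K' c) * 1 := mul_le_mul' le_rfl h2
  rw [h3, mul_one] at this
  exact absurd hlt (not_lt.mpr this)

/-- An element of `k'` of multiplicative order `q^g - 1`, for `g ∣ [k' : k]`. -/
theorem cs_exists_orderOf [Finite k] [Finite k'] {g : ℕ} (hg : g ∣ Module.finrank k k')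
    (hg0 : 0 < g) :
    ∃ c : k', c ≠ 0 ∧ orderOf c = Nat.card k ^ g - 1 := by
  classical
  letI := Fintype.ofFinite k'
  haveI : Module.Finite k k' := Module.Finite.of_finite
  obtain ⟨t, ht⟩ := hg
  have hcard : Fintype.card k' = Nat.card k ^ Module.finrank k k' := by
    rw [← Nat.card_eq_fintype_card]
    exact Module.natCard_eq_pow_finrank
  obtain ⟨ζ, hζ⟩ := IsCyclic.exists_generator (α := k'ˣ)
  have hordζ : orderOf ζ = Nat.card k ^ Module.finrank k k' - 1 := by
    rw [orderOf_eq_card_of_forall_mem_zpowers hζ, Nat.card_eq_fintype_card, Fintype.card_units,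
      hcard]
  have hq : 2 ≤ Nat.card k := Finite.one_lt_card
  have hdvd : Nat.card k ^ g - 1 ∣ Nat.card k ^ Module.finrank k k' - 1 := by
    rw [ht, pow_mul]
    simpa using Nat.sub_dvd_pow_sub_pow (Nat.card k ^ g) 1 t
  obtain ⟨M, hM⟩ := hdvd
  have hn0 : Module.finrank k k' ≠ 0 := Module.finrank_pos.ne'
  have hqn : 1 < Nat.card k ^ Module.finrank k k' := Nat.one_lt_pow hn0 hq
  have hM0 : M ≠ 0 := by
    rintro rfl
    rw [mul_zero] at hM
    omega
  refine ⟨((ζ ^ M : k'ˣ) : k'), Units.ne_zero _, ?_⟩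
  rw [orderOf_units, orderOf_pow' ζ hM0, hordζ, hM, Nat.gcd_mul_left_left,
    Nat.mul_div_cancel _ (Nat.pos_of_ne_zero hM0)]


theorem cs_pow_card_pow_of_dvd {c : k'} {q g d : ℕ} (hc : c ^ (q ^ g) = c) (hgd : g ∣ d) :
    c ^ (q ^ d) = c := by
  obtain ⟨t, rfl⟩ := hgd
  induction t with
  | zero => simp
  | succ t ih => rw [Nat.mul_succ, pow_add, pow_mul, ih, hc]

theorem cs_val_const_le_one [Algebra.IsAlgebraic k k'] (Q : Place k K') (c : k') :
    Q.1 (algebraMap k' K' c) ≤ 1 := (cs_toConst (k' := k') Q).2.1 c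

theorem cs_conj_injective [Finite k] [Finite k'] (hK : IsFunctionField k K) {P : Place k K}
    {Q : Place k K'} {e : ℕ} (h : IsOverWith Q P e) (σ : K' ≃ₐ[K] K')
    (hσ : ∀ c : k', σ (algebraMap k' K' c) = algebraMap k' K' (c ^ Nat.card k)) :
    Function.Injective (fun j : Fin (Nat.gcd P.deg (Module.finrank k k')) =>
      comapEquiv (σ ^ (j : ℕ)) Q) := by
  classical
  haveI : Module.Finite k k' := Module.Finite.of_finite
  haveI : Algebra.IsAlgebraic k k' := Algebra.IsAlgebraic.of_finite k k'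
  set g := Nat.gcd P.deg (Module.finrank k k') with hg
  have hq : 2 ≤ Nat.card k := Finite.one_lt_card
  have hg0 : 0 < g := Nat.gcd_pos_of_pos_left _ (ff_deg_pos hK P)
  have key : ∀ i j : ℕ, i < j → j < g →
      comapEquiv (σ ^ i) Q ≠ comapEquiv (σ ^ j) Q := by
    intro i j hij hj heq
    obtain ⟨s, hs0, rfl⟩ : ∃ s, 0 < s ∧ j = s + i := ⟨j - i, by omega, by omega⟩
    have h1 : ∀ y : K', Q.1 y = Q.1 ((σ ^ s) y) := by
      intro y
      have := congrArg (fun R : Place k K' => R.1 ((σ ^ i).symm y)) heq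
      simp only [comapEquiv_apply] at this
      rw [AlgEquiv.apply_symm_apply, pow_add, AlgEquiv.mul_apply, AlgEquiv.apply_symm_apply]
        at this
      exact this
    obtain ⟨c, hc0, hcord⟩ := cs_exists_orderOf (k := k) (k' := k') (Nat.gcd_dvd_right _ _) hg0
    rw [← hg] at hcord
    have hqg : 1 ≤ Nat.card k ^ g := Nat.one_le_pow _ _ (by omega)
    have hcg : c ^ (Nat.card k ^ g) = c := by
      have : Nat.card k ^ g = (Nat.card k ^ g - 1) + 1 := by omega
      rw [this, pow_succ, ← hcord, pow_orderOf_eq_one, one_mul]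
    have hcd : c ^ (Nat.card k ^ P.deg) = c := cs_pow_card_pow_of_dvd hcg (Nat.gcd_dvd_left _ _)
    obtain ⟨b, -, hb⟩ := cs_exists_approx hK h (cs_val_const_le_one Q) c hcd
    have hb' : Q.1 (algebraMap k' K' (c ^ (Nat.card k ^ s)) - algebraMap K K' b) < 1 := by
      have hσs : (σ ^ s) (algebraMap k' K' c - algebraMap K K' b) =
          algebraMap k' K' (c ^ (Nat.card k ^ s)) - algebraMap K K' b := by
        rw [map_sub (σ ^ s), cs_frob_pow hσ, AlgEquiv.commutes]
      rw [← hσs, ← h1]
      exact hb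
    have h3 : Q.1 (algebraMap k' K' (c ^ (Nat.card k ^ s) - c)) < 1 := by
      have : algebraMap k' K' (c ^ (Nat.card k ^ s) - c) =
          (algebraMap k' K' (c ^ (Nat.card k ^ s)) - algebraMap K K' b) -
            (algebraMap k' K' c - algebraMap K K' b) := by
        rw [map_sub]; ring
      rw [this]
      exact Valuation.map_sub_lt _ hb' hb
    have h4 : c ^ (Nat.card k ^ s) = c := by
      by_contra hne
      have := cs_val_algebraMap_eq_one Q (cs_val_const_le_one Q) (sub_ne_zero.mpr hne)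
      rw [this] at h3
      exact lt_irrefl _ h3
    have hqs : 1 < Nat.card k ^ s := Nat.one_lt_pow hs0.ne' hq
    have h5 : c ^ (Nat.card k ^ s - 1) = 1 := by
      have : Nat.card k ^ s = (Nat.card k ^ s - 1) + 1 := by omega
      rw [this, pow_succ] at h4
      exact mul_right_cancel₀ hc0 (h4.trans (one_mul c).symm)
    have h6 := orderOf_dvd_of_pow_eq_one h5
    rw [hcord] at h6
    have h7 := Nat.le_of_dvd (by omega) h6
    have h8 : Nat.card k ^ g ≤ Nat.card k ^ s := by omega
    have h9 := (Nat.pow_le_pow_iff_right hq).1 h8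
    omega
  intro i j hij
  by_contra hne
  rcases lt_or_gt_of_ne (fun h => hne (Fin.ext h)) with hlt | hlt
  · exact key i j hlt j.2 hij
  · exact key j i hlt i.2 hij.symm

theorem cs_arith {r e n d d' g : ℕ} (hn : 0 < n) (hd : 0 < d) (hg : g = Nat.gcd d n)
    (h1 : r * (e * (n * d')) = n * d) (h2 : d ∣ n * d') (h3 : g ≤ r) : r = g ∧ d' = d / g := by
  have hg0 : 0 < g := hg ▸ Nat.gcd_pos_of_pos_left _ hd
  obtain ⟨a, b, hab, hda, hnb⟩ := Nat.exists_coprime d n
  rw [← hg] at hda hnb
  have ha0 : 0 < a := by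
    rcases Nat.eq_zero_or_pos a with h | h
    · rw [h, zero_mul] at hda; omega
    · exact h
  have h2' : a ∣ d' := by
    rw [hda, hnb] at h2
    have : a * g ∣ (b * d') * g := by
      have e1 : b * g * d' = (b * d') * g := by ring
      rwa [e1] at h2
    have h4 := Nat.dvd_of_mul_dvd_mul_right hg0 this
    exact hab.dvd_of_dvd_mul_left h4
  obtain ⟨t, rfl⟩ := h2'
  have h5 : r * (e * t) = g := by
    have e1 : r * (e * (n * (a * t))) = (r * (e * t)) * (n * a) := by ring
    have e2 : n * d = g * (n * a) := by rw [hda]; ring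
    rw [e1, e2] at h1
    exact Nat.eq_of_mul_eq_mul_right (Nat.mul_pos hn ha0) h1
  have h6 : e * t = 1 := by
    rcases Nat.lt_or_ge (e * t) 2 with h | h
    · rcases Nat.eq_zero_or_pos (e * t) with h0 | h0
      · rw [h0, mul_zero] at h5; omega
      · omega
    · have : r * 2 ≤ r * (e * t) := Nat.mul_le_mul_left r h
      omega
  have ht : t = 1 := Nat.eq_one_of_mul_eq_one_left h6
  rw [h6, mul_one] at h5
  refine ⟨h5, ?_⟩
  rw [ht, mul_one, hda, Nat.mul_div_cancel _ hg0]

theorem cs_dvd_iff {d n m : ℕ} (hd : 0 < d) :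
    d / Nat.gcd d n ∣ m ↔ d ∣ m * n := by
  have hg0 : 0 < Nat.gcd d n := Nat.gcd_pos_of_pos_left _ hd
  obtain ⟨a, b, hab, hda, hnb⟩ := Nat.exists_coprime d n
  obtain ⟨g, hg⟩ : ∃ g, g = Nat.gcd d n := ⟨_, rfl⟩
  rw [← hg] at hg0 hda hnb ⊢
  have h1 : d / g = a := by
    rw [hda]
    exact Nat.mul_div_cancel _ hg0
  rw [h1]
  constructor
  · intro h
    rw [hda, hnb]
    obtain ⟨t, rfl⟩ := h
    exact ⟨t * b, by ring⟩
  · intro h
    rw [hda, hnb] at h
    have e1 : m * (b * g) = (m * b) * g := by ring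
    rw [e1] at h
    have h4 := Nat.dvd_of_mul_dvd_mul_right hg0 h
    exact hab.dvd_of_dvd_mul_right h4

/-- The splitting law in a constant field extension of degree `n`: a place of degree `d` has exactly
`gcd(d, n)` places above it, each of degree `d / gcd(d, n)` over the new constant field. -/
theorem cs_split [Finite k] [Finite k'] (h : IsCEG k K k' K') (hK : IsFunctionField k K)
    (hK' : IsFunctionField k' K') (P : Place k K) (Qs : Finset (Place k K'))
    (hQs : ∀ Q, Q ∈ Qs ↔ IsOver Q P) :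
    haveI : Algebra.IsAlgebraic k k' := Algebra.IsAlgebraic.of_finite k k'
    Qs.card = Nat.gcd P.deg (Module.finrank k k') ∧
      ∀ Q ∈ Qs, (cs_toConst (k' := k') Q).deg = P.deg / Nat.gcd P.deg (Module.finrank k k') := by
  classical
  haveI : Module.Finite k k' := Module.Finite.of_finite
  haveI : Algebra.IsAlgebraic k k' := Algebra.IsAlgebraic.of_finite k k'
  haveI : FiniteDimensional K K' := cs_finite h
  haveI : IsGalois K K' := cs_isGalois h
  have hn0 : 0 < Module.finrank k k' := Module.finrank_pos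
  have hd0 : 0 < P.deg := ff_deg_pos hK P
  obtain ⟨Q₀, e, h₀⟩ := Groth.Agent.Lib.Helper63.PurelyInsep.exists_isOver (K' := K') hK P
  obtain ⟨σ, hσ⟩ := cs_exists_frob h
  have hall : ∀ Q ∈ Qs, IsOverWith Q P e ∧ Q.deg = Q₀.deg :=
    fun Q hQ => isOverWith_and_deg_eq h₀ ((hQs Q).1 hQ)
  have hsum := sum_ramIdx_mul_deg_eq hK P Qs hQs
  have hsum' : Qs.card * (e * Q₀.deg) = Module.finrank k k' * P.deg := by
    rw [← h.dim, ← hsum, Finset.card_eq_sum_ones, Finset.sum_mul]
    refine Finset.sum_congr rfl fun Q hQ => ?_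
    obtain ⟨he', hd'⟩ := hall Q hQ
    rw [ramIdx_eq he', hd', one_mul]
  have hD : ∀ Q : Place k K', Q.deg = Module.finrank k k' * (cs_toConst (k' := k') Q).deg :=
    fun Q => cs_deg_ofConst (k := k) (cs_toConst (k' := k') Q)
  have hdvd : P.deg ∣ Module.finrank k k' * (cs_toConst (k' := k') Q₀).deg := by
    rw [← hD]
    letI := algO h₀
    haveI := isLocalHom_algebraMap h₀
    exact Dvd.intro _ (deg_eq_mul h₀).symm
  have hge : Nat.gcd P.deg (Module.finrank k k') ≤ Qs.card := by
    have hinj := cs_conj_injective hK h₀ σ hσ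
    have hsub : Finset.univ.image (fun j : Fin (Nat.gcd P.deg (Module.finrank k k')) =>
        comapEquiv (σ ^ (j : ℕ)) Q₀) ⊆ Qs := by
      intro Q hQ
      rw [Finset.mem_image] at hQ
      obtain ⟨j, -, rfl⟩ := hQ
      exact (hQs _).2 ⟨e, comapEquiv_isOverWith _ h₀⟩
    have := Finset.card_le_card hsub
    rwa [Finset.card_image_of_injective _ hinj, Finset.card_univ, Fintype.card_fin] at this
  rw [hD Q₀] at hsum'
  obtain ⟨hr, hd'⟩ := cs_arith hn0 hd0 rfl hsum' hdvd hge
  refine ⟨hr, fun Q hQ => ?_⟩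
  have h1 := (hall Q hQ).2
  rw [hD Q, hD Q₀] at h1
  rw [Nat.eq_of_mul_eq_mul_left hn0 h1, hd']

theorem cs_toConst_injective [Algebra.IsAlgebraic k k'] :
    Function.Injective (cs_toConst : Place k K' → Place k' K') := by
  intro Q₁ Q₂ h
  have := congrArg (cs_ofConst (k := k)) h
  rwa [cs_ofConst_toConst, cs_ofConst_toConst] at this

/-- `N_m(K'/k') = N_{mn}(K/k)` for a constant field extension of degree `n`. -/
theorem cs_ffN [Finite k] [Finite k'] (h : IsCEG k K k' K') (hK : IsFunctionField k K)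
    (hK' : IsFunctionField k' K') (m : ℕ) (hm : 0 < m) :
    ffN k' K' m = ffN k K (m * Module.finrank k k') := by
  classical
  haveI : Module.Finite k k' := Module.Finite.of_finite
  haveI : Algebra.IsAlgebraic k k' := Algebra.IsAlgebraic.of_finite k k'
  haveI : FiniteDimensional K K' := cs_finite h
  have hn0 : 0 < Module.finrank k k' := Module.finrank_pos
  set n := Module.finrank k k' with hn
  set PP : Finset (Place k K) := (ff_finite_places_deg_le hK (m * n)).toFinset with hPP
  have hPPmem : ∀ P : Place k K, P ∈ PP ↔ P.deg ≤ m * n := by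
    intro P; rw [hPP, Set.Finite.mem_toFinset]; rfl
  let QsP : Place k K → Finset (Place k K') := fun P => (finite_setOf_isOver (K' := K') P).toFinset
  have hQsP : ∀ P Q, Q ∈ QsP P ↔ IsOver Q P := fun P Q => Set.Finite.mem_toFinset _
  let Qs' : Place k K → Finset (Place k' K') := fun P => (QsP P).image (cs_toConst (k' := k'))
  have hsplit := fun P => cs_split h hK hK' P (QsP P) (hQsP P)
  have hcover : ∀ Q' : Place k' K', Q'.deg ∣ m → Q' ∈ PP.biUnion Qs' := by
    intro Q' hQ'
    obtain ⟨P, hP⟩ := exists_isOver_below (K := K) (cs_ofConst (k := k) Q')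
    rw [Finset.mem_biUnion]
    have hmem : cs_ofConst (k := k) Q' ∈ QsP P := (hQsP P _).2 hP
    refine ⟨P, ?_, Finset.mem_image.2 ⟨cs_ofConst (k := k) Q', hmem, rfl⟩⟩
    rw [hPPmem]
    have h1 := (hsplit P).2 _ hmem
    rw [cs_toConst_ofConst] at h1
    rw [h1, cs_dvd_iff (ff_deg_pos hK P)] at hQ'
    exact Nat.le_of_dvd (Nat.mul_pos hm hn0) hQ'
  have hdisj : (PP : Set (Place k K)).PairwiseDisjoint Qs' := by
    intro P₁ _ P₂ _ hne
    rw [Function.onFun, Finset.disjoint_left]
    intro Q' h1 h2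
    obtain ⟨Q₁, hQ₁, rfl⟩ := Finset.mem_image.1 h1
    obtain ⟨Q₂, hQ₂, h12⟩ := Finset.mem_image.1 h2
    have := cs_toConst_injective h12
    subst this
    exact hne (isOver_unique_below ((hQsP P₁ _).1 hQ₁) ((hQsP P₂ _).1 hQ₂))
  rw [ffN_eq_sum (PP.biUnion Qs') hcover, Finset.sum_biUnion hdisj,
    ffN_eq_sum PP (fun P hP => (hPPmem P).2 (Nat.le_of_dvd (Nat.mul_pos hm hn0) hP))]
  refine Finset.sum_congr rfl fun P _ => ?_
  rw [Finset.sum_image (fun Q₁ _ Q₂ _ h12 => cs_toConst_injective h12)]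
  obtain ⟨hcard, hdeg⟩ := hsplit P
  rw [Finset.sum_congr rfl (fun Q hQ => by rw [hdeg Q hQ]), Finset.sum_const, hcard, smul_eq_mul]
  have hiff := cs_dvd_iff (n := Module.finrank k k') (m := m) (ff_deg_pos hK P)
  by_cases hdv : P.deg ∣ m * n
  · rw [if_pos hdv, if_pos (hiff.2 hdv)]
    exact Nat.mul_div_cancel' (Nat.gcd_dvd_left _ _)
  · rw [if_neg hdv, if_neg (fun h => hdv (hiff.1 h)), mul_zero]

end Groth.Agent.Lib.Helper55
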