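import Groth.Agent.Lib.Helper55.FunFld.Bombieri
import Groth.Agent.Lib.Helper55.FunFld.ConstSplit
import Groth.Agent.Lib.Helper55.FunFld.ConstFin
import Groth.Agent.Lib.Helper63.ConstExtUnram
import Groth.Agent.Lib.Helper63.LocResDual

/-! Bombieri's bound for a function field without a rational place, via a constant field
extension. -/

set_option autoImplicit false
set_option linter.unusedSectionVars false
set_option linter.style.haveILetI false

open FunFld Module WithZero TensorProduct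
open Groth.Agent.Lib.Helper63.FunFldExt Groth.Agent.Lib.Helper63.FundIneq
  Groth.Agent.Lib.Helper63.Galois

namespace Groth.Agent.Lib.Helper55

universe u v w

variable {k k₂ : Type u} {E : Type v} {E₂ : Type w} [Field k] [Field k₂] [Field E] [Field E₂]
  [Algebra k k₂] [Algebra k E] [Algebra E E₂] [Algebra k₂ E₂] [Algebra k E₂]
  [IsScalarTower k k₂ E₂] [IsScalarTower k E E₂]

/-- Extension of a `k`-automorphism of `E` to a `k₂`-automorphism of `E₂ = k₂ ⊗ E`. -/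
theorem cs_sigma_lift (hbij : Function.Bijective (Algebra.TensorProduct.productMap
      (IsScalarTower.toAlgHom k k₂ E₂) (IsScalarTower.toAlgHom k E E₂))) (σ : E ≃ₐ[k] E) :
    ∃ σ₂ : E₂ ≃ₐ[k₂] E₂, ∀ x : E, σ₂ (algebraMap E E₂ x) = algebraMap E E₂ (σ x) := by
  let e₀ : k₂ ⊗[k] E ≃ₐ[k] E₂ := AlgEquiv.ofBijective _ hbij
  let T₀ : k₂ ⊗[k] E ≃ₐ[k] k₂ ⊗[k] E := Algebra.TensorProduct.congr AlgEquiv.refl σ
  let σ' : E₂ ≃ₐ[k] E₂ := e₀.symm.trans (T₀.trans e₀)
  have he1 : ∀ x : E, e₀ (1 ⊗ₜ x) = algebraMap E E₂ x := by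
    intro x
    change Algebra.TensorProduct.productMap _ _ (1 ⊗ₜ x) = _
    rw [Algebra.TensorProduct.productMap_apply_tmul, map_one, one_mul]
    rfl
  have he2 : ∀ c : k₂, e₀ (c ⊗ₜ 1) = algebraMap k₂ E₂ c := by
    intro c
    change Algebra.TensorProduct.productMap _ _ (c ⊗ₜ 1) = _
    rw [Algebra.TensorProduct.productMap_apply_tmul, map_one, mul_one]
    rfl
  have hcomm : ∀ c : k₂, σ'.toRingEquiv (algebraMap k₂ E₂ c) = algebraMap k₂ E₂ c := by
    intro c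
    change e₀ (T₀ (e₀.symm (algebraMap k₂ E₂ c))) = _
    rw [show e₀.symm (algebraMap k₂ E₂ c) = c ⊗ₜ 1 from by rw [← he2, e₀.symm_apply_apply]]
    change e₀ (Algebra.TensorProduct.congr AlgEquiv.refl σ (c ⊗ₜ 1)) = _
    rw [Algebra.TensorProduct.congr_apply, Algebra.TensorProduct.map_tmul]
    simp [he2]
  refine ⟨AlgEquiv.ofRingEquiv (f := σ'.toRingEquiv) hcomm, fun x => ?_⟩
  change e₀ (T₀ (e₀.symm (algebraMap E E₂ x))) = _
  rw [show e₀.symm (algebraMap E E₂ x) = 1 ⊗ₜ x from by rw [← he1, e₀.symm_apply_apply]]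
  change e₀ (Algebra.TensorProduct.congr AlgEquiv.refl σ (1 ⊗ₜ x)) = _
  rw [Algebra.TensorProduct.congr_apply, Algebra.TensorProduct.map_tmul]
  simp [he1]


/-- Compatibility of the Frobenius condition with a constant field extension. -/
theorem cs_frobAt_lift [Finite k] [Finite k₂] [FiniteDimensional E E₂]
    (hsurj : Function.Surjective (Algebra.TensorProduct.productMap
      (IsScalarTower.toAlgHom k k₂ E₂) (IsScalarTower.toAlgHom k E E₂)))
    (hE : IsFunctionField k E) (σ : E ≃ₐ[k] E) (σ₂ : E₂ ≃ₐ[k₂] E₂)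
    (hσ₂ : ∀ x : E, σ₂ (algebraMap E E₂ x) = algebraMap E E₂ (σ x)) (r : ℕ)
    (hδr : Module.finrank k k₂ ∣ r) {P : Place k E} (hP : FrobAt σ (Nat.card k ^ r) P)
    {P₂ : Place k E₂} (hover : IsOver P₂ P) (z : E₂) (hz : P₂.1 z ≤ 1) :
    P₂.1 (σ₂ z - z ^ (Nat.card k ^ r)) < 1 := by
  classical
  letI := Fintype.ofFinite k
  haveI : Module.Finite k k₂ := Module.Finite.of_finite
  haveI : Algebra.IsSeparable k k₂ := Algebra.IsAlgebraic.isSeparable_of_perfectField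
  set N := Nat.card k ^ r with hN
  have hcN : ∀ c : k₂, c ^ N = c := by
    intro c
    obtain ⟨t, ht⟩ := hδr
    letI : Fintype k₂ := Fintype.ofFinite _
    have hk₂card : Fintype.card k₂ = Nat.card k ^ Module.finrank k k₂ := by
      rw [← Nat.card_eq_fintype_card]
      exact Module.natCard_eq_pow_finrank
    rw [hN, ht, pow_mul, ← hk₂card]
    exact FiniteField.pow_card_pow t c
  have hFr : ∀ y : E₂, ((FiniteField.frobeniusAlgHom k E₂) ^ r) y = y ^ N := by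
    intro y
    rw [bb_frob_pow, ← Nat.card_eq_fintype_card]
  have hadd : ∀ a b : E₂, (a + b) ^ N = a ^ N + b ^ N := by
    intro a b
    rw [← hFr, map_add, hFr, hFr]
  letI : Algebra P.O E₂ := ((algebraMap E E₂).comp P.O.subtype).toAlgebra
  haveI : IsScalarTower P.O E E₂ := IsScalarTower.of_algebraMap_eq (fun _ => rfl)
  have hIC := Groth.Agent.Lib.Helper63.ConstExtUnram.integralClosure_eq hsurj hE P
  -- the predicate
  have hp : ∀ b ∈ Algebra.adjoin P.O (Set.range (algebraMap k₂ E₂)),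
      ∀ P₂' : Place k E₂, IsOver P₂' P → P₂'.1 b ≤ 1 ∧ P₂'.1 (σ₂ b - b ^ N) < 1 := by
    intro b hb
    induction hb using Algebra.adjoin_induction with
    | mem x hx =>
      obtain ⟨c, rfl⟩ := hx
      intro P₂' _
      refine ⟨cs_val_const_le_one P₂' c, ?_⟩
      rw [σ₂.commutes, ← map_pow, hcN, sub_self, map_zero]
      exact zero_lt_one
    | algebraMap a =>
      intro P₂' hP₂'
      obtain ⟨e, he⟩ := hP₂'
      change P₂'.1 (algebraMap E E₂ (a : E)) ≤ 1 ∧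
        P₂'.1 (σ₂ (algebraMap E E₂ (a : E)) - (algebraMap E E₂ (a : E)) ^ N) < 1
      rw [hσ₂, ← map_pow, ← map_sub, he, he]
      have he0 : e ≠ 0 := isOverWith_ne_zero he
      exact ⟨pow_le_one₀ zero_le a.2, pow_lt_one₀ zero_le (hP a.1 a.2) he0⟩
    | add x y _ _ hx hy =>
      intro P₂' hP₂'
      obtain ⟨hx1, hx2⟩ := hx P₂' hP₂'
      obtain ⟨hy1, hy2⟩ := hy P₂' hP₂'
      refine ⟨(Valuation.map_add _ _ _).trans (max_le hx1 hy1), ?_⟩
      have : σ₂ (x + y) - (x + y) ^ N = (σ₂ x - x ^ N) + (σ₂ y - y ^ N) := by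
        rw [map_add, hadd]; ring
      rw [this]
      exact Valuation.map_add_lt _ hx2 hy2
    | mul x y _ _ hx hy =>
      intro P₂' hP₂'
      obtain ⟨hx1, hx2⟩ := hx P₂' hP₂'
      obtain ⟨hy1, hy2⟩ := hy P₂' hP₂'
      refine ⟨by rw [map_mul]; exact mul_le_one' hx1 hy1, ?_⟩
      have hσx : P₂'.1 (σ₂ x) ≤ 1 := by
        have : σ₂ x = x ^ N + (σ₂ x - x ^ N) := by ring
        rw [this]
        refine (Valuation.map_add _ _ _).trans (max_le ?_ hx2.le)
        rw [map_pow]; exact pow_le_one₀ zero_le hx1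
      have : σ₂ (x * y) - (x * y) ^ N = σ₂ x * (σ₂ y - y ^ N) + y ^ N * (σ₂ x - x ^ N) := by
        rw [map_mul, mul_pow]; ring
      rw [this]
      apply Valuation.map_add_lt
      · rw [map_mul]
        calc P₂'.1 (σ₂ x) * P₂'.1 (σ₂ y - y ^ N) ≤ 1 * P₂'.1 (σ₂ y - y ^ N) :=
              mul_le_mul' hσx le_rfl
          _ < 1 := by rw [one_mul]; exact hy2
      · rw [map_mul, map_pow]
        calc P₂'.1 y ^ N * P₂'.1 (σ₂ x - x ^ N) ≤ 1 * P₂'.1 (σ₂ x - x ^ N) :=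
              mul_le_mul' (pow_le_one₀ zero_le hy1) le_rfl
          _ < 1 := by rw [one_mul]; exact hx2
  have hint : ∀ b : E₂, (∀ P₂' : Place k E₂, IsOver P₂' P → P₂'.1 b ≤ 1) →
      ∀ P₂' : Place k E₂, IsOver P₂' P → P₂'.1 b ≤ 1 ∧ P₂'.1 (σ₂ b - b ^ N) < 1 := by
    intro b hb
    apply hp
    rw [← hIC]
    exact (Groth.Agent.Lib.Helper63.LocResDual.isIntegral_iff hE P b).2 hb
  -- approximation
  have hfin := finite_setOf_isOver (K' := E₂) P
  set other := hfin.toFinset.erase P₂ with hother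
  obtain ⟨N₀, hN₀⟩ := ff_exists_nat_bound other z (fun _ => 0)
  obtain ⟨w, hw1, hw2⟩ := ff_exists_approx_one other P₂ (Finset.notMem_erase _ _) (N₀ + 1)
  have hexp1 : exp (-((N₀ + 1 : ℕ) : ℤ)) < 1 := by
    rw [← exp_zero, exp_lt_exp]; push_cast; omega
  have hexp2 : exp (-((N₀ + 1 : ℕ) : ℤ)) ≤ exp (-(N₀ : ℤ)) := by
    rw [exp_le_exp]; push_cast; omega
  have hw1' : P₂.1 (w - 1) < 1 := lt_of_le_of_lt hw1 hexp1
  have hwP₂ : P₂.1 w = 1 := by
    have : w = 1 + (w - 1) := by ring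
    rw [this]
    exact Valuation.map_one_add_of_lt _ hw1'
  have hw0 : w ≠ 0 := by
    rintro rfl
    rw [map_zero] at hwP₂
    exact zero_ne_one hwP₂
  have hwint : ∀ P₂' : Place k E₂, IsOver P₂' P → P₂'.1 w ≤ 1 := by
    intro P₂' hP₂'
    by_cases h : P₂' = P₂
    · rw [h, hwP₂]
    · have := hw2 P₂' (Finset.mem_erase.2 ⟨h, hfin.mem_toFinset.2 hP₂'⟩)
      exact this.trans hexp1.le
  have hwzint : ∀ P₂' : Place k E₂, IsOver P₂' P → P₂'.1 (w * z) ≤ 1 := by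
    intro P₂' hP₂'
    rw [map_mul]
    by_cases h : P₂' = P₂
    · rw [h, hwP₂, one_mul]; exact hz
    · have hmem : P₂' ∈ other := Finset.mem_erase.2 ⟨h, hfin.mem_toFinset.2 hP₂'⟩
      have h1 := hw2 P₂' hmem
      have h2 := hN₀ P₂' hmem
      rw [exp_zero] at h2
      exact (mul_le_mul' (h1.trans hexp2) le_rfl).trans h2
  obtain ⟨-, ha2⟩ := hint w hwint P₂ hover
  obtain ⟨hc1, hc2⟩ := hint (w * z) hwzint P₂ hover
  obtain ⟨c, hc⟩ : ∃ c, c = w * z := ⟨_, rfl⟩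
  rw [← hc] at hc1 hc2
  have hzc : z = c / w := by rw [hc]; field_simp
  have haN : P₂.1 (w ^ N) = 1 := by rw [map_pow, hwP₂, one_pow]
  have hσa : P₂.1 (σ₂ w) = 1 := by
    have : σ₂ w = w ^ N + (σ₂ w - w ^ N) := by ring
    rw [this, Valuation.map_add_eq_of_lt_left _ (by rw [haN]; exact ha2), haN]
  have hσa0 : σ₂ w ≠ 0 := fun h => by rw [h, map_zero] at hσa; exact zero_ne_one hσa
  have haN0 : w ^ N ≠ 0 := pow_ne_zero _ hw0
  have hkey : σ₂ z - z ^ N =
      ((σ₂ c - c ^ N) * w ^ N - c ^ N * (σ₂ w - w ^ N)) / (σ₂ w * w ^ N) := by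
    rw [hzc, map_div₀, div_pow, div_sub_div _ _ hσa0 haN0]
    congr 1
    ring
  have hden : P₂.1 (σ₂ w * w ^ N) = 1 := by rw [map_mul, hσa, haN, mul_one]
  rw [hkey, map_div₀, hden, div_one]
  apply Valuation.map_sub_lt
  · rw [map_mul, haN, mul_one]; exact hc2
  · rw [map_mul, map_pow]
    calc P₂.1 c ^ N * P₂.1 (σ₂ w - w ^ N) ≤ 1 * P₂.1 (σ₂ w - w ^ N) :=
          mul_le_mul' (pow_le_one₀ zero_le hc1) le_rfl
      _ < 1 := by rw [one_mul]; exact ha2


theorem cs_isCEG_of_bijective [FiniteDimensional k k₂]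
    (hbij : Function.Bijective (Algebra.TensorProduct.productMap
      (IsScalarTower.toAlgHom k k₂ E₂) (IsScalarTower.toAlgHom k E E₂))) : IsCEG k E k₂ E₂ := by
  refine ⟨?_, Groth.Agent.Lib.Helper63.ConstExtGeometric.finrank_eq hbij⟩
  rw [eq_top_iff]
  intro w hw
  clear hw
  obtain ⟨t, rfl⟩ := hbij.2 w
  induction t using TensorProduct.induction_on with
  | zero => rw [map_zero]; exact zero_mem _
  | add a b ha hb => rw [map_add]; exact add_mem ha hb
  | tmul c x =>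
    rw [Algebra.TensorProduct.productMap_apply_tmul]
    exact mul_mem (Algebra.subset_adjoin ⟨c, rfl⟩) (Subalgebra.algebraMap_mem _ x)

end Groth.Agent.Lib.Helper55

namespace Groth.Agent.Lib.Helper55

open FunFld Module WithZero TensorProduct
open Groth.Agent.Lib.Helper63.FunFldExt Groth.Agent.Lib.Helper63.FundIneq
  Groth.Agent.Lib.Helper63.Galois

universe u v

/-- Bombieri's bound for an arbitrary function field over a finite field (for `r` in an arithmetic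
progression and large). -/
theorem ff_bombieri_general {k : Type u} {E : Type v} [Field k] [Field E] [Algebra k E] [Finite k]
    (hE : IsFunctionField k E) :
    ∃ (M C r₀ : ℕ), 0 < M ∧ ∀ r, M ∣ r → r₀ ≤ r → ∀ σ : E ≃ₐ[k] E, ∀ T : Finset (Place k E),
      (∀ P ∈ T, FrobAt σ (Nat.card k ^ r) P) →
      ∑ P ∈ T, P.deg ≤ Nat.card k ^ r + C * Nat.card k ^ (r / 2) := by
  classical
  obtain ⟨R⟩ := ff_nonempty_place hE
  have hδ : 0 < R.deg := ff_deg_pos hE R
  obtain ⟨g, hgm, hgirr, hgdeg⟩ := exists_monic_irreducible_natDegree (k := k) R.deg hδ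
  obtain ⟨k₂, _, _, _, E₂, _, _, _, _, _, _, hfin, hbij⟩ := ce_exists_of_poly hE.2 g hgm hgirr
  rw [hgdeg] at hfin
  haveI : Finite k₂ := Module.finite_of_finite k
  have hE₂ : IsFunctionField k₂ E₂ := ce_isFunctionField hbij hE
  have hceg : IsCEG k E k₂ E₂ := cs_isCEG_of_bijective hbij
  haveI : FiniteDimensional E E₂ := cs_finite hceg
  haveI : Algebra.IsAlgebraic k k₂ := Algebra.IsAlgebraic.of_finite k k₂
  have hq : 2 ≤ Nat.card k := Finite.one_lt_card
  -- a rational place of `E₂`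
  have hfinR := finite_setOf_isOver (K' := E₂) R
  obtain ⟨hcardR, hdegR⟩ := cs_split hceg hE hE₂ R hfinR.toFinset (fun Q => hfinR.mem_toFinset)
  rw [hfin, Nat.gcd_self] at hcardR hdegR
  have hne : hfinR.toFinset.Nonempty := Finset.card_pos.1 (by rw [hcardR]; exact hδ)
  obtain ⟨Q, hQ⟩ := hne
  have hQ₀ : (cs_toConst (k' := k₂) Q).deg = 1 := by rw [hdegR Q hQ, Nat.div_self hδ]
  set g₂ := genus k₂ E₂ with hg₂
  have hq₂ : Nat.card k₂ = Nat.card k ^ R.deg := by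
    rw [Module.natCard_eq_pow_finrank (K := k) (V := k₂), hfin]
  refine ⟨2 * R.deg, 2 * g₂ + 2, 2 * ((g₂ + 1) ^ 2 + 1), by positivity, ?_⟩
  intro r hMr hr₀ σ T hT
  obtain ⟨s, hs⟩ := hMr
  obtain ⟨σ₂, hσ₂⟩ := cs_sigma_lift hbij σ
  have hexp : Nat.card k₂ ^ (2 * s) = Nat.card k ^ r := by
    rw [hq₂, ← pow_mul, hs]
    congr 1
    ring
  have hr2 : r / 2 = R.deg * s := by
    rw [hs, mul_assoc, Nat.mul_div_cancel_left _ (by norm_num : 0 < 2)]
  have hexp2 : Nat.card k₂ ^ s = Nat.card k ^ (r / 2) := by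
    rw [hq₂, ← pow_mul, hr2]
  let QsOf : Place k E → Finset (Place k E₂) := fun P =>
    (finite_setOf_isOver (K' := E₂) P).toFinset
  have hQsOf : ∀ P Q, Q ∈ QsOf P ↔ IsOver Q P := fun P Q => Set.Finite.mem_toFinset _
  let Qs' : Place k E → Finset (Place k₂ E₂) := fun P => (QsOf P).image (cs_toConst (k' := k₂))
  have hdisj : (T : Set (Place k E)).PairwiseDisjoint Qs' := by
    intro P₁ _ P₂ _ hne
    rw [Function.onFun, Finset.disjoint_left]
    intro Q' h1 h2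
    obtain ⟨Q₁, hQ₁, rfl⟩ := Finset.mem_image.1 h1
    obtain ⟨Q₂, hQ₂, h12⟩ := Finset.mem_image.1 h2
    have := cs_toConst_injective h12
    subst this
    exact hne (isOver_unique_below ((hQsOf P₁ _).1 hQ₁) ((hQsOf P₂ _).1 hQ₂))
  set T₂ : Finset (Place k₂ E₂) := T.biUnion Qs' with hT₂def
  have hsum : ∑ P ∈ T, P.deg = ∑ P₂ ∈ T₂, P₂.deg := by
    rw [hT₂def, Finset.sum_biUnion hdisj]
    refine Finset.sum_congr rfl fun P _ => ?_
    rw [Finset.sum_image (fun Q₁ _ Q₂ _ h12 => cs_toConst_injective h12)]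
    obtain ⟨hcard, hdeg⟩ := cs_split hceg hE hE₂ P (QsOf P) (hQsOf P)
    rw [Finset.sum_congr rfl (fun Q hQ => by rw [hdeg Q hQ]), Finset.sum_const, hcard, smul_eq_mul]
    exact (Nat.mul_div_cancel' (Nat.gcd_dvd_left _ _)).symm
  have hT₂ : ∀ P₂ ∈ T₂, FrobAt σ₂ (Nat.card k₂ ^ (2 * s)) P₂ := by
    intro P₂ hP₂
    rw [hT₂def, Finset.mem_biUnion] at hP₂
    obtain ⟨P, hP, hP₂'⟩ := hP₂
    obtain ⟨Q', hQ', rfl⟩ := Finset.mem_image.1 hP₂'
    intro z hz
    rw [hexp]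
    exact cs_frobAt_lift hbij.2 hE σ σ₂ hσ₂ r (by rw [hfin, hs]; exact ⟨2 * s, by ring⟩)
      (hT P hP) ((hQsOf P Q').1 hQ') z hz
  have hs' : (g₂ + 1) ^ 2 < Nat.card k₂ ^ s := by
    rw [hexp2]
    have h1 : (g₂ + 1) ^ 2 + 1 ≤ r / 2 := by omega
    calc (g₂ + 1) ^ 2 < r / 2 := by omega
      _ < 2 ^ (r / 2) := Nat.lt_two_pow_self
      _ ≤ Nat.card k ^ (r / 2) := Nat.pow_le_pow_left hq _
  have hmain := ff_bombieri hE₂ (cs_toConst (k' := k₂) Q) hQ₀ σ₂ s hs' T₂ hT₂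
  rw [hsum]
  rw [hexp, hexp2, ← hg₂] at hmain
  have h1 : 1 ≤ Nat.card k ^ (r / 2) := Nat.one_le_pow _ _ (by omega)
  calc ∑ P₂ ∈ T₂, P₂.deg ≤ Nat.card k ^ r + (2 * g₂ + 1) * Nat.card k ^ (r / 2) + 1 := hmain
    _ ≤ Nat.card k ^ r + (2 * g₂ + 2) * Nat.card k ^ (r / 2) := by
      have : (2 * g₂ + 2) * Nat.card k ^ (r / 2) =
          (2 * g₂ + 1) * Nat.card k ^ (r / 2) + Nat.card k ^ (r / 2) := by ring
      omega

end Groth.Agent.Lib.Helper55
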