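import Groth.Agent.Lib.Helper55.FunFld.IntMult

/-!
# Nonsingularity via codimension two of `W ∩ L([φ] - P - Q)` (S11055)
-/

open FunFld Module

namespace Groth.Agent.Lib.Helper55

variable {k K : Type*} [Field k] [Field K] [Algebra k K]

/-- One step `A ↦ A - Q` cuts the dimension of `W ∩ L(A)` by one exactly when some element of
`W ∩ L(A)` has exact order `-A(Q)` at `Q`. -/
theorem ff_finrank_inf_sub_single [IsAlgClosed k] (hK : IsFunctionField k K) (W : Submodule k K)
    (A : Divisor k K) (Q : Place k K) {v : K} (hv : v ∈ W ⊓ L A)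
    (hv' : v ∉ L (A - Finsupp.single Q 1)) :
    finrank k ↥(W ⊓ L (A - Finsupp.single Q 1)) + 1 = finrank k ↥(W ⊓ L A) := by
  classical
  have hfd1 := ff_L_finiteDimensional hK A
  have hfd2 := ff_L_finiteDimensional hK (A - Finsupp.single Q 1)
  have hle : W ⊓ L (A - Finsupp.single Q 1) ≤ W ⊓ L A :=
    inf_le_inf_left W (ff_L_mono (sub_le_self A (ff_single_nonneg Q)))
  have hvQ : Q.1 v = WithZero.exp (A Q) := by
    refine le_antisymm ((ff_mem_L_iff A v).mp hv.2 Q) ?_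
    by_contra hlt
    push Not at hlt
    exact hv' ((ff_mem_L_sub_single_iff A Q v).mpr ⟨hv.2, hlt⟩)
  have hv0 : v ≠ 0 := by
    intro h0
    rw [h0, map_zero] at hvQ
    exact WithZero.exp_ne_zero hvQ.symm
  have hsup : W ⊓ L A = (W ⊓ L (A - Finsupp.single Q 1)) ⊔ Submodule.span k {v} := by
    refine le_antisymm ?_ (sup_le hle ((Submodule.span_singleton_le_iff_mem v _).mpr hv))
    intro u hu
    have huQ : Q.1 (u / v) ≤ 1 := by
      rw [map_div₀, hvQ]
      exact (div_le_one₀ (zero_lt_iff.mpr WithZero.exp_ne_zero)).mpr ((ff_mem_L_iff A u).mp hu.2 Q)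
    obtain ⟨c, hc⟩ := ff_exists_const_approx hK Q huQ
    have hdiff : u - c • v ∈ W ⊓ L (A - Finsupp.single Q 1) := by
      have h1 : u - c • v ∈ W ⊓ L A := Submodule.sub_mem _ hu (Submodule.smul_mem _ c hv)
      refine ⟨h1.1, (ff_mem_L_sub_single_iff A Q _).mpr ⟨h1.2, ?_⟩⟩
      have h2 : u - c • v = (u / v - algebraMap k K c) * v := by
        rw [sub_mul, div_mul_cancel₀ _ hv0, Algebra.smul_def]
      rw [h2, map_mul, hvQ]
      calc Q.1 (u / v - algebraMap k K c) * WithZero.exp (A Q)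
          < 1 * WithZero.exp (A Q) := by
            exact mul_lt_mul_of_pos_right hc (zero_lt_iff.mpr WithZero.exp_ne_zero)
        _ = WithZero.exp (A Q) := one_mul _
    have : u = (u - c • v) + c • v := by ring
    rw [this]
    exact Submodule.add_mem _ (Submodule.mem_sup_left hdiff)
      (Submodule.mem_sup_right (Submodule.smul_mem _ c (Submodule.mem_span_singleton_self v)))
  have hdisj : (W ⊓ L (A - Finsupp.single Q 1)) ⊓ Submodule.span k {v} = ⊥ := by
    rw [← disjoint_iff, Submodule.disjoint_span_singleton' hv0]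
    exact fun h => hv' h.2
  have h1 := Submodule.finrank_sup_add_finrank_inf_eq (W ⊓ L (A - Finsupp.single Q 1))
    (Submodule.span k {v})
  rw [← hsup, hdisj, finrank_bot, finrank_span_singleton hv0] at h1
  omega

theorem ff_inf_sub_single_eq (W : Submodule k K) (A : Divisor k K) (Q : Place k K)
    (h : ∀ v ∈ W ⊓ L A, v ∈ L (A - Finsupp.single Q 1)) :
    W ⊓ L (A - Finsupp.single Q 1) = W ⊓ L A :=
  le_antisymm (inf_le_inf_left W (ff_L_mono (sub_le_self A (ff_single_nonneg Q))))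
    fun v hv => ⟨hv.1, h v hv⟩

theorem ff_exp_mapDiv (hK : IsFunctionField k K) {ι : Type*} [Fintype ι] [Nonempty ι]
    (φ : ι → K) (hφ0 : ∀ i, φ i ≠ 0) (Q : Place k K) (j : ι)
    (hmax : ∀ i, Q.1 (φ i) ≤ Q.1 (φ j)) : WithZero.exp (mapDiv k φ Q) = Q.1 (φ j) := by
  rw [ff_mapDiv_eq_neg_ord hK φ hφ0 Q j hmax, ff_val_eq_exp_neg_ord Q (hφ0 j)]

theorem ff_exists_max_index {ι : Type*} [Fintype ι] [Nonempty ι] (φ : ι → K) (Q : Place k K) :
    ∃ j, ∀ i, Q.1 (φ i) ≤ Q.1 (φ j) := by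
  classical
  obtain ⟨j, -, hj⟩ := Finset.exists_max_image Finset.univ (fun i => Q.1 (φ i))
    Finset.univ_nonempty
  exact ⟨j, fun i => hj i (Finset.mem_univ i)⟩

/-- Places with the same image point are not separated by the linear system. -/
theorem ff_not_separated_of_sameImage {ι : Type*} (φ : ι → K) (P Q : Place k K)
    (h : SameImage φ P Q) {v : K} (hv : v ∈ Submodule.span k (Set.range φ)) :
    ∃ j, φ j ≠ 0 ∧ (∀ i, P.1 (φ i) ≤ P.1 (φ j)) ∧ (∀ i, Q.1 (φ i) ≤ Q.1 (φ j)) ∧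
      (P.1 v < P.1 (φ j) → Q.1 v < Q.1 (φ j)) := by
  obtain ⟨j', hj'0, hmaxP, hmaxQ, hcc⟩ := h
  refine ⟨j', hj'0, hmaxP, hmaxQ, fun hlt => ?_⟩
  have hvR : v / φ j' ∈ Algebra.adjoin k (Set.range fun i => φ i / φ j') :=
    ff_div_mem_adjoin_of_mem_span φ (φ j') hv
  obtain ⟨cbar, hcP, hcQ⟩ := ff_adjoin_const_approx P Q _ hcc hvR
  have h1 : P.1 (v / φ j') < 1 := by
    rw [map_div₀]
    exact (div_lt_one₀ (zero_lt_iff.mpr (ff_val_ne_zero P hj'0))).mpr hlt
  have h2 : cbar = 0 := (ff_val_lt_one_iff_const_zero P hcP).mp h1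
  have h3 : Q.1 (v / φ j') < 1 := (ff_val_lt_one_iff_const_zero Q hcQ).mpr h2
  rw [map_div₀] at h3
  exact (div_lt_one₀ (zero_lt_iff.mpr (ff_val_ne_zero Q hj'0))).mp h3

/-- If the linear system does not separate `P` from `Q`, they have the same image point. -/
theorem ff_sameImage_of_not_separated [IsAlgClosed k] (hK : IsFunctionField k K) {ι : Type*}
    (φ : ι → K) (hφ0 : ∀ i, φ i ≠ 0) (P Q : Place k K) (j jQ : ι)
    (hmaxP : ∀ i, P.1 (φ i) ≤ P.1 (φ j)) (hmaxQ : ∀ i, Q.1 (φ i) ≤ Q.1 (φ jQ))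
    (h : ∀ v ∈ Submodule.span k (Set.range φ), P.1 v < P.1 (φ j) → Q.1 v < Q.1 (φ jQ)) :
    SameImage φ P Q := by
  have hj0 : φ j ≠ 0 := hφ0 j
  have hxP : ∀ i, P.1 (φ i / φ j) ≤ 1 := by
    intro i
    rw [map_div₀]
    exact (div_le_one₀ (zero_lt_iff.mpr (ff_val_ne_zero P hj0))).mpr (hmaxP i)
  choose b hb using fun i => ff_exists_const_approx hK P (hxP i)
  have hvmem : ∀ i, φ i - b i • φ j ∈ Submodule.span k (Set.range φ) := fun i =>
    Submodule.sub_mem _ (Submodule.subset_span ⟨i, rfl⟩)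
      (Submodule.smul_mem _ _ (Submodule.subset_span ⟨j, rfl⟩))
  have hveq : ∀ i, φ i - b i • φ j = (φ i / φ j - algebraMap k K (b i)) * φ j := by
    intro i
    rw [sub_mul, div_mul_cancel₀ _ hj0, Algebra.smul_def]
  have hvP : ∀ i, P.1 (φ i - b i • φ j) < P.1 (φ j) := by
    intro i
    rw [hveq i, map_mul]
    calc P.1 (φ i / φ j - algebraMap k K (b i)) * P.1 (φ j) < 1 * P.1 (φ j) :=
          mul_lt_mul_of_pos_right (hb i) (zero_lt_iff.mpr (ff_val_ne_zero P hj0))
      _ = P.1 (φ j) := one_mul _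
  have hvQ : ∀ i, Q.1 (φ i - b i • φ j) < Q.1 (φ jQ) := fun i => h _ (hvmem i) (hvP i)
  -- `j` has least order at `Q` too
  have hjQ : Q.1 (φ jQ) ≤ Q.1 (φ j) := by
    by_contra hlt
    push Not at hlt
    have h1 := hvQ jQ
    have h2 : Q.1 (b jQ • φ j) < Q.1 (φ jQ) := by
      rw [Algebra.smul_def, map_mul]
      calc Q.1 (algebraMap k K (b jQ)) * Q.1 (φ j) ≤ 1 * Q.1 (φ j) :=
            mul_le_mul' (Q.2.1 _) le_rfl
        _ = Q.1 (φ j) := one_mul _
        _ < Q.1 (φ jQ) := hlt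
    have h3 : Q.1 (φ jQ - b jQ • φ j) = Q.1 (φ jQ) := by
      rw [sub_eq_add_neg]
      exact Valuation.map_add_eq_of_lt_left Q.1 (by rwa [Valuation.map_neg])
    rw [h3] at h1
    exact lt_irrefl _ h1
  have hmaxQ' : ∀ i, Q.1 (φ i) ≤ Q.1 (φ j) := fun i => (hmaxQ i).trans hjQ
  refine ⟨j, hj0, hmaxP, hmaxQ', fun i => ⟨b i, hb i, ?_⟩⟩
  have h1 : Q.1 (φ i - b i • φ j) < Q.1 (φ j) := lt_of_lt_of_le (hvQ i) hjQ
  rw [hveq i, map_mul] at h1
  by_contra hcon
  push Not at hcon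
  have : 1 * Q.1 (φ j) ≤ Q.1 (φ i / φ j - algebraMap k K (b i)) * Q.1 (φ j) :=
    mul_le_mul' hcon le_rfl
  rw [one_mul] at this
  exact absurd (lt_of_le_of_lt this h1) (lt_irrefl _)

/-- S11055. -/
theorem ff_isNonsingularAt_iff_codim_two [IsAlgClosed k] (hK : IsFunctionField k K) {n : ℕ}
    (hn : 1 ≤ n) (φ : Fin (n + 1) → K) (hφ : LinearIndependent k φ) (P : Place k K) :
    IsNonsingularAt φ P ↔ ∀ Q : Place k K,
      finrank k ↥(Submodule.span k (Set.range φ) ⊓
          L (mapDiv k φ - Finsupp.single P 1 - Finsupp.single Q 1)) + 2 =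
        finrank k ↥(Submodule.span k (Set.range φ)) := by
  classical
  have hφ0 : ∀ i, φ i ≠ 0 := fun i => hφ.ne_zero i
  set W := Submodule.span k (Set.range φ) with hW
  set D := mapDiv k φ with hD
  obtain ⟨j, hmax⟩ := ff_exists_max_index φ P
  have hj0 : φ j ≠ 0 := hφ0 j
  have hDP : WithZero.exp (D P) = P.1 (φ j) := ff_exp_mapDiv hK φ hφ0 P j hmax
  have hWL : W ≤ L D := by
    intro v hv
    rw [ff_mem_L_iff]
    intro Q
    obtain ⟨jQ, hmaxQ⟩ := ff_exists_max_index φ Q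
    rw [hD, ff_exp_mapDiv hK φ hφ0 Q jQ hmaxQ]
    exact ff_span_val_le φ Q hmaxQ hv
  have hWD : W ⊓ L D = W := inf_eq_left.mpr hWL
  -- step one: `W ∩ L(D - P)` has codimension one
  have hjW : φ j ∈ W := Submodule.subset_span ⟨j, rfl⟩
  have hstep1 : finrank k ↥(W ⊓ L (D - Finsupp.single P 1)) + 1 = finrank k ↥W := by
    have := ff_finrank_inf_sub_single hK W D P (v := φ j) ⟨hjW, hWL hjW⟩ (by
      rw [ff_mem_L_sub_single_iff, hDP]
      exact fun h => lt_irrefl _ h.2)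
    rwa [hWD] at this
  -- membership in `W ∩ L(D - P)`
  have hmemP : ∀ v, v ∈ W ⊓ L (D - Finsupp.single P 1) ↔ v ∈ W ∧ P.1 v < P.1 (φ j) := by
    intro v
    rw [Submodule.mem_inf, ff_mem_L_sub_single_iff, hDP]
    exact ⟨fun h => ⟨h.1, h.2.2⟩, fun h => ⟨h.1, hWL h.1, h.2⟩⟩
  -- the condition `C(Q)`
  have hC : ∀ Q : Place k K,
      (finrank k ↥(W ⊓ L (D - Finsupp.single P 1 - Finsupp.single Q 1)) + 2 = finrank k ↥W) ↔
        ∃ v ∈ W ⊓ L (D - Finsupp.single P 1),
          v ∉ L (D - Finsupp.single P 1 - Finsupp.single Q 1) := by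
    intro Q
    constructor
    · intro h
      by_contra hcon
      push Not at hcon
      rw [ff_inf_sub_single_eq W (D - Finsupp.single P 1) Q hcon] at h
      omega
    · rintro ⟨v, hv, hv'⟩
      have := ff_finrank_inf_sub_single hK W (D - Finsupp.single P 1) Q hv hv'
      omega
  simp only [hC]
  rw [ff_isNonsingularAt_iff_fibre_uniformizer hK hn φ hφ P]
  -- local parameter in the local ring vs. `C(P)`
  have hxP : ∀ i, P.1 (φ i / φ j) ≤ 1 := by
    intro i
    rw [map_div₀]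
    exact (div_le_one₀ (zero_lt_iff.mpr (ff_val_ne_zero P hj0))).mpr (hmax i)
  have hDPP : (D - Finsupp.single P 1 : Divisor k K) P = D P - 1 := by
    rw [Finsupp.sub_apply, Finsupp.single_eq_same]
  have hDPQ : ∀ Q : Place k K, Q ≠ P → (D - Finsupp.single P 1 : Divisor k K) Q = D Q := by
    intro Q hQ
    rw [Finsupp.sub_apply, Finsupp.single_apply, if_neg (Ne.symm hQ), sub_zero]
  have hexpm1 : WithZero.exp (D P - 1) = WithZero.exp (-1 : ℤ) * P.1 (φ j) := by
    rw [← hDP, ← WithZero.exp_add]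
    congr 1
    ring
  constructor
  · rintro ⟨H1, t, htL, htv⟩ Q
    by_cases hQP : Q = P
    · subst hQP
      -- a local parameter in the span of the ratios
      set φ' : Fin (n + 1) → K := fun i => φ i / φ j with hφ'
      have hφ'j : φ' j = 1 := div_self hj0
      have heff : (1 : K) ∈ Submodule.span k (Set.range φ') :=
        Submodule.subset_span ⟨j, hφ'j⟩
      have hratio : (fun i => φ' i / φ' j) = fun i => φ i / φ j := by
        funext i
        rw [hφ'j, div_one]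
      have htL' : InLocRing φ' Q t := by
        rw [ff_inLocRing_iff φ' Q j (by rw [hφ'j]; exact one_ne_zero)
          (fun i => by rw [hφ'j, map_one]; exact hxP i), hratio]
        exact (ff_inLocRing_iff φ Q j hj0 hmax t).mp htL
      obtain ⟨t', ht'S, ht'v⟩ :=
        (ff_exists_uniformizer_inLocRing_iff hK φ' Q heff hxP).mp ⟨t, htL', htv⟩
      obtain ⟨c, hc⟩ := (Submodule.mem_span_range_iff_exists_fun k).mp ht'S
      have hl : ∑ i, c i • φ i = t' * φ j := by
        rw [← hc, Finset.sum_mul]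
        refine Finset.sum_congr rfl fun i _ => ?_
        rw [hφ', smul_mul_assoc, div_mul_cancel₀ _ hj0]
      have hvW : t' * φ j ∈ W := by
        rw [← hl]
        exact Submodule.sum_mem _ fun i _ =>
          Submodule.smul_mem _ _ (Submodule.subset_span ⟨i, rfl⟩)
      have hvval : Q.1 (t' * φ j) = WithZero.exp (-1 : ℤ) * Q.1 (φ j) := by
        rw [map_mul, ht'v]
      have hlt : WithZero.exp (-1 : ℤ) * Q.1 (φ j) < Q.1 (φ j) := by
        calc WithZero.exp (-1 : ℤ) * Q.1 (φ j) < 1 * Q.1 (φ j) :=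
              mul_lt_mul_of_pos_right (by rw [← WithZero.exp_zero, WithZero.exp_lt_exp]; norm_num)
                (zero_lt_iff.mpr (ff_val_ne_zero Q hj0))
          _ = Q.1 (φ j) := one_mul _
      refine ⟨t' * φ j, (hmemP _).mpr ⟨hvW, by rw [hvval]; exact hlt⟩, ?_⟩
      rw [ff_mem_L_sub_single_iff, hDPP, hexpm1, hvval]
      exact fun h => lt_irrefl _ h.2
    · -- `Q ≠ P`: separation
      by_contra hcon
      push Not at hcon
      obtain ⟨jQ, hmaxQ⟩ := ff_exists_max_index φ Q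
      have hDQ : WithZero.exp (D Q) = Q.1 (φ jQ) := ff_exp_mapDiv hK φ hφ0 Q jQ hmaxQ
      have hsame : SameImage φ P Q := by
        refine ff_sameImage_of_not_separated hK φ hφ0 P Q j jQ hmax hmaxQ fun v hvW hvP => ?_
        have h1 := hcon v ((hmemP v).mpr ⟨hvW, hvP⟩)
        rw [ff_mem_L_sub_single_iff, hDPQ Q hQP, hDQ] at h1
        exact h1.2
      exact hQP (H1 Q fun z hz => ((ff_sameImage_iff hK φ hφ P Q).mp hsame z hz).1)
  · intro hall
    refine ⟨fun Q hQ => ff_H1_of_fibre hK φ hφ0 P (fun Q' hsame => ?_) Q hQ, ?_⟩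
    · by_contra hne
      obtain ⟨v, hv, hv'⟩ := hall Q'
      obtain ⟨hvW, hvP⟩ := (hmemP v).mp hv
      obtain ⟨j', hj'0, hmaxP', hmaxQ', himp⟩ := ff_not_separated_of_sameImage φ P Q' hsame hvW
      have hPj : P.1 (φ j') = P.1 (φ j) := le_antisymm (hmax j') (hmaxP' j)
      have h1 : Q'.1 v < Q'.1 (φ j') := himp (by rw [hPj]; exact hvP)
      apply hv'
      rw [ff_mem_L_sub_single_iff, hDPQ Q' hne, hD, ff_exp_mapDiv hK φ hφ0 Q' j' hmaxQ']
      exact ⟨hv.2, h1⟩
    · obtain ⟨v, hv, hv'⟩ := hall P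
      obtain ⟨hvW, hvP⟩ := (hmemP v).mp hv
      have hvval : P.1 v = WithZero.exp (-1 : ℤ) * P.1 (φ j) := by
        have h1 : P.1 v ≤ WithZero.exp (D P - 1) := by
          have := (ff_mem_L_iff _ _).mp hv.2 P
          rwa [hDPP] at this
        refine le_antisymm (by rwa [hexpm1] at h1) ?_
        by_contra hlt
        push Not at hlt
        apply hv'
        rw [ff_mem_L_sub_single_iff, hDPP, hexpm1]
        exact ⟨hv.2, hlt⟩
      refine ⟨v / φ j, ⟨j, hj0, hmax, v / φ j, ff_div_mem_adjoin_of_mem_span φ (φ j) hvW, 1,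
        Subalgebra.one_mem _, map_one _, mul_one _⟩, ?_⟩
      rw [map_div₀, hvval, mul_div_assoc, div_self (ff_val_ne_zero P hj0), mul_one]

end Groth.Agent.Lib.Helper55
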