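import Groth.Agent.Lib.Helper55.FunFld.Codim

/-!
# A birational projective map is nonsingular at all but finitely many places (S11058)
-/

open FunFld Module

namespace Groth.Agent.Lib.Helper55

variable {k K : Type*} [Field k] [Field K] [Algebra k K]

theorem ff_coeff_le_deg (hK : IsFunctionField k K) {D : Divisor k K} (hD : 0 ≤ D)
    (Q : Place k K) : D Q ≤ D.deg := by
  classical
  have h1 : (Finsupp.single Q (D Q) : Divisor k K) ≤ D := by
    intro R'
    rw [Finsupp.single_apply]
    split_ifs with hR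
    · subst hR; exact le_rfl
    · exact hD R'
  have h2 := ff_deg_mono h1
  rw [ff_deg_single] at h2
  have h3 := ff_deg_pos hK Q
  have h4 : 0 ≤ D Q := hD Q
  have h5 : (1 : ℤ) ≤ (Q.deg : ℤ) := by exact_mod_cast h3
  nlinarith

/-- An element integral outside the support of the effective divisor `E'` lies in some
`L(M E')`. -/
theorem ff_mem_L_nsmul_of_integral_outside (hK : IsFunctionField k K) {E' : Divisor k K}
    (hE' : 0 ≤ E') {y : K} (hy : ∀ Q : Place k K, E' Q = 0 → Q.1 y ≤ 1) :
    ∃ M : ℕ, y ∈ L (M • E') := by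
  refine ⟨(ff_poleDiv y : Divisor k K).deg.toNat, ?_⟩
  rw [ff_mem_L_iff]
  intro Q
  have hpd0 : (0 : Divisor k K) ≤ ff_poleDiv y := ff_poleDiv_nonneg y
  by_cases hQ : E' Q = 0
  · rw [Finsupp.smul_apply, hQ, smul_zero, WithZero.exp_zero]
    exact hy Q hQ
  · refine (ff_val_le_exp_poleDiv hK y Q).trans (WithZero.exp_le_exp.mpr ?_)
    have h1 := ff_coeff_le_deg hK hpd0 Q
    have h2 : (1 : ℤ) ≤ E' Q := by
      have := hE' Q
      simp only [Finsupp.coe_zero, Pi.zero_apply] at this
      omega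
    have h3 : 0 ≤ (ff_poleDiv y : Divisor k K).deg := ff_deg_nonneg hpd0
    rw [Finsupp.smul_apply, nsmul_eq_mul, Int.toNat_of_nonneg h3]
    nlinarith

/-- **Finite generation**: over any subalgebra `S ⊇ k[x]` over which the functions integral
outside the poles of the `x i` are integral, these functions lie in a subalgebra which is a
finitely generated `S`-module. -/
theorem ff_exists_fg_subalgebra [IsAlgClosed k] (hK : IsFunctionField k K)
    {ι : Type*} [Fintype ι] (x : ι → K) (i₀ : ι) (hi₀ : Transcendental k (x i₀))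
    (S : Subalgebra k K)
    (hint : ∀ y : K, (∀ Q : Place k K, (∀ i, Q.1 (x i) ≤ 1) → Q.1 y ≤ 1) → IsIntegral S y) :
    ∃ B : Subalgebra S K, (Subalgebra.toSubmodule B).FG ∧
      ∀ y : K, (∀ Q : Place k K, (∀ i, Q.1 (x i) ≤ 1) → Q.1 y ≤ 1) → y ∈ B := by
  classical
  set g := genus k K with hg
  set E₀ : Divisor k K := ∑ i, ff_poleDiv (x i) with hE₀
  set E' : Divisor k K := (2 * g + 1) • E₀ with hE'
  have hE₀0 : 0 ≤ E₀ := Finset.sum_nonneg fun i _ => ff_poleDiv_nonneg (x i)
  have hE'0 : 0 ≤ E' := nsmul_nonneg hE₀0 _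
  have hpd_le : ∀ i, (ff_poleDiv (x i) : Divisor k K) ≤ E₀ := fun i =>
    Finset.single_le_sum (f := fun i => (ff_poleDiv (x i) : Divisor k K))
      (fun i _ => ff_poleDiv_nonneg (x i)) (Finset.mem_univ i)
  -- the support of `E'` is the set of poles of the `x i`
  have hE'zero : ∀ Q : Place k K, E' Q = 0 ↔ ∀ i, Q.1 (x i) ≤ 1 := by
    intro Q
    have h1 : E' Q = 0 ↔ E₀ Q = 0 := by
      rw [hE', Finsupp.smul_apply, smul_eq_zero]
      constructor
      · rintro (h | h)
        · omega
        · exact h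
      · exact fun h => Or.inr h
    rw [h1, hE₀, Finsupp.finsetSum_apply]
    rw [Finset.sum_eq_zero_iff_of_nonneg (fun i _ => ff_poleDiv_nonneg (x i) Q)]
    constructor
    · intro h i
      have h2 := h i (Finset.mem_univ i)
      have h3 := ff_val_le_exp_poleDiv hK (x i) Q
      rwa [h2, WithZero.exp_zero] at h3
    · intro h i _
      rw [ff_poleDiv_apply hK]
      by_cases h0 : x i = 0
      · rw [h0]; simp [ff_ord_zero]
      · have := (ff_ord_nonneg_iff Q h0).mpr (h i)
        omega
  have hdegE₀ : 1 ≤ E₀.deg := by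
    have h1 := ff_deg_mono (hpd_le i₀)
    rw [ff_deg_poleDiv hK hi₀] at h1
    have := ff_finite_of_transcendental hK hi₀
    have h2 : 0 < Module.finrank (IntermediateField.adjoin k ({x i₀} : Set K)) K :=
      Module.finrank_pos
    omega
  have hdegE' : 2 * (g : ℤ) + 1 ≤ E'.deg := by
    rw [hE', ff_deg_nsmul]
    push_cast
    nlinarith
  -- a general element of `L(E')`
  have hbpf : ∀ Q : Place k K, E' Q ≠ 0 → ∃ y ∈ L E', y ∉ L (E' - Finsupp.single Q 1) := by
    intro Q _
    apply ff_exists_mem_not_mem_of_ell_lt hK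
    have h1 := ff_ell_eq_of_deg_ge hK E' (by omega)
    have h2 := ff_ell_eq_of_deg_ge hK (E' - Finsupp.single Q 1) (by
      rw [ff_deg_sub, ff_deg_single, ff_deg_eq_one_of_isAlgClosed hK Q]; push_cast; omega)
    rw [ff_deg_sub, ff_deg_single, ff_deg_eq_one_of_isAlgClosed hK Q] at h2
    push_cast at h2
    omega
  obtain ⟨t, htL, htgen⟩ := ff_exists_general E' hbpf
  obtain ⟨Q₀, hQ₀⟩ : ∃ Q, E' Q ≠ 0 := by
    by_contra hcon
    push Not at hcon
    have : E' = 0 := Finsupp.ext hcon
    rw [this, ff_deg_zero] at hdegE'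
    omega
  have ht0 : t ≠ 0 := by
    rintro rfl
    have := htgen Q₀ hQ₀
    rw [map_zero] at this
    exact WithZero.exp_ne_zero this.symm
  set m₀ : ℕ := 2 * g + 1 with hm₀
  have hfd := ff_L_finiteDimensional hK (m₀ • E')
  obtain ⟨s, hs⟩ := (Submodule.fg_iff_finiteDimensional (L (m₀ • E'))).mpr hfd
  have hLint : ∀ (m : ℕ) (y : K), y ∈ L (m • E') →
      ∀ Q : Place k K, (∀ i, Q.1 (x i) ≤ 1) → Q.1 y ≤ 1 := by
    intro m y hy Q hQ
    have := (ff_mem_L_iff _ _).mp hy Q
    rwa [Finsupp.smul_apply, (hE'zero Q).mpr hQ, smul_zero, WithZero.exp_zero] at this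
  set B := Algebra.adjoin S (s : Set K) with hB
  have hFG : (Subalgebra.toSubmodule B).FG :=
    fg_adjoin_of_finite s.finite_toSet fun y hy =>
      hint y (hLint m₀ y (hs ▸ Submodule.subset_span hy))
  have hLm₀ : ∀ y ∈ L (m₀ • E'), y ∈ B := by
    intro y hy
    rw [← hs] at hy
    induction hy using Submodule.span_induction with
    | mem y hy => exact Algebra.subset_adjoin hy
    | zero => exact Subalgebra.zero_mem _
    | add a b _ _ ha hb => exact Subalgebra.add_mem _ ha hb
    | smul c a _ ha =>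
      have := Subalgebra.smul_mem B ha (algebraMap k S c)
      rwa [algebraMap_smul] at this
  have hLm : ∀ m, m₀ ≤ m → ∀ y ∈ L (m • E'), y ∈ B := by
    intro m hm
    induction m, hm using Nat.le_induction with
    | base => exact hLm₀
    | succ m hm ih =>
      intro y hy
      have hF : 2 * (genus k K : ℤ) - 1 ≤ (m • E' - E').deg := by
        rw [ff_deg_sub, ff_deg_nsmul]
        have h1 : (2 * (g : ℤ) + 1 : ℤ) ≤ m := by exact_mod_cast hm
        have h2 : (1 : ℤ) ≤ E'.deg := by omega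
        nlinarith [mul_nonneg (sub_nonneg.mpr h1) (sub_nonneg.mpr h2),
          mul_nonneg (Int.natCast_nonneg g) (sub_nonneg.mpr h2)]
      have e : (m + 1) • E' = E' + m • E' := by rw [succ_nsmul, add_comm]
      rw [e, ff_pencil hK hE'0 htL ht0 htgen (m • E') hF] at hy
      obtain ⟨a, ha, b', ⟨b, hb, rfl⟩, rfl⟩ := Submodule.mem_sup.mp hy
      refine Subalgebra.add_mem _ (ih a ha) ?_
      have htB : t ∈ B := hLm₀ t (ff_L_mono (by
        calc E' = 1 • E' := (one_nsmul _).symm
          _ ≤ m₀ • E' := nsmul_le_nsmul_left hE'0 (by omega)) htL)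
      exact Subalgebra.mul_mem _ htB (ih b hb)
  refine ⟨B, hFG, fun y hy => ?_⟩
  obtain ⟨M, hM⟩ := ff_mem_L_nsmul_of_integral_outside hK hE'0
    (fun Q hQ => hy Q ((hE'zero Q).mp hQ))
  exact hLm _ (le_max_right M m₀) y
    (ff_L_mono (nsmul_le_nsmul_left hE'0 (le_max_left _ _)) hM)

/-- S11058: a birational projective map is nonsingular at all but finitely many places. -/
theorem ff_finite_singular_places [IsAlgClosed k] (hK : IsFunctionField k K) {n : ℕ}
    (hn : 1 ≤ n) (φ : Fin (n + 1) → K) (hφ : LinearIndependent k φ)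
    (hbir : IntermediateField.adjoin k (Set.range fun i => φ i / φ 0) = ⊤) :
    {P : Place k K | ¬ IsNonsingularAt φ P}.Finite := by
  classical
  have hφ0 : ∀ i, φ i ≠ 0 := fun i => hφ.ne_zero i
  set x : Fin (n + 1) → K := fun i => φ i / φ 0 with hx
  obtain ⟨i₀, hi₀⟩ := ff_exists_ratio_transcendental hK hn φ hφ 0
  -- integrality over `k[x]`
  have hint : ∀ y : K, (∀ Q : Place k K, (∀ i, Q.1 (x i) ≤ 1) → Q.1 y ≤ 1) →
      IsIntegral (Algebra.adjoin k (Set.range x)) y := by
    intro y hy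
    apply ff_isIntegral_of_valuationSubring
    intro V hV
    by_cases hVtop : V = ⊤
    · rw [hVtop]; trivial
    · obtain ⟨Q, hQ⟩ := ff_exists_place_of_valuationSubring hK V
        (fun c => hV _ (Subalgebra.algebraMap_mem _ c)) hVtop
      rw [← hQ]
      refine (Valuation.mem_valuationSubring_iff _ _).mpr (hy Q fun i => ?_)
      have := hV _ (Algebra.subset_adjoin ⟨i, rfl⟩ : x i ∈ Algebra.adjoin k (Set.range x))
      rw [← hQ] at this
      exact (Valuation.mem_valuationSubring_iff _ _).mp this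
  obtain ⟨B, hFG, hB⟩ := ff_exists_fg_subalgebra hK x i₀ hi₀ _ hint
  obtain ⟨T, hT⟩ := hFG
  -- every element of `K` is a fraction of elements of `k[x]`
  have hfrac : ∀ y : K, ∃ r w : K, r ∈ Algebra.adjoin k (Set.range x) ∧
      w ∈ Algebra.adjoin k (Set.range x) ∧ w ≠ 0 ∧ y * w = r := by
    intro y
    have : y ∈ IntermediateField.adjoin k (Set.range x) := by rw [hbir]; trivial
    obtain ⟨r, hr, w, hw, rfl⟩ := IntermediateField.mem_adjoin_iff_div.mp this
    by_cases hw0 : w = 0
    · exact ⟨0, 1, Subalgebra.zero_mem _, Subalgebra.one_mem _, one_ne_zero,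
        by rw [hw0, div_zero, zero_mul]⟩
    · exact ⟨r, w, hr, hw, hw0, div_mul_cancel₀ r hw0⟩
  choose r w hr hw hw0 hyw using hfrac
  set c := ∏ y ∈ T, w y with hc
  have hcR : c ∈ Algebra.adjoin k (Set.range x) := Subalgebra.prod_mem _ fun y _ => hw y
  have hc0 : c ≠ 0 := Finset.prod_ne_zero_iff.mpr fun y _ => hw0 y
  have hcT : ∀ y ∈ T, c * y ∈ Algebra.adjoin k (Set.range x) := by
    intro y hy
    rw [hc, ← Finset.mul_prod_erase T w hy]
    have : (w y * ∏ z ∈ T.erase y, w z) * y = (∏ z ∈ T.erase y, w z) * (y * w y) := by ring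
    rw [this, hyw y]
    exact Subalgebra.mul_mem _ (Subalgebra.prod_mem _ fun z _ => hw z) (hr y)
  have hcspan : ∀ b ∈ Submodule.span (Algebra.adjoin k (Set.range x)) (T : Set K),
      c * b ∈ Algebra.adjoin k (Set.range x) := by
    intro b hb
    induction hb using Submodule.span_induction with
    | mem y hy => exact hcT y hy
    | zero => rw [mul_zero]; exact Subalgebra.zero_mem _
    | add a b _ _ ha hb => rw [mul_add]; exact Subalgebra.add_mem _ ha hb
    | smul a b _ hb =>
      have : c * (a • b) = (a : K) * (c * b) := by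
        change c * ((a : K) * b) = _
        ring
      rw [this]
      exact Subalgebra.mul_mem _ a.2 hb
  have hcB : ∀ b ∈ B, c * b ∈ Algebra.adjoin k (Set.range x) := by
    intro b hb
    apply hcspan
    rw [hT]
    exact hb
  -- the finite set of bad places
  have hfinbad : ((⋃ i, Function.support fun P : Place k K => P.ord (φ i)) ∪
      {P : Place k K | P.1 c < 1}).Finite :=
    (Set.finite_iUnion fun i => ff_finite_support_ord hK (φ i)).union
      (ff_finite_zeros_of_ne_zero hK hc0)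
  refine hfinbad.subset ?_
  intro P hP
  by_contra hgood
  apply hP
  rw [Set.mem_union, Set.mem_iUnion] at hgood
  push Not at hgood
  obtain ⟨hord, hcP⟩ := hgood
  have hunit : ∀ i, P.1 (φ i) = 1 := by
    intro i
    have h := hord i
    rw [Function.mem_support, not_not] at h
    rw [ff_val_eq_exp_neg_ord P (hφ0 i), h, neg_zero, WithZero.exp_zero]
  have hxP : ∀ i, P.1 (x i) = 1 := by
    intro i
    change P.1 (φ i / φ 0) = 1
    rw [map_div₀, hunit, hunit, div_one]
  have hRP : ∀ r ∈ Algebra.adjoin k (Set.range x), P.1 r ≤ 1 := by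
    intro r hr
    induction hr using Algebra.adjoin_induction with
    | mem r hr => obtain ⟨i, rfl⟩ := hr; exact (hxP i).le
    | algebraMap c => exact P.2.1 c
    | add a b _ _ ha hb => exact (P.1.map_add a b).trans (max_le ha hb)
    | mul a b _ _ ha hb => rw [map_mul]; exact mul_le_one' ha hb
  have hcP1 : P.1 c = 1 := le_antisymm (hRP c hcR) (not_lt.mp hcP)
  intro z hz
  -- a pole of `x i₀`
  obtain ⟨Pinf, hPinf⟩ := ff_exists_zero hK (ff_transcendental_inv hi₀)
  have hPinf' : ¬ Pinf.1 (x i₀) ≤ 1 := by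
    intro hle
    rw [map_inv₀] at hPinf
    have hx0 : x i₀ ≠ 0 := by
      intro h0
      apply hi₀
      change IsAlgebraic k (x i₀)
      rw [h0]
      exact isAlgebraic_zero
    have h0 : Pinf.1 (x i₀) ≠ 0 := ff_val_ne_zero Pinf hx0
    have : 1 ≤ (Pinf.1 (x i₀))⁻¹ := (one_le_inv₀ (zero_lt_iff.mpr h0)).mpr hle
    exact absurd hPinf (not_lt.mpr this)
  set s₀ : Finset (Place k K) :=
    (ff_poleDiv z : Divisor k K).support.filter (fun Q => ∀ i, Q.1 (x i) ≤ 1) with hs₀
  have hpdP : (ff_poleDiv z : Divisor k K) P = 0 := by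
    rw [ff_poleDiv_apply hK]
    by_cases hz0 : z = 0
    · subst hz0; simp [ff_ord_zero]
    · have := (ff_ord_nonneg_iff P hz0).mpr hz
      omega
  have hPs₀ : P ∉ s₀ := by
    rw [hs₀, Finset.mem_filter, Finsupp.mem_support_iff]
    exact fun h => h.1 hpdP
  have hPinfP : Pinf ≠ P := by
    rintro rfl
    exact hPinf' (hxP i₀).le
  have hinf : Pinf ∉ insert P s₀ := by
    rw [Finset.mem_insert, hs₀, Finset.mem_filter]
    rintro (h | h)
    · exact hPinfP h
    · exact hPinf' (h.2 i₀)
  obtain ⟨h, hs, hout⟩ := ff_strong_approx_eq hK (insert P s₀) Pinf hinf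
    (fun Q => if Q = P then 1 else 0)
    (fun Q => if Q = P then -1 else -((ff_poleDiv z : Divisor k K) Q))
  have hhP : P.1 (h - 1) = WithZero.exp (-1 : ℤ) := by
    have := hs P (Finset.mem_insert_self _ _)
    simpa using this
  have hhP1 : P.1 h = 1 := by
    have : h = 1 + (h - 1) := by ring
    rw [this, Valuation.map_add_eq_of_lt_left P.1 (by
      rw [map_one, hhP, ← WithZero.exp_zero, WithZero.exp_lt_exp]; norm_num), map_one]
  have hhs₀ : ∀ Q ∈ s₀, Q.1 h = WithZero.exp (-((ff_poleDiv z : Divisor k K) Q)) := by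
    intro Q hQ
    have hQP : Q ≠ P := fun h => hPs₀ (h ▸ hQ)
    have := hs Q (Finset.mem_insert_of_mem hQ)
    simpa [hQP] using this
  have hpd0 : ∀ Q : Place k K, 0 ≤ (ff_poleDiv z : Divisor k K) Q := fun Q =>
    ff_poleDiv_nonneg z Q
  have hint_h : ∀ Q : Place k K, (∀ i, Q.1 (x i) ≤ 1) → Q.1 h ≤ 1 := by
    intro Q hQ
    by_cases hQP : Q = P
    · rw [hQP, hhP1]
    by_cases hQs : Q ∈ s₀
    · rw [hhs₀ Q hQs, ← WithZero.exp_zero, WithZero.exp_le_exp]
      have := hpd0 Q
      omega
    · refine hout Q ?_ ?_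
      · rw [Finset.mem_insert]
        rintro (h | h)
        · exact hQP h
        · exact hQs h
      · rintro rfl
        exact hPinf' (hQ i₀)
  have hint_hz : ∀ Q : Place k K, (∀ i, Q.1 (x i) ≤ 1) → Q.1 (h * z) ≤ 1 := by
    intro Q hQ
    rw [map_mul]
    by_cases hQP : Q = P
    · rw [hQP, hhP1, one_mul]; exact hz
    by_cases hQs : Q ∈ s₀
    · rw [hhs₀ Q hQs]
      calc WithZero.exp (-((ff_poleDiv z : Divisor k K) Q)) * Q.1 z
          ≤ WithZero.exp (-((ff_poleDiv z : Divisor k K) Q)) *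
            WithZero.exp ((ff_poleDiv z : Divisor k K) Q) :=
            mul_le_mul' le_rfl (ff_val_le_exp_poleDiv hK z Q)
        _ = 1 := by rw [← WithZero.exp_add, neg_add_cancel, WithZero.exp_zero]
    · have hzQ : Q.1 z ≤ 1 := by
        have h1 : (ff_poleDiv z : Divisor k K) Q = 0 := by
          by_contra hne
          exact hQs (by rw [hs₀, Finset.mem_filter, Finsupp.mem_support_iff]; exact ⟨hne, hQ⟩)
        have := ff_val_le_exp_poleDiv hK z Q
        rwa [h1, WithZero.exp_zero] at this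
      exact mul_le_one' (hint_h Q hQ) hzQ
  have hhB : h ∈ B := hB h hint_h
  have hhzB : h * z ∈ B := hB (h * z) hint_hz
  have hmax : ∀ i, P.1 (φ i) ≤ P.1 (φ 0) := fun i => by rw [hunit, hunit]
  rw [ff_inLocRing_iff φ P 0 (hφ0 0) hmax]
  refine ⟨c * (h * z), hcB _ hhzB, c * h, hcB _ hhB, ?_, by ring⟩
  rw [map_mul, hcP1, hhP1, one_mul]

end Groth.Agent.Lib.Helper55
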