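import Groth.Agent.Lib.Helper55.FunFld.ConstSplit

/-! Zeta function of a constant field extension (S11061, S11062). -/

set_option autoImplicit false
set_option linter.unusedSectionVars false
set_option linter.style.haveILetI false

open FunFld Module

namespace Groth.Agent.Lib.Helper55

universe u₁ u₂ u₃ u₄

theorem ffN_one {k : Type u₁} {K : Type u₂} [Field k] [Field K] [Algebra k K] [Finite k]
    (hK : IsFunctionField k K) :
    ffN k K 1 = Nat.card {P : Place k K // P.deg = 1} := by
  classical
  have hfin : {P : Place k K | P.deg = 1}.Finite :=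
    (ff_finite_places_deg_le hK 1).subset fun P hP => le_of_eq hP
  rw [ffN_eq_sum hfin.toFinset (fun P hP => hfin.mem_toFinset.2 (Nat.dvd_one.1 hP))]
  have : ∀ P ∈ hfin.toFinset, (if P.deg ∣ 1 then P.deg else 0) = 1 := by
    intro P hP
    have h1 : P.deg = 1 := hfin.mem_toFinset.1 hP
    rw [if_pos (by rw [h1]), h1]
  rw [Finset.sum_congr rfl this, Finset.sum_const, smul_eq_mul, mul_one,
    ← Set.ncard_eq_toFinset_card _ hfin]
  rfl

variable {k : Type u₁} {K : Type u₂} {k' : Type u₃} {K' : Type u₄} [Field k] [Field K] [Field k']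
  [Field K'] [Algebra k K] [Algebra k k'] [Algebra K K'] [Algebra k' K'] [Finite k] [Finite k']

theorem constExt_ffN (hK : IsFunctionField k K) (hK' : IsFunctionField k' K')
    (hce : IsConstExt k K k' K') (m : ℕ) (hm : 0 < m) :
    ffN k' K' m = ffN k K (m * Module.finrank k k') := by
  letI : Algebra k K' := ((algebraMap K K').comp (algebraMap k K)).toAlgebra
  haveI : IsScalarTower k K K' := IsScalarTower.of_algebraMap_eq (fun c => rfl)
  haveI : IsScalarTower k k' K' := IsScalarTower.of_algebraMap_eq (fun c => hce.1 c)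
  exact cs_ffN ⟨hce.2.1, hce.2.2⟩ hK hK' m hm

theorem constExt_card_deg_one (hK : IsFunctionField k K) (hK' : IsFunctionField k' K')
    (hce : IsConstExt k K k' K') {ι : Type*} [Fintype ι] (α : ι → ℂ)
    (hα : PowerSeries.map (Int.castRingHom ℂ) (numerZ k K) =
      ((∏ i, (1 - Polynomial.C (α i) * Polynomial.X) : Polynomial ℂ) : PowerSeries ℂ)) :
    (Nat.card {P : Place k' K' // P.deg = 1} : ℂ) =
      1 + (Nat.card k : ℂ) ^ Module.finrank k k' - ∑ i, α i ^ Module.finrank k k' := by
  haveI : Module.Finite k k' := Module.Finite.of_finite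
  have hn0 : 0 < Module.finrank k k' := Module.finrank_pos
  rw [← ffN_one hK', constExt_ffN hK hK' hce 1 one_pos, one_mul]
  exact ffN_eq_of_roots hK α hα hn0

theorem constExt_numerZ (hK : IsFunctionField k K) (hK' : IsFunctionField k' K')
    (hce : IsConstExt k K k' K') {ι : Type*} [Fintype ι] (α : ι → ℂ)
    (hα : PowerSeries.map (Int.castRingHom ℂ) (numerZ k K) =
      ((∏ i, (1 - Polynomial.C (α i) * Polynomial.X) : Polynomial ℂ) : PowerSeries ℂ)) :
    PowerSeries.map (Int.castRingHom ℂ) (numerZ k' K') =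
      ((∏ i, (1 - Polynomial.C (α i ^ Module.finrank k k') * Polynomial.X) : Polynomial ℂ) :
        PowerSeries ℂ) := by
  haveI : Module.Finite k k' := Module.Finite.of_finite
  have hn0 : 0 < Module.finrank k k' := Module.finrank_pos
  apply numerZ_eq_of_ffN hK'
  intro m hm
  rw [constExt_ffN hK hK' hce m hm, ffN_eq_of_roots hK α hα (Nat.mul_pos hm hn0)]
  have hcard : (Nat.card k' : ℂ) = (Nat.card k : ℂ) ^ Module.finrank k k' := by
    rw [Module.natCard_eq_pow_finrank (K := k) (V := k')]
    push_cast
    rfl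
  rw [hcard, ← pow_mul, mul_comm m]
  congr 1
  refine Finset.sum_congr rfl fun i _ => ?_
  rw [← pow_mul]

end Groth.Agent.Lib.Helper55
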