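import Groth.Agent.Lib.Helper55.FunFld.Places

/-! The spaces `L(D)`: first properties. -/

set_option autoImplicit false

open FunFld Polynomial

namespace Groth.Agent.Lib.Helper55

variable {k K : Type*} [Field k] [Field K] [Algebra k K]

theorem ff_mem_L_iff (D : Divisor k K) (x : K) :
    x ∈ L D ↔ ∀ P : Place k K, P.1 x ≤ WithZero.exp (D P) := Iff.rfl

/-- `L(0) = k`. -/
theorem ff_L_zero (hK : IsFunctionField k K) : L (0 : Divisor k K) = 1 := by
  ext x
  rw [ff_mem_L_iff, Submodule.mem_one]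
  constructor
  · intro h
    by_contra hx
    obtain ⟨-, Q, hQ⟩ := ff_exists_zero_and_pole hK (x := x) hx
    have hx0 : x ≠ 0 := fun h0 => hx ⟨0, by rw [h0, map_zero]⟩
    rw [ff_ord_neg_iff Q hx0] at hQ
    have := h Q
    simp only [Finsupp.coe_zero, Pi.zero_apply, WithZero.exp_zero] at this
    exact absurd this (not_le.mpr hQ)
  · rintro ⟨c, rfl⟩ P
    simpa using P.2.1 c

/-- Two nonzero elements with the same orders everywhere differ by a constant. -/
theorem ff_eq_smul_of_ord_eq (hK : IsFunctionField k K) {x y : K} (hx : x ≠ 0) (hy : y ≠ 0)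
    (h : ∀ P : Place k K, P.ord x = P.ord y) : ∃ c : k, x = c • y := by
  have hmem : x * y⁻¹ ∈ L (0 : Divisor k K) := by
    intro P
    have hyi : y⁻¹ ≠ 0 := inv_ne_zero hy
    have h0 : P.ord (x * y⁻¹) = 0 := by
      rw [ff_ord_mul P hx hyi, ff_ord_inv, h P]; ring
    have := (ff_ord_nonneg_iff P (mul_ne_zero hx hyi)).mp h0.ge
    simpa using this
  rw [ff_L_zero hK, Submodule.mem_one] at hmem
  obtain ⟨c, hc⟩ := hmem
  refine ⟨c, ?_⟩
  rw [Algebra.smul_def, hc, mul_assoc, inv_mul_cancel₀ hy, mul_one]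

end Groth.Agent.Lib.Helper55
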