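import Groth.Agent.Lib.Helper55.FunFld.Local
import Groth.Agent.Lib.Helper55.FunFld.LD

/-! Divisor induction, the quotients `A(D₂)/A(D₁)` and `L(D₂)/L(D₁)`. -/

set_option autoImplicit false

open FunFld Module

namespace Groth.Agent.Lib.Helper55

variable {k K : Type*} [Field k] [Field K] [Algebra k K]

/-- Induction along `D₁ ≤ D₂`, adding one place at a time. -/
theorem ff_divisor_induction {p : Divisor k K → Divisor k K → Prop}
    (hrefl : ∀ D, p D D)
    (hstep : ∀ D₁ D P, D₁ ≤ D → p D₁ D → p D₁ (D + Finsupp.single P 1)) :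
    ∀ D₁ D₂ : Divisor k K, D₁ ≤ D₂ → p D₁ D₂ := by
  classical
  intro D₁ D₂ h
  let c : (Place k K →₀ ℕ) →+ Divisor k K :=
    Finsupp.mapRange.addMonoidHom (Nat.castAddMonoidHom ℤ)
  have hc0 : ∀ E, 0 ≤ c E := by
    intro E P
    simp [c]
  have key : ∀ E : Place k K →₀ ℕ, ∀ D, D₁ ≤ D → p D₁ D → p D₁ (D + c E) := by
    intro E
    induction E using Finsupp.induction_linear with
    | zero => intro D _ hp; simpa using hp
    | add E₁ E₂ h1 h2 =>
      intro D hD hp
      rw [map_add, ← add_assoc]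
      exact h2 _ (hD.trans (le_add_of_nonneg_right (hc0 E₁))) (h1 D hD hp)
    | single P n =>
      induction n with
      | zero => intro D _ hp; simpa using hp
      | succ n ih =>
        intro D hD hp
        have : c (Finsupp.single P (n + 1)) = c (Finsupp.single P n) + Finsupp.single P 1 := by
          rw [Finsupp.single_add, map_add]
          congr 1
          ext Q
          simp [c, Finsupp.single_apply]
        rw [this, ← add_assoc]
        exact hstep _ _ _ (hD.trans (le_add_of_nonneg_right (hc0 _))) (ih D hD hp)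
  have hE : D₂ = D₁ + c ((D₂ - D₁).mapRange Int.toNat rfl) := by
    ext P
    have hP : 0 ≤ D₂ P - D₁ P := sub_nonneg.mpr (h P)
    simp [c, Int.toNat_of_nonneg hP]
  rw [hE]
  exact key _ D₁ le_rfl (hrefl D₁)

theorem ff_deg_add (D E : Divisor k K) : (D + E).deg = D.deg + E.deg := by
  unfold Divisor.deg
  rw [Finsupp.sum_add_index']
  · intro P; simp
  · intro P m n; ring

theorem ff_deg_single (P : Place k K) (n : ℤ) :
    Divisor.deg (Finsupp.single P n : Divisor k K) = n * P.deg := by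
  unfold Divisor.deg
  rw [Finsupp.sum_single_index]
  simp

theorem ff_deg_zero : (0 : Divisor k K).deg = 0 := by
  unfold Divisor.deg
  simp

theorem ff_deg_neg (D : Divisor k K) : (-D).deg = -D.deg := by
  have := ff_deg_add D (-D)
  rw [add_neg_cancel, ff_deg_zero] at this
  linarith

theorem ff_deg_sub (D E : Divisor k K) : (D - E).deg = D.deg - E.deg := by
  rw [sub_eq_add_neg, ff_deg_add, ff_deg_neg]; ring

/-- Evaluation at `P`, as a map `A(D) → {z | v_P z ≤ exp (D P)}`. -/
def ff_evalAD (D : Divisor k K) (P : Place k K) : AD D →ₗ[k] ff_ball P (D P) where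
  toFun a := ⟨a.1 P, a.2 P⟩
  map_add' _ _ := rfl
  map_smul' _ _ := rfl

/-- The inclusion `L(D) → {z | v_P z ≤ exp (D P)}`. -/
def ff_inclL (D : Divisor k K) (P : Place k K) : L D →ₗ[k] ff_ball P (D P) where
  toFun x := ⟨x.1, x.2 P⟩
  map_add' _ _ := rfl
  map_smul' _ _ := rfl

theorem ff_AD_step (hK : IsFunctionField k K) (D : Divisor k K) (P : Place k K) :
    FiniteDimensional k (↥(AD (D + Finsupp.single P 1)) ⧸
      (AD D).comap (AD (D + Finsupp.single P 1)).subtype) ∧
    finrank k (↥(AD (D + Finsupp.single P 1)) ⧸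
      (AD D).comap (AD (D + Finsupp.single P 1)).subtype) = P.deg := by
  classical
  obtain ⟨t, ht⟩ := ff_exists_uniformizer P
  have := ff_finiteDimensional_residueField hK P
  set D' := D + Finsupp.single P 1 with hD'
  let φ := (ff_localMap P ht (D' P)).comp (ff_evalAD D' P)
  have hker : LinearMap.ker φ = (AD D).comap (AD D').subtype := by
    ext a
    rw [LinearMap.mem_ker, LinearMap.comp_apply, ff_localMap_eq_zero_iff, Submodule.mem_comap]
    have hDP : D' P - 1 = D P := by simp [hD']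
    rw [hDP]
    constructor
    · intro h Q
      by_cases hQ : Q = P
      · subst hQ; exact h
      · have := a.2 Q
        simpa [hD', Finsupp.single_apply, hQ, Ne.symm hQ] using this
    · intro h; exact h P
  have hsurj : Function.Surjective φ := by
    intro r
    obtain ⟨z, rfl⟩ := ff_localMap_surjective P ht (D' P) r
    have hmem : (Pi.single P z.1 : Place k K → K) ∈ AD D' := by
      intro Q
      by_cases hQ : Q = P
      · subst hQ
        rw [Pi.single_eq_same]
        exact z.2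
      · simp [hQ]
    refine ⟨⟨_, hmem⟩, ?_⟩
    simp only [φ, LinearMap.comp_apply]
    congr 1
    apply Subtype.ext
    simp [ff_evalAD]
  exact ff_quot_eq_of_ker_of_surjective (AD D) (AD D') φ hker hsurj

theorem ff_L_step (hK : IsFunctionField k K) (D : Divisor k K) (P : Place k K) :
    FiniteDimensional k (↥(L (D + Finsupp.single P 1)) ⧸
      (L D).comap (L (D + Finsupp.single P 1)).subtype) ∧
    finrank k (↥(L (D + Finsupp.single P 1)) ⧸
      (L D).comap (L (D + Finsupp.single P 1)).subtype) ≤ P.deg := by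
  classical
  obtain ⟨t, ht⟩ := ff_exists_uniformizer P
  have := ff_finiteDimensional_residueField hK P
  set D' := D + Finsupp.single P 1 with hD'
  let φ := (ff_localMap P ht (D' P)).comp (ff_inclL D' P)
  have hker : LinearMap.ker φ = (L D).comap (L D').subtype := by
    ext a
    rw [LinearMap.mem_ker, LinearMap.comp_apply, ff_localMap_eq_zero_iff, Submodule.mem_comap]
    have hDP : D' P - 1 = D P := by simp [hD']
    rw [hDP]
    constructor
    · intro h Q
      by_cases hQ : Q = P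
      · subst hQ; exact h
      · have := a.2 Q
        simpa [hD', Finsupp.single_apply, hQ, Ne.symm hQ] using this
    · intro h; exact h P
  exact ff_quot_le_of_ker (L D) (L D') φ hker

theorem ff_AD_mono {D₁ D₂ : Divisor k K} (h : D₁ ≤ D₂) : AD D₁ ≤ AD D₂ :=
  fun _ ha P => (ha P).trans (WithZero.exp_le_exp.mpr (h P))

theorem ff_L_mono {D₁ D₂ : Divisor k K} (h : D₁ ≤ D₂) : L D₁ ≤ L D₂ :=
  fun _ ha P => (ha P).trans (WithZero.exp_le_exp.mpr (h P))

theorem ff_le_add_single (D : Divisor k K) (P : Place k K) : D ≤ D + Finsupp.single P 1 :=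
  le_add_of_nonneg_right (Finsupp.single_nonneg.mpr zero_le_one)

/-- `dim A(D₂)/A(D₁) = deg D₂ - deg D₁`. -/
theorem ff_AD_quot (hK : IsFunctionField k K) :
    ∀ D₁ D₂ : Divisor k K, D₁ ≤ D₂ →
    FiniteDimensional k (↥(AD D₂) ⧸ (AD D₁).comap (AD D₂).subtype) ∧
    (finrank k (↥(AD D₂) ⧸ (AD D₁).comap (AD D₂).subtype) : ℤ) = D₂.deg - D₁.deg := by
  apply ff_divisor_induction
  · intro D
    obtain ⟨h1, h2⟩ := ff_quot_self (AD D)
    exact ⟨h1, by rw [h2]; simp⟩
  · intro D₁ D P hD ⟨h1, h2⟩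
    obtain ⟨h3, h4⟩ := ff_AD_step hK D P
    obtain ⟨h5, h6⟩ := ff_quot_chain (AD D₁) (AD D) (AD (D + Finsupp.single P 1))
      (ff_AD_mono hD) (ff_AD_mono (ff_le_add_single D P)) h1 h3
    refine ⟨h5, ?_⟩
    rw [h6, Nat.cast_add, h2, h4, ff_deg_add, ff_deg_single]
    ring

/-- `dim L(D₂)/L(D₁) ≤ deg D₂ - deg D₁`. -/
theorem ff_L_quot (hK : IsFunctionField k K) :
    ∀ D₁ D₂ : Divisor k K, D₁ ≤ D₂ →
    FiniteDimensional k (↥(L D₂) ⧸ (L D₁).comap (L D₂).subtype) ∧
    (finrank k (↥(L D₂) ⧸ (L D₁).comap (L D₂).subtype) : ℤ) ≤ D₂.deg - D₁.deg := by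
  apply ff_divisor_induction
  · intro D
    obtain ⟨h1, h2⟩ := ff_quot_self (L D)
    exact ⟨h1, by rw [h2]; simp⟩
  · intro D₁ D P hD ⟨h1, h2⟩
    obtain ⟨h3, h4⟩ := ff_L_step hK D P
    obtain ⟨h5, h6⟩ := ff_quot_chain (L D₁) (L D) (L (D + Finsupp.single P 1))
      (ff_L_mono hD) (ff_L_mono (ff_le_add_single D P)) h1 h3
    refine ⟨h5, ?_⟩
    rw [h6, Nat.cast_add, ff_deg_add, ff_deg_single]
    have : (finrank k (↥(L (D + Finsupp.single P 1)) ⧸
      (L D).comap (L (D + Finsupp.single P 1)).subtype) : ℤ) ≤ P.deg := by exact_mod_cast h4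
    linarith

theorem ff_finrank_one : finrank k (1 : Submodule k K) = 1 := by
  rw [Submodule.one_eq_range,
    LinearMap.finrank_range_of_inj (FaithfulSMul.algebraMap_injective k K)]
  exact Module.finrank_self k

instance ff_finiteDimensional_one : FiniteDimensional k (1 : Submodule k K) := by
  rw [Submodule.one_eq_range]
  infer_instance

/-- `L(D)` is finite-dimensional. -/
theorem ff_L_finiteDimensional (hK : IsFunctionField k K) (D : Divisor k K) :
    FiniteDimensional k (L D) := by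
  have h0 : (0 : Divisor k K) ≤ D ⊔ 0 := le_sup_right
  obtain ⟨h1, -⟩ := ff_L_quot hK 0 (D ⊔ 0) h0
  have h2 : FiniteDimensional k ((L (0 : Divisor k K)).comap (L (D ⊔ 0)).subtype) := by
    have e := Submodule.comapSubtypeEquivOfLe (ff_L_mono (k := k) (K := K) h0)
    have : FiniteDimensional k (L (0 : Divisor k K)) := by
      rw [ff_L_zero hK]; infer_instance
    exact e.symm.finiteDimensional
  have h3 : FiniteDimensional k (L (D ⊔ 0)) :=
    Module.Finite.of_submodule_quotient ((L (0 : Divisor k K)).comap (L (D ⊔ 0)).subtype)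
  exact Submodule.finiteDimensional_of_le (ff_L_mono (le_sup_left : D ≤ D ⊔ 0))

theorem ff_ell_zero (hK : IsFunctionField k K) : ell (0 : Divisor k K) = 1 := by
  unfold ell
  rw [ff_L_zero hK]
  exact ff_finrank_one

/-- `ℓ(D₂) = ℓ(D₁) + dim L(D₂)/L(D₁)`. -/
theorem ff_ell_eq_add (hK : IsFunctionField k K) {D₁ D₂ : Divisor k K} (h : D₁ ≤ D₂) :
    ell D₂ = ell D₁ + finrank k (↥(L D₂) ⧸ (L D₁).comap (L D₂).subtype) := by
  have := ff_L_finiteDimensional hK D₂
  have h1 := Submodule.finrank_quotient_add_finrank ((L D₁).comap (L D₂).subtype)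
  have e := Submodule.comapSubtypeEquivOfLe (ff_L_mono (k := k) (K := K) h)
  rw [e.finrank_eq] at h1
  unfold ell
  omega

/-- `ℓ(D₂) - ℓ(D₁) ≤ deg D₂ - deg D₁`. -/
theorem ff_ell_sub_le (hK : IsFunctionField k K) {D₁ D₂ : Divisor k K} (h : D₁ ≤ D₂) :
    (ell D₂ : ℤ) - ell D₁ ≤ D₂.deg - D₁.deg := by
  obtain ⟨-, h2⟩ := ff_L_quot hK D₁ D₂ h
  rw [ff_ell_eq_add hK h]
  push_cast
  linarith

/-- `ℓ(D) ≤ deg D + 1` for `D ≥ 0`. -/
theorem ff_ell_le_deg_add_one (hK : IsFunctionField k K) {D : Divisor k K} (h : 0 ≤ D) :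
    (ell D : ℤ) ≤ D.deg + 1 := by
  have := ff_ell_sub_le hK h
  rw [ff_ell_zero hK, ff_deg_zero] at this
  push_cast at this
  linarith

end Groth.Agent.Lib.Helper55
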