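import Groth.Agent.Lib.Helper55.FunFld.HasseDiv
import Mathlib.RingTheory.PowerSeries.Substitution

/-! The Wronskian rank theorem for Hasse derivatives with respect to an arbitrary variable. -/

namespace Groth.Agent.Lib.Helper55

open FunFld LocRes

variable {k K : Type*} [Field k] [Field K] [Algebra k K]

theorem ff_constantCoeff_subst {g : PowerSeries K} (hg : PowerSeries.constantCoeff g = 0)
    (f : PowerSeries K) :
    PowerSeries.constantCoeff (PowerSeries.subst g f) = PowerSeries.constantCoeff f := by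
  have hs : PowerSeries.HasSubst g := PowerSeries.HasSubst.of_constantCoeff_zero' hg
  have h1 : f = PowerSeries.C (PowerSeries.constantCoeff f) +
      (f - PowerSeries.C (PowerSeries.constantCoeff f)) := by ring
  conv_lhs => rw [h1]
  rw [PowerSeries.subst_add hs, map_add, PowerSeries.subst_C]
  have h2 := PowerSeries.constantCoeff_subst_eq_zero (S := K) hg
    (f - PowerSeries.C (PowerSeries.constantCoeff f)) (by simp)
  erw [h2, add_zero]
  rfl

/-- From a total Hasse derivative `Hs` and an element `t` with nonzero first derivative, build a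
total Hasse derivative with respect to `t`, as `Hs` followed by a substitution. -/
theorem ff_exists_hasseFamily_subst (Hs : K →ₐ[k] PowerSeries K)
    (hconst : ∀ y : K, PowerSeries.constantCoeff (Hs y) = y) (t : K)
    (hu : hasseD Hs 1 t ≠ 0) :
    ∃ (Ht : K →ₐ[k] PowerSeries K) (σ : PowerSeries K →ₐ[K] PowerSeries K),
      IsHasseFamily t Ht ∧ ∀ y, Ht y = σ (Hs y) := by
  set F : PowerSeries K := Hs t - PowerSeries.C t with hF
  have hF0 : PowerSeries.constantCoeff F = 0 := by
    rw [hF, map_sub, hconst, PowerSeries.constantCoeff_C, sub_self]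
  have hF1 : IsUnit (PowerSeries.coeff 1 F) := by
    rw [hF, map_sub, PowerSeries.coeff_C, if_neg one_ne_zero, sub_zero]
    exact IsUnit.mk0 _ hu
  set g := PowerSeries.substInvOfIsUnit F hF1 with hg
  have hg0 : PowerSeries.constantCoeff g = 0 := PowerSeries.constantCoeff_substInvOfIsUnit F hF1
  have hgs : PowerSeries.HasSubst g := PowerSeries.HasSubst.substInvOfIsUnit F hF1
  have hFg : PowerSeries.subst g F = PowerSeries.X := PowerSeries.subst_substInvOfIsUnit_right F hF0 hF1
  let σ : PowerSeries K →ₐ[K] PowerSeries K := PowerSeries.substAlgHom hgs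
  have hσ : ∀ f, σ f = PowerSeries.subst g f := fun f => by
    rw [← PowerSeries.coe_substAlgHom hgs]
  refine ⟨(σ.restrictScalars k).comp Hs, σ, ⟨?_, ?_⟩, fun y => rfl⟩
  · show σ (Hs t) = _
    have h1 : Hs t = PowerSeries.C t + F := by rw [hF]; ring
    rw [h1, map_add, hσ F, hFg]
    congr 1
    exact σ.commutes t
  · intro y
    show PowerSeries.constantCoeff (σ (Hs y)) = y
    rw [hσ, ff_constantCoeff_subst hg0, hconst]


/-- Clearing poles at `P` of a finite family by a power of a uniformizer. -/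
theorem ff_exists_pow_mul_integral (P : Place k K) {t : K} (ht : P.1 t = WithZero.exp (-1))
    {ι : Type*} [Fintype ι] (φ : ι → K) : ∃ N : ℕ, ∀ i, P.1 (t ^ N * φ i) ≤ 1 := by
  classical
  choose c hc using fun i => ff_exists_nat_exp_ge (P.1 (φ i))
  refine ⟨∑ i, c i, fun i => ?_⟩
  rw [ff_val_pow_mul P ht]
  refine (mul_le_mul' le_rfl (hc i)).trans ?_
  rw [← WithZero.exp_add, ← WithZero.exp_zero, WithZero.exp_le_exp]
  have : c i ≤ ∑ i, c i := Finset.single_le_sum (fun _ _ => Nat.zero_le _) (Finset.mem_univ i)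
  have h2 : ((c i : ℕ) : ℤ) ≤ ((∑ i, c i : ℕ) : ℤ) := by exact_mod_cast this
  omega

/-- Local form of the Wronskian rank theorem: for a total Hasse derivative with respect to a
local parameter, the expansions `H (φ i)` of a `k`-linearly independent family are linearly
independent over `K`. -/
theorem ff_hasse_series_indep_local [IsAlgClosed k] (hK : IsFunctionField k K) (P : Place k K)
    {t : K} (ht : P.1 t = WithZero.exp (-1)) (H : K →ₐ[k] PowerSeries K)
    (hH : IsHasseFamily t H) {ι : Type*} [Fintype ι] (φ : ι → K) (hφ : LinearIndependent k φ)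
    (a : ι → K) (ha : ∑ i, PowerSeries.C (a i) * H (φ i) = 0) : a = 0 := by
  classical
  by_contra hne
  have ht0 : t ≠ 0 := ff_uniformizer_ne_zero P ht
  have hne' : ∃ i, a i ≠ 0 := by
    by_contra h
    push Not at h
    exact hne (funext h)
  obtain ⟨i₁, -⟩ := hne'
  have : Nonempty ι := ⟨i₁⟩
  obtain ⟨N, hN⟩ := ff_exists_pow_mul_integral P ht φ
  obtain ⟨φ', hφ'⟩ : ∃ φ' : ι → K, ∀ i, φ' i = t ^ N * φ i := ⟨_, fun _ => rfl⟩
  have hφ'li : LinearIndependent k φ' := by
    rw [Fintype.linearIndependent_iff]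
    intro c hc
    apply Fintype.linearIndependent_iff.mp hφ c
    have h1 : t ^ N * ∑ i, c i • φ i = 0 := by
      rw [Finset.mul_sum, ← hc]
      refine Finset.sum_congr rfl fun i _ => ?_
      rw [hφ', mul_smul_comm]
    exact (mul_eq_zero.mp h1).resolve_left (pow_ne_zero _ ht0)
  have hφ'int : ∀ i, P.1 (φ' i) ≤ 1 := fun i => by rw [hφ']; exact hN i
  obtain ⟨q₀, hq₀⟩ := ff_exists_max_index a P
  have haq₀ : a q₀ ≠ 0 := by
    intro h0
    apply hne
    funext i
    have h1 : P.1 (a i) ≤ P.1 (a q₀) := hq₀ i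
    rw [h0, map_zero, le_zero_iff, map_eq_zero] at h1
    exact h1
  obtain ⟨a', ha'⟩ : ∃ a' : ι → K, ∀ i, a' i = a i / a q₀ := ⟨_, fun _ => rfl⟩
  have ha'le : ∀ i, P.1 (a' i) ≤ 1 := fun i => by
    rw [ha', map_div₀]
    exact div_le_one_of_le₀ (hq₀ i) zero_le
  have ha'q₀ : a' q₀ = 1 := by rw [ha']; exact div_self haq₀
  have hrel : ∑ i, PowerSeries.C (a' i) * H (φ' i) = 0 := by
    have h1 : ∑ i, PowerSeries.C (a' i) * H (φ' i) =
        PowerSeries.C (a q₀)⁻¹ * H (t ^ N) * ∑ i, PowerSeries.C (a i) * H (φ i) := by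
      rw [Finset.mul_sum]
      refine Finset.sum_congr rfl fun i _ => ?_
      rw [ha', hφ', map_mul, div_eq_mul_inv, map_mul]
      ring
    rw [h1, ha, mul_zero]
  have hint := ff_hasse_integral H hK P ht hH
  have hcoef : ∀ j, ∑ i, a' i * hasseD H j (φ' i) = 0 := by
    intro j
    have := congrArg (PowerSeries.coeff j) hrel
    rw [map_sum, map_zero] at this
    simpa only [PowerSeries.coeff_C_mul, hasseD_apply] using this
  have hrows := ff_hasse_rows_linearIndependent H hK P ht hH φ' hφ'li hφ'int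
  have hzero := Fintype.linearIndependent_iff.mp hrows (fun i => evalP P (a' i)) (by
    funext j
    simp only [Finset.sum_apply, Pi.smul_apply, smul_eq_mul, Pi.zero_apply]
    exact ff_evalP_sum_mul_eq_zero P a' (fun i => hasseD H j (φ' i)) ha'le
      (fun i => hint j _ (hφ'int i)) (hcoef j))
  have := hzero q₀
  rw [ha'q₀, ff_evalP_one] at this
  exact one_ne_zero this


theorem ff_hasse_var_not_const {s : K} (Hs : K →ₐ[k] PowerSeries K) (hHs : IsHasseFamily s Hs) :
    s ∉ Set.range (algebraMap k K) := by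
  rintro ⟨c, rfl⟩
  have h1 := hHs.1
  rw [Hs.commutes, PowerSeries.algebraMap_apply] at h1
  have h2 := congrArg (PowerSeries.coeff 1) h1
  rw [map_add, PowerSeries.coeff_C, if_neg one_ne_zero, PowerSeries.coeff_one_X, zero_add] at h2
  exact zero_ne_one h2

/-- There is a place with a local parameter whose first Hasse derivative does not vanish. -/
theorem ff_exists_uniformizer_hasseD_ne_zero (hK : IsFunctionField k K) {s : K}
    (Hs : K →ₐ[k] PowerSeries K) (hHs : IsHasseFamily s Hs) :
    ∃ (P : Place k K) (t : K), P.1 t = WithZero.exp (-1) ∧ hasseD Hs 1 t ≠ 0 := by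
  obtain ⟨⟨P, hP⟩, -⟩ := ff_exists_zero_and_pole hK (ff_hasse_var_not_const Hs hHs)
  have hs0 : s ≠ 0 := by
    rintro rfl
    exact ff_hasse_var_not_const Hs hHs ⟨0, map_zero _⟩
  have hsP : P.1 s < 1 := (ff_ord_pos_iff P hs0).mp hP
  obtain ⟨t₀, ht₀⟩ := ff_exists_uniformizer P
  have hDs : hasseD Hs 1 s = 1 := by
    rw [ff_hasseD_gen Hs hHs]; simp
  by_cases h0 : hasseD Hs 1 t₀ = 0
  · by_cases h1 : P.1 s = WithZero.exp (-1)
    · exact ⟨P, s, h1, by rw [hDs]; exact one_ne_zero⟩
    · refine ⟨P, t₀ + s, ?_, ?_⟩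
      · have hlt : P.1 s < P.1 t₀ := by
          rw [ht₀]
          exact lt_of_le_of_ne (ff_lt_one_iff.mp hsP) h1
        rw [Valuation.map_add_eq_of_lt_left P.1 hlt, ht₀]
      · rw [ff_hasseD_add, h0, hDs, zero_add]
        exact one_ne_zero
  · exact ⟨P, t₀, ht₀, h0⟩

/-- The Wronskian rank theorem in series form: for a total Hasse derivative with respect to any
variable, the expansions of a `k`-linearly independent family are linearly independent
over `K`. -/
theorem ff_hasse_series_indep [IsAlgClosed k] (hK : IsFunctionField k K) {s : K}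
    (Hs : K →ₐ[k] PowerSeries K) (hHs : IsHasseFamily s Hs) {ι : Type*} [Fintype ι] (φ : ι → K)
    (hφ : LinearIndependent k φ) (a : ι → K)
    (ha : ∑ i, PowerSeries.C (a i) * Hs (φ i) = 0) : a = 0 := by
  obtain ⟨P, t, ht, hu⟩ := ff_exists_uniformizer_hasseD_ne_zero hK Hs hHs
  obtain ⟨Ht, σ, hHt, hσ⟩ := ff_exists_hasseFamily_subst Hs hHs.2 t hu
  apply ff_hasse_series_indep_local hK P ht Ht hHt φ hφ a
  have := congrArg σ ha
  rw [map_sum, map_zero] at this
  rw [← this]
  refine Finset.sum_congr rfl fun i _ => ?_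
  rw [map_mul, hσ]
  congr 1
  exact (σ.commutes (a i)).symm


/-- A sequence of vectors spanning `F^(n+1)` with nonzero first vector has an order sequence. -/
theorem ff_exists_isOrders_of_span_eq_top {F : Type*} [Field F] {n : ℕ}
    (c : ℕ → (Fin (n + 1) → F)) (h0 : c 0 ≠ 0)
    (hspan : Submodule.span F (Set.range c) = ⊤) : ∃ J : Fin n → ℕ, IsOrders F c J := by
  classical
  -- the chain of spans stabilizes at `⊤`
  let S : ℕ →o Submodule F (Fin (n + 1) → F) :=
    ⟨fun m => Submodule.span F (c '' Set.Iio m), fun a b hab =>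
      Submodule.span_mono (Set.image_mono fun j hj => lt_of_lt_of_le hj hab)⟩
  obtain ⟨m₀, hm₀⟩ := (monotone_stabilizes_iff_noetherian.mpr
    (inferInstance : IsNoetherian F (Fin (n + 1) → F))) S
  have htop : Submodule.span F (c '' Set.Iio m₀) = ⊤ := by
    rw [eq_top_iff, ← hspan, Submodule.span_le]
    rintro _ ⟨j, rfl⟩
    have h1 : c j ∈ S (max m₀ (j + 1)) :=
      Submodule.subset_span ⟨j, lt_of_lt_of_le (Nat.lt_succ_self j) (le_max_right _ _), rfl⟩
    rw [← hm₀ _ (le_max_left _ _)] at h1
    exact h1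
  have hjump_lt : ∀ j, IsJump F c j → j < m₀ := by
    intro j hj
    by_contra hge
    push Not at hge
    apply hj
    have : c j ∈ Submodule.span F (c '' Set.Iio m₀) := by rw [htop]; exact Submodule.mem_top
    exact Submodule.span_mono (Set.image_mono fun i hi => lt_of_lt_of_le hi hge) this
  set SJ : Finset ℕ := (Finset.range m₀).filter (fun j => IsJump F c j) with hSJ
  have hSJset : {j | j < m₀ ∧ IsJump F c j} = (SJ : Set ℕ) := by
    ext j
    simp [hSJ]
  have hSJtop : Submodule.span F (c '' (SJ : Set ℕ)) = ⊤ := by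
    rw [← hSJset, ← ff_span_eq_span_jumps, htop]
  have hcard_ge : n + 1 ≤ SJ.card := by
    have h1 : Module.finrank F (Submodule.span F (((SJ.image c : Finset _) : Set (Fin (n + 1) → F))))
        ≤ (SJ.image c).card := finrank_span_finset_le_card _
    rw [Finset.coe_image, hSJtop, finrank_top, Module.finrank_fin_fun] at h1
    exact h1.trans Finset.card_image_le
  have hcard_le : SJ.card ≤ n + 1 := by
    have hli := ff_linearIndependent_of_jumps c SJ.card (SJ.orderEmbOfFin rfl)
      (SJ.orderEmbOfFin rfl).strictMono (fun q => by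
        have hmemSJ : ∀ j ∈ SJ, IsJump F c j := fun j hj => by
          rw [hSJ, Finset.mem_filter] at hj
          exact hj.2
        exact hmemSJ _ (SJ.orderEmbOfFin_mem rfl q))
    have := hli.fintype_card_le_finrank
    rwa [Fintype.card_fin, Module.finrank_fin_fun] at this
  have hjump0 : IsJump F c 0 := by
    unfold IsJump
    have hI0 : Set.Iio (0 : ℕ) = ∅ := by ext j; simp
    rw [hI0, Set.image_empty, Submodule.span_empty, Submodule.mem_bot]
    exact h0
  set T : Finset ℕ := (Finset.range m₀).filter (fun j => IsJump F c (j + 1)) with hT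
  have hSJT : SJ = insert 0 (T.image (· + 1)) := by
    ext j
    rw [hSJ, hT, Finset.mem_filter, Finset.mem_insert, Finset.mem_image, Finset.mem_range]
    constructor
    · rintro ⟨hj, hjump⟩
      rcases j with _ | j
      · exact Or.inl rfl
      · refine Or.inr ⟨j, Finset.mem_filter.mpr ⟨Finset.mem_range.mpr (by omega), hjump⟩, rfl⟩
    · rintro (rfl | ⟨j', hj', rfl⟩)
      · exact ⟨hjump_lt 0 hjump0, hjump0⟩
      · rw [Finset.mem_filter] at hj'
        exact ⟨hjump_lt _ hj'.2, hj'.2⟩
  have hTcard : T.card = n := by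
    have h1 : SJ.card = (T.image (· + 1)).card + 1 := by
      rw [hSJT, Finset.card_insert_of_notMem]
      simp
    rw [Finset.card_image_of_injective _ (fun a b h => Nat.succ_injective h)] at h1
    omega
  refine ⟨T.orderEmbOfFin hTcard, (T.orderEmbOfFin hTcard).strictMono, fun j => ?_⟩
  rw [Finset.range_orderEmbOfFin, Finset.mem_coe, hT, Finset.mem_filter, Finset.mem_range]
  constructor
  · exact fun h => h.2
  · intro h
    have := hjump_lt _ h
    exact ⟨by omega, h⟩

/-- The Wronskian rank theorem (S12600): a linearly independent tuple has exactly `n`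
`τ`-orders, and the Wronskian is nonzero. -/
theorem ff_exists_isOrders [IsAlgClosed k] (hK : IsFunctionField k K) {n : ℕ}
    (φ : Fin (n + 1) → K) (hφ : LinearIndependent k φ) (τ : K →ₐ[k] K) {s : K}
    (H : K →ₐ[k] PowerSeries K) (hH : IsHasseFamily s H) :
    ∃ J : Fin n → ℕ, IsOrders K (hcol τ H φ) J ∧ (wrMat τ H φ J).det ≠ 0 := by
  classical
  have hφ0 : ∃ i, φ i ≠ 0 := ⟨0, hφ.ne_zero 0⟩
  have hc0 : hcol τ H φ 0 ≠ 0 := by
    intro h
    obtain ⟨i, hi⟩ := hφ0
    have := congrFun h i
    simp only [hcol, Pi.zero_apply] at this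
    exact hi ((map_eq_zero_iff τ τ.toRingHom.injective).mp this)
  have hspan : Submodule.span K (Set.range (hcol τ H φ)) = ⊤ := by
    by_contra hne
    obtain ⟨f, hf0, hfle⟩ := Submodule.exists_le_ker_of_lt_top _ (lt_top_iff_ne_top.mpr hne)
    obtain ⟨a, ha⟩ : ∃ a : Fin (n + 1) → K, ∀ q, a q = f fun q' => if q = q' then 1 else 0 :=
      ⟨_, fun _ => rfl⟩
    have hf : ∀ v, f v = ∑ q, a q * v q := by
      intro v
      rw [LinearMap.pi_apply_eq_sum_univ f v]
      refine Finset.sum_congr rfl fun q _ => ?_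
      rw [ha, smul_eq_mul, mul_comm]
    have hrel : ∑ i, PowerSeries.C (a i) * H (φ i) = 0 := by
      ext j
      rw [map_sum, map_zero]
      simp only [PowerSeries.coeff_C_mul]
      have h1 : f (hcol τ H φ (j + 1)) = 0 := hfle (Submodule.subset_span ⟨j + 1, rfl⟩)
      rw [hf] at h1
      exact h1
    have ha0 := ff_hasse_series_indep hK H hH φ hφ a hrel
    apply hf0
    refine LinearMap.ext fun v => ?_
    rw [hf, ha0]
    simp
  obtain ⟨J, hJ⟩ := ff_exists_isOrders_of_span_eq_top (hcol τ H φ) hc0 hspan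
  exact ⟨J, hJ, ff_wrMat_det_ne_zero H τ φ hφ0 J hJ⟩

end Groth.Agent.Lib.Helper55
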