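import Groth.Agent.Lib.Helper55.FunFld.TateCanon

/-! Over an algebraically closed constant field, `div(ds)` is a canonical divisor. -/

set_option autoImplicit false

open FunFld Module LocRes

namespace Groth.Agent.Lib.Helper55

open Tate

variable {k K : Type*} [Field k] [Field K] [Algebra k K]

theorem ff_isSeparable_residueField_of_perfect [PerfectField k] (hK : IsFunctionField k K)
    (P : Place k K) : Algebra.IsSeparable k (IsLocalRing.ResidueField P.O) := by
  haveI : @Module.Finite k (IsLocalRing.ResidueField P.O) _ _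
      (@Algebra.toModule _ _ _ _ (Place.algRes P)) := ff_finiteDimensional_residueField hK P
  have : Algebra.IsAlgebraic k (IsLocalRing.ResidueField P.O) := Algebra.IsAlgebraic.of_finite _ _
  exact Algebra.IsAlgebraic.isSeparable_of_perfectField

/-- Over an algebraically closed field, the divisor of `ds` read through expansions is the divisor
of a nonzero Weil differential. -/
theorem ff_exists_isDivOf_of_expansions_algClosed [IsAlgClosed k] (hK : IsFunctionField k K)
    {s : K} (hs : KaehlerDifferential.D k K s ≠ 0)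
    {F : Place k K → Type*} [∀ P, Field (F P)] [∀ P, Algebra k (F P)]
    (Φ : ∀ P : Place k K, K →ₐ[k] LaurentSeries (F P))
    (hΦ : ∀ P : Place k K, IsExpansionAt P.1 (Φ P)) :
    ∃ (ω : Module.Dual k (adele k K)) (W : Divisor k K), IsDivOf ω W ∧
      ∀ P, W P = ordDiff (Φ P) 1 s := by
  have hg := Groth.Agent.Lib.Helper63.GeometricPerfect.isGeometric_of_perfectField hK
  choose ρ hρ using fun P : Place k K => ff_exists_proj (k := k) P
  obtain ⟨W, hW, hWP⟩ := ff_exists_isDivOf_of_expansions hK hg hs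
    (fun P => ff_isSeparable_residueField_of_perfect hK P) Φ hΦ ρ hρ (fun P t ht =>
      ⟨1, by rw [map_one], by
        rw [one_mul, ff_tres_inv_uniformizer_algClosed hK P (hρ P) ht]
        exact one_ne_zero⟩)
  exact ⟨_, W, hW, hWP⟩

theorem ff_isCanonical_divDiff [IsAlgClosed k] (hK : IsFunctionField k K) {s : K}
    (Hs : K →ₐ[k] PowerSeries K) (hHs : IsHasseFamily s Hs)
    (Φ : Place k K → (K →ₐ[k] LaurentSeries k))
    (hΦ : ∀ P : Place k K, IsExpansionAt P.1 (Φ P)) :
    IsCanonical k K (divDiff Φ 1 s) := by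
  obtain ⟨ω, W, hW, hWP⟩ := ff_exists_isDivOf_of_expansions_algClosed hK
    (ff_D_ne_zero_of_hasse Hs hHs) Φ hΦ
  have : divDiff Φ 1 s = W := by
    ext P
    rw [ff_divDiff_apply hK Hs hHs Φ hΦ P, hWP]
  rw [this]
  exact ⟨ω, ff_isDivOf_ne_zero hK hW, hW⟩

theorem ff_deg_divDiff [IsAlgClosed k] (hK : IsFunctionField k K) {s : K}
    (Hs : K →ₐ[k] PowerSeries K) (hHs : IsHasseFamily s Hs)
    (Φ : Place k K → (K →ₐ[k] LaurentSeries k))
    (hΦ : ∀ P : Place k K, IsExpansionAt P.1 (Φ P)) :
    (divDiff Φ 1 s).deg = 2 * (genus k K : ℤ) - 2 :=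
  (ff_canonical_ell_deg hK (ff_isCanonical_divDiff hK Hs hHs Φ hΦ)).2

end Groth.Agent.Lib.Helper55
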