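import Groth.Agent.Lib.Helper55.FunFld.Weier
import Groth.Agent.Lib.Helper55.FunFld.HasseExist
import Groth.Agent.Lib.Helper55.FunFld.HasseRank
import Groth.Agent.Lib.Helper55.FunFld.ExpExist2
import Groth.Agent.Lib.Helper55.FunFld.TateCanonAC
import Groth.Agent.Lib.Helper63.LocalParamSep
import Groth.Agent.Lib.Helper63.GeometricPerfect
import Mathlib.FieldTheory.Galois.Basic

/-! Finiteness of the automorphism group in genus `> 1` (S11048). -/

set_option autoImplicit false

open FunFld Module LocRes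

namespace Groth.Agent.Lib.Helper55

variable {k K : Type*} [Field k] [Field K] [Algebra k K]

theorem ff_comapPlace_symm (σ : K ≃ₐ[k] K) (Q : Place k K) :
    ff_comapPlace σ (ff_comapPlace σ.symm Q) = Q := by
  apply Subtype.ext
  ext w
  change Q.1 (σ.symm (σ w)) = Q.1 w
  rw [σ.symm_apply_apply]

theorem ff_L_single_comapPlace (σ : K ≃ₐ[k] K) (P : Place k K) (m : ℤ) (z : K) :
    z ∈ L (Finsupp.single (ff_comapPlace σ P) m : Divisor k K) ↔
      σ z ∈ L (Finsupp.single P m : Divisor k K) := by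
  classical
  rw [ff_mem_L_iff, ff_mem_L_iff]
  constructor
  · intro h Q
    have h1 := h (ff_comapPlace σ Q)
    rw [ff_comapPlace_apply] at h1
    refine h1.trans (le_of_eq ?_)
    congr 1
    rw [Finsupp.single_apply, Finsupp.single_apply]
    by_cases hQ : P = Q
    · subst hQ; simp
    · rw [if_neg hQ, if_neg (fun h' => hQ (ff_comapPlace_injective σ h'))]
  · intro h Q
    have hQ := ff_comapPlace_symm σ Q
    have h1 := h (ff_comapPlace σ.symm Q)
    have h2 : (ff_comapPlace σ.symm Q).1 (σ z) = Q.1 z := by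
      change Q.1 (σ.symm (σ z)) = Q.1 z
      rw [σ.symm_apply_apply]
    rw [h2] at h1
    refine h1.trans (le_of_eq ?_)
    congr 1
    rw [Finsupp.single_apply, Finsupp.single_apply]
    by_cases hQP : P = ff_comapPlace σ.symm Q
    · rw [if_pos hQP, if_pos (by rw [hQP, hQ])]
    · rw [if_neg hQP, if_neg (fun h' => hQP (ff_comapPlace_injective σ (by rw [h', hQ])))]

theorem ff_L_single_comapPlace_eq_iff (σ : K ≃ₐ[k] K) (P : Place k K) (a b : ℤ) :
    L (Finsupp.single (ff_comapPlace σ P) a : Divisor k K) =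
        L (Finsupp.single (ff_comapPlace σ P) b : Divisor k K) ↔
      L (Finsupp.single P a : Divisor k K) = L (Finsupp.single P b : Divisor k K) := by
  constructor
  · intro h
    ext w
    have h1 := SetLike.ext_iff.mp h (σ.symm w)
    rw [ff_L_single_comapPlace, ff_L_single_comapPlace, σ.apply_symm_apply] at h1
    exact h1
  · intro h
    ext z
    rw [ff_L_single_comapPlace, ff_L_single_comapPlace, h]

/-- S11048: finitely many automorphisms in genus `> 1`. -/
theorem ff_finite_aut [IsAlgClosed k] (hK : IsFunctionField k K) (hg : 1 < genus k K)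
    (hp : ringChar k = 0 ∨ 2 * genus k K - 2 < ringChar k) : Finite (K ≃ₐ[k] K) := by
  classical
  obtain ⟨C, hC⟩ := ff_exists_canonical hK
  obtain ⟨n, hn⟩ : ∃ n, genus k K = n + 1 := ⟨genus k K - 1, by omega⟩
  have hell : finrank k (L C) = n + 1 := by
    rw [← hn]
    exact (ff_canonical_ell_deg hK hC).1
  have hLfd := ff_L_finiteDimensional hK C
  let b := Module.finBasisOfFinrankEq k (L C) hell
  set φ : Fin (n + 1) → K := fun i => (b i : K) with hφdef
  have hφ : LinearIndependent k φ :=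
    b.linearIndependent.map' (L C).subtype (Submodule.ker_subtype _)
  have hspan : Submodule.span k (Set.range φ) = L C := by
    have h1 : Set.range φ = (L C).subtype '' Set.range b := by
      rw [← Set.range_comp]; rfl
    rw [h1, Submodule.span_image, b.span_eq, Submodule.map_subtype_top]
  obtain ⟨P₀⟩ := ff_nonempty_place hK
  obtain ⟨t, ht⟩ := ff_exists_uniformizer P₀
  have ht0 := ff_uniformizer_ne_zero P₀ ht
  have htlt : P₀.1 t < 1 := by
    rw [ht, ← WithZero.exp_zero, WithZero.exp_lt_exp]; norm_num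
  have httr := ff_transcendental_of_val_lt_one hK P₀ ht0 htlt
  have hgeo := Groth.Agent.Lib.Helper63.GeometricPerfect.isGeometric_of_perfectField hK
  have hsepres := ff_isSeparable_residueField_of_perfect hK P₀
  have hsepK := Groth.Agent.Lib.Helper63.LocalParamSep.isSeparable_of_uniformizer hK hgeo P₀ ht
  have hfinK := ff_finite_of_transcendental hK httr
  obtain ⟨H, hH⟩ := ff_exists_hasseFamily_of_isSeparable httr
  obtain ⟨J, hJ, -⟩ := ff_exists_isOrders hK φ hφ (AlgHom.id k K) H hH
  obtain ⟨Φ, hΦ⟩ := ff_exists_expansions hK H hH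
  set 𝒲 : Set (Place k K) := {P : Place k K | wDiv (AlgHom.id k K) H Φ t φ J P ≠ 0} with h𝒲
  obtain ⟨hfin, -, -⟩ := ff_weier_count hK hg hp C hC φ hφ hspan t H hH J hJ Φ hΦ
  have hchar𝒲 : ∀ P, P ∈ 𝒲 ↔ ¬ ∀ j : ℕ, 1 ≤ j → j ≤ n →
      L (Finsupp.single P ((j : ℤ) + 1) : Divisor k K) = L (Finsupp.single P (j : ℤ)) := fun P =>
    not_congr (ff_weier_point hK hg hp C hC φ hφ hspan t H hH J hJ Φ hΦ P).2.2.2
  have hstable : ∀ (σ : K ≃ₐ[k] K) (P : Place k K), P ∈ 𝒲 → ff_comapPlace σ P ∈ 𝒲 := by
    intro σ P hP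
    rw [hchar𝒲] at hP ⊢
    intro h
    apply hP
    intro j h1 h2
    exact (ff_L_single_comapPlace_eq_iff σ P _ _).mp (h j h1 h2)
  have hN : {μ : K ≃ₐ[k] K | ∀ P ∈ 𝒲, IsFixedPt (μ : K →ₐ[k] K) P}.Finite := by
    rcases ff_weier_dichotomy hK hg hp C hC φ hφ hspan t H hH J hJ Φ hΦ with
      ⟨-, h⟩ | ⟨-, x, hfr, h⟩
    · exact (Set.finite_singleton AlgEquiv.refl).subset fun μ hμ => h μ hμ
    · set F := IntermediateField.adjoin k ({x} : Set K) with hF
      have hFfin : FiniteDimensional F K :=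
        Module.finite_of_finrank_pos (by rw [hfr]; norm_num)
      have h1 : Finite (K ≃ₐ[F] K) := inferInstance
      have h2 : Finite F.fixingSubgroup :=
        Finite.of_equiv _ (IntermediateField.fixingSubgroupEquiv F).toEquiv.symm
      refine (Set.toFinite (F.fixingSubgroup : Set (K ≃ₐ[k] K))).subset fun μ hμ => ?_
      rw [SetLike.mem_coe, IntermediateField.mem_fixingSubgroup_iff]
      intro z hz
      exact ff_fix_adjoin μ ((h μ).mp hμ) hz
  have hfin𝒲 : Finite 𝒲 := hfin.to_subtype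
  let ρ : (K ≃ₐ[k] K) → (𝒲 → 𝒲) := fun σ P => ⟨ff_comapPlace σ P.1, hstable σ P.1 P.2⟩
  have hfinite : (Set.univ : Set (K ≃ₐ[k] K)).Finite := by
    refine Set.Finite.of_finite_fibers ρ (Set.toFinite _) ?_
    rintro f ⟨τ, -, rfl⟩
    refine (hN.image fun μ => τ.trans μ).subset ?_
    rintro σ ⟨-, hσ⟩
    have hσ' : ρ σ = ρ τ := hσ
    refine ⟨τ.symm.trans σ, ?_, ?_⟩
    · intro P hP z hz
      have h1 : ff_comapPlace σ P = ff_comapPlace τ P := by
        have := congrFun hσ' ⟨P, hP⟩
        exact congrArg Subtype.val this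
      have h2 : P.1 (σ (τ.symm z)) = P.1 (τ (τ.symm z)) := by
        rw [← ff_comapPlace_apply, h1, ff_comapPlace_apply]
      change P.1 (σ (τ.symm z)) < 1
      rw [h2, τ.apply_symm_apply]
      exact hz
    · ext z
      change σ (τ.symm (τ z)) = σ z
      rw [τ.symm_apply_apply]
  exact Set.finite_univ_iff.mp hfinite

end Groth.Agent.Lib.Helper55
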