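import Groth.Agent.S19396
import Groth.Agent.Lib.Helper55.FunFld.WeierAut
import Groth.Agent.Lib.Helper55.FunFld.PlaneNonsing
import Groth.Agent.Lib.Helper55.FunFld.AlgClosed
import Mathlib.FieldTheory.RatFunc.AsPolynomial
import Mathlib.RingTheory.RootsOfUnity.EnoughRootsOfUnity

/-! Automorphisms of an elliptic function field fixing the base point (S19397). -/

set_option autoImplicit false
set_option linter.unusedSectionVars false

open FunFld Module Polynomial IntermediateField

namespace Groth.Agent.Lib.Helper55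

variable {k K : Type*} [Field k] [Field K] [Algebra k K]

/-- A quadratic extension `K = k(x)(y)`, `y² = g(x)`, maps isomorphically onto itself by
`x ↦ x'`, `y ↦ y'` whenever `y'² = g(x')` and `x'`, `y'` generate. -/
theorem ff_exists_algEquiv_of_quadratic (hK : IsFunctionField k K) {x y : K}
    (hx : Transcendental k x) (hxy : IntermediateField.adjoin k ({x, y} : Set K) = ⊤)
    (hdeg : finrank (IntermediateField.adjoin k ({x} : Set K)) K = 2) (g : k[X])
    (heq : y ^ 2 = aeval x g) {x' y' : K} (hx' : Transcendental k x')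
    (heq' : y' ^ 2 = aeval x' g)
    (hgen' : IntermediateField.adjoin k ({x', y'} : Set K) = ⊤) :
    ∃ σ : K ≃ₐ[k] K, σ x = x' ∧ σ y = y' := by
  classical
  have hfin := ff_finite_of_transcendental hK hx
  set F := IntermediateField.adjoin k ({x} : Set K) with hF
  let e : RatFunc k ≃ₐ[k] F := RatFunc.algEquivOfTranscendental x hx
  let e' : RatFunc k ≃ₐ[k] k⟮x'⟯ := RatFunc.algEquivOfTranscendental x' hx'
  let i : F →ₐ[k] K := (k⟮x'⟯.val).comp (e'.toAlgHom.comp e.symm.toAlgHom)
  have hi_gen : i (AdjoinSimple.gen k x) = x' := by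
    change ((e' (e.symm (AdjoinSimple.gen k x)) : k⟮x'⟯) : K) = x'
    rw [RatFunc.algEquivOfTranscendental_symm_gen, RatFunc.algEquivOfTranscendental_X]
  have hint : IsIntegral F y := IsIntegral.of_finite F y
  have htop : IntermediateField.adjoin F ({y} : Set K) = ⊤ := by
    rw [← IntermediateField.restrictScalars_eq_top_iff (K := k), hF,
      IntermediateField.adjoin_adjoin_left, ← hxy]
    congr 1
  have hmdeg : (minpoly F y).natDegree = 2 := by
    rw [ff_natDegree_minpoly_of_adjoin_eq_top hK hx hxy, hdeg]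
  set c : F := aeval (AdjoinSimple.gen k x) g with hc
  have hcK : algebraMap F K c = aeval x g := by
    rw [hc, ← aeval_algebraMap_apply, AdjoinSimple.algebraMap_gen]
  have hic : i c = aeval x' g := by
    rw [hc, ← aeval_algHom_apply, hi_gen]
  have hp_monic : (X ^ 2 - C c : F[X]).Monic := monic_X_pow_sub_C c two_ne_zero
  have hp_root : aeval y (X ^ 2 - C c : F[X]) = 0 := by
    rw [map_sub, map_pow, aeval_X, aeval_C, hcK, heq, sub_self]
  have hm : minpoly F y = X ^ 2 - C c := by
    refine (eq_of_monic_of_dvd_of_natDegree_le (minpoly.monic hint) hp_monic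
      (minpoly.dvd F y hp_root) ?_).symm
    rw [hmdeg, natDegree_X_pow_sub_C]
  have h : (minpoly F y).eval₂ (i : F →+* K) y' = 0 := by
    rw [hm, eval₂_sub, eval₂_pow, eval₂_X, eval₂_C]
    change y' ^ 2 - i c = 0
    rw [hic, heq', sub_self]
  let σ₀ : AdjoinRoot (minpoly F y) →+* K := AdjoinRoot.lift (i : F →+* K) y' h
  let φ₁ : AdjoinRoot (minpoly F y) ≃ₐ[F] F⟮y⟯ := adjoinRootEquivAdjoin F hint
  let φ₂ : F⟮y⟯ ≃ₐ[F] K := (IntermediateField.equivOfEq htop).trans IntermediateField.topEquiv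
  let σ : K →+* K := σ₀.comp ((φ₁.symm : F⟮y⟯ →+* AdjoinRoot (minpoly F y)).comp
    (φ₂.symm : K →+* F⟮y⟯))
  have hσF : ∀ r : F, σ (algebraMap F K r) = i r := by
    intro r
    change σ₀ (φ₁.symm (φ₂.symm (algebraMap F K r))) = i r
    rw [AlgEquiv.commutes, AlgEquiv.commutes]
    exact AdjoinRoot.lift_of h
  have hφ₂ : φ₂ (AdjoinSimple.gen F y) = y := rfl
  have hσy : σ y = y' := by
    change σ₀ (φ₁.symm (φ₂.symm y)) = y'
    have : φ₂.symm y = AdjoinSimple.gen F y := by
      rw [AlgEquiv.symm_apply_eq, hφ₂]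
    rw [this, adjoinRootEquivAdjoin_symm_apply_gen]
    exact AdjoinRoot.lift_root h
  have hσx : σ x = x' := by
    have : x = algebraMap F K (AdjoinSimple.gen k x) := (AdjoinSimple.algebraMap_gen k x).symm
    rw [this, hσF, hi_gen]
  let σa : K →ₐ[k] K :=
    { σ with
      commutes' := fun c => by
        change σ (algebraMap k K c) = algebraMap k K c
        have hc' : algebraMap k K c = algebraMap F K (algebraMap k F c) :=
          IsScalarTower.algebraMap_apply k F K c
        calc σ (algebraMap k K c) = σ (algebraMap F K (algebraMap k F c)) := by rw [← hc']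
          _ = i (algebraMap k F c) := hσF _
          _ = algebraMap k K c := i.commutes c }
  have hsurj : Function.Surjective σa := by
    rw [← AlgHom.fieldRange_eq_top, ← top_le_iff, ← hgen', IntermediateField.adjoin_le_iff]
    rintro z (rfl | rfl)
    · exact ⟨x, hσx⟩
    · exact ⟨y, hσy⟩
  exact ⟨AlgEquiv.ofBijective σa ⟨σa.toRingHom.injective, hsurj⟩, hσx, hσy⟩

theorem ff_card_pow_eq_one [IsAlgClosed k] (n : ℕ) [NeZero ((n : ℕ) : k)] :
    Nat.card {u : k // u ^ n = 1} = n := by
  classical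
  have hn : NeZero n := .of_neZero_natCast k
  obtain ⟨ζ, hζ⟩ := HasEnoughRootsOfUnity.exists_primitiveRoot k n
  have h1 := hζ.card_nthRootsFinset
  rw [Nat.card_congr (Equiv.subtypeEquivRight fun u : k =>
    (mem_nthRootsFinset (NeZero.pos n) (1 : k)).symm), Nat.card_eq_fintype_card, Fintype.card_coe]
  exact h1

/-- The shape of an automorphism of a Weierstrass function field fixing the point at infinity. -/
theorem ff_ell_aut_shape (h2 : (2 : k) ≠ 0) (h3 : (3 : k) ≠ 0)
    (hK : IsFunctionField k K) (hgen : genus k K = 1) (P : Place k K) (hP : P.deg = 1)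
    (a b : k) (x y : K)
    (heq : y ^ 2 = x ^ 3 + algebraMap k K a * x + algebraMap k K b)
    (hx : x ∈ L (Finsupp.single P 2 : Divisor k K)) (hx2 : P.ord x = -2)
    (hy : y ∈ L (Finsupp.single P 3 : Divisor k K)) (hy3 : P.ord y = -3)
    (σ : K ≃ₐ[k] K) (hσ : ∀ z : K, P.1 (σ z) = P.1 z) :
    ∃ u : k, u ≠ 0 ∧ a * (u ^ 4 - 1) = 0 ∧ b * (u ^ 6 - 1) = 0 ∧
      σ x = algebraMap k K (u ^ 2) * x ∧ σ y = algebraMap k K (u ^ 3) * y := by
  classical
  have hfix : ff_comapPlace σ P = P := by
    apply Subtype.ext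
    ext z
    exact hσ z
  have hx0 : x ≠ 0 := by
    intro h0; rw [h0, ff_ord_zero] at hx2; omega
  have hy0 : y ≠ 0 := by
    intro h0; rw [h0, ff_ord_zero] at hy3; omega
  have hPx : P.1 x = WithZero.exp 2 := by
    rw [ff_val_eq_exp_neg_ord P hx0, hx2]; rfl
  have hPy : P.1 y = WithZero.exp 3 := by
    rw [ff_val_eq_exp_neg_ord P hy0, hy3]; rfl
  obtain ⟨-, hs2⟩ : LinearIndependent k
        (Sum.elim (fun i : Fin 2 => x ^ (i : ℕ)) (fun i : Fin 0 => x ^ (i : ℕ) * y)) ∧
      Submodule.span k (Set.range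
        (Sum.elim (fun i : Fin 2 => x ^ (i : ℕ)) (fun i : Fin 0 => x ^ (i : ℕ) * y))) =
        L (Finsupp.single P ((2 : ℕ) : ℤ)) :=
    Groth.Agent.S19396.result k K hK hgen P hP x y hx hx2 hy hy3 2 le_rfl
  obtain ⟨-, hs3⟩ : LinearIndependent k
        (Sum.elim (fun i : Fin 2 => x ^ (i : ℕ)) (fun i : Fin 1 => x ^ (i : ℕ) * y)) ∧
      Submodule.span k (Set.range
        (Sum.elim (fun i : Fin 2 => x ^ (i : ℕ)) (fun i : Fin 1 => x ^ (i : ℕ) * y))) =
        L (Finsupp.single P ((3 : ℕ) : ℤ)) :=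
    Groth.Agent.S19396.result k K hK hgen P hP x y hx hx2 hy hy3 3 (by norm_num)
  obtain ⟨hli6, -⟩ : LinearIndependent k
        (Sum.elim (fun i : Fin 4 => x ^ (i : ℕ)) (fun i : Fin 2 => x ^ (i : ℕ) * y)) ∧
      Submodule.span k (Set.range
        (Sum.elim (fun i : Fin 4 => x ^ (i : ℕ)) (fun i : Fin 2 => x ^ (i : ℕ) * y))) =
        L (Finsupp.single P ((6 : ℕ) : ℤ)) :=
    Groth.Agent.S19396.result k K hK hgen P hP x y hx hx2 hy hy3 6 (by norm_num)
  have hσx : σ x ∈ L (Finsupp.single P ((2 : ℕ) : ℤ) : Divisor k K) := by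
    have := (ff_L_single_comapPlace σ P 2 x).mp (by rw [hfix]; exact hx)
    exact this
  have hσy : σ y ∈ L (Finsupp.single P ((3 : ℕ) : ℤ) : Divisor k K) := by
    have := (ff_L_single_comapPlace σ P 3 y).mp (by rw [hfix]; exact hy)
    exact this
  rw [← hs2, Submodule.mem_span_range_iff_exists_fun] at hσx
  rw [← hs3, Submodule.mem_span_range_iff_exists_fun] at hσy
  obtain ⟨c2, hc2⟩ := hσx
  obtain ⟨c3, hc3⟩ := hσy
  simp only [Fintype.sum_sum_type, Fin.sum_univ_two, Finset.univ_eq_empty, Finset.sum_empty,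
    Sum.elim_inl, Sum.elim_inr, Fin.val_zero, Fin.val_one, pow_zero, pow_one, add_zero,
    Fin.sum_univ_one, one_mul, Algebra.smul_def, mul_one] at hc2 hc3
  obtain ⟨β, hβ⟩ : ∃ β, β = c2 (Sum.inl 0) := ⟨_, rfl⟩
  obtain ⟨α, hα⟩ : ∃ α, α = c2 (Sum.inl 1) := ⟨_, rfl⟩
  obtain ⟨ε, hε⟩ : ∃ ε, ε = c3 (Sum.inl 0) := ⟨_, rfl⟩
  obtain ⟨δ, hδ⟩ : ∃ δ, δ = c3 (Sum.inl 1) := ⟨_, rfl⟩
  obtain ⟨γ, hγ⟩ : ∃ γ, γ = c3 (Sum.inr 0) := ⟨_, rfl⟩
  rw [← hβ, ← hα] at hc2
  rw [← hε, ← hδ, ← hγ] at hc3
  clear hβ hα hε hδ hγ c2 c3 hs2 hs3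
  have hrel : (σ y) ^ 2 = (σ x) ^ 3 + algebraMap k K a * σ x + algebraMap k K b := by
    have := congrArg σ heq
    rw [map_pow, map_add, map_add, map_pow, map_mul, σ.commutes, σ.commutes] at this
    exact this
  rw [← hc2, ← hc3] at hrel
  -- the coefficient vector
  set cc : Fin 4 ⊕ Fin 2 → k := Sum.elim
    ![ε ^ 2 + γ ^ 2 * b - β ^ 3 - a * β - b, 2 * δ * ε + γ ^ 2 * a - 3 * α * β ^ 2 - a * α,
      δ ^ 2 - 3 * α ^ 2 * β, γ ^ 2 - α ^ 3] ![2 * γ * ε, 2 * γ * δ] with hcc
  have hsum : ∑ i, cc i • (Sum.elim (fun i : Fin 4 => x ^ (i : ℕ))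
      (fun i : Fin 2 => x ^ (i : ℕ) * y)) i = 0 := by
    simp only [Fintype.sum_sum_type, Fin.sum_univ_four, Fin.sum_univ_two, hcc,
      Sum.elim_inl, Sum.elim_inr, Fin.val_zero, Fin.val_one, pow_zero, pow_one,
      one_mul, Algebra.smul_def, mul_one, Matrix.cons_val_zero, Matrix.cons_val_one,
      Matrix.cons_val, map_sub, map_add, map_mul, map_pow, map_ofNat]
    simp only [show ((2 : Fin 4) : ℕ) = 2 from rfl, show ((3 : Fin 4) : ℕ) = 3 from rfl]
    linear_combination hrel - (algebraMap k K γ) ^ 2 * heq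
  have hall := Fintype.linearIndependent_iff.mp hli6 cc hsum
  have e1 := hall (Sum.inl 0)
  have e2 := hall (Sum.inl 1)
  have e3 := hall (Sum.inl 2)
  have e4 := hall (Sum.inl 3)
  have e5 := hall (Sum.inr 0)
  have e6 := hall (Sum.inr 1)
  simp only [hcc, Sum.elim_inl, Sum.elim_inr, Matrix.cons_val_zero, Matrix.cons_val_one,
    Matrix.cons_val] at e1 e2 e3 e4 e5 e6
  have hγ0 : γ ≠ 0 := by
    intro h0
    have h1 : P.1 (σ y) ≤ WithZero.exp 2 := by
      rw [← hc3, h0, map_zero, zero_mul, add_zero]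
      refine (P.1.map_add _ _).trans (max_le ?_ ?_)
      · exact (P.2.1 ε).trans (by rw [← WithZero.exp_zero, WithZero.exp_le_exp]; norm_num)
      · rw [map_mul, hPx]
        calc P.1 (algebraMap k K δ) * WithZero.exp 2 ≤ 1 * WithZero.exp 2 :=
              mul_le_mul' (P.2.1 δ) le_rfl
          _ = WithZero.exp 2 := one_mul _
    rw [hσ y, hPy, WithZero.exp_le_exp] at h1
    omega
  have hδ0 : δ = 0 := by
    rcases mul_eq_zero.mp e6 with h | h
    · rcases mul_eq_zero.mp h with h | h
      · exact absurd h h2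
      · exact absurd h hγ0
    · exact h
  have hε0 : ε = 0 := by
    rcases mul_eq_zero.mp e5 with h | h
    · rcases mul_eq_zero.mp h with h | h
      · exact absurd h h2
      · exact absurd h hγ0
    · exact h
  subst hδ0 hε0
  have hα0 : α ≠ 0 := by
    intro h0
    rw [h0] at e4
    apply hγ0
    have : γ ^ 2 = 0 := by linear_combination e4
    exact pow_eq_zero_iff (two_ne_zero) |>.mp this
  have hβ0 : β = 0 := by
    have : 3 * α ^ 2 * β = 0 := by linear_combination -e3
    rcases mul_eq_zero.mp this with h | h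
    · rcases mul_eq_zero.mp h with h | h
      · exact absurd h h3
      · exact absurd (pow_eq_zero_iff (two_ne_zero) |>.mp h) hα0
    · exact h
  subst hβ0
  have hγ2 : γ ^ 2 = α ^ 3 := by linear_combination e4
  refine ⟨γ / α, div_ne_zero hγ0 hα0, ?_, ?_, ?_, ?_⟩
  · have h4 : (γ / α) ^ 4 = α ^ 2 := by
      rw [div_pow, div_eq_iff (pow_ne_zero _ hα0)]
      linear_combination (γ ^ 2 + α ^ 3) * hγ2
    rw [h4]
    have h5 : a * α * (α ^ 2 - 1) = 0 := by
      have : a * α ^ 3 = a * α := by rw [← hγ2]; linear_combination e2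
      linear_combination this
    rcases mul_eq_zero.mp h5 with h | h
    · rcases mul_eq_zero.mp h with h | h
      · rw [h, zero_mul]
      · exact absurd h hα0
    · rw [h, mul_zero]
  · have h6 : (γ / α) ^ 6 = γ ^ 2 := by
      rw [div_pow, div_eq_iff (pow_ne_zero _ hα0)]
      linear_combination γ ^ 2 * (γ ^ 2 + α ^ 3) * hγ2
    rw [h6]
    linear_combination e1
  · have h2' : (γ / α) ^ 2 = α := by
      rw [div_pow, div_eq_iff (pow_ne_zero _ hα0)]
      linear_combination hγ2
    rw [h2', ← hc2, map_zero, zero_add]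
  · have h3' : (γ / α) ^ 3 = γ := by
      rw [div_pow, div_eq_iff (pow_ne_zero _ hα0)]
      linear_combination γ * hγ2
    rw [h3', ← hc3, map_zero, zero_mul, zero_add, zero_add]

theorem ff_algEquiv_ext_of_adjoin (S : Set K) (h : IntermediateField.adjoin k S = ⊤)
    (σ τ : K ≃ₐ[k] K) (hS : ∀ s ∈ S, σ s = τ s) : σ = τ := by
  let E : IntermediateField k K :=
    (AlgHom.equalizer (σ : K →ₐ[k] K) (τ : K →ₐ[k] K)).toIntermediateField (fun z hz => by
      rw [AlgHom.mem_equalizer] at hz ⊢
      rw [map_inv₀, map_inv₀, hz])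
  have hle : IntermediateField.adjoin k S ≤ E := by
    rw [IntermediateField.adjoin_le_iff]
    intro s hs
    exact hS s hs
  ext z
  have : z ∈ E := hle (by rw [h]; trivial)
  exact this

open Classical in
/-- S19397: the number of automorphisms of an elliptic function field fixing the base point. -/
theorem ff_ell_aut_card [IsAlgClosed k] (h2 : (2 : k) ≠ 0) (h3 : (3 : k) ≠ 0)
    (hK : IsFunctionField k K) (hgen : genus k K = 1) (P : Place k K)
    (a b : k) (hdisc : 4 * a ^ 3 + 27 * b ^ 2 ≠ 0) (x y : K)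
    (heq : y ^ 2 = x ^ 3 + algebraMap k K a * x + algebraMap k K b)
    (hxy : IntermediateField.adjoin k ({x, y} : Set K) = ⊤)
    (hx : x ∈ L (Finsupp.single P 2 : Divisor k K)) (hx2 : P.ord x = -2)
    (hy : y ∈ L (Finsupp.single P 3 : Divisor k K)) (hy3 : P.ord y = -3) :
    Nat.card {σ : K ≃ₐ[k] K // ∀ z : K, P.1 (σ z) = P.1 z} =
      if a = 0 then 6 else if b = 0 then 4 else 2 := by
  classical
  have hP := ff_deg_eq_one_of_isAlgClosed hK P
  have hx0 : x ≠ 0 := by
    intro h0; rw [h0, ff_ord_zero] at hx2; omega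
  have hy0 : y ≠ 0 := by
    intro h0; rw [h0, ff_ord_zero] at hy3; omega
  have hPx : P.1 x = WithZero.exp 2 := by
    rw [ff_val_eq_exp_neg_ord P hx0, hx2]; rfl
  have htr : ∀ c : k, c ≠ 0 → Transcendental k (algebraMap k K c * x) := by
    intro c hc
    apply ff_transcendental_of_not_mem_range hK
    rintro ⟨d, hd⟩
    have h1 : P.1 (algebraMap k K c * x) = WithZero.exp 2 := by
      rw [map_mul, ff_val_const P hc, one_mul, hPx]
    rw [← hd] at h1
    have h3' := P.2.1 d
    rw [h1, ← WithZero.exp_zero, WithZero.exp_le_exp] at h3'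
    omega
  have hxt : Transcendental k x := by
    have := htr 1 one_ne_zero
    rwa [map_one, one_mul] at this
  have hdeg : finrank (IntermediateField.adjoin k ({x} : Set K)) K = 2 := by
    have h1 := ff_deg_poleDiv hK hxt
    rw [ff_poleDiv_eq_single_of_mem_L hK (by norm_num) hx hx2, ff_deg_single, hP] at h1
    exact_mod_cast h1.symm
  have hshape := fun σ : {σ : K ≃ₐ[k] K // ∀ z : K, P.1 (σ z) = P.1 z} =>
    ff_ell_aut_shape h2 h3 hK hgen P hP a b x y heq hx hx2 hy hy3 σ.1 σ.2
  choose u hu0 hua hub hux huy using hshape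
  let f : {σ : K ≃ₐ[k] K // ∀ z : K, P.1 (σ z) = P.1 z} →
      {u : k // u ≠ 0 ∧ a * (u ^ 4 - 1) = 0 ∧ b * (u ^ 6 - 1) = 0} :=
    fun σ => ⟨u σ, hu0 σ, hua σ, hub σ⟩
  have hinj : Function.Injective f := by
    intro σ τ hστ
    have h1 : u σ = u τ := congrArg Subtype.val hστ
    apply Subtype.ext
    apply ff_algEquiv_ext_of_adjoin _ hxy
    rintro s (rfl | rfl)
    · rw [hux σ, hux τ, h1]
    · rw [huy σ, huy τ, h1]
  have huniq : ∀ (σ : {σ : K ≃ₐ[k] K // ∀ z : K, P.1 (σ z) = P.1 z}) (v : k),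
      σ.1 x = algebraMap k K (v ^ 2) * x → σ.1 y = algebraMap k K (v ^ 3) * y → u σ = v := by
    intro σ v hvx hvy
    have e2 : u σ ^ 2 = v ^ 2 := by
      have := (hux σ).symm.trans hvx
      exact (algebraMap k K).injective (mul_right_cancel₀ hx0 this)
    have e3 : u σ ^ 3 = v ^ 3 := by
      have := (huy σ).symm.trans hvy
      exact (algebraMap k K).injective (mul_right_cancel₀ hy0 this)
    have hu2 : u σ ^ 2 ≠ 0 := pow_ne_zero _ (hu0 σ)
    have : u σ * u σ ^ 2 = v * u σ ^ 2 := by
      calc u σ * u σ ^ 2 = u σ ^ 3 := by ring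
        _ = v ^ 3 := e3
        _ = v * v ^ 2 := by ring
        _ = v * u σ ^ 2 := by rw [e2]
    exact mul_right_cancel₀ hu2 this
  have hsurj : Function.Surjective f := by
    rintro ⟨v, hv0, hva, hvb⟩
    set g : k[X] := X ^ 3 + C a * X + C b with hg
    have hgx : ∀ w : K, aeval w g = w ^ 3 + algebraMap k K a * w + algebraMap k K b := by
      intro w
      simp [hg]
    have hx' : Transcendental k (algebraMap k K (v ^ 2) * x) := htr _ (pow_ne_zero _ hv0)
    have heq' : (algebraMap k K (v ^ 3) * y) ^ 2 = aeval (algebraMap k K (v ^ 2) * x) g := by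
      rw [hgx, mul_pow, heq]
      have e1 : algebraMap k K a * algebraMap k K (v ^ 2) = algebraMap k K a * algebraMap k K (v ^ 6) := by
        rw [← map_mul, ← map_mul]
        congr 1
        linear_combination (-(v ^ 2)) * hva
      have e2 : algebraMap k K b = algebraMap k K b * algebraMap k K (v ^ 6) := by
        rw [← map_mul]
        congr 1
        linear_combination (-1 : k) * hvb
      have e3 : (algebraMap k K (v ^ 3)) ^ 2 = algebraMap k K (v ^ 6) := by
        rw [← map_pow]; congr 1; ring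
      have e4 : (algebraMap k K (v ^ 2)) ^ 3 = algebraMap k K (v ^ 6) := by
        rw [← map_pow]; congr 1; ring
      rw [e3, mul_pow, e4]
      linear_combination (-x) * e1 - e2
    have hgen' : IntermediateField.adjoin k
        ({algebraMap k K (v ^ 2) * x, algebraMap k K (v ^ 3) * y} : Set K) = ⊤ := by
      rw [← top_le_iff, ← hxy, IntermediateField.adjoin_le_iff]
      rintro s (rfl | rfl)
      · have h1 : algebraMap k K (v ^ 2) * s ∈ IntermediateField.adjoin k
            ({algebraMap k K (v ^ 2) * s, algebraMap k K (v ^ 3) * y} : Set K) :=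
          IntermediateField.subset_adjoin k _ (Set.mem_insert _ _)
        have h2' := mul_mem (IntermediateField.algebraMap_mem _ ((v ^ 2)⁻¹)) h1
        rwa [← mul_assoc, ← map_mul, inv_mul_cancel₀ (pow_ne_zero _ hv0), map_one, one_mul] at h2'
      · have h1 : algebraMap k K (v ^ 3) * s ∈ IntermediateField.adjoin k
            ({algebraMap k K (v ^ 2) * x, algebraMap k K (v ^ 3) * s} : Set K) :=
          IntermediateField.subset_adjoin k _ (Set.mem_insert_of_mem _ rfl)
        have h2' := mul_mem (IntermediateField.algebraMap_mem _ ((v ^ 3)⁻¹)) h1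
        rwa [← mul_assoc, ← map_mul, inv_mul_cancel₀ (pow_ne_zero _ hv0), map_one, one_mul] at h2'
    obtain ⟨σ, hσx, hσy⟩ := ff_exists_algEquiv_of_quadratic hK hxt hxy hdeg g
      (by rw [hgx]; exact heq) hx' heq' hgen'
    have hfix : ff_comapPlace σ P = P := by
      by_contra hne
      have h1 := (ff_mem_L_iff _ x).mp hx (ff_comapPlace σ P)
      rw [Finsupp.single_apply, if_neg (fun h => hne h.symm), WithZero.exp_zero,
        ff_comapPlace_apply, hσx, map_mul, ff_val_const P (pow_ne_zero _ hv0), one_mul, hPx,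
        ← WithZero.exp_zero, WithZero.exp_le_exp] at h1
      omega
    have hσP : ∀ z : K, P.1 (σ z) = P.1 z := by
      intro z
      rw [← ff_comapPlace_apply, hfix]
    refine ⟨⟨σ, hσP⟩, ?_⟩
    apply Subtype.ext
    exact huniq ⟨σ, hσP⟩ v hσx hσy
  rw [Nat.card_congr (Equiv.ofBijective f ⟨hinj, hsurj⟩)]
  have hne2 : NeZero (((2 : ℕ) : ℕ) : k) := ⟨by exact_mod_cast h2⟩
  have hne4 : NeZero (((4 : ℕ) : ℕ) : k) := ⟨by
    have : ((4 : ℕ) : k) = 2 * 2 := by norm_num
    rw [this]; exact mul_ne_zero h2 h2⟩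
  have hne6 : NeZero (((6 : ℕ) : ℕ) : k) := ⟨by
    have : ((6 : ℕ) : k) = 2 * 3 := by norm_num
    rw [this]; exact mul_ne_zero h2 h3⟩
  by_cases ha : a = 0
  · have hb : b ≠ 0 := by
      intro hb
      apply hdisc
      rw [ha, hb]; ring
    rw [if_pos ha]
    refine (Nat.card_congr (Equiv.subtypeEquivRight fun v => ?_)).trans
      (ff_card_pow_eq_one (k := k) 6)
    constructor
    · rintro ⟨-, -, h⟩
      rcases mul_eq_zero.mp h with h | h
      · exact absurd h hb
      · linear_combination h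
    · intro h
      refine ⟨?_, by rw [ha, zero_mul], by rw [h, sub_self, mul_zero]⟩
      rintro rfl
      norm_num at h
  · rw [if_neg ha]
    by_cases hb : b = 0
    · rw [if_pos hb]
      refine (Nat.card_congr (Equiv.subtypeEquivRight fun v => ?_)).trans
        (ff_card_pow_eq_one (k := k) 4)
      constructor
      · rintro ⟨-, h, -⟩
        rcases mul_eq_zero.mp h with h | h
        · exact absurd h ha
        · linear_combination h
      · intro h
        refine ⟨?_, by rw [h, sub_self, mul_zero], by rw [hb, zero_mul]⟩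
        rintro rfl
        norm_num at h
    · rw [if_neg hb]
      refine (Nat.card_congr (Equiv.subtypeEquivRight fun v => ?_)).trans
        (ff_card_pow_eq_one (k := k) 2)
      constructor
      · rintro ⟨hv0, h4, h6⟩
        have h4' : v ^ 4 = 1 := by
          rcases mul_eq_zero.mp h4 with h | h
          · exact absurd h ha
          · linear_combination h
        have h6' : v ^ 6 = 1 := by
          rcases mul_eq_zero.mp h6 with h | h
          · exact absurd h hb
          · linear_combination h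
        calc v ^ 2 = v ^ 6 * (v ^ 4)⁻¹ := by
              rw [eq_mul_inv_iff_mul_eq₀ (pow_ne_zero _ hv0)]; ring
          _ = 1 := by rw [h4', h6']; norm_num
      · intro h
        have h4' : v ^ 4 = 1 := by
          calc v ^ 4 = (v ^ 2) ^ 2 := by ring
            _ = 1 := by rw [h]; norm_num
        have h6' : v ^ 6 = 1 := by
          calc v ^ 6 = (v ^ 2) ^ 3 := by ring
            _ = 1 := by rw [h]; norm_num
        refine ⟨?_, by rw [h4', sub_self, mul_zero], by rw [h6', sub_self, mul_zero]⟩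
        rintro rfl
        norm_num at h

end Groth.Agent.Lib.Helper55
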