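import Groth.Agent.Lib.Helper55.FunFld.HasseDeg

/-! Existence of Laurent expansions at the places of a function field over an algebraically
closed field, via Taylor expansion with Hasse derivatives. -/

set_option autoImplicit false

open FunFld Module LocRes

namespace Groth.Agent.Lib.Helper55

variable {k K : Type*} [Field k] [Field K] [Algebra k K]

/-- the residue field of a place is `k` when `k` is algebraically closed. -/
noncomputable def ff_resEquiv [IsAlgClosed k] (hK : IsFunctionField k K) (P : Place k K) :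
    IsLocalRing.ResidueField P.O ≃ₐ[k] k :=
  have hfd := ff_finiteDimensional_residueField hK P
  have hint : Algebra.IsIntegral k (IsLocalRing.ResidueField P.O) :=
    @Algebra.IsIntegral.of_finite k (IsLocalRing.ResidueField P.O) _ _ (Place.algRes P) hfd
  (AlgEquiv.ofBijective (Algebra.ofId k (IsLocalRing.ResidueField P.O))
    (IsAlgClosed.algebraMap_bijective_of_isIntegral (k := k)
      (K := IsLocalRing.ResidueField P.O))).symm

variable [IsAlgClosed k] (hK : IsFunctionField k K) (P : Place k K) (H : K →ₐ[k] PowerSeries K)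

/-- the `j`-th Taylor coefficient of `y` at `P`. -/
noncomputable def ff_tc (j : ℕ) (y : K) : k := ff_resEquiv hK P (evalP P (hasseD H j y))

section

variable {t : K} (ht : P.1 t = WithZero.exp (-1)) (hH : IsHasseFamily t H)

include ht hH

theorem ff_tc_add {y z : K} (hy : P.1 y ≤ 1) (hz : P.1 z ≤ 1) (j : ℕ) :
    ff_tc hK P H j (y + z) = ff_tc hK P H j y + ff_tc hK P H j z := by
  unfold ff_tc
  rw [ff_hasseD_add, ff_evalP_add P (ff_hasse_integral H hK P ht hH j y hy)
    (ff_hasse_integral H hK P ht hH j z hz), map_add]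

theorem ff_tc_mul {y z : K} (hy : P.1 y ≤ 1) (hz : P.1 z ≤ 1) (j : ℕ) :
    ff_tc hK P H j (y * z) =
      ∑ p ∈ Finset.HasAntidiagonal.antidiagonal j, ff_tc hK P H p.1 y * ff_tc hK P H p.2 z := by
  unfold ff_tc
  rw [ff_hasseD_mul, ff_evalP_sum, map_sum]
  · refine Finset.sum_congr rfl fun p _ => ?_
    rw [ff_evalP_mul P (ff_hasse_integral H hK P ht hH _ y hy)
      (ff_hasse_integral H hK P ht hH _ z hz), map_mul]
  · intro p _
    rw [map_mul]
    exact (mul_le_mul' (ff_hasse_integral H hK P ht hH _ y hy)
      (ff_hasse_integral H hK P ht hH _ z hz)).trans_eq (one_mul _)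

omit ht hH in
theorem ff_tc_algebraMap (c : k) (j : ℕ) :
    ff_tc hK P H j (algebraMap k K c) = if j = 0 then c else 0 := by
  unfold ff_tc
  rw [ff_hasseD_algebraMap]
  split_ifs with h
  · rw [ff_evalP_algebraMap, AlgEquiv.commutes]
    rfl
  · rw [ff_evalP_zero, map_zero]

omit ht hH in
theorem ff_tc_eq_zero_iff {z : K} (j : ℕ)
    (hj : P.1 (hasseD H j z) ≤ 1) : ff_tc hK P H j z = 0 ↔ P.1 (hasseD H j z) < 1 := by
  unfold ff_tc
  rw [EmbeddingLike.map_eq_zero_iff, ff_evalP_eq_zero_iff P hj]

/-- the Taylor expansion as an algebra homomorphism on the valuation ring. -/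
noncomputable def ff_taylorO : P.O →ₐ[k] PowerSeries k where
  toFun y := PowerSeries.mk fun j => ff_tc hK P H j (y : K)
  map_one' := by
    ext j
    rw [PowerSeries.coeff_mk, PowerSeries.coeff_one]
    have := ff_tc_algebraMap hK P H (1 : k) j
    rw [map_one] at this
    exact this
  map_mul' y z := by
    ext j
    rw [PowerSeries.coeff_mk, PowerSeries.coeff_mul]
    have := ff_tc_mul hK P H ht hH (y := (y : K)) (z := (z : K)) y.2 z.2 j
    simp only [PowerSeries.coeff_mk]
    exact this
  map_zero' := by
    ext j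
    rw [PowerSeries.coeff_mk, map_zero]
    have := ff_tc_algebraMap hK P H (0 : k) j
    rw [map_zero] at this
    rw [show ((0 : P.O) : K) = 0 from rfl, this]
    split_ifs <;> rfl
  map_add' y z := by
    ext j
    rw [PowerSeries.coeff_mk, map_add, PowerSeries.coeff_mk, PowerSeries.coeff_mk]
    exact ff_tc_add hK P H ht hH y.2 z.2 j
  commutes' c := by
    ext j
    rw [PowerSeries.coeff_mk, PowerSeries.algebraMap_apply, Algebra.algebraMap_self,
      RingHom.id_apply, PowerSeries.coeff_C]
    exact ff_tc_algebraMap hK P H c j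

theorem ff_taylorO_coeff (y : P.O) (j : ℕ) :
    PowerSeries.coeff j (ff_taylorO hK P H ht hH y) = ff_tc hK P H j (y : K) := by
  change PowerSeries.coeff j (PowerSeries.mk fun j => ff_tc hK P H j (y : K)) = _
  rw [PowerSeries.coeff_mk]

/-- the order of the Taylor expansion is the order at `P`. -/
theorem ff_taylorO_order {y : K} (hy : P.1 y ≤ 1) (N : ℕ) :
    P.1 y ≤ WithZero.exp (-(N : ℤ)) ↔ ∀ j < N, ff_tc hK P H j y = 0 := by
  rw [ff_taylor_criterion H hK P ht hH N hy]
  refine forall_congr' fun j => forall_congr' fun _ => ?_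
  exact (ff_tc_eq_zero_iff hK P H j (ff_hasse_integral H hK P ht hH j y hy)).symm

end

end Groth.Agent.Lib.Helper55
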