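import Groth.Agent.Lib.Helper55.FunFld.Bombieri
import Groth.Agent.Lib.Helper63.Inertia
import Groth.Agent.Lib.Helper63.InertiaField
import Mathlib.FieldTheory.Finite.GaloisField

/-! Existence of Frobenius automorphisms at places of a finite Galois extension of function fields
over a finite field. -/

set_option autoImplicit false
set_option linter.unusedSectionVars false
set_option linter.style.haveILetI false

open FunFld Module WithZero IsLocalRing
open Groth.Agent.Lib.Helper63.FunFldExt Groth.Agent.Lib.Helper63.FundIneq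
  Groth.Agent.Lib.Helper63.Galois Groth.Agent.Lib.Helper63.Inertia

namespace Groth.Agent.Lib.Helper55

variable {k K K' : Type*} [Field k] [Field K] [Field K'] [Algebra k K] [Algebra K K']
  [Algebra k K'] [IsScalarTower k K K']

/-- Existence of a Frobenius element: for `Q` over `P` in a finite Galois extension there is
`σ` with `σ z ≡ z ^ (q ^ (deg P · j))` modulo `Q` on `O_Q`. -/
theorem ff_exists_frobAt [Finite k] [FiniteDimensional K K'] [IsGalois K K']
    (hK : IsFunctionField k K) {Q : Place k K'} {P : Place k K} (hQ : IsOver Q P) (j : ℕ) :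
    ∃ σ : K' ≃ₐ[K] K', ∀ z : K', Q.1 z ≤ 1 →
      Q.1 (σ z - z ^ (Nat.card k ^ (P.deg * j))) < 1 := by
  classical
  obtain ⟨e, he⟩ := hQ
  letI := algO he
  haveI : IsLocalHom (algebraMap P.O Q.O) := isLocalHom_algebraMap he
  haveI : IsScalarTower k P.O Q.O := isScalarTower_algO he
  have hcoe : ∀ a : P.O, ((algebraMap P.O Q.O a : Q.O) : K') = algebraMap K K' (a : K) :=
    fun a => rfl
  have hdeg := deg_eq_mul he
  have hQpos : 0 < Q.deg := Groth.Agent.Lib.Helper63.InertiaField.deg_pos_of_finite hK Q
  have hfpos' : 0 < Module.finrank (ResidueField P.O) (ResidueField Q.O) := by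
    rw [hdeg] at hQpos
    exact Nat.pos_of_mul_pos_left hQpos
  haveI : FiniteDimensional (ResidueField P.O) (ResidueField Q.O) :=
    Module.finite_of_finrank_pos hfpos'
  haveI := ff_finiteDimensional_residueField hK P
  haveI : Finite (ResidueField P.O) := Module.finite_of_finite k
  haveI : Finite (ResidueField Q.O) := Module.finite_of_finite (ResidueField P.O)
  letI : Fintype (ResidueField P.O) := Fintype.ofFinite _
  haveI : Algebra.IsSeparable (ResidueField P.O) (ResidueField Q.O) :=
    Algebra.IsAlgebraic.isSeparable_of_perfectField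
  have hrange : Nat.card (MulSemiringAction.toRingAut ((Q.O).decompositionSubgroup K)
      (ResidueField Q.O)).range = Module.finrank (ResidueField P.O) (ResidueField Q.O) :=
    le_antisymm (card_range_le hcoe) (le_card_range he hcoe)
  have hcomm : ∀ τ : (MulSemiringAction.toRingAut ((Q.O).decompositionSubgroup K)
      (ResidueField Q.O)).range, ∀ x : ResidueField P.O,
      (τ.1 : ResidueField Q.O ≃+* ResidueField Q.O)
        (algebraMap (ResidueField P.O) (ResidueField Q.O) x) =
        algebraMap (ResidueField P.O) (ResidueField Q.O) x := by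
    rintro ⟨τ, σ, rfl⟩ x
    exact smul_algebraMap hcoe σ x
  let ψ : (MulSemiringAction.toRingAut ((Q.O).decompositionSubgroup K)
      (ResidueField Q.O)).range → (ResidueField Q.O ≃ₐ[ResidueField P.O] ResidueField Q.O) :=
    fun τ => AlgEquiv.ofRingEquiv (f := (τ.1 : ResidueField Q.O ≃+* ResidueField Q.O)) (hcomm τ)
  have hψ : Function.Injective ψ := by
    intro τ₁ τ₂ h
    apply Subtype.ext
    ext x
    exact congrArg (fun g : ResidueField Q.O ≃ₐ[ResidueField P.O] ResidueField Q.O => g x) h
  have hcardaut : Nat.card (ResidueField Q.O ≃ₐ[ResidueField P.O] ResidueField Q.O) =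
      Module.finrank (ResidueField P.O) (ResidueField Q.O) :=
    IsGalois.card_aut_eq_finrank _ _
  have hbij := hψ.bijective_of_nat_card_le (by rw [hcardaut, hrange])
  let φ : ResidueField Q.O ≃ₐ[ResidueField P.O] ResidueField Q.O :=
    (FiniteField.frobeniusAlgEquivOfAlgebraic (ResidueField P.O) (ResidueField Q.O)) ^ j
  have hφ : ∀ x : ResidueField Q.O, φ x = x ^ (Nat.card k ^ (P.deg * j)) := by
    intro x
    have h1 : Fintype.card (ResidueField P.O) = Nat.card k ^ P.deg := by
      rw [← Nat.card_eq_fintype_card]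
      exact Module.natCard_eq_pow_finrank
    change ((FiniteField.frobeniusAlgEquivOfAlgebraic (ResidueField P.O) (ResidueField Q.O)) ^ j) x = _
    rw [AlgEquiv.coe_pow, FiniteField.coe_frobeniusAlgEquivOfAlgebraic_iterate, h1, ← pow_mul]
  obtain ⟨⟨τ, σ, hσ⟩, hτ⟩ := hbij.2 φ
  refine ⟨σ.1, fun z hz => ?_⟩
  have h1 : σ • (residue Q.O ⟨z, hz⟩) = (residue Q.O ⟨z, hz⟩) ^ (Nat.card k ^ (P.deg * j)) := by
    rw [← hφ, ← hτ]
    change _ = τ (residue Q.O ⟨z, hz⟩)
    rw [← hσ]
    rfl
  rw [← ResidueField.residue_smul, ← map_pow, ← sub_eq_zero, ← map_sub, residue_eq_zero_iff,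
    ff_mem_maximalIdeal_iff] at h1
  exact h1

end Groth.Agent.Lib.Helper55
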