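import Mathlib

set_option autoImplicit false

namespace Groth.Agent.Lib.Helper55.GL2

open Matrix

variable {p : ℕ} [hp : Fact p.Prime]

/-- reduction of matrices mod `p` -/
noncomputable def red : Matrix (Fin 2) (Fin 2) ℤ_[p] →+* Matrix (Fin 2) (Fin 2) (ZMod p) :=
  (PadicInt.toZMod (p := p)).mapMatrix

theorem red_apply (X : Matrix (Fin 2) (Fin 2) ℤ_[p]) (i j : Fin 2) :
    red X i j = PadicInt.toZMod (X i j) := rfl

theorem toZMod_p : PadicInt.toZMod (p := p) (p : ℤ_[p]) = 0 := by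
  simp

theorem toZMod_eq_zero_iff (x : ℤ_[p]) : PadicInt.toZMod x = 0 ↔ (p : ℤ_[p]) ∣ x := by
  have : PadicInt.toZMod x = 0 ↔ x ∈ RingHom.ker (PadicInt.toZMod (p := p)) := Iff.rfl
  rw [this, PadicInt.ker_toZMod, PadicInt.maximalIdeal_eq_span_p, Ideal.mem_span_singleton]

theorem isUnit_of_toZMod_ne_zero {x : ℤ_[p]} (h : PadicInt.toZMod x ≠ 0) : IsUnit x := by
  by_contra hx
  apply h
  have : x ∈ IsLocalRing.maximalIdeal ℤ_[p] := by
    rw [IsLocalRing.mem_maximalIdeal]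
    exact hx
  rw [← PadicInt.ker_toZMod] at this
  exact this

theorem red_smul_p (X : Matrix (Fin 2) (Fin 2) ℤ_[p]) : red ((p : ℤ_[p]) • X) = 0 := by
  ext i j
  rw [red_apply]
  simp

theorem red_eq_zero_iff (X : Matrix (Fin 2) (Fin 2) ℤ_[p]) :
    red X = 0 ↔ ∃ Z : Matrix (Fin 2) (Fin 2) ℤ_[p], X = (p : ℤ_[p]) • Z := by
  constructor
  · intro h
    have h' : ∀ i j, ∃ z, X i j = (p : ℤ_[p]) * z := by
      intro i j
      have : PadicInt.toZMod (X i j) = 0 := by
        rw [← red_apply, h]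
        rfl
      exact (toZMod_eq_zero_iff _).mp this
    choose z hz using h'
    refine ⟨Matrix.of z, ?_⟩
    ext i j
    simp [hz i j]
  · rintro ⟨Z, rfl⟩
    exact red_smul_p Z

/-- lifting a matrix mod `p` -/
theorem exists_lift (Y : Matrix (Fin 2) (Fin 2) (ZMod p)) :
    ∃ X : Matrix (Fin 2) (Fin 2) ℤ_[p], red X = Y := by
  have hs := ZMod.ringHom_surjective (PadicInt.toZMod (p := p))
  choose l hl using hs
  refine ⟨Matrix.of fun i j => l (Y i j), ?_⟩
  ext i j
  rw [red_apply]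
  simp [hl]

theorem red_det (X : Matrix (Fin 2) (Fin 2) ℤ_[p]) :
    PadicInt.toZMod X.det = (red X).det := by
  rw [red, RingHom.map_det]

/-- GL₂(ℤ_p) → GL₂(𝔽_p) is surjective -/
theorem GLmap_surjective :
    Function.Surjective (Matrix.GeneralLinearGroup.map (n := Fin 2) (PadicInt.toZMod (p := p))) := by
  intro S
  obtain ⟨X, hX⟩ := exists_lift (S : Matrix (Fin 2) (Fin 2) (ZMod p))
  have hdet : IsUnit X.det := by
    apply isUnit_of_toZMod_ne_zero
    rw [red_det, hX]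
    have := (Matrix.isUnit_iff_isUnit_det _).mp S.isUnit
    exact this.ne_zero
  refine ⟨Matrix.nonsingInvUnit X hdet, ?_⟩
  apply Units.ext
  exact hX

end Groth.Agent.Lib.Helper55.GL2
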