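import Groth.Agent.Lib.Helper55.FunFld.GL2a

set_option autoImplicit false

namespace Groth.Agent.Lib.Helper55.GL2

open Matrix

variable {p : ℕ} [hp : Fact p.Prime]
variable {𝔊 : Type*} [Group 𝔊] (ϕ : 𝔊 →* GL (Fin 2) ℤ_[p])

/-- the matrix of `ϕ g` -/
noncomputable def ψ (g : 𝔊) : Matrix (Fin 2) (Fin 2) ℤ_[p] := ((ϕ g : GL (Fin 2) ℤ_[p]) : Matrix (Fin 2) (Fin 2) ℤ_[p])

theorem ψ_mul (g h : 𝔊) : ψ ϕ (g * h) = ψ ϕ g * ψ ϕ h := by
  simp [ψ]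

theorem ψ_one : ψ ϕ 1 = 1 := by simp [ψ]

theorem ψ_mul_inv (g : 𝔊) : ψ ϕ g * ψ ϕ g⁻¹ = 1 := by
  rw [← ψ_mul, mul_inv_cancel, ψ_one]

theorem red_ψ (g : 𝔊) :
    red (ψ ϕ g) = ((Matrix.GeneralLinearGroup.map (n := Fin 2) (PadicInt.toZMod (p := p)) (ϕ g) :
      GL (Fin 2) (ZMod p)) : Matrix (Fin 2) (Fin 2) (ZMod p)) := rfl

/-- the image of `ϕ⁻¹(Γ(n))` in `M₂(𝔽_p)` -/
def InV (n : ℕ) (Y : Matrix (Fin 2) (Fin 2) (ZMod p)) : Prop :=
  ∃ g : 𝔊, ∃ Z : Matrix (Fin 2) (Fin 2) ℤ_[p], ψ ϕ g = 1 + (p : ℤ_[p]) ^ n • Z ∧ red Z = Y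

theorem inV_zero (n : ℕ) : InV ϕ n 0 := ⟨1, 0, by simp [ψ_one], by simp⟩

theorem red_pow_smul {n : ℕ} (hn : 1 ≤ n) (Z : Matrix (Fin 2) (Fin 2) ℤ_[p]) :
    red ((p : ℤ_[p]) ^ n • Z) = 0 := by
  obtain ⟨m, rfl⟩ := Nat.exists_eq_add_of_le hn
  rw [pow_add, pow_one, mul_smul]
  exact red_smul_p _

theorem inV_add {n : ℕ} (hn : 1 ≤ n) {Y Y' : Matrix (Fin 2) (Fin 2) (ZMod p)}
    (h : InV ϕ n Y) (h' : InV ϕ n Y') : InV ϕ n (Y + Y') := by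
  obtain ⟨g, Z, hg, hZ⟩ := h
  obtain ⟨g', Z', hg', hZ'⟩ := h'
  refine ⟨g * g', Z + Z' + (p : ℤ_[p]) ^ n • (Z * Z'), ?_, ?_⟩
  · rw [ψ_mul, hg, hg']
    simp only [add_mul, mul_add, one_mul, mul_one, smul_add, Matrix.smul_mul, Matrix.mul_smul]
    abel
  · rw [map_add, map_add, hZ, hZ', red_pow_smul hn, add_zero]

theorem inV_nsmul {n : ℕ} (hn : 1 ≤ n) {Y : Matrix (Fin 2) (Fin 2) (ZMod p)}
    (h : InV ϕ n Y) (m : ℕ) : InV ϕ n (m • Y) := by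
  induction m with
  | zero => simpa using inV_zero ϕ n
  | succ m ih =>
    rw [succ_nsmul]
    exact inV_add ϕ hn ih h

theorem inV_conj
    (hsurj : Function.Surjective
      ((Matrix.GeneralLinearGroup.map (n := Fin 2) (PadicInt.toZMod (p := p))).comp ϕ))
    {n : ℕ} {Y : Matrix (Fin 2) (Fin 2) (ZMod p)} (h : InV ϕ n Y)
    (S : GL (Fin 2) (ZMod p)) (T : Matrix (Fin 2) (Fin 2) (ZMod p))
    (hT : T * (S : Matrix (Fin 2) (Fin 2) (ZMod p)) = (S : Matrix (Fin 2) (Fin 2) (ZMod p)) * Y) :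
    InV ϕ n T := by
  obtain ⟨g, Z, hg, hZ⟩ := h
  obtain ⟨k, hk⟩ := hsurj S
  have hk1 : red (ψ ϕ k) = (S : Matrix (Fin 2) (Fin 2) (ZMod p)) := by
    rw [red_ψ]
    exact congrArg (fun u : GL (Fin 2) (ZMod p) => (u : Matrix (Fin 2) (Fin 2) (ZMod p))) hk
  have hk2 : red (ψ ϕ k⁻¹) = ((S⁻¹ : GL (Fin 2) (ZMod p)) : Matrix (Fin 2) (Fin 2) (ZMod p)) := by
    rw [red_ψ, map_inv, map_inv]
    have : (Matrix.GeneralLinearGroup.map (n := Fin 2) (PadicInt.toZMod (p := p))) (ϕ k) = S := hk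
    rw [this]
  refine ⟨k * g * k⁻¹, ψ ϕ k * Z * ψ ϕ k⁻¹, ?_, ?_⟩
  · rw [ψ_mul, ψ_mul, hg]
    simp only [add_mul, mul_add, mul_one, Matrix.smul_mul, Matrix.mul_smul]
    rw [ψ_mul_inv]
  · rw [map_mul, map_mul, hk1, hk2, hZ, ← hT, mul_assoc]
    have : (S : Matrix (Fin 2) (Fin 2) (ZMod p)) *
        ((S⁻¹ : GL (Fin 2) (ZMod p)) : Matrix (Fin 2) (Fin 2) (ZMod p)) = 1 := by
      rw [← Units.val_mul, mul_inv_cancel]
      rfl
    rw [this, mul_one]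


theorem inV_all
    (hsurj : Function.Surjective
      ((Matrix.GeneralLinearGroup.map (n := Fin 2) (PadicInt.toZMod (p := p))).comp ϕ))
    {n : ℕ} (hn : 1 ≤ n) {a : ZMod p} (ha : a ≠ 0) (h : InV ϕ n !![a, 0; 0, 0])
    (Y : Matrix (Fin 2) (Fin 2) (ZMod p)) : InV ϕ n Y := by
  -- E11
  have h11 : ∀ t : ZMod p, InV ϕ n !![t, 0; 0, 0] := by
    intro t
    have := inV_nsmul ϕ hn h (t / a).val
    convert this using 1
    ext i j
    fin_cases i <;> fin_cases j <;> simp [div_mul_cancel₀ _ ha]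
  -- E22
  have h22 : ∀ t : ZMod p, InV ϕ n !![0, 0; 0, t] := by
    intro t
    refine inV_conj ϕ hsurj (h11 t)
      (Matrix.GeneralLinearGroup.mkOfDetNeZero !![0, 1; 1, 0] (by simp [Matrix.det_fin_two_of])) _ ?_
    ext i j
    fin_cases i <;> fin_cases j <;>
      simp [Matrix.GeneralLinearGroup.mkOfDetNeZero, Matrix.mul_apply, Fin.sum_univ_two]
  have h12 : ∀ t : ZMod p, InV ϕ n !![0, t; 0, 0] := by
    intro t
    have h1 : InV ϕ n !![-t, t; 0, 0] := by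
      refine inV_conj ϕ hsurj (h11 (-t))
        (Matrix.GeneralLinearGroup.mkOfDetNeZero !![1, 1; 0, 1] (by simp [Matrix.det_fin_two_of])) _ ?_
      ext i j
      fin_cases i <;> fin_cases j <;>
        simp [Matrix.GeneralLinearGroup.mkOfDetNeZero, Matrix.mul_apply, Fin.sum_univ_two]
    have := inV_add ϕ hn h1 (h11 t)
    convert this using 1
    ext i j
    fin_cases i <;> fin_cases j <;> simp
  have h21 : ∀ t : ZMod p, InV ϕ n !![0, 0; t, 0] := by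
    intro t
    have h1 : InV ϕ n !![t, 0; t, 0] := by
      refine inV_conj ϕ hsurj (h11 t)
        (Matrix.GeneralLinearGroup.mkOfDetNeZero !![1, 0; 1, 1] (by simp [Matrix.det_fin_two_of])) _ ?_
      ext i j
      fin_cases i <;> fin_cases j <;>
        simp [Matrix.GeneralLinearGroup.mkOfDetNeZero, Matrix.mul_apply, Fin.sum_univ_two]
    have := inV_add ϕ hn h1 (h11 (-t))
    convert this using 1
    ext i j
    fin_cases i <;> fin_cases j <;> simp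
  have := inV_add ϕ hn (inV_add ϕ hn (h11 (Y 0 0)) (h12 (Y 0 1)))
    (inV_add ϕ hn (h21 (Y 1 0)) (h22 (Y 1 1)))
  convert this using 1
  ext i j
  fin_cases i <;> fin_cases j <;> simp

end Groth.Agent.Lib.Helper55.GL2
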