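import Groth.Agent.Lib.Helper55.FunFld.GL2b

set_option autoImplicit false

namespace Groth.Agent.Lib.Helper55.GL2

open Matrix

variable {p : ℕ} [hp : Fact p.Prime]
variable {𝔊 : Type*} [Group 𝔊] (ϕ : 𝔊 →* GL (Fin 2) ℤ_[p])

/-- elements of `𝔊` whose image is congruent to `X` mod `p^n` -/
def K (X : Matrix (Fin 2) (Fin 2) ℤ_[p]) (n : ℕ) : Set 𝔊 :=
  {g | ∃ Z : Matrix (Fin 2) (Fin 2) ℤ_[p], ψ ϕ g = X + (p : ℤ_[p]) ^ n • Z}

theorem K_one_nonempty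
    (hsurj : Function.Surjective
      ((Matrix.GeneralLinearGroup.map (n := Fin 2) (PadicInt.toZMod (p := p))).comp ϕ))
    (X : GL (Fin 2) ℤ_[p]) : (K ϕ (X : Matrix (Fin 2) (Fin 2) ℤ_[p]) 1).Nonempty := by
  obtain ⟨g, hg⟩ := hsurj (Matrix.GeneralLinearGroup.map (n := Fin 2) (PadicInt.toZMod (p := p)) X)
  have h1 : red (ψ ϕ g) = red (X : Matrix (Fin 2) (Fin 2) ℤ_[p]) := by
    rw [red_ψ]
    exact congrArg (fun u : GL (Fin 2) (ZMod p) => (u : Matrix (Fin 2) (Fin 2) (ZMod p))) hg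
  have h2 : red (ψ ϕ g - (X : Matrix (Fin 2) (Fin 2) ℤ_[p])) = 0 := by
    rw [map_sub, h1, sub_self]
  obtain ⟨Z, hZ⟩ := (red_eq_zero_iff _).mp h2
  refine ⟨g, Z, ?_⟩
  rw [pow_one, ← hZ]
  abel

theorem K_succ_nonempty
    (hsurj : Function.Surjective
      ((Matrix.GeneralLinearGroup.map (n := Fin 2) (PadicInt.toZMod (p := p))).comp ϕ))
    (hall : ∀ n : ℕ, 1 ≤ n → ∀ Y : Matrix (Fin 2) (Fin 2) (ZMod p), InV ϕ n Y)
    (X : GL (Fin 2) ℤ_[p]) {n : ℕ} (hn : 1 ≤ n)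
    (h : (K ϕ (X : Matrix (Fin 2) (Fin 2) ℤ_[p]) n).Nonempty) :
    (K ϕ (X : Matrix (Fin 2) (Fin 2) ℤ_[p]) (n + 1)).Nonempty := by
  obtain ⟨g, Z, hg⟩ := h
  set Xm : Matrix (Fin 2) (Fin 2) ℤ_[p] := (X : Matrix (Fin 2) (Fin 2) ℤ_[p]) with hXm
  set Xi : Matrix (Fin 2) (Fin 2) ℤ_[p] := ((X⁻¹ : GL (Fin 2) ℤ_[p]) : Matrix (Fin 2) (Fin 2) ℤ_[p])
    with hXi
  have hXiX : Xi * Xm = 1 := by
    rw [hXi, hXm, ← Units.val_mul, inv_mul_cancel]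
    rfl
  obtain ⟨k, Y, hk, hY⟩ := hall n hn (-(red Z * red Xi))
  have h0 : red (Z + Y * Xm) = 0 := by
    rw [map_add, map_mul, hY, neg_mul, mul_assoc, ← map_mul, hXiX, map_one, mul_one, add_neg_cancel]
  obtain ⟨W, hW⟩ := (red_eq_zero_iff _).mp h0
  obtain ⟨m, rfl⟩ := Nat.exists_eq_add_of_le hn
  refine ⟨k * g, W + (p : ℤ_[p]) ^ m • (Y * Z), ?_⟩
  rw [ψ_mul, hk, hg]
  have e1 : (1 + (p : ℤ_[p]) ^ (1 + m) • Y) * (Xm + (p : ℤ_[p]) ^ (1 + m) • Z)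
      = Xm + (p : ℤ_[p]) ^ (1 + m) • (Z + Y * Xm)
        + ((p : ℤ_[p]) ^ (1 + m) * (p : ℤ_[p]) ^ (1 + m)) • (Y * Z) := by
    simp only [add_mul, mul_add, one_mul, Matrix.smul_mul, Matrix.mul_smul, smul_add, smul_smul]
    abel
  rw [e1, hW, smul_add, smul_smul, smul_smul, add_assoc]
  congr 2
  · ring_nf
  · congr 1
    ring

theorem K_nonempty
    (hsurj : Function.Surjective
      ((Matrix.GeneralLinearGroup.map (n := Fin 2) (PadicInt.toZMod (p := p))).comp ϕ))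
    (hall : ∀ n : ℕ, 1 ≤ n → ∀ Y : Matrix (Fin 2) (Fin 2) (ZMod p), InV ϕ n Y)
    (X : GL (Fin 2) ℤ_[p]) (n : ℕ) :
    (K ϕ (X : Matrix (Fin 2) (Fin 2) ℤ_[p]) (n + 1)).Nonempty := by
  induction n with
  | zero => exact K_one_nonempty ϕ hsurj X
  | succ n ih => exact K_succ_nonempty ϕ hsurj hall X (by omega) ih

theorem K_anti (X : Matrix (Fin 2) (Fin 2) ℤ_[p]) (n : ℕ) : K ϕ X (n + 1) ⊆ K ϕ X n := by
  rintro g ⟨Z, hZ⟩
  refine ⟨(p : ℤ_[p]) • Z, ?_⟩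
  rw [hZ, smul_smul, pow_succ]

theorem K_eq (X : Matrix (Fin 2) (Fin 2) ℤ_[p]) (n : ℕ) :
    K ϕ X n = ⋂ i, ⋂ j, {g | ‖ψ ϕ g i j - X i j‖ ≤ (p : ℝ) ^ (-(n : ℤ))} := by
  ext g
  simp only [K, Set.mem_setOf_eq, Set.mem_iInter]
  constructor
  · rintro ⟨Z, hZ⟩ i j
    rw [PadicInt.norm_le_pow_iff_mem_span_pow, Ideal.mem_span_singleton]
    refine ⟨Z i j, ?_⟩
    rw [hZ]
    simp
  · intro h
    have h' : ∀ i j, ∃ z, ψ ϕ g i j - X i j = (p : ℤ_[p]) ^ n * z := by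
      intro i j
      have := h i j
      rw [PadicInt.norm_le_pow_iff_mem_span_pow, Ideal.mem_span_singleton] at this
      exact this
    choose z hz using h'
    refine ⟨Matrix.of z, ?_⟩
    ext i j
    have := hz i j
    simp only [Matrix.add_apply, Matrix.smul_apply, Matrix.of_apply, smul_eq_mul]
    rw [← this]
    ring

theorem isClosed_K [TopologicalSpace 𝔊] (hϕ : Continuous (ψ ϕ))
    (X : Matrix (Fin 2) (Fin 2) ℤ_[p]) (n : ℕ) : IsClosed (K ϕ X n) := by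
  rw [K_eq]
  refine isClosed_iInter fun i => isClosed_iInter fun j => ?_
  refine isClosed_le ?_ continuous_const
  exact continuous_norm.comp ((hϕ.matrix_elem i j).sub continuous_const)

theorem eq_zero_of_forall_dvd {x : ℤ_[p]} (h : ∀ n : ℕ, (p : ℤ_[p]) ^ (n + 1) ∣ x) : x = 0 := by
  have hI : Ideal.span {(p : ℤ_[p])} ≠ ⊤ := by
    rw [← PadicInt.maximalIdeal_eq_span_p]
    exact Ideal.IsPrime.ne_top'
  have := Ideal.iInf_pow_eq_bot_of_isLocalRing (Ideal.span {(p : ℤ_[p])}) hI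
  have hx : x ∈ ⨅ i, Ideal.span {(p : ℤ_[p])} ^ i := by
    rw [Ideal.mem_iInf]
    intro i
    cases i with
    | zero => simp
    | succ n =>
      rw [Ideal.span_singleton_pow, Ideal.mem_span_singleton]
      exact h n
  rw [this] at hx
  exact hx

theorem surjective_of
    [TopologicalSpace 𝔊] [CompactSpace 𝔊] (hϕ : Continuous (ψ ϕ))
    (hsurj : Function.Surjective
      ((Matrix.GeneralLinearGroup.map (n := Fin 2) (PadicInt.toZMod (p := p))).comp ϕ))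
    (hall : ∀ n : ℕ, 1 ≤ n → ∀ Y : Matrix (Fin 2) (Fin 2) (ZMod p), InV ϕ n Y) :
    Function.Surjective ϕ := by
  intro X
  have hne := IsCompact.nonempty_iInter_of_sequence_nonempty_isCompact_isClosed
    (fun n => K ϕ (X : Matrix (Fin 2) (Fin 2) ℤ_[p]) (n + 1))
    (fun n => K_anti ϕ _ (n + 1)) (fun n => K_nonempty ϕ hsurj hall X n)
    (isClosed_K ϕ hϕ _ _).isCompact (fun n => isClosed_K ϕ hϕ _ _)
  obtain ⟨g, hg⟩ := hne
  rw [Set.mem_iInter] at hg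
  refine ⟨g, ?_⟩
  apply Units.ext
  ext i j
  have : ψ ϕ g i j - (X : Matrix (Fin 2) (Fin 2) ℤ_[p]) i j = 0 := by
    apply eq_zero_of_forall_dvd
    intro n
    obtain ⟨Z, hZ⟩ := hg n
    refine ⟨Z i j, ?_⟩
    rw [hZ]
    simp
  exact sub_eq_zero.mp this

end Groth.Agent.Lib.Helper55.GL2
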