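import Groth.Agent.Lib.Helper55.FunFld.FrobGal
import Groth.Agent.Lib.Helper63.SumEF
import Groth.Agent.Lib.Helper63.PurelyInsep

/-! The counting argument in a Galois extension of function fields over a finite field
(lower bound for `N_r`). -/

set_option autoImplicit false
set_option linter.unusedSectionVars false
set_option linter.style.haveILetI false

open FunFld Module WithZero IsLocalRing
open Groth.Agent.Lib.Helper63.FunFldExt Groth.Agent.Lib.Helper63.FundIneq
  Groth.Agent.Lib.Helper63.Galois Groth.Agent.Lib.Helper63.SumEF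

namespace Groth.Agent.Lib.Helper55

section Basic

variable {k K E : Type*} [Field k] [Field K] [Field E] [Algebra k K] [Algebra K E]
  [Algebra k E] [IsScalarTower k K E]

/-- If every element of the residue field of `P` is fixed by the `q^r`-power map, then
`deg P ∣ r`. -/
theorem gc_deg_dvd_of_pow [Finite k] (hK : IsFunctionField k K) (P : Place k K) (r : ℕ)
    (h : ∀ a : K, P.1 a ≤ 1 → P.1 (a - a ^ (Nat.card k ^ r)) < 1) : P.deg ∣ r := by
  classical
  letI := Fintype.ofFinite k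
  haveI := ff_finiteDimensional_residueField hK P
  haveI : Finite (ResidueField P.O) := Module.finite_of_finite k
  have hord := FiniteField.orderOf_frobeniusAlgHom k (ResidueField P.O)
  suffices h1 : orderOf (FiniteField.frobeniusAlgHom k (ResidueField P.O)) ∣ r by
    rw [hord] at h1
    exact h1
  apply orderOf_dvd_of_pow_eq_one
  apply AlgHom.ext
  intro x
  obtain ⟨a, rfl⟩ := residue_surjective x
  rw [AlgHom.coe_pow, FiniteField.coe_frobeniusAlgHom, pow_iterate, AlgHom.one_apply,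
    ← Nat.card_eq_fintype_card]
  beta_reduce
  rw [← map_pow]
  symm
  rw [← sub_eq_zero, ← map_sub, residue_eq_zero_iff, ff_mem_maximalIdeal_iff]
  exact h a.1 a.2

/-- A Frobenius element fixing `K` forces the place below in `K` to have degree dividing `r`. -/
theorem gc_deg_dvd [Finite k] (hK : IsFunctionField k K) {P : Place k E} {P₁ : Place k K}
    (hP : IsOver P P₁) (τ : E ≃ₐ[K] E) (r : ℕ)
    (hτ : FrobAt (τ.restrictScalars k) (Nat.card k ^ r) P) : P₁.deg ∣ r := by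
  obtain ⟨e, he⟩ := hP
  have he0 : e ≠ 0 := isOverWith_ne_zero he
  apply gc_deg_dvd_of_pow hK P₁ r
  intro a ha
  have h1 : P.1 (algebraMap K E a) ≤ 1 := by
    rw [he]; exact pow_le_one₀ zero_le ha
  have h2 := hτ (algebraMap K E a) h1
  rw [AlgEquiv.restrictScalars_apply, τ.commutes, ← map_pow, ← map_sub, he] at h2
  by_contra hcon
  push Not at hcon
  exact absurd h2 (not_lt.2 (one_le_pow₀ hcon))

theorem gc_sum_deg_le [FiniteDimensional K E] (hK : IsFunctionField k K) (P₁ : Place k K)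
    (Qs : Finset (Place k E)) (hQs : ∀ Q, Q ∈ Qs ↔ IsOver Q P₁) :
    ∑ Q ∈ Qs, Q.deg ≤ Module.finrank K E * P₁.deg := by
  rw [← sum_ramIdx_mul_deg_eq (K' := E) hK P₁ Qs hQs]
  refine Finset.sum_le_sum fun Q hQ => ?_
  obtain ⟨e, he⟩ := (hQs Q).1 hQ
  rw [ramIdx_eq he]
  exact Nat.le_mul_of_pos_left _ (Nat.pos_of_ne_zero (isOverWith_ne_zero he))

theorem gc_sum_deg_eq [FiniteDimensional K E] (hK : IsFunctionField k K) (P₁ : Place k K)
    (Qs : Finset (Place k E)) (hQs : ∀ Q, Q ∈ Qs ↔ IsOver Q P₁)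
    (hunr : ∀ Q : Place k E, IsOver Q P₁ → IsOverWith Q P₁ 1) :
    ∑ Q ∈ Qs, Q.deg = Module.finrank K E * P₁.deg := by
  rw [← sum_ramIdx_mul_deg_eq (K' := E) hK P₁ Qs hQs]
  refine Finset.sum_congr rfl fun Q hQ => ?_
  rw [ramIdx_eq (hunr Q ((hQs Q).1 hQ)), one_mul]

end Basic


section Main

variable {k F K E : Type*} [Field k] [Field F] [Field K] [Field E]
  [Algebra k F] [Algebra k K] [Algebra k E] [Algebra F K] [Algebra K E] [Algebra F E]
  [IsScalarTower k F K] [IsScalarTower k K E] [IsScalarTower k F E] [IsScalarTower F K E]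

/-- The counting inequality: `[E:F] N_r(F) ≤ [E:F] ρ + [E:K] N_r(K) + ([E:F] - [E:K]) B`, where
`B` bounds the twisted point counts of `E` and `ρ` is the degree of the ramification locus. -/
theorem gc_count [Finite k] [FiniteDimensional F E] [IsGalois F E]
    (hF : IsFunctionField k F) (hK : IsFunctionField k K) (r : ℕ) (hr : 0 < r) (B : ℕ)
    (hB : ∀ σ : E ≃ₐ[F] E, ∀ T : Finset (Place k E),
      (∀ P ∈ T, FrobAt (σ.restrictScalars k) (Nat.card k ^ r) P) → ∑ P ∈ T, P.deg ≤ B)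
    (R : Finset (Place k F))
    (hR : ∀ P₀ : Place k F, P₀ ∉ R → ∀ Q : Place k E, IsOver Q P₀ → IsOverWith Q P₀ 1) :
    Module.finrank F E * ffN k F r ≤ Module.finrank F E * (∑ P₀ ∈ R, P₀.deg) +
      Module.finrank K E * ffN k K r + (Module.finrank F E - Module.finrank K E) * B := by
  classical
  haveI : FiniteDimensional K E := FiniteDimensional.right F K E
  haveI : IsGalois K E := IsGalois.tower_top_of_isGalois F K E
  haveI : Algebra.IsAlgebraic K E := Algebra.IsAlgebraic.of_finite K E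
  set n := Module.finrank F E with hn
  set h := Module.finrank K E with hh
  set S₀ : Finset (Place k F) := (ff_finite_places_deg_le hF r).toFinset with hS₀
  have hS₀mem : ∀ P : Place k F, P ∈ S₀ ↔ P.deg ≤ r := by
    intro P; rw [hS₀, Set.Finite.mem_toFinset]; rfl
  set PP₀ := S₀.filter (fun P => P.deg ∣ r ∧ P ∉ R) with hPP₀
  have h1 : ffN k F r ≤ ∑ P ∈ PP₀, P.deg + ∑ P ∈ R, P.deg := by
    rw [ffN_eq_sum S₀ (fun P hP => (hS₀mem P).2 (Nat.le_of_dvd hr hP)), ← Finset.sum_filter]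
    have hdisj : Disjoint PP₀ R := by
      rw [Finset.disjoint_left]
      intro P hP hPR
      rw [hPP₀, Finset.mem_filter] at hP
      exact hP.2.2 hPR
    rw [← Finset.sum_union hdisj]
    apply Finset.sum_le_sum_of_subset
    intro P hP
    rw [Finset.mem_filter] at hP
    rw [Finset.mem_union]
    by_cases hPR : P ∈ R
    · exact Or.inr hPR
    · exact Or.inl (Finset.mem_filter.2 ⟨hP.1, hP.2, hPR⟩)
  let QsOf : Place k F → Finset (Place k E) := fun P₀ =>
    (finite_setOf_isOver (K' := E) P₀).toFinset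
  have hQsOf : ∀ P₀ Q, Q ∈ QsOf P₀ ↔ IsOver Q P₀ := fun P₀ Q => Set.Finite.mem_toFinset _
  set QQ := PP₀.biUnion QsOf with hQQ
  have hdisj : (PP₀ : Set (Place k F)).PairwiseDisjoint QsOf := by
    intro P₁ _ P₂ _ hne
    rw [Function.onFun, Finset.disjoint_left]
    intro Q h1 h2
    exact hne (isOver_unique_below ((hQsOf P₁ Q).1 h1) ((hQsOf P₂ Q).1 h2))
  have h2 : ∑ P ∈ QQ, P.deg = n * ∑ P₀ ∈ PP₀, P₀.deg := by
    rw [hQQ, Finset.sum_biUnion hdisj, Finset.mul_sum]
    refine Finset.sum_congr rfl fun P₀ hP₀ => ?_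
    rw [hPP₀, Finset.mem_filter] at hP₀
    exact gc_sum_deg_eq hF P₀ _ (hQsOf P₀) (hR P₀ hP₀.2.2)
  have hfrob : ∀ P ∈ QQ, ∃ σ : E ≃ₐ[F] E,
      FrobAt (σ.restrictScalars k) (Nat.card k ^ r) P := by
    intro P hP
    rw [hQQ, Finset.mem_biUnion] at hP
    obtain ⟨P₀, hP₀, hPP₀'⟩ := hP
    rw [hPP₀, Finset.mem_filter] at hP₀
    obtain ⟨j, hj⟩ := hP₀.2.1
    obtain ⟨σ, hσ⟩ := ff_exists_frobAt hF ((hQsOf P₀ P).1 hPP₀') j
    refine ⟨σ, fun z hz => ?_⟩
    rw [hj]
    exact hσ z hz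
  choose! σP hσP using hfrob
  have h3 : ∑ P ∈ QQ, P.deg =
      ∑ σ : E ≃ₐ[F] E, ∑ P ∈ QQ.filter (fun P => σP P = σ), P.deg :=
    (Finset.sum_fiberwise QQ σP _).symm
  let ι : (E ≃ₐ[K] E) → (E ≃ₐ[F] E) := fun τ => τ.restrictScalars F
  have hι : Function.Injective ι := AlgEquiv.restrictScalars_injective F
  set Him : Finset (E ≃ₐ[F] E) := Finset.univ.image ι with hHim
  have hcardH : Him.card = h := by
    rw [hHim, Finset.card_image_of_injective _ hι, Finset.card_univ, ← Nat.card_eq_fintype_card,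
      IsGalois.card_aut_eq_finrank]
  have hcardG : Fintype.card (E ≃ₐ[F] E) = n := by
    rw [← Nat.card_eq_fintype_card, IsGalois.card_aut_eq_finrank]
  have hnσ : ∀ σ : E ≃ₐ[F] E, ∑ P ∈ QQ.filter (fun P => σP P = σ), P.deg ≤ B := by
    intro σ
    apply hB σ
    intro P hP
    rw [Finset.mem_filter] at hP
    rw [← hP.2]
    exact hσP P hP.1
  have h4 : ∑ σ ∈ Himᶜ, ∑ P ∈ QQ.filter (fun P => σP P = σ), P.deg ≤ (n - h) * B := by
    have := Finset.sum_le_card_nsmul Himᶜ _ B (fun σ _ => hnσ σ)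
    rwa [Finset.card_compl, hcardG, hcardH, smul_eq_mul] at this
  -- the part over `H`
  set S₁ : Finset (Place k K) := (ff_finite_places_deg_le hK r).toFinset with hS₁
  have hS₁mem : ∀ P : Place k K, P ∈ S₁ ↔ P.deg ≤ r := by
    intro P; rw [hS₁, Set.Finite.mem_toFinset]; rfl
  set PP₁ := S₁.filter (fun P => P.deg ∣ r) with hPP₁
  let QsOfK : Place k K → Finset (Place k E) := fun P₁ =>
    (finite_setOf_isOver (K' := E) P₁).toFinset
  have hQsOfK : ∀ P₁ Q, Q ∈ QsOfK P₁ ↔ IsOver Q P₁ := fun P₁ Q => Set.Finite.mem_toFinset _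
  have hdisjK : (PP₁ : Set (Place k K)).PairwiseDisjoint QsOfK := by
    intro P₁ _ P₂ _ hne
    rw [Function.onFun, Finset.disjoint_left]
    intro Q h1 h2
    exact hne (isOver_unique_below ((hQsOfK P₁ Q).1 h1) ((hQsOfK P₂ Q).1 h2))
  have hdisjσ : (Him : Set (E ≃ₐ[F] E)).PairwiseDisjoint
      (fun σ => QQ.filter (fun P => σP P = σ)) := by
    intro σ₁ _ σ₂ _ hne
    rw [Function.onFun, Finset.disjoint_left]
    intro P h1 h2
    rw [Finset.mem_filter] at h1 h2
    exact hne (h1.2.symm.trans h2.2)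
  have h5 : ∑ σ ∈ Him, ∑ P ∈ QQ.filter (fun P => σP P = σ), P.deg ≤ h * ffN k K r := by
    rw [← Finset.sum_biUnion hdisjσ]
    have hsub : Him.biUnion (fun σ => QQ.filter (fun P => σP P = σ)) ⊆ PP₁.biUnion QsOfK := by
      intro P hP
      rw [Finset.mem_biUnion] at hP
      obtain ⟨σ, hσ, hPσ⟩ := hP
      rw [Finset.mem_filter] at hPσ
      rw [hHim, Finset.mem_image] at hσ
      obtain ⟨τ, -, rfl⟩ := hσ
      obtain ⟨P₁, hP₁⟩ := exists_isOver_below (K := K) P
      have hfr := hσP P hPσ.1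
      rw [hPσ.2] at hfr
      have hdvd : P₁.deg ∣ r := gc_deg_dvd hK hP₁ τ r (fun z hz => hfr z hz)
      rw [Finset.mem_biUnion]
      refine ⟨P₁, ?_, (hQsOfK P₁ P).2 hP₁⟩
      rw [hPP₁, Finset.mem_filter, hS₁mem]
      exact ⟨Nat.le_of_dvd hr hdvd, hdvd⟩
    calc ∑ P ∈ Him.biUnion (fun σ => QQ.filter (fun P => σP P = σ)), P.deg
        ≤ ∑ P ∈ PP₁.biUnion QsOfK, P.deg := Finset.sum_le_sum_of_subset hsub
      _ = ∑ P₁ ∈ PP₁, ∑ P ∈ QsOfK P₁, P.deg := Finset.sum_biUnion hdisjK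
      _ ≤ ∑ P₁ ∈ PP₁, h * P₁.deg :=
          Finset.sum_le_sum fun P₁ _ => gc_sum_deg_le hK P₁ _ (hQsOfK P₁)
      _ = h * ffN k K r := by
          rw [ffN_eq_sum S₁ (fun P hP => (hS₁mem P).2 (Nat.le_of_dvd hr hP)), ← Finset.sum_filter,
            Finset.mul_sum]
  have h6 : ∑ P ∈ QQ, P.deg ≤ h * ffN k K r + (n - h) * B := by
    rw [h3, ← Finset.sum_add_sum_compl Him]
    exact Nat.add_le_add h5 h4
  calc n * ffN k F r ≤ n * (∑ P ∈ PP₀, P.deg + ∑ P ∈ R, P.deg) := Nat.mul_le_mul_left n h1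
    _ = n * (∑ P ∈ R, P.deg) + ∑ P ∈ QQ, P.deg := by rw [h2]; ring
    _ ≤ n * (∑ P ∈ R, P.deg) + (h * ffN k K r + (n - h) * B) := Nat.add_le_add_left h6 _
    _ = n * (∑ P ∈ R, P.deg) + h * ffN k K r + (n - h) * B := by ring

end Main

end Groth.Agent.Lib.Helper55
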