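import Groth.Agent.Lib.Helper55.FunFld.Apps

/-! Genus one. -/

set_option autoImplicit false

open FunFld Module

namespace Groth.Agent.Lib.Helper55

variable {k K : Type*} [Field k] [Field K] [Algebra k K]

/-- In genus one with a rational place `P₀`, every degree-zero class is `P - P₀` for a unique
rational place `P`. -/
theorem ff_genus_one_class (hK : IsFunctionField k K) (hg : genus k K = 1) (P₀ : Place k K)
    (hP : P₀.deg = 1) (D : Divisor k K) (hD : D.deg = 0) :
    ∃! P : Place k K, P.deg = 1 ∧
      ∃ x : K, x ≠ 0 ∧ D = Finsupp.single P 1 - Finsupp.single P₀ 1 + FunFld.div k x := by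
  have hdeg : (D + Finsupp.single P₀ 1).deg = 1 := by
    rw [ff_deg_add, ff_deg_single, hD, hP]; norm_num
  have h1 := ff_ell_eq_of_deg_ge hK (D + Finsupp.single P₀ 1) (by rw [hg, hdeg]; norm_num)
  rw [hdeg, hg] at h1
  have hpos : 0 < ell (D + Finsupp.single P₀ 1) := by
    have : (0 : ℤ) < ell (D + Finsupp.single P₀ 1) := by rw [h1]; norm_num
    exact_mod_cast this
  obtain ⟨z, hz0, hz⟩ := ff_exists_ne_zero_of_ell_pos hpos
  have h2 := (ff_mem_L_iff_div hK _ hz0).mp hz
  have h3 : (D + Finsupp.single P₀ 1 + FunFld.div k z).deg = 1 := by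
    rw [ff_deg_add, ff_deg_div hK, hdeg, add_zero]
  obtain ⟨P, hP1, hP2⟩ := ff_eq_single_of_deg_eq_one hK h2 h3
  refine ⟨P, ⟨hP2, z⁻¹, inv_ne_zero hz0, ?_⟩, ?_⟩
  · rw [ff_div_inv hK, ← hP1]; abel
  · rintro P' ⟨hP'1, x, hx0, hx⟩
    -- `P' - P = div (z⁻¹ / x)`
    have h4 : Finsupp.single P' 1 - Finsupp.single P 1 = FunFld.div k (z⁻¹ * x⁻¹) := by
      rw [ff_div_mul hK (inv_ne_zero hz0) (inv_ne_zero hx0), ff_div_inv hK, ff_div_inv hK]
      have h5 : Finsupp.single P 1 = D + Finsupp.single P₀ 1 + FunFld.div k z := hP1.symm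
      have h6 : (Finsupp.single P' 1 : Divisor k K) =
          D + Finsupp.single P₀ 1 - FunFld.div k x := by
        rw [hx]; abel
      rw [h5, h6]
      abel
    exact ff_eq_of_single_sub_single_eq_div hK (by omega) P' P hP2 _ h4

theorem ff_mul_mem_L {D E : Divisor k K} {x y : K} (hx : x ∈ L D) (hy : y ∈ L E) :
    x * y ∈ L (D + E) := by
  intro Q
  rw [map_mul, Finsupp.add_apply, WithZero.exp_add]
  exact mul_le_mul' (hx Q) (hy Q)

theorem ff_exists_mem_not_mem_of_ell_lt (hK : IsFunctionField k K) {D E : Divisor k K}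
    (h : ell D < ell E) : ∃ x ∈ L E, x ∉ L D := by
  by_contra hcon
  push Not at hcon
  have hle : L E ≤ L D := hcon
  have := ff_L_finiteDimensional hK D
  have := Submodule.finrank_mono hle
  unfold ell at h
  omega

/-- If `x ∈ L(nP) \ L((n-1)P)` then `ord_P x = -n`. -/
theorem ff_ord_eq_of_mem_not_mem {P : Place k K} {n : ℤ} {x : K}
    (h1 : x ∈ L (Finsupp.single P n : Divisor k K))
    (h2 : x ∉ L (Finsupp.single P (n - 1) : Divisor k K)) : P.ord x = -n := by
  classical
  have hx0 : x ≠ 0 := fun h => h2 (h ▸ Submodule.zero_mem _)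
  rw [ff_mem_L_iff] at h1 h2
  push Not at h2
  obtain ⟨Q, hQ⟩ := h2
  have hQP : Q = P := by
    by_contra hne
    have := h1 Q
    rw [Finsupp.single_apply, if_neg (Ne.symm hne)] at this hQ
    exact absurd this (not_le.mpr hQ)
  subst hQP
  have h3 := h1 Q
  rw [Finsupp.single_eq_same] at h3 hQ
  rw [ff_val_eq_exp_neg_ord Q hx0, WithZero.exp_le_exp] at h3
  rw [ff_val_eq_exp_neg_ord Q hx0, WithZero.exp_lt_exp] at hQ
  omega

/-- A `k`-linear relation among nonzero elements whose valuations at `P` are pairwise distinct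
(on the support of the relation) is trivial. -/
theorem ff_coeff_zero_of_val_injective {ι : Type*} [Fintype ι] (P : Place k K) (w : ι → K)
    (hw : ∀ i, w i ≠ 0) (c : ι → k) (hrel : ∑ i, algebraMap k K (c i) * w i = 0)
    (hinj : ∀ i j, c i ≠ 0 → c j ≠ 0 → P.1 (w i) = P.1 (w j) → i = j) : c = 0 := by
  classical
  by_contra hc
  have hne : (Finset.univ.filter fun i => c i ≠ 0).Nonempty := by
    by_contra hemp
    rw [Finset.not_nonempty_iff_eq_empty] at hemp
    apply hc
    funext i
    by_contra hi
    have hi' : c i ≠ 0 := hi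
    have : i ∈ Finset.univ.filter fun i => c i ≠ 0 := by simp [hi']
    rw [hemp] at this
    simp at this
  obtain ⟨i₀, hi₀, hmax⟩ := Finset.exists_max_image _ (fun i => P.1 (w i)) hne
  have hci₀ : c i₀ ≠ 0 := (Finset.mem_filter.mp hi₀).2
  have hsplit := Finset.add_sum_erase Finset.univ (fun i => algebraMap k K (c i) * w i)
    (Finset.mem_univ i₀)
  rw [hrel] at hsplit
  have hlt : P.1 (∑ i ∈ Finset.univ.erase i₀, algebraMap k K (c i) * w i) < P.1 (w i₀) := by
    apply Valuation.map_sum_lt _ (ff_val_ne_zero P (hw i₀))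
    intro i hi
    have hii₀ : i ≠ i₀ := Finset.ne_of_mem_erase hi
    by_cases hci : c i = 0
    · rw [hci, map_zero, zero_mul, map_zero]
      exact zero_lt_iff.mpr (ff_val_ne_zero P (hw i₀))
    · rw [map_mul, ff_val_const P hci, one_mul]
      have h1 := hmax i (by simp [hci])
      exact lt_of_le_of_ne h1 (fun heq => hii₀ (hinj i i₀ hci hci₀ heq))
  have heq : algebraMap k K (c i₀) * w i₀ =
      -(∑ i ∈ Finset.univ.erase i₀, algebraMap k K (c i) * w i) := by
    rw [eq_neg_iff_add_eq_zero]; exact hsplit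
  have : P.1 (algebraMap k K (c i₀) * w i₀) = P.1 (w i₀) := by
    rw [map_mul, ff_val_const P hci₀, one_mul]
  rw [heq, Valuation.map_neg] at this
  exact absurd this (ne_of_lt hlt)

theorem ff_single_le_single (P : Place k K) {a b : ℤ} (h : a ≤ b) :
    (Finsupp.single P a : Divisor k K) ≤ Finsupp.single P b := by
  classical
  intro Q
  rw [Finsupp.single_apply, Finsupp.single_apply]
  split_ifs
  · exact h
  · exact le_rfl

theorem ff_poleDiv_eq_single_of_mem_L (hK : IsFunctionField k K) {P : Place k K} {n : ℤ}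
    (hn : 0 ≤ n) {x : K} (h1 : x ∈ L (Finsupp.single P n : Divisor k K)) (h2 : P.ord x = -n) :
    (ff_poleDiv x : Divisor k K) = Finsupp.single P n := by
  classical
  have hx0 : x ≠ 0 ∨ n = 0 := by
    by_cases hx : x = 0
    · right; rw [hx, ff_ord_zero] at h2; omega
    · left; exact hx
  ext Q
  rw [ff_poleDiv_apply hK, Finsupp.single_apply]
  split_ifs with h
  · subst h; rw [h2, neg_neg]; exact max_eq_left hn
  · by_cases hx : x = 0
    · rw [hx, ff_ord_zero]; simp
    · have := h1 Q
      rw [Finsupp.single_apply, if_neg h, ff_val_eq_exp_neg_ord Q hx, WithZero.exp_le_exp] at this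
      exact max_eq_right this

open Polynomial in
/-- Weierstrass form of a genus-one function field with a rational place. -/
theorem ff_genus_one_weierstrass (hK : IsFunctionField k K) (hg : genus k K = 1)
    (P₀ : Place k K) (hP : P₀.deg = 1) :
    ∃ x y : K, x ∈ L (Finsupp.single P₀ 2 : Divisor k K) ∧
      y ∈ L (Finsupp.single P₀ 3 : Divisor k K) ∧
      P₀.ord x = -2 ∧ P₀.ord y = -3 ∧
      IntermediateField.adjoin k ({x, y} : Set K) = ⊤ ∧
      ∃ f g : Polynomial k, f.natDegree ≤ 1 ∧ g.natDegree = 3 ∧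
        y ^ 2 + Polynomial.aeval x f * y + Polynomial.aeval x g = 0 := by
  classical
  have hell : ∀ n : ℕ, 1 ≤ n → ell (Finsupp.single P₀ (n : ℤ) : Divisor k K) = n := by
    intro n hn
    have hdeg : Divisor.deg (Finsupp.single P₀ (n : ℤ) : Divisor k K) = n := by
      rw [ff_deg_single, hP]; simp
    have h1 := ff_ell_eq_of_deg_ge hK (Finsupp.single P₀ (n : ℤ))
      (by rw [hg, hdeg]; push_cast; have : (1 : ℤ) ≤ n := by exact_mod_cast hn
          linarith)
    rw [hdeg, hg] at h1
    have : (ell (Finsupp.single P₀ (n : ℤ) : Divisor k K) : ℤ) = n := by rw [h1]; push_cast; ring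
    exact_mod_cast this
  have hell1 := hell 1 le_rfl
  have hell2 := hell 2 (by norm_num)
  have hell3 := hell 3 (by norm_num)
  have hell6 := hell 6 (by norm_num)
  push_cast at hell1 hell2 hell3 hell6
  obtain ⟨x, hx2, hx1⟩ := ff_exists_mem_not_mem_of_ell_lt hK
    (D := (Finsupp.single P₀ 1 : Divisor k K)) (E := (Finsupp.single P₀ 2 : Divisor k K))
    (by rw [hell1, hell2]; norm_num)
  obtain ⟨y, hy3, hy2⟩ := ff_exists_mem_not_mem_of_ell_lt hK
    (D := (Finsupp.single P₀ 2 : Divisor k K)) (E := (Finsupp.single P₀ 3 : Divisor k K))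
    (by rw [hell2, hell3]; norm_num)
  have hordx : P₀.ord x = -2 := ff_ord_eq_of_mem_not_mem hx2 (by norm_num; exact hx1)
  have hordy : P₀.ord y = -3 := ff_ord_eq_of_mem_not_mem hy3 (by norm_num; exact hy2)
  have hx0 : x ≠ 0 := by
    rintro rfl
    rw [ff_ord_zero] at hordx; omega
  have hy0 : y ≠ 0 := by
    rintro rfl
    rw [ff_ord_zero] at hordy; omega
  refine ⟨x, y, hx2, hy3, hordx, hordy, ?_, ?_⟩
  · -- `K = k(x, y)`
    have hxt : Transcendental k x := by
      apply ff_transcendental_of_not_mem_range hK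
      rintro ⟨c, rfl⟩
      rw [ff_ord_const] at hordx; omega
    have hyt : Transcendental k y := by
      apply ff_transcendental_of_not_mem_range hK
      rintro ⟨c, rfl⟩
      rw [ff_ord_const] at hordy; omega
    have h2 := ff_deg_poleDiv hK hxt
    rw [ff_poleDiv_eq_single_of_mem_L hK (by norm_num) hx2 hordx, ff_deg_single, hP] at h2
    have h3 := ff_deg_poleDiv hK hyt
    rw [ff_poleDiv_eq_single_of_mem_L hK (by norm_num) hy3 hordy, ff_deg_single, hP] at h3
    have h2' : finrank (IntermediateField.adjoin k ({x} : Set K)) K = 2 := by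
      have : ((2 : ℕ) : ℤ) = finrank (IntermediateField.adjoin k ({x} : Set K)) K := by
        rw [← h2]; norm_num
      exact_mod_cast this.symm
    have h3' : finrank (IntermediateField.adjoin k ({y} : Set K)) K = 3 := by
      have : ((3 : ℕ) : ℤ) = finrank (IntermediateField.adjoin k ({y} : Set K)) K := by
        rw [← h3]; norm_num
      exact_mod_cast this.symm
    have hxF : IntermediateField.adjoin k ({x} : Set K) ≤
        IntermediateField.adjoin k ({x, y} : Set K) :=
      IntermediateField.adjoin.mono _ _ _ (by simp)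
    have hyF : IntermediateField.adjoin k ({y} : Set K) ≤
        IntermediateField.adjoin k ({x, y} : Set K) :=
      IntermediateField.adjoin.mono _ _ _ (by simp)
    have := ff_finite_of_transcendental hK hxt
    have := ff_finite_of_transcendental hK hyt
    have hd2 := IntermediateField.finrank_dvd_of_le_left (L := K) hxF
    have hd3 := IntermediateField.finrank_dvd_of_le_left (L := K) hyF
    rw [h2'] at hd2
    rw [h3'] at hd3
    apply IntermediateField.finrank_eq_one_iff_eq_top.mp
    have h1 : finrank (IntermediateField.adjoin k ({x, y} : Set K)) K ∣ 1 := by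
      have := Nat.dvd_sub hd3 hd2
      simpa using this
    exact Nat.dvd_one.mp h1
  · -- the cubic relation
    set w : Fin 7 → K := ![1, x, y, x ^ 2, x * y, x ^ 3, y ^ 2] with hw
    set e : Fin 7 → ℤ := ![0, 2, 3, 4, 5, 6, 6] with he
    have hx2' := hx2
    have hy3' := hy3
    have hxx := ff_mul_mem_L hx2 hx2
    have hxy := ff_mul_mem_L hx2 hy3
    have hxxx := ff_mul_mem_L hxx hx2
    have hyy := ff_mul_mem_L hy3 hy3
    rw [← Finsupp.single_add] at hxx hxy hxxx hyy
    rw [← Finsupp.single_add] at hxxx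
    norm_num at hxx hxy hxxx hyy
    have h1mem : (1 : K) ∈ L (Finsupp.single P₀ 6 : Divisor k K) := by
      have : (1 : K) ∈ L (0 : Divisor k K) := by
        rw [ff_L_zero hK]; exact Submodule.one_le.mp le_rfl
      exact ff_L_mono (Finsupp.single_nonneg.mpr (by norm_num)) this
    have hwmem : ∀ i, w i ∈ L (Finsupp.single P₀ 6 : Divisor k K) := by
      intro i
      fin_cases i
      · exact h1mem
      · exact ff_L_mono (ff_single_le_single P₀ (by norm_num)) hx2
      · exact ff_L_mono (ff_single_le_single P₀ (by norm_num)) hy3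
      · simpa [hw, pow_two] using ff_L_mono (ff_single_le_single P₀ (by norm_num)) hxx
      · simpa [hw] using ff_L_mono (ff_single_le_single P₀ (by norm_num)) hxy
      · simpa [hw, pow_succ] using ff_L_mono (ff_single_le_single P₀ (by norm_num)) hxxx
      · simpa [hw, pow_two] using hyy
    have hvx : P₀.1 x = WithZero.exp (2 : ℤ) := by
      rw [ff_val_eq_exp_neg_ord P₀ hx0, hordx]; rfl
    have hvy : P₀.1 y = WithZero.exp (3 : ℤ) := by
      rw [ff_val_eq_exp_neg_ord P₀ hy0, hordy]; rfl
    have hval : ∀ i, P₀.1 (w i) = WithZero.exp (e i) := by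
      intro i
      fin_cases i
      · simp [hw, he]
      · simpa [hw, he] using hvx
      · simpa [hw, he] using hvy
      · simp [hw, he, hvx, ← WithZero.exp_nsmul]
      · simp [hw, he, hvx, hvy, ← WithZero.exp_add]
      · simp [hw, he, hvx, ← WithZero.exp_nsmul]
      · simp [hw, he, hvy, ← WithZero.exp_nsmul]
    have hw0 : ∀ i, w i ≠ 0 := by
      intro i h0
      have := hval i
      rw [h0, map_zero] at this
      exact WithZero.exp_ne_zero this.symm
    have hfd := ff_L_finiteDimensional hK (Finsupp.single P₀ 6 : Divisor k K)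
    have hnli : ¬ LinearIndependent k
        (fun i => (⟨w i, hwmem i⟩ : L (Finsupp.single P₀ 6 : Divisor k K))) := by
      intro hli
      have := hli.fintype_card_le_finrank
      unfold ell at hell6
      rw [hell6] at this
      simp at this
    obtain ⟨c, hc, hcne⟩ := Fintype.not_linearIndependent_iff.mp hnli
    have hrel : ∑ i, algebraMap k K (c i) * w i = 0 := by
      have := congrArg Subtype.val hc
      simp only [Submodule.coe_sum, Submodule.coe_smul, Submodule.coe_zero] at this
      rw [← this]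
      refine Finset.sum_congr rfl fun i _ => ?_
      rw [Algebra.smul_def]
    have hedec : ∀ i j : Fin 7, i ≠ 6 → j ≠ 6 → e i = e j → i = j := by
      rw [he]; decide
    have hedec' : ∀ i j : Fin 7, i ≠ 5 → j ≠ 5 → e i = e j → i = j := by
      rw [he]; decide
    have hc6 : c 6 ≠ 0 := by
      intro h6
      have := ff_coeff_zero_of_val_injective P₀ w hw0 c hrel (by
        intro i j hi hj hij
        rw [hval, hval, WithZero.exp_inj] at hij
        exact hedec i j (fun h => hi (h ▸ h6)) (fun h => hj (h ▸ h6)) hij)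
      obtain ⟨i, hi⟩ := hcne
      exact hi (congrFun this i)
    have hc5 : c 5 ≠ 0 := by
      intro h5
      have := ff_coeff_zero_of_val_injective P₀ w hw0 c hrel (by
        intro i j hi hj hij
        rw [hval, hval, WithZero.exp_inj] at hij
        exact hedec' i j (fun h => hi (h ▸ h5)) (fun h => hj (h ▸ h5)) hij)
      obtain ⟨i, hi⟩ := hcne
      exact hi (congrFun this i)
    refine ⟨C (c 4 / c 6) * X + C (c 2 / c 6),
      C (c 5 / c 6) * X ^ 3 + C (c 3 / c 6) * X ^ 2 + C (c 1 / c 6) * X + C (c 0 / c 6),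
      natDegree_linear_le, natDegree_cubic (div_ne_zero hc5 hc6), ?_⟩
    have hA6 : algebraMap k K (c 6) ≠ 0 := by simpa using hc6
    rw [Fin.sum_univ_seven] at hrel
    simp only [hw, Matrix.cons_val_zero, Matrix.cons_val_one, Matrix.cons_val] at hrel
    simp only [map_add, map_mul, map_pow, aeval_X, aeval_C, map_div₀]
    field_simp
    linear_combination hrel

end Groth.Agent.Lib.Helper55
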