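import Groth.Agent.Lib.Helper55.FunFld.HasseTors

/-! Finiteness of torsion on a genus-one function field in characteristic zero, and an
application to ramification of linear series (S18182). -/

namespace Groth.Agent.Lib.Helper55

open FunFld LocRes

variable {k K : Type*} [Field k] [Field K] [Algebra k K]

theorem ff_exists_div_eq_neg (hK : IsFunctionField k K) (E : Divisor k K) (hE : E.deg = 0)
    (h : 1 ≤ ell E) : ∃ f : K, f ≠ 0 ∧ div k f = -E := by
  obtain ⟨f, hf0, hf⟩ := ff_exists_ne_zero_of_ell_pos (D := E) (by omega)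
  refine ⟨f, hf0, ?_⟩
  rw [ff_mem_L_iff_div hK E hf0] at hf
  have h1 := ff_eq_of_le_of_deg_eq hK hf (by
    rw [ff_deg_add, ff_deg_div hK, hE, ff_deg_zero]; rfl)
  rw [eq_neg_iff_add_eq_zero, add_comm]
  exact h1.symm

theorem ff_ell_le_one_of_deg_zero (hK : IsFunctionField k K) (E : Divisor k K) (hE : E.deg = 0) :
    ell E ≤ 1 := by
  by_contra hlt
  push Not at hlt
  obtain ⟨f, hf0, hf⟩ := ff_exists_div_eq_neg hK E hE (by omega)
  have h1 := ff_ell_add_div hK E hf0
  rw [hf, add_neg_cancel, ff_ell_zero hK] at h1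
  omega

theorem ff_L_inf_le (D : Divisor k K) {P Q : Place k K} (hPQ : Q ≠ P) (n m : ℤ) :
    L (D - Finsupp.single P n) ⊓ L (D - Finsupp.single Q m) ≤
      L (D - Finsupp.single P n - Finsupp.single Q m) := by
  intro f hf
  rw [Submodule.mem_inf, ff_mem_L_iff, ff_mem_L_iff] at hf
  rw [ff_mem_L_iff]
  intro R
  by_cases hR : R = Q
  · subst hR
    have := hf.2 R
    simp only [Finsupp.sub_apply, Finsupp.single_eq_same] at this ⊢
    rw [Finsupp.single_eq_of_ne hPQ, sub_zero]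
    exact this
  · have := hf.1 R
    simp only [Finsupp.sub_apply] at this ⊢
    rw [Finsupp.single_eq_of_ne (a := Q) (a' := R) hR, sub_zero]
    exact this

/-- On a genus-one function field in characteristic zero, only finitely many places `Q` carry a
function with divisor `m Q - m P`. -/
theorem ff_finite_torsion [IsAlgClosed k] [CharZero k] (hK : IsFunctionField k K)
    (hg : genus k K = 1) (P : Place k K) (m : ℕ) (hm : 1 ≤ m) :
    {Q : Place k K | Q ≠ P ∧ ∃ f ∈ L (Finsupp.single P (m : ℤ)),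
      Q.1 f = WithZero.exp (-(m : ℤ))}.Finite := by
  obtain ⟨n, rfl⟩ : ∃ n, m = n + 1 := ⟨m - 1, by omega⟩
  have hdeg : Divisor.deg (Finsupp.single P ((n + 1 : ℕ) : ℤ) : Divisor k K) = n + 1 := by
    rw [ff_deg_single, ff_deg_eq_one_of_isAlgClosed hK]; simp
  have hell : ell (Finsupp.single P ((n + 1 : ℕ) : ℤ) : Divisor k K) = n + 1 := by
    have := ff_ell_eq_of_deg_ge hK (Finsupp.single P ((n + 1 : ℕ) : ℤ)) (by rw [hdeg, hg]; omega)
    rw [hdeg, hg] at this
    omega
  have hfd := ff_L_finiteDimensional hK (Finsupp.single P ((n + 1 : ℕ) : ℤ))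
  let b := Module.finBasisOfFinrankEq k (L (Finsupp.single P ((n + 1 : ℕ) : ℤ))) hell
  have hφ : LinearIndependent k fun i => (b i : K) :=
    b.linearIndependent.map' (Submodule.subtype _) (Submodule.ker_subtype _)
  have hspan : Submodule.span k (Set.range fun i => (b i : K)) =
      L (Finsupp.single P ((n + 1 : ℕ) : ℤ)) := by
    have h1 : (Set.range fun i => (b i : K)) =
        (Submodule.subtype (L (Finsupp.single P ((n + 1 : ℕ) : ℤ)))) '' Set.range b := by
      rw [← Set.range_comp]; rfl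
    rw [h1, Submodule.span_image, b.span_eq, Submodule.map_top, Submodule.range_subtype]
  have h1L : (1 : K) ∈ L (Finsupp.single P ((n + 1 : ℕ) : ℤ)) := by
    rw [ff_mem_L_iff]
    intro R
    rw [map_one, ← WithZero.exp_zero, WithZero.exp_le_exp]
    by_cases hR : R = P
    · rw [hR, Finsupp.single_eq_same]; omega
    · rw [Finsupp.single_eq_of_ne hR]
  refine (ff_finite_high_order hK (fun i => (b i : K)) hφ (by rw [hspan]; exact h1L)).subset ?_
  rintro Q ⟨hQP, f, hf, hQf⟩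
  refine ⟨fun i => ?_, f, by rw [hspan]; exact hf, n + 1, by omega, hQf⟩
  have := (ff_mem_L_iff _ _).mp (b i).2 Q
  rwa [Finsupp.single_eq_of_ne hQP, WithZero.exp_zero] at this

theorem ff_exists_two_of_sum_ge {N : ℕ} (ℓ : ℕ → ℕ) (h1 : ∀ n, ℓ n ≤ 1)
    (h2 : 2 ≤ ∑ n ∈ Finset.range N, ℓ n) : ∃ n₁ n₂, n₁ < n₂ ∧ n₂ < N ∧ 1 ≤ ℓ n₁ ∧ 1 ≤ ℓ n₂ := by
  by_contra hcon
  push Not at hcon
  have hcard : ((Finset.range N).filter fun n => 1 ≤ ℓ n).card ≤ 1 := by
    rw [Finset.card_le_one]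
    intro a ha b hb
    rw [Finset.mem_filter, Finset.mem_range] at ha hb
    by_contra hab
    rcases lt_or_gt_of_ne hab with h | h
    · have := hcon a b h hb.1 ha.2; omega
    · have := hcon b a h ha.1 hb.2; omega
  have hsum : ∑ n ∈ Finset.range N, ℓ n =
      ∑ n ∈ (Finset.range N).filter (fun n => 1 ≤ ℓ n), ℓ n := by
    rw [Finset.sum_filter]
    refine Finset.sum_congr rfl fun n _ => ?_
    split_ifs with h
    · rfl
    · omega
  have hle : ∑ n ∈ (Finset.range N).filter (fun n => 1 ≤ ℓ n), ℓ n ≤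
      ((Finset.range N).filter fun n => 1 ≤ ℓ n).card • 1 :=
    Finset.sum_le_card_nsmul _ _ _ fun n _ => h1 n
  rw [smul_eq_mul, mul_one] at hle
  omega

/-- The combinatorial heart of S18182: large total weight at two places forces a torsion relation. -/
theorem ff_exists_torsion_of_weights (hK : IsFunctionField k K) (P Q : Place k K) (hQP : Q ≠ P)
    (hP1 : P.deg = 1) (hQ1 : Q.deg = 1)
    (d r : ℕ) (D : Divisor k K) (V : Submodule k K) (hD : D.deg = d) (hV : V ≤ L D)
    (hr : Module.finrank k V = r + 1)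
    (hw : (r + 1) * d + 1 ≤
      (∑ n ∈ Finset.range d, Module.finrank k ↥(V ⊓ L (D - Finsupp.single P ((n : ℤ) + 1)))) +
        (∑ n ∈ Finset.range d, Module.finrank k ↥(V ⊓ L (D - Finsupp.single Q ((n : ℤ) + 1)))) + r) :
    ∃ m : ℕ, 1 ≤ m ∧ m ≤ d ∧ ∃ f ∈ L (Finsupp.single P (m : ℤ)),
      Q.1 f = WithZero.exp (-(m : ℤ)) := by
  classical
  have hfdL := ff_L_finiteDimensional hK D
  have hfdV : FiniteDimensional k V := Submodule.finiteDimensional_of_le hV
  set a : ℕ → ℕ := fun n => Module.finrank k ↥(V ⊓ L (D - Finsupp.single P (n : ℤ))) with ha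
  set b : ℕ → ℕ := fun n => Module.finrank k ↥(V ⊓ L (D - Finsupp.single Q (n : ℤ))) with hb
  have ha0 : a 0 = r + 1 := by
    change Module.finrank k ↥(V ⊓ L (D - Finsupp.single P ((0 : ℕ) : ℤ))) = r + 1
    rw [Nat.cast_zero, Finsupp.single_zero, sub_zero, inf_eq_left.mpr hV, hr]
  have hb0 : b 0 = r + 1 := by
    change Module.finrank k ↥(V ⊓ L (D - Finsupp.single Q ((0 : ℕ) : ℤ))) = r + 1
    rw [Nat.cast_zero, Finsupp.single_zero, sub_zero, inf_eq_left.mpr hV, hr]
  have hsa : ∑ n ∈ Finset.range d, Module.finrank k ↥(V ⊓ L (D - Finsupp.single P ((n : ℤ) + 1))) =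
      ∑ n ∈ Finset.range d, a (n + 1) := by
    refine Finset.sum_congr rfl fun n _ => ?_
    have hc : ((n : ℤ) + 1) = ((n + 1 : ℕ) : ℤ) := by push_cast; ring
    rw [hc]
  have hsb : ∑ n ∈ Finset.range d, Module.finrank k ↥(V ⊓ L (D - Finsupp.single Q ((n : ℤ) + 1))) =
      ∑ n ∈ Finset.range d, b (n + 1) := by
    refine Finset.sum_congr rfl fun n _ => ?_
    have hc : ((n : ℤ) + 1) = ((n + 1 : ℕ) : ℤ) := by push_cast; ring
    rw [hc]
  rw [hsa, hsb] at hw
  have hA : ∑ n ∈ Finset.range (d + 1), a n = (∑ n ∈ Finset.range d, a (n + 1)) + (r + 1) := by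
    rw [Finset.sum_range_succ', ha0]
  have hB : ∑ n ∈ Finset.range (d + 1), b (d - n) = (∑ n ∈ Finset.range d, b (n + 1)) + (r + 1) := by
    have := Finset.sum_range_reflect b (d + 1)
    simp only [Nat.add_sub_cancel] at this
    rw [this, Finset.sum_range_succ', hb0]
  set ℓ : ℕ → ℕ := fun n =>
    ell (D - Finsupp.single P (n : ℤ) - Finsupp.single Q ((d - n : ℕ) : ℤ)) with hℓ
  have hdegE : ∀ n, n ≤ d →
      (D - Finsupp.single P (n : ℤ) - Finsupp.single Q ((d - n : ℕ) : ℤ)).deg = 0 := by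
    intro n hn
    rw [ff_deg_sub, ff_deg_sub, ff_deg_single, ff_deg_single, hD, hP1, hQ1]
    push_cast [Nat.cast_sub hn]
    ring
  have hℓ1 : ∀ n, n ≤ d → ℓ n ≤ 1 := fun n hn => ff_ell_le_one_of_deg_zero hK _ (hdegE n hn)
  have hkey : ∀ n, n ≤ d → a n + b (d - n) ≤ (r + 1) + ℓ n := by
    intro n hn
    have hfdX : FiniteDimensional k ↥(V ⊓ L (D - Finsupp.single P (n : ℤ))) :=
      Submodule.finiteDimensional_of_le inf_le_left
    have hfdY : FiniteDimensional k ↥(V ⊓ L (D - Finsupp.single Q ((d - n : ℕ) : ℤ))) :=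
      Submodule.finiteDimensional_of_le inf_le_left
    have h1 := Submodule.finrank_sup_add_finrank_inf_eq
      (V ⊓ L (D - Finsupp.single P (n : ℤ))) (V ⊓ L (D - Finsupp.single Q ((d - n : ℕ) : ℤ)))
    have h2 : Module.finrank k ↥((V ⊓ L (D - Finsupp.single P (n : ℤ))) ⊔
        (V ⊓ L (D - Finsupp.single Q ((d - n : ℕ) : ℤ)))) ≤ r + 1 := by
      rw [← hr]
      exact Submodule.finrank_mono (sup_le inf_le_left inf_le_left)
    have hfdE := ff_L_finiteDimensional hK
      (D - Finsupp.single P (n : ℤ) - Finsupp.single Q ((d - n : ℕ) : ℤ))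
    have h3 : Module.finrank k ↥((V ⊓ L (D - Finsupp.single P (n : ℤ))) ⊓
        (V ⊓ L (D - Finsupp.single Q ((d - n : ℕ) : ℤ)))) ≤ ℓ n := by
      refine Submodule.finrank_mono (le_trans ?_ (ff_L_inf_le D hQP _ _))
      exact inf_le_inf inf_le_right inf_le_right
    simp only [ha, hb]
    omega
  have hsum : 2 ≤ ∑ n ∈ Finset.range (d + 1), (if n ≤ d then ℓ n else 0) := by
    have h1 : ∑ n ∈ Finset.range (d + 1), (a n + b (d - n)) ≤
        ∑ n ∈ Finset.range (d + 1), ((r + 1) + (if n ≤ d then ℓ n else 0)) := by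
      refine Finset.sum_le_sum fun n hn => ?_
      rw [Finset.mem_range] at hn
      rw [if_pos (by omega)]
      exact hkey n (by omega)
    rw [Finset.sum_add_distrib, Finset.sum_add_distrib, hA, hB, Finset.sum_const,
      Finset.card_range, smul_eq_mul] at h1
    have h2 : (d + 1) * (r + 1) = (r + 1) * d + (r + 1) := by ring
    omega
  obtain ⟨n₁, n₂, h12, h2d, hl1, hl2⟩ := ff_exists_two_of_sum_ge
    (fun n => if n ≤ d then ℓ n else 0)
    (fun n => by
      by_cases hn : n ≤ d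
      · simp only [if_pos hn]; exact hℓ1 n hn
      · simp only [if_neg hn]; omega) hsum
  have hn₂ : n₂ ≤ d := by omega
  have hn₁ : n₁ ≤ d := by omega
  simp only [if_pos hn₁] at hl1
  simp only [if_pos hn₂] at hl2
  obtain ⟨f₁, hf₁0, hf₁⟩ := ff_exists_div_eq_neg hK _ (hdegE n₁ hn₁) hl1
  obtain ⟨f₂, hf₂0, hf₂⟩ := ff_exists_div_eq_neg hK _ (hdegE n₂ hn₂) hl2
  have hdiv : div k (f₁ / f₂) = Finsupp.single Q ((n₂ - n₁ : ℕ) : ℤ) -
      Finsupp.single P ((n₂ - n₁ : ℕ) : ℤ) := by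
    rw [div_eq_mul_inv, ff_div_mul hK hf₁0 (inv_ne_zero hf₂0), ff_div_inv hK, hf₁, hf₂]
    ext R
    simp only [Finsupp.sub_apply, Finsupp.add_apply, Finsupp.neg_apply, Finsupp.single_apply]
    push_cast [Nat.cast_sub hn₁, Nat.cast_sub hn₂, Nat.cast_sub h12.le]
    split_ifs <;> ring
  have hf0 : f₁ / f₂ ≠ 0 := div_ne_zero hf₁0 hf₂0
  refine ⟨n₂ - n₁, by omega, by omega, f₁ / f₂, ?_, ?_⟩
  · rw [ff_mem_L_iff]
    intro R
    rw [ff_val_eq_exp_neg_ord R hf0, WithZero.exp_le_exp, ← ff_div_apply hK, hdiv]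
    simp only [Finsupp.sub_apply, Finsupp.single_apply]
    split_ifs <;> omega
  · rw [ff_val_eq_exp_neg_ord Q hf0, ← ff_div_apply hK, hdiv]
    simp only [Finsupp.sub_apply, Finsupp.single_apply, if_true]
    rw [if_neg (Ne.symm hQP), sub_zero]

end Groth.Agent.Lib.Helper55
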