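import Groth.Agent.Lib.Helper55.FunFld.GenusOneTors

/-! Riemann–Roch exercises on genus-two function fields (S17249, S17250, S17251). -/

namespace Groth.Agent.Lib.Helper55

open FunFld

variable {k K : Type*} [Field k] [Field K] [Algebra k K]

theorem ff_one_mem_L_iff (hK : IsFunctionField k K) (D : Divisor k K) :
    (1 : K) ∈ L D ↔ 0 ≤ D := by
  rw [ff_mem_L_iff_div hK D one_ne_zero]
  have : FunFld.div k (1 : K) = 0 := by
    have := ff_div_const hK (1 : k)
    rwa [map_one] at this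
  rw [this, add_zero]

theorem ff_L_eq_of_le_of_ell_eq (hK : IsFunctionField k K) {D E : Divisor k K} (h : D ≤ E)
    (he : ell D = ell E) : L D = L E := by
  have := ff_L_finiteDimensional hK E
  exact Submodule.eq_of_le_of_finrank_eq (ff_L_mono h) he

theorem ff_eq_single_of_deg_one [IsAlgClosed k] (hK : IsFunctionField k K) {E : Divisor k K}
    (h0 : 0 ≤ E) (hd : E.deg = 1) : ∃ R : Place k K, E = Finsupp.single R 1 := by
  classical
  have hne : E ≠ 0 := by
    rintro rfl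
    rw [ff_deg_zero] at hd
    omega
  obtain ⟨R, hR⟩ : ∃ R, E R ≠ 0 := by
    by_contra hcon
    push Not at hcon
    exact hne (Finsupp.ext hcon)
  have hR1 : 1 ≤ E R := by
    have := h0 R
    change (0 : ℤ) ≤ E R at this
    omega
  have hle : (Finsupp.single R 1 : Divisor k K) ≤ E := by
    intro P
    rw [Finsupp.single_apply]
    split_ifs with h
    · subst h; exact hR1
    · exact h0 P
  refine ⟨R, (ff_eq_of_le_of_deg_eq hK hle ?_).symm⟩
  rw [ff_deg_single, ff_deg_eq_one_of_isAlgClosed hK, hd]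
  norm_num

/-- From `ℓ(E) ≥ 1` with `deg E = 0`: `E + div f = 0`. -/
theorem ff_exists_add_div_eq_zero (hK : IsFunctionField k K) (E : Divisor k K) (hE : E.deg = 0)
    (h : 1 ≤ ell E) : ∃ f : K, f ≠ 0 ∧ E + FunFld.div k f = 0 := by
  obtain ⟨f, hf0, hf⟩ := ff_exists_div_eq_neg hK E hE h
  exact ⟨f, hf0, by rw [hf, add_neg_cancel]⟩

section g2

variable [IsAlgClosed k] (hK : IsFunctionField k K) (hg : genus k K = 2)
  {C : Divisor k K} (hC : IsCanonical k K C)

include hK hg hC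

theorem g2_C : ell C = 2 ∧ C.deg = 2 := by
  have := ff_canonical_ell_deg hK hC
  rw [hg] at this
  exact ⟨this.1, by rw [this.2]; norm_num⟩

/-- `ℓ(2Q) = 2` gives `C ∼ 2Q`. -/
theorem g2_two_Q (Q : Place k K) (h : ell (Finsupp.single Q (2 : ℤ) : Divisor k K) = 2) :
    ∃ f : K, f ≠ 0 ∧ C - Finsupp.single Q (2 : ℤ) + FunFld.div k f = 0 := by
  obtain ⟨hCl, hCd⟩ := g2_C hK hg hC
  have hrr := ff_riemann_roch hK hC (Finsupp.single Q (2 : ℤ))
  rw [h, ff_deg_single, ff_deg_eq_one_of_isAlgClosed hK, hg] at hrr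
  refine ff_exists_add_div_eq_zero hK _ ?_ ?_
  · rw [ff_deg_sub, ff_deg_single, ff_deg_eq_one_of_isAlgClosed hK, hCd]; norm_num
  · push_cast at hrr; omega

theorem g2_three (A : Place k K) : ell (Finsupp.single A (3 : ℤ) : Divisor k K) = 2 := by
  have := ff_ell_eq_of_deg_ge hK (Finsupp.single A (3 : ℤ)) (by
    rw [ff_deg_single, ff_deg_eq_one_of_isAlgClosed hK, hg]; norm_num)
  rw [ff_deg_single, ff_deg_eq_one_of_isAlgClosed hK, hg] at this
  push_cast at this; omega

/-- `ℓ(3A - R) = 2` forces `R = A`. -/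
theorem g2_three_sub (A R : Place k K)
    (h : ell (Finsupp.single A (3 : ℤ) - Finsupp.single R (1 : ℤ) : Divisor k K) = 2) : R = A := by
  classical
  have h3 := g2_three hK hg hC A
  have hL := ff_L_eq_of_le_of_ell_eq hK
    (show (Finsupp.single A (3 : ℤ) - Finsupp.single R (1 : ℤ) : Divisor k K) ≤ Finsupp.single A (3 : ℤ) from
      sub_le_self _ (Finsupp.single_nonneg.mpr zero_le_one)) (by rw [h, h3])
  have h1 : (1 : K) ∈ L (Finsupp.single A (3 : ℤ) : Divisor k K) :=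
    (ff_one_mem_L_iff hK _).mpr (Finsupp.single_nonneg.mpr (by norm_num))
  rw [← hL, ff_one_mem_L_iff hK] at h1
  have := h1 R
  rw [Finsupp.sub_apply, Finsupp.single_apply, Finsupp.single_apply] at this
  by_contra hne
  rw [if_neg (fun h => hne h.symm), if_pos rfl] at this
  change (0 : ℤ) ≤ 0 - 1 at this
  omega

theorem g2_S17251 (B Q : Place k K)
    (hB : ell (Finsupp.single B (2 : ℤ) : Divisor k K) = 1) (hQ : Q ≠ B)
    (h1 : ell (C + Finsupp.single B (1 : ℤ) - Finsupp.single Q (2 : ℤ)) = 1)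
    (h2 : ell (C + Finsupp.single B (3 : ℤ) - Finsupp.single Q (4 : ℤ)) = 1) : False := by
  classical
  obtain ⟨hCl, hCd⟩ := g2_C hK hg hC
  have dP : ∀ P : Place k K, (P.deg : ℤ) = 1 := fun P => by
    rw [ff_deg_eq_one_of_isAlgClosed hK]; rfl
  -- ℓ(C + B) = 2
  have e1 : ell (C + Finsupp.single B (1 : ℤ)) = 2 := by
    have := ff_ell_eq_of_deg_ge hK (C + Finsupp.single B (1 : ℤ)) (by
      rw [ff_deg_add, ff_deg_single, dP, hCd, hg]; norm_num)
    rw [ff_deg_add, ff_deg_single, dP, hCd, hg] at this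
    push_cast at this; omega
  have hL : L C = L (C + Finsupp.single B (1 : ℤ)) :=
    ff_L_eq_of_le_of_ell_eq hK (ff_le_add_single C B) (by rw [hCl, e1])
  obtain ⟨f, hf0, hf⟩ := ff_exists_ne_zero_of_ell_pos
    (D := C + Finsupp.single B (1 : ℤ) - Finsupp.single Q (2 : ℤ)) (by omega)
  have hf' : f ∈ L (C - Finsupp.single Q (2 : ℤ)) := by
    have hfC : f ∈ L C := by
      rw [hL]
      exact ff_L_mono (sub_le_self _ (Finsupp.single_nonneg.mpr (by norm_num))) hf
    rw [ff_mem_L_iff] at hf hfC ⊢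
    intro R
    by_cases hR : R = Q
    · subst hR
      have := hf R
      rwa [Finsupp.sub_apply, Finsupp.add_apply, Finsupp.single_apply, if_neg (Ne.symm hQ),
        add_zero] at this
    · have := hfC R
      rwa [Finsupp.sub_apply, Finsupp.single_apply, if_neg (Ne.symm hR), sub_zero]
  have hd0 : (C - Finsupp.single Q (2 : ℤ)).deg = 0 := by
    rw [ff_deg_sub, ff_deg_single, dP, hCd]; norm_num
  rw [ff_mem_L_iff_div hK _ hf0] at hf'
  have h0 := ff_eq_of_le_of_deg_eq hK hf' (by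
    rw [ff_deg_add, ff_deg_div hK, hd0, ff_deg_zero]; rfl)
  obtain ⟨g, hg0, hgm⟩ := ff_exists_ne_zero_of_ell_pos
    (D := C + Finsupp.single B (3 : ℤ) - Finsupp.single Q (4 : ℤ)) (by omega)
  rw [ff_mem_L_iff_div hK _ hg0] at hgm
  obtain ⟨R', hR'⟩ := ff_eq_single_of_deg_one hK hgm (by
    rw [ff_deg_add, ff_deg_div hK, ff_deg_sub, ff_deg_add, ff_deg_single, ff_deg_single, dP, dP,
      hCd]; norm_num)
  have key : Finsupp.single B (3 : ℤ) - Finsupp.single R' (1 : ℤ) +
      FunFld.div k (g * (f⁻¹) ^ 2) = C := by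
    rw [ff_div_mul hK hg0 (pow_ne_zero _ (inv_ne_zero hf0)), ff_div_pow hK (inv_ne_zero hf0),
      ff_div_inv hK, two_nsmul]
    ext P
    have a := DFunLike.congr_fun h0 P
    have b := DFunLike.congr_fun hR' P
    simp only [Finsupp.coe_add, Finsupp.coe_sub, Finsupp.coe_neg, Pi.add_apply,
      Pi.sub_apply, Pi.neg_apply, Finsupp.single_apply, Finsupp.coe_zero,
      Pi.zero_apply] at a b ⊢
    split_ifs at a b ⊢ <;> omega
  have h3 : ell (Finsupp.single B (3 : ℤ) - Finsupp.single R' (1 : ℤ) : Divisor k K) = 2 := by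
    rw [← hCl, ← key, ff_ell_add_div hK _ (mul_ne_zero hg0 (pow_ne_zero _ (inv_ne_zero hf0)))]
  have hRB := g2_three_sub hK hg hC B R' h3
  subst hRB
  have : (Finsupp.single R' (3 : ℤ) - Finsupp.single R' (1 : ℤ) : Divisor k K) =
      Finsupp.single R' (2 : ℤ) := by
    rw [← Finsupp.single_sub]; norm_num
  rw [this, hB] at h3
  omega

theorem g2_S17249 (A P Q : Place k K)
    (hA : ell (Finsupp.single A (2 : ℤ) : Divisor k K) = 1) (hQ : Q ≠ A)
    (h1 : ell (C + Finsupp.single A (2 : ℤ) - Finsupp.single P (1 : ℤ) -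
      Finsupp.single Q (3 : ℤ)) = 1)
    (h2 : ell (C + Finsupp.single A (2 : ℤ) - Finsupp.single P (1 : ℤ) -
      Finsupp.single Q (1 : ℤ)) = 2) : False := by
  classical
  obtain ⟨hCl, hCd⟩ := g2_C hK hg hC
  have dP : ∀ P : Place k K, (P.deg : ℤ) = 1 := fun P => by
    rw [ff_deg_eq_one_of_isAlgClosed hK]; rfl
  obtain ⟨f, hf0, hf⟩ := ff_exists_add_div_eq_zero hK _ (by
    rw [ff_deg_sub, ff_deg_sub, ff_deg_add, ff_deg_single, ff_deg_single, ff_deg_single, dP, dP,
      dP, hCd]; norm_num) h1.ge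
  have e2 : C + Finsupp.single A (2 : ℤ) - Finsupp.single P (1 : ℤ) -
      Finsupp.single Q (1 : ℤ) + FunFld.div k f = Finsupp.single Q (2 : ℤ) := by
    ext R
    have a := DFunLike.congr_fun hf R
    simp only [Finsupp.coe_add, Finsupp.coe_sub, Pi.add_apply,
      Pi.sub_apply, Finsupp.single_apply, Finsupp.coe_zero, Pi.zero_apply] at a ⊢
    split_ifs at a ⊢ <;> omega
  have h2Q : ell (Finsupp.single Q (2 : ℤ) : Divisor k K) = 2 := by
    rw [← e2, ff_ell_add_div hK _ hf0, h2]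
  obtain ⟨h, hh0, hh⟩ := g2_two_Q hK hg hC Q h2Q
  -- u = f / h ∈ L(2A)
  have key : Finsupp.single A (2 : ℤ) + FunFld.div k (f * h⁻¹) =
      Finsupp.single P (1 : ℤ) + Finsupp.single Q (1 : ℤ) := by
    rw [ff_div_mul hK hf0 (inv_ne_zero hh0), ff_div_inv hK]
    ext R
    have a := DFunLike.congr_fun hf R
    have b := DFunLike.congr_fun hh R
    simp only [Finsupp.coe_add, Finsupp.coe_sub, Finsupp.coe_neg, Pi.add_apply,
      Pi.sub_apply, Pi.neg_apply, Finsupp.single_apply, Finsupp.coe_zero, Pi.zero_apply] at a b ⊢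
    split_ifs at a b ⊢ <;> omega
  have hu0 : f * h⁻¹ ≠ 0 := mul_ne_zero hf0 (inv_ne_zero hh0)
  have hu : f * h⁻¹ ∈ L (Finsupp.single A (2 : ℤ) : Divisor k K) := by
    rw [ff_mem_L_iff_div hK _ hu0, key]
    exact add_nonneg (Finsupp.single_nonneg.mpr zero_le_one) (Finsupp.single_nonneg.mpr zero_le_one)
  have hL : L (0 : Divisor k K) = L (Finsupp.single A (2 : ℤ) : Divisor k K) :=
    ff_L_eq_of_le_of_ell_eq hK (Finsupp.single_nonneg.mpr (by norm_num)) (by rw [ff_ell_zero hK, hA])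
  rw [← hL, ff_mem_L_iff_div hK _ hu0] at hu
  have hz := ff_eq_of_le_of_deg_eq hK hu (by rw [ff_deg_add, ff_deg_div hK, ff_deg_zero]; rfl)
  rw [zero_add] at hz
  rw [← hz, add_zero] at key
  have := DFunLike.congr_fun key Q
  simp only [Finsupp.coe_add, Pi.add_apply, Finsupp.single_apply, if_neg (Ne.symm hQ)] at this
  split_ifs at this <;> omega

theorem g2_S17250 (A P Q : Place k K) (hP : P ≠ A)
    (h1 : ell (C + Finsupp.single A (3 : ℤ) - Finsupp.single P (1 : ℤ) -
      Finsupp.single Q (4 : ℤ)) = 1)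
    (h2 : ell (C + Finsupp.single A (3 : ℤ) - Finsupp.single P (1 : ℤ) -
      Finsupp.single Q (2 : ℤ)) = 2) : False := by
  classical
  obtain ⟨hCl, hCd⟩ := g2_C hK hg hC
  have dP : ∀ P : Place k K, (P.deg : ℤ) = 1 := fun P => by
    rw [ff_deg_eq_one_of_isAlgClosed hK]; rfl
  obtain ⟨f, hf0, hf⟩ := ff_exists_add_div_eq_zero hK _ (by
    rw [ff_deg_sub, ff_deg_sub, ff_deg_add, ff_deg_single, ff_deg_single, ff_deg_single, dP, dP,
      dP, hCd]; norm_num) h1.ge
  have e2 : C + Finsupp.single A (3 : ℤ) - Finsupp.single P (1 : ℤ) -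
      Finsupp.single Q (2 : ℤ) + FunFld.div k f = Finsupp.single Q (2 : ℤ) := by
    ext R
    have a := DFunLike.congr_fun hf R
    simp only [Finsupp.coe_add, Finsupp.coe_sub, Pi.add_apply,
      Pi.sub_apply, Finsupp.single_apply, Finsupp.coe_zero, Pi.zero_apply] at a ⊢
    split_ifs at a ⊢ <;> omega
  have h2Q : ell (Finsupp.single Q (2 : ℤ) : Divisor k K) = 2 := by
    rw [← e2, ff_ell_add_div hK _ hf0, h2]
  obtain ⟨h, hh0, hh⟩ := g2_two_Q hK hg hC Q h2Q
  have key : Finsupp.single A (3 : ℤ) - Finsupp.single P (1 : ℤ) +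
      FunFld.div k (f * (h⁻¹) ^ 2) = C := by
    rw [ff_div_mul hK hf0 (pow_ne_zero _ (inv_ne_zero hh0)), ff_div_pow hK (inv_ne_zero hh0),
      ff_div_inv hK, two_nsmul]
    ext R
    have a := DFunLike.congr_fun hf R
    have b := DFunLike.congr_fun hh R
    simp only [Finsupp.coe_add, Finsupp.coe_sub, Finsupp.coe_neg, Pi.add_apply,
      Pi.sub_apply, Pi.neg_apply, Finsupp.single_apply, Finsupp.coe_zero,
      Pi.zero_apply] at a b ⊢
    split_ifs at a b ⊢ <;> omega
  have h3 : ell (Finsupp.single A (3 : ℤ) - Finsupp.single P (1 : ℤ) : Divisor k K) = 2 := by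
    rw [← hCl, ← key, ff_ell_add_div hK _ (mul_ne_zero hf0 (pow_ne_zero _ (inv_ne_zero hh0)))]
  exact hP (g2_three_sub hK hg hC A P h3)

end g2

end Groth.Agent.Lib.Helper55
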