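import Mathlib

set_option autoImplicit false
universe u

namespace Groth.Agent.Lib.Helper55.GrpSeries

open CategoryTheory Limits AlgebraicGeometry MonoidalCategory CartesianMonoidalCategory MonObj
open scoped commutatorElement

variable {S : Scheme.{u}} (G : Over S) [GrpObj G]

/-- precomposition as a group homomorphism on points -/
def pre {Z W : Over S} (φ : Z ⟶ W) : (W ⟶ G) →* (Z ⟶ G) where
  toFun h := φ ≫ h
  map_one' := MonObj.comp_one φ
  map_mul' a b := MonObj.comp_mul φ a b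

@[simp] theorem pre_apply {Z W : Over S} (φ : Z ⟶ W) (h : W ⟶ G) : pre G φ h = φ ≫ h := rfl

instance flat_tensor (A B : Over S) [Flat A.hom] [Flat B.hom] : Flat (A ⊗ B).hom := by
  rw [Over.tensorObj_hom]
  infer_instance

instance flat_unit : Flat (𝟙_ (Over S)).hom := by
  rw [Over.tensorUnit_hom]
  have : IsOpenImmersion (𝟙 S) := inferInstance
  exact inferInstance


/-- points pulled back from flat objects, lying in a functorial family of subgroups -/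
def K (A : ∀ W : Over S, Subgroup (W ⟶ G))
    (hA : ∀ {Z W : Over S} (φ : Z ⟶ W) (h : W ⟶ G), h ∈ A W → φ ≫ h ∈ A Z) (Z : Over S) :
    Subgroup (Z ⟶ G) where
  carrier := {h | ∃ (W : Over S) (_ : Flat W.hom) (φ : Z ⟶ W) (h' : W ⟶ G), h' ∈ A W ∧ φ ≫ h' = h}
  one_mem' := ⟨𝟙_ _, flat_unit, toUnit Z, 1, one_mem _, MonObj.comp_one _⟩
  mul_mem' := by
    rintro a b ⟨W₁, hW₁, φ₁, a', ha', rfl⟩ ⟨W₂, hW₂, φ₂, b', hb', rfl⟩
    refine ⟨W₁ ⊗ W₂, inferInstance, lift φ₁ φ₂, (fst W₁ W₂ ≫ a') * (snd W₁ W₂ ≫ b'),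
      mul_mem (hA _ _ ha') (hA _ _ hb'), ?_⟩
    rw [MonObj.comp_mul, lift_fst_assoc, lift_snd_assoc]
  inv_mem' := by
    rintro a ⟨W, hW, φ, a', ha', rfl⟩
    exact ⟨W, hW, φ, a'⁻¹, inv_mem ha', GrpObj.comp_inv _ _⟩

theorem lcs_pre (n : ℕ) {Z W : Over S} (φ : Z ⟶ W) (h : W ⟶ G)
    (hh : h ∈ (⊤ : Subgroup (W ⟶ G)).lowerCentralSeries n) :
    φ ≫ h ∈ (⊤ : Subgroup (Z ⟶ G)).lowerCentralSeries n := by
  have := Subgroup.mem_map_of_mem (pre G φ) hh
  rw [Subgroup.map_lowerCentralSeries] at this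
  exact Subgroup.lowerCentralSeries_mono n le_top this

theorem der_pre (n : ℕ) {Z W : Over S} (φ : Z ⟶ W) (h : W ⟶ G)
    (hh : h ∈ derivedSeries (W ⟶ G) n) : φ ≫ h ∈ derivedSeries (Z ⟶ G) n :=
  map_derivedSeries_le_derivedSeries (pre G φ) n (Subgroup.mem_map_of_mem (pre G φ) hh)

theorem pre_commutator {Z W : Over S} (φ : Z ⟶ W) (a b : W ⟶ G) :
    φ ≫ ⁅a, b⁆ = ⁅φ ≫ a, φ ≫ b⁆ :=
  map_commutatorElement (pre G φ) a b

theorem lcs_le_K [Flat G.hom] (n : ℕ) (Z : Over S) :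
    (⊤ : Subgroup (Z ⟶ G)).lowerCentralSeries n ≤
      K G (fun W => (⊤ : Subgroup (W ⟶ G)).lowerCentralSeries n) (lcs_pre G n) Z := by
  induction n generalizing Z with
  | zero =>
    intro h _
    exact ⟨G, inferInstance, h, 𝟙 G, Subgroup.mem_top _, Category.comp_id _⟩
  | succ n ih =>
    rw [Subgroup.lowerCentralSeries_succ, Subgroup.commutator_le]
    intro a ha b _
    obtain ⟨W₁, hW₁, φ₁, a', ha', rfl⟩ := ih Z ha
    refine ⟨W₁ ⊗ G, inferInstance, lift φ₁ b, ⁅fst W₁ G ≫ a', snd W₁ G⁆,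
      Subgroup.commutator_mem_commutator (lcs_pre G n _ _ ha') (Subgroup.mem_top _), ?_⟩
    rw [pre_commutator, lift_fst_assoc, lift_snd]

theorem der_le_K [Flat G.hom] (n : ℕ) (Z : Over S) :
    derivedSeries (Z ⟶ G) n ≤
      K G (fun W => derivedSeries (W ⟶ G) n) (der_pre G n) Z := by
  induction n generalizing Z with
  | zero =>
    intro h _
    exact ⟨G, inferInstance, h, 𝟙 G, Subgroup.mem_top _, Category.comp_id _⟩
  | succ n ih =>
    rw [derivedSeries_succ, Subgroup.commutator_le]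
    intro a ha b hb
    obtain ⟨W₁, hW₁, φ₁, a', ha', rfl⟩ := ih Z ha
    obtain ⟨W₂, hW₂, φ₂, b', hb', rfl⟩ := ih Z hb
    refine ⟨W₁ ⊗ W₂, inferInstance, lift φ₁ φ₂, ⁅fst W₁ W₂ ≫ a', snd W₁ W₂ ≫ b'⁆,
      Subgroup.commutator_mem_commutator (der_pre G n _ _ ha') (der_pre G n _ _ hb'), ?_⟩
    rw [pre_commutator, lift_fst_assoc, lift_snd_assoc]

theorem lcs_eq_bot [Flat G.hom] (n : ℕ)
    (hflat : ∀ W : Over S, Flat W.hom → (⊤ : Subgroup (W ⟶ G)).lowerCentralSeries n = ⊥)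
    (Z : Over S) : (⊤ : Subgroup (Z ⟶ G)).lowerCentralSeries n = ⊥ := by
  rw [eq_bot_iff]
  intro h hh
  obtain ⟨W, hW, φ, h', hh', rfl⟩ := lcs_le_K G n Z hh
  change h' ∈ (⊤ : Subgroup (W ⟶ G)).lowerCentralSeries n at hh'
  rw [hflat W hW, Subgroup.mem_bot] at hh'
  rw [hh', Subgroup.mem_bot]
  exact MonObj.comp_one φ

theorem der_eq_bot [Flat G.hom] (n : ℕ)
    (hflat : ∀ W : Over S, Flat W.hom → derivedSeries (W ⟶ G) n = ⊥)
    (Z : Over S) : derivedSeries (Z ⟶ G) n = ⊥ := by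
  rw [eq_bot_iff]
  intro h hh
  obtain ⟨W, hW, φ, h', hh', rfl⟩ := der_le_K G n Z hh
  change h' ∈ derivedSeries (W ⟶ G) n at hh'
  rw [hflat W hW, Subgroup.mem_bot] at hh'
  rw [hh', Subgroup.mem_bot]
  exact MonObj.comp_one φ

end Groth.Agent.Lib.Helper55.GrpSeries
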