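import Groth.Agent.Lib.Helper55.FunFld.SchDom2

set_option autoImplicit false
universe u

namespace Groth.Agent.Lib.Helper55.SchDom

open CategoryTheory Limits AlgebraicGeometry

theorem lift_pair (R K : Type u) [CommRing R] [IsDomain R] [Field K] [Algebra R K]
    [IsFractionRing R K] {Y Γ Z : Scheme.{u}} (f : Y ⟶ Spec (CommRingCat.of R))
    (p₁ p₂ : Γ ⟶ Y) (h : p₁ ≫ f = p₂ ≫ f)
    (hΓ : IsClosedImmersion (pullback.lift p₁ p₂ h))
    (g : Z ⟶ Spec (CommRingCat.of R)) [Flat g] (u v : Z ⟶ Y) (hu : u ≫ f = g) (hv : v ≫ f = g)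
    (cK : pullback g (Spec.map (CommRingCat.ofHom (algebraMap R K))) ⟶ Γ)
    (h1 : cK ≫ p₁ = pullback.fst g (Spec.map (CommRingCat.ofHom (algebraMap R K))) ≫ u)
    (h2 : cK ≫ p₂ = pullback.fst g (Spec.map (CommRingCat.ofHom (algebraMap R K))) ≫ v) :
    ∃ c : Z ⟶ Γ, c ≫ p₁ = u ∧ c ≫ p₂ = v := by
  have := isSchDom_genPt R K
  have hj : IsSchemeTheoreticallyDominant
      (pullback.fst g (Spec.map (CommRingCat.ofHom (algebraMap R K)))) := inferInstance
  obtain ⟨c, hc⟩ := exists_lift_of_schDominant (pullback.lift p₁ p₂ h)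
    (pullback.lift u v (hu.trans hv.symm))
    (pullback.fst g (Spec.map (CommRingCat.ofHom (algebraMap R K)))) cK (by
      apply pullback.hom_ext
      · rw [Category.assoc, Category.assoc, pullback.lift_fst, pullback.lift_fst, h1]
      · rw [Category.assoc, Category.assoc, pullback.lift_snd, pullback.lift_snd, h2])
  refine ⟨c, ?_, ?_⟩
  · have := congrArg (· ≫ pullback.fst f f) hc
    simp only [Category.assoc] at this
    rwa [pullback.lift_fst, pullback.lift_fst] at this
  · have := congrArg (· ≫ pullback.snd f f) hc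
    simp only [Category.assoc] at this
    rwa [pullback.lift_snd, pullback.lift_snd] at this

end Groth.Agent.Lib.Helper55.SchDom
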