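import Groth.Agent.Lib.Helper55.FunFld.GrpSeries
import Groth.Agent.Lib.Helper55.FunFld.SchDom3

set_option autoImplicit false
set_option linter.unusedSectionVars false
universe u

namespace Groth.Agent.Lib.Helper55.GrpSeries

open CategoryTheory Limits AlgebraicGeometry MonoidalCategory CartesianMonoidalCategory MonObj
open scoped commutatorElement
open scoped CategoryTheory.Obj

variable {S S' : Scheme.{u}} (g0 : S' ⟶ S) (G : Over S) [GrpObj G]

theorem pullback_map_left_fst {W V : Over S} (a : W ⟶ V) :
    ((Over.pullback g0).map a).left ≫ pullback.fst V.hom g0 = pullback.fst W.hom g0 ≫ a.left := by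
  simp
  exact pullback.lift_fst _ _ _

theorem pullback_map_injective [IsSchemeTheoreticallyDominant g0] [QuasiCompact g0]
    (W : Over S) [Flat W.hom] [IsSeparated G.hom] :
    Function.Injective (fun a : W ⟶ G => (Over.pullback g0).map a) := by
  intro a b hab
  have hj : IsSchemeTheoreticallyDominant (pullback.fst W.hom g0) := inferInstance
  have h2 : pullback.fst W.hom g0 ≫ a.left = pullback.fst W.hom g0 ≫ b.left := by
    rw [← pullback_map_left_fst, ← pullback_map_left_fst]
    exact congrArg (fun x => Over.Hom.left x ≫ pullback.fst G.hom g0) hab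
  exact Over.OverMorphism.ext (SchDom.ext_of_schDominant G.hom (by rw [Over.w, Over.w])
    (pullback.fst W.hom g0) h2)


theorem lcs_eq_bot_of_flat [IsSchemeTheoreticallyDominant g0] [QuasiCompact g0]
    [IsSeparated G.hom] (n : ℕ)
    (hK : ∀ X : Over S', (⊤ : Subgroup (X ⟶ (Over.pullback g0).obj G)).lowerCentralSeries n = ⊥)
    (W : Over S) (hW : Flat W.hom) :
    (⊤ : Subgroup (W ⟶ G)).lowerCentralSeries n = ⊥ := by
  have hinj : Function.Injective ((Over.pullback g0).homMonoidHom (X := W) (M := G)) :=
    pullback_map_injective g0 G W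
  rw [← (Subgroup.map_eq_bot_iff_of_injective _ hinj), Subgroup.map_lowerCentralSeries, eq_bot_iff,
    ← hK ((Over.pullback g0).obj W)]
  exact Subgroup.lowerCentralSeries_mono n le_top

theorem der_eq_bot_of_flat [IsSchemeTheoreticallyDominant g0] [QuasiCompact g0]
    [IsSeparated G.hom] (n : ℕ)
    (hK : ∀ X : Over S', derivedSeries (X ⟶ (Over.pullback g0).obj G) n = ⊥)
    (W : Over S) (hW : Flat W.hom) :
    derivedSeries (W ⟶ G) n = ⊥ := by
  have hinj : Function.Injective ((Over.pullback g0).homMonoidHom (X := W) (M := G)) :=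
    pullback_map_injective g0 G W
  rw [← (Subgroup.map_eq_bot_iff_of_injective _ hinj), eq_bot_iff,
    ← hK ((Over.pullback g0).obj W)]
  exact map_derivedSeries_le_derivedSeries _ n

/-- the adjunction bijection on points is multiplicative -/
noncomputable def adjMulEquiv (X : Over S') :
    ((Over.map g0).obj X ⟶ G) ≃* (X ⟶ (Over.pullback g0).obj G) where
  __ := (Over.mapPullbackAdj g0).homEquiv X G
  map_mul' a b := by
    change (Over.mapPullbackAdj g0).homEquiv X G (a * b) =
      (Over.mapPullbackAdj g0).homEquiv X G a * (Over.mapPullbackAdj g0).homEquiv X G b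
    rw [Adjunction.homEquiv_unit, Adjunction.homEquiv_unit, Adjunction.homEquiv_unit,
      Functor.map_mul, MonObj.comp_mul]

theorem lcs_eq_bot_bc (n : ℕ)
    (h : ∀ Z : Over S, (⊤ : Subgroup (Z ⟶ G)).lowerCentralSeries n = ⊥) (X : Over S') :
    (⊤ : Subgroup (X ⟶ (Over.pullback g0).obj G)).lowerCentralSeries n = ⊥ := by
  have hinj : Function.Injective ((adjMulEquiv g0 G X).symm.toMonoidHom) :=
    (adjMulEquiv g0 G X).symm.injective
  rw [← (Subgroup.map_eq_bot_iff_of_injective _ hinj), Subgroup.map_lowerCentralSeries, eq_bot_iff,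
    ← h ((Over.map g0).obj X)]
  exact Subgroup.lowerCentralSeries_mono n le_top

theorem der_eq_bot_bc (n : ℕ)
    (h : ∀ Z : Over S, derivedSeries (Z ⟶ G) n = ⊥) (X : Over S') :
    derivedSeries (X ⟶ (Over.pullback g0).obj G) n = ⊥ := by
  have hinj : Function.Injective ((adjMulEquiv g0 G X).symm.toMonoidHom) :=
    (adjMulEquiv g0 G X).symm.injective
  rw [← (Subgroup.map_eq_bot_iff_of_injective _ hinj), eq_bot_iff,
    ← h ((Over.map g0).obj X)]
  exact map_derivedSeries_le_derivedSeries _ n

end Groth.Agent.Lib.Helper55.GrpSeries
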