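import Groth.Agent.Lib.Helper55.FunFld.PlaneNonsing
import Groth.Prelude.Def_W4bk4goldsch45p2

/-!
# Hasse derivatives with respect to a local parameter preserve the valuation ring
-/

set_option autoImplicit false

open FunFld Module LocRes

namespace Groth.Agent.Lib.Helper55

variable {k K : Type*} [Field k] [Field K] [Algebra k K]

section algebra

variable (H : K →ₐ[k] PowerSeries K)

theorem ff_hasseD_zero (hH : ∀ y : K, PowerSeries.constantCoeff (H y) = y) (y : K) :
    hasseD H 0 y = y := by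
  rw [hasseD_apply, PowerSeries.coeff_zero_eq_constantCoeff_apply, hH]

theorem ff_hasseD_mul (i : ℕ) (y z : K) :
    hasseD H i (y * z) = ∑ p ∈ Finset.HasAntidiagonal.antidiagonal i, hasseD H p.1 y * hasseD H p.2 z := by
  simp only [hasseD_apply, map_mul, PowerSeries.coeff_mul]

theorem ff_hasseD_mul' (i : ℕ) (y z : K) :
    hasseD H i (y * z) = ∑ a ∈ Finset.range (i + 1), hasseD H a y * hasseD H (i - a) z := by
  rw [ff_hasseD_mul, Finset.Nat.sum_antidiagonal_eq_sum_range_succ_mk]

theorem ff_hasseD_add (i : ℕ) (y z : K) : hasseD H i (y + z) = hasseD H i y + hasseD H i z := by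
  simp only [hasseD_apply, map_add]

theorem ff_hasseD_sub (i : ℕ) (y z : K) : hasseD H i (y - z) = hasseD H i y - hasseD H i z := by
  simp only [hasseD_apply, map_sub]

theorem ff_hasseD_zero_right (i : ℕ) : hasseD H i (0 : K) = 0 := by
  simp only [hasseD_apply, map_zero]

theorem ff_hasseD_sum {ι : Type*} (s : Finset ι) (f : ι → K) (i : ℕ) :
    hasseD H i (∑ j ∈ s, f j) = ∑ j ∈ s, hasseD H i (f j) := by
  simp only [hasseD_apply, map_sum]

theorem ff_hasseD_algebraMap (i : ℕ) (c : k) :
    hasseD H i (algebraMap k K c) = if i = 0 then algebraMap k K c else 0 := by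
  rw [hasseD_apply, H.commutes, PowerSeries.algebraMap_apply, PowerSeries.coeff_C]

theorem ff_hasseD_one (i : ℕ) : hasseD H i (1 : K) = if i = 0 then 1 else 0 := by
  have := ff_hasseD_algebraMap H i (1 : k)
  rwa [map_one] at this

theorem ff_hasseD_smul (i : ℕ) (c : k) (y : K) : hasseD H i (c • y) = c • hasseD H i y := by
  simp only [hasseD_apply, map_smul, PowerSeries.coeff_smul]

theorem ff_hasseD_gen {t : K} (hH : IsHasseFamily t H) (i : ℕ) :
    hasseD H i t = if i = 0 then t else if i = 1 then 1 else 0 := by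
  rw [hasseD_apply, hH.1, map_add, PowerSeries.coeff_C, PowerSeries.coeff_X]
  by_cases h0 : i = 0
  · subst h0; simp
  · by_cases h1 : i = 1
    · subst h1; simp
    · simp [h0, h1]

/-- `D^{(a)}(t^N) · t^a = (N choose a) t^N`. -/
theorem ff_hasseD_gen_pow {t : K} (hH : IsHasseFamily t H) (N a : ℕ) :
    hasseD H a (t ^ N) * t ^ a = (N.choose a : K) * t ^ N := by
  induction N generalizing a with
  | zero =>
    rw [pow_zero, ff_hasseD_one]
    by_cases h0 : a = 0
    · subst h0; simp
    · rw [if_neg h0, zero_mul, Nat.choose_eq_zero_of_lt (Nat.pos_of_ne_zero h0)]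
      simp
  | succ N ih =>
    rw [pow_succ, ff_hasseD_mul, Finset.Nat.sum_antidiagonal_eq_sum_range_succ_mk]
    cases a with
    | zero =>
      rw [Finset.sum_range_one, ff_hasseD_gen H hH 0, if_pos rfl]
      have := ih 0
      simp only [pow_zero, mul_one, Nat.choose_zero_right, Nat.cast_one, one_mul] at this ⊢
      rw [this]
    | succ a =>
      rw [Finset.sum_range_succ, Finset.sum_range_succ]
      have hz : ∑ x ∈ Finset.range a, hasseD H (x, a + 1 - x).1 (t ^ N) *
          hasseD H (x, a + 1 - x).2 t = 0 := by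
        refine Finset.sum_eq_zero fun x hx => ?_
        rw [Finset.mem_range] at hx
        rw [ff_hasseD_gen H hH, if_neg (by simp only; omega), if_neg (by simp only; omega),
          mul_zero]
      rw [hz, zero_add]
      have e1 : a + 1 - a = 1 := by omega
      have e2 : a + 1 - (a + 1) = 0 := by omega
      simp only [e1, e2]
      rw [ff_hasseD_gen H hH 0, if_pos rfl, ff_hasseD_gen H hH 1, if_neg one_ne_zero,
        if_pos rfl, mul_one]
      have h1 := ih (a + 1)
      have h2 := ih a
      rw [Nat.choose_succ_succ', Nat.cast_add, add_mul]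
      calc hasseD H a (t ^ N) * t ^ (a + 1) + hasseD H (a + 1) (t ^ N) * t * t ^ (a + 1)
          = (hasseD H a (t ^ N) * t ^ a) * t + (hasseD H (a + 1) (t ^ N) * t ^ (a + 1)) * t := by
            ring
        _ = _ := by rw [h1, h2]; ring

end algebra

section integrality

variable (H : K →ₐ[k] PowerSeries K)

/-- The subalgebra of elements all of whose Hasse derivatives are integral at `P`. -/
def ff_hasseInt (P : Place k K) : Subalgebra k K where
  carrier := {z | ∀ i, P.1 (hasseD H i z) ≤ 1}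
  mul_mem' := by
    intro y z hy hz i
    rw [ff_hasseD_mul]
    refine P.1.map_sum_le fun p _ => ?_
    rw [map_mul]
    exact mul_le_one' (hy _) (hz _)
  add_mem' := by
    intro y z hy hz i
    rw [ff_hasseD_add]
    exact (P.1.map_add _ _).trans (max_le (hy i) (hz i))
  algebraMap_mem' := by
    intro c i
    rw [ff_hasseD_algebraMap]
    split_ifs
    · exact P.2.1 c
    · rw [map_zero]; exact zero_le

theorem ff_mem_hasseInt (P : Place k K) (z : K) :
    z ∈ ff_hasseInt H P ↔ ∀ i, P.1 (hasseD H i z) ≤ 1 := Iff.rfl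

theorem ff_gen_mem_hasseInt (P : Place k K) {t : K} (hH : IsHasseFamily t H) (ht : P.1 t ≤ 1) :
    t ∈ ff_hasseInt H P := by
  intro i
  rw [ff_hasseD_gen H hH]
  split_ifs
  · exact ht
  · rw [map_one]
  · rw [map_zero]; exact zero_le

theorem ff_adjoin_le_hasseInt (P : Place k K) {t : K} (hH : IsHasseFamily t H) (ht : P.1 t ≤ 1) :
    Algebra.adjoin k ({t} : Set K) ≤ ff_hasseInt H P :=
  Algebra.adjoin_le (by
    rintro _ rfl
    exact ff_gen_mem_hasseInt H P hH ht)

theorem ff_exists_nat_exp_ge (γ : WithZero (Multiplicative ℤ)) :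
    ∃ c : ℕ, γ ≤ WithZero.exp (c : ℤ) := by
  obtain rfl | hγ := eq_or_ne γ 0
  · exact ⟨0, zero_le⟩
  · refine ⟨(WithZero.log γ).toNat, ?_⟩
    rw [← WithZero.exp_log hγ, WithZero.exp_le_exp, WithZero.log_exp]
    exact Int.self_le_toNat _

/-- Hasse derivatives are uniformly bounded on a finitely generated module over a subalgebra of
`ff_hasseInt`. -/
theorem ff_hasse_bound_span (P : Place k K) (S' : Subalgebra k K) (hS' : S' ≤ ff_hasseInt H P)
    (T : Finset K) (i : ℕ) :
    ∃ c : ℕ, ∀ y ∈ Submodule.span S' (T : Set K), ∀ b ≤ i,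
      P.1 (hasseD H b y) ≤ WithZero.exp (c : ℤ) := by
  classical
  obtain ⟨M, hM⟩ := Finset.exists_le
    ((T ×ˢ Finset.range (i + 1)).image fun p : K × ℕ => P.1 (hasseD H p.2 p.1))
  obtain ⟨c, hc⟩ := ff_exists_nat_exp_ge M
  refine ⟨c, fun y hy => ?_⟩
  induction hy using Submodule.span_induction with
  | mem w hw =>
    intro b hb
    refine (hM _ ?_).trans hc
    exact Finset.mem_image.mpr ⟨(w, b), Finset.mem_product.mpr
      ⟨hw, Finset.mem_range.mpr (by omega)⟩, rfl⟩
  | zero =>
    intro b _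
    rw [ff_hasseD_zero_right, map_zero]
    exact zero_le
  | add y z _ _ hy hz =>
    intro b hb
    rw [ff_hasseD_add]
    exact (P.1.map_add _ _).trans (max_le (hy b hb) (hz b hb))
  | smul s y _ hy =>
    intro b hb
    have e : s • y = (s : K) * y := rfl
    rw [e, ff_hasseD_mul']
    refine P.1.map_sum_le fun a _ => ?_
    rw [map_mul]
    calc P.1 (hasseD H a (s : K)) * P.1 (hasseD H (b - a) y)
        ≤ 1 * WithZero.exp (c : ℤ) := mul_le_mul' (hS' s.2 a) (hy (b - a) (by omega))
      _ = _ := one_mul _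

/-- Bound for the Hasse derivatives of the inverse of a unit at `P`. -/
theorem ff_hasse_inv_bound (hH : ∀ y : K, PowerSeries.constantCoeff (H y) = y) (P : Place k K)
    {s : K} (hs : P.1 s = 1) (c N : ℕ)
    (hc : ∀ a ≤ N, P.1 (hasseD H a s) ≤ WithZero.exp (c : ℤ)) :
    ∀ m ≤ N, P.1 (hasseD H m s⁻¹) ≤ WithZero.exp ((m * c : ℕ) : ℤ) := by
  have hs0 : s ≠ 0 := by
    rintro rfl
    rw [map_zero] at hs
    exact zero_ne_one hs
  intro m
  induction m using Nat.strong_induction_on with
  | _ m ih =>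
    intro hm
    rcases Nat.eq_zero_or_pos m with rfl | hmpos
    · rw [ff_hasseD_zero H hH, map_inv₀, hs, inv_one]
      simp
    · have h1 : hasseD H m (s * s⁻¹) = 0 := by
        rw [mul_inv_cancel₀ hs0, ff_hasseD_one, if_neg (by omega)]
      rw [ff_hasseD_mul', Finset.sum_range_succ', ff_hasseD_zero H hH, Nat.sub_zero] at h1
      have h2 : s * hasseD H m s⁻¹ =
          -∑ a ∈ Finset.range m, hasseD H (a + 1) s * hasseD H (m - (a + 1)) s⁻¹ := by
        rw [eq_neg_iff_add_eq_zero, add_comm]
        exact h1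
      have h3 : P.1 (hasseD H m s⁻¹) = P.1 (s * hasseD H m s⁻¹) := by
        rw [map_mul, hs, one_mul]
      rw [h3, h2, Valuation.map_neg]
      refine P.1.map_sum_le fun a ha => ?_
      rw [Finset.mem_range] at ha
      rw [map_mul]
      have h4 := hc (a + 1) (by omega)
      have h5 := ih (m - (a + 1)) (by omega) (by omega)
      calc P.1 (hasseD H (a + 1) s) * P.1 (hasseD H (m - (a + 1)) s⁻¹)
          ≤ WithZero.exp (c : ℤ) * WithZero.exp (((m - (a + 1)) * c : ℕ) : ℤ) :=
            mul_le_mul' h4 h5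
        _ = WithZero.exp ((c : ℤ) + (((m - (a + 1)) * c : ℕ) : ℤ)) := by
            rw [WithZero.exp_add]
        _ ≤ WithZero.exp ((m * c : ℕ) : ℤ) := by
            rw [WithZero.exp_le_exp]
            have : c + (m - (a + 1)) * c ≤ m * c := by
              obtain ⟨r, hr⟩ : ∃ r, m = r + (a + 1) := ⟨m - (a + 1), by omega⟩
              rw [hr, Nat.add_sub_cancel]
              nlinarith
            exact_mod_cast this

/-- **Uniform bound**: Hasse derivatives with respect to a local parameter at `P` are bounded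
on the valuation ring of `P`. -/
theorem ff_hasse_bound [IsAlgClosed k] (hK : IsFunctionField k K) (P : Place k K) {t : K}
    (ht : P.1 t = WithZero.exp (-1)) (hH : IsHasseFamily t H) (i : ℕ) :
    ∃ c : ℕ, ∀ y : K, P.1 y ≤ 1 → P.1 (hasseD H i y) ≤ WithZero.exp (c : ℤ) := by
  classical
  have ht0 : t ≠ 0 := ff_uniformizer_ne_zero P ht
  have htlt : P.1 t < 1 := by
    rw [ht, ← WithZero.exp_zero, WithZero.exp_lt_exp]; norm_num
  have htr : Transcendental k t := ff_transcendental_of_val_lt_one hK P ht0 htlt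
  set S := Algebra.adjoin k ({t} : Set K) with hS
  have hSle : S ≤ ff_hasseInt H P := ff_adjoin_le_hasseInt H P hH htlt.le
  let x : Fin 1 → K := fun _ => t
  have hint : ∀ y : K, (∀ Q : Place k K, (∀ i, Q.1 (x i) ≤ 1) → Q.1 y ≤ 1) → IsIntegral S y := by
    intro y hy
    apply ff_isIntegral_of_valuationSubring
    intro V hV
    by_cases hVtop : V = ⊤
    · rw [hVtop]; trivial
    · obtain ⟨Q, hQ⟩ := ff_exists_place_of_valuationSubring hK V
        (fun c => hV _ (Subalgebra.algebraMap_mem _ c)) hVtop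
      rw [← hQ]
      refine (Valuation.mem_valuationSubring_iff _ _).mpr (hy Q fun _ => ?_)
      have : t ∈ Q.O := by rw [hQ]; exact hV _ (Algebra.subset_adjoin rfl)
      exact (Valuation.mem_valuationSubring_iff _ _).mp this
  obtain ⟨B, hFG, hB⟩ := ff_exists_fg_subalgebra hK x 0 htr S hint
  obtain ⟨T, hT⟩ := hFG
  obtain ⟨c₀, hc₀⟩ := ff_hasse_bound_span H P S hSle T i
  -- the pole divisor of `t`
  set E : Divisor k K := ff_poleDiv t with hE
  have hEP : E P = 0 := by
    rw [hE, ff_poleDiv_apply hK]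
    have := (ff_ord_nonneg_iff P ht0).mpr htlt.le
    omega
  have hfin := ff_finite_of_transcendental hK htr
  have hEdeg : 1 ≤ E.deg := by
    rw [hE, ff_deg_poleDiv hK htr]
    have : 0 < finrank (IntermediateField.adjoin k ({t} : Set K)) K := Module.finrank_pos
    exact_mod_cast this
  have hLB : ∀ (M : ℕ) (z : K), z ∈ L (M • E) → z ∈ Submodule.span S (T : Set K) := by
    intro M z hz
    rw [hT]
    refine hB z fun Q hQ => ?_
    have hQt : Q.1 t ≤ 1 := hQ 0
    have hEQ : E Q = 0 := by
      rw [hE, ff_poleDiv_apply hK]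
      have := (ff_ord_nonneg_iff Q ht0).mpr hQt
      omega
    have := (ff_mem_L_iff _ z).mp hz Q
    rwa [Finsupp.smul_apply, hEQ, smul_zero, WithZero.exp_zero] at this
  refine ⟨(i + 1) * c₀, fun y hy => ?_⟩
  obtain ⟨M₀, hM₀⟩ := ff_exists_unit_clearing hK hEdeg P hEP hy
  obtain ⟨h, hhL, hh1, hhy⟩ := hM₀ M₀ le_rfl
  have hh0 : h ≠ 0 := by
    rintro rfl
    rw [map_zero] at hh1
    exact zero_ne_one hh1
  have hbh := hc₀ h (hLB _ _ hhL)
  have hbhy := hc₀ (h * y) (hLB _ _ hhy)
  have hinv := ff_hasse_inv_bound H hH.2 P hh1 c₀ i hbh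
  have hy' : y = (h * y) * h⁻¹ := by
    rw [mul_comm h y, mul_assoc, mul_inv_cancel₀ hh0, mul_one]
  rw [hy', ff_hasseD_mul']
  refine P.1.map_sum_le fun a ha => ?_
  rw [Finset.mem_range] at ha
  rw [map_mul]
  calc P.1 (hasseD H a (h * y)) * P.1 (hasseD H (i - a) h⁻¹)
      ≤ WithZero.exp (c₀ : ℤ) * WithZero.exp (((i - a) * c₀ : ℕ) : ℤ) :=
        mul_le_mul' (hbhy a (by omega)) (hinv (i - a) (by omega))
    _ = WithZero.exp ((c₀ : ℤ) + (((i - a) * c₀ : ℕ) : ℤ)) := by rw [WithZero.exp_add]
    _ ≤ WithZero.exp (((i + 1) * c₀ : ℕ) : ℤ) := by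
        rw [WithZero.exp_le_exp]
        have : c₀ + (i - a) * c₀ ≤ (i + 1) * c₀ := by
          have : i - a ≤ i := Nat.sub_le _ _
          nlinarith
        exact_mod_cast this

/-- Taylor decomposition `y = p(t) + t^N y'`. -/
theorem ff_taylor_decomp [IsAlgClosed k] (hK : IsFunctionField k K) (P : Place k K) {t : K}
    (ht : P.1 t = WithZero.exp (-1)) (N : ℕ) {y : K} (hy : P.1 y ≤ 1) :
    ∃ p ∈ Algebra.adjoin k ({t} : Set K), ∃ y' : K, P.1 y' ≤ 1 ∧ y = p + t ^ N * y' := by
  have ht0 : t ≠ 0 := ff_uniformizer_ne_zero P ht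
  have htS : t ∈ Algebra.adjoin k ({t} : Set K) := Algebra.subset_adjoin (Set.mem_singleton t)
  induction N with
  | zero => exact ⟨0, Subalgebra.zero_mem _, y, hy, by rw [pow_zero, one_mul, zero_add]⟩
  | succ N ih =>
    obtain ⟨p, hp, y', hy', hyp⟩ := ih
    obtain ⟨c, hc⟩ := ff_exists_const_approx hK P hy'
    refine ⟨p + algebraMap k K c * t ^ N,
      Subalgebra.add_mem _ hp (Subalgebra.mul_mem _ (Subalgebra.algebraMap_mem _ c)
        (Subalgebra.pow_mem _ htS N)),
      (y' - algebraMap k K c) / t, ?_, ?_⟩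
    · rw [map_div₀, ht]
      rw [ff_lt_one_iff] at hc
      exact div_le_one_of_le₀ hc zero_le
    · rw [hyp]
      field_simp
      ring

/-- **Integrality**: Hasse derivatives with respect to a local parameter at `P` preserve the
valuation ring of `P`. -/
theorem ff_hasse_integral [IsAlgClosed k] (hK : IsFunctionField k K) (P : Place k K) {t : K}
    (ht : P.1 t = WithZero.exp (-1)) (hH : IsHasseFamily t H) :
    ∀ (i : ℕ) (y : K), P.1 y ≤ 1 → P.1 (hasseD H i y) ≤ 1 := by
  have htlt : P.1 t < 1 := by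
    rw [ht, ← WithZero.exp_zero, WithZero.exp_lt_exp]; norm_num
  have hSle := ff_adjoin_le_hasseInt H P hH htlt.le
  have htS : t ∈ Algebra.adjoin k ({t} : Set K) := Algebra.subset_adjoin (Set.mem_singleton t)
  intro i
  induction i using Nat.strong_induction_on with
  | _ i ih =>
    intro y hy
    obtain ⟨c, hc⟩ := ff_hasse_bound H hK P ht hH i
    obtain ⟨p, hp, y', hy', rfl⟩ := ff_taylor_decomp hK P ht (c + i) hy
    rw [ff_hasseD_add]
    refine (P.1.map_add _ _).trans (max_le (hSle hp i) ?_)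
    rw [ff_hasseD_mul', Finset.sum_range_succ']
    refine (P.1.map_add _ _).trans (max_le ?_ ?_)
    · refine P.1.map_sum_le fun a ha => ?_
      rw [Finset.mem_range] at ha
      rw [map_mul]
      have h1 : P.1 (hasseD H (a + 1) (t ^ (c + i))) ≤ 1 :=
        hSle (Subalgebra.pow_mem _ htS _) (a + 1)
      exact mul_le_one' h1 (ih (i - (a + 1)) (by omega) y' hy')
    · rw [ff_hasseD_zero H hH.2, Nat.sub_zero, map_mul, map_pow, ht]
      calc WithZero.exp (-1) ^ (c + i) * P.1 (hasseD H i y')
          ≤ WithZero.exp (-1) ^ (c + i) * WithZero.exp (c : ℤ) := mul_le_mul' le_rfl (hc y' hy')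
        _ = WithZero.exp (-(i : ℤ)) := by
            rw [← WithZero.exp_nsmul, ← WithZero.exp_add]
            congr 1
            simp only [nsmul_eq_mul, Nat.cast_add]
            ring
        _ ≤ 1 := by
            rw [← WithZero.exp_zero, WithZero.exp_le_exp]
            omega

end integrality

end Groth.Agent.Lib.Helper55
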