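import Groth.Agent.Lib.Helper55.FunFld.HasseChange

/-! `τ`-orders of a birational map for `τ ≠ 1`: they are `0` and the orders with one omitted. -/

namespace Groth.Agent.Lib.Helper55

open FunFld LocRes

variable {k K : Type*} [Field k] [Field K] [Algebra k K]

theorem ff_exists_span_Iio_eq_top {F : Type*} [Field F] {n : ℕ} (c : ℕ → (Fin (n + 1) → F))
    (hspan : Submodule.span F (Set.range c) = ⊤) :
    ∃ m, Submodule.span F (c '' Set.Iio m) = ⊤ := by
  let S : ℕ →o Submodule F (Fin (n + 1) → F) :=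
    ⟨fun m => Submodule.span F (c '' Set.Iio m), fun a b hab =>
      Submodule.span_mono (Set.image_mono fun j hj => lt_of_lt_of_le hj hab)⟩
  obtain ⟨m₀, hm₀⟩ := (monotone_stabilizes_iff_noetherian.mpr
    (inferInstance : IsNoetherian F (Fin (n + 1) → F))) S
  refine ⟨m₀, ?_⟩
  rw [eq_top_iff, ← hspan, Submodule.span_le]
  rintro _ ⟨j, rfl⟩
  have h1 : c j ∈ S (max m₀ (j + 1)) :=
    Submodule.subset_span ⟨j, lt_of_lt_of_le (Nat.lt_succ_self j) (le_max_right _ _), rfl⟩
  rw [← hm₀ _ (le_max_left _ _)] at h1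
  exact h1

/-- The columns of Hasse derivatives of a linearly independent tuple span `K^(n+1)`. -/
theorem ff_span_hasse_cols_eq_top [IsAlgClosed k] (hK : IsFunctionField k K) {n : ℕ}
    (φ : Fin (n + 1) → K) (hφ : LinearIndependent k φ) {s : K}
    (H : K →ₐ[k] PowerSeries K) (hH : IsHasseFamily s H) :
    Submodule.span K (Set.range fun j : ℕ => fun i => hasseD H j (φ i)) = ⊤ := by
  classical
  by_contra hne
  obtain ⟨f, hf0, hfle⟩ := Submodule.exists_le_ker_of_lt_top _ (lt_top_iff_ne_top.mpr hne)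
  obtain ⟨a, ha⟩ : ∃ a : Fin (n + 1) → K, ∀ q, a q = f fun q' => if q = q' then 1 else 0 :=
    ⟨_, fun _ => rfl⟩
  have hf : ∀ v, f v = ∑ q, a q * v q := by
    intro v
    rw [LinearMap.pi_apply_eq_sum_univ f v]
    refine Finset.sum_congr rfl fun q _ => ?_
    rw [ha, smul_eq_mul, mul_comm]
  have hrel : ∑ i, PowerSeries.C (a i) * H (φ i) = 0 := by
    ext j
    rw [map_sum, map_zero]
    simp only [PowerSeries.coeff_C_mul]
    have h1 : f (fun i => hasseD H j (φ i)) = 0 := hfle (Submodule.subset_span ⟨j, rfl⟩)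
    rw [hf] at h1
    exact h1
  have ha0 := ff_hasse_series_indep hK H hH φ hφ a hrel
  apply hf0
  refine LinearMap.ext fun v => ?_
  rw [hf, ha0]
  simp

/-- An endomorphism fixing a set of field generators is the identity. -/
theorem ff_algHom_eq_id_of_adjoin_eq_top (τ : K →ₐ[k] K) (S : Set K)
    (hS : IntermediateField.adjoin k S = ⊤) (hfix : ∀ x ∈ S, τ x = x) : τ = AlgHom.id k K := by
  let E : IntermediateField k K :=
    Subalgebra.toIntermediateField (AlgHom.equalizer τ (AlgHom.id k K)) (by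
      intro x hx
      rw [AlgHom.mem_equalizer] at hx ⊢
      rw [map_inv₀, hx]
      rfl)
  have hle : IntermediateField.adjoin k S ≤ E := by
    rw [IntermediateField.adjoin_le_iff]
    intro x hx
    exact hfix x hx
  refine AlgHom.ext fun z => ?_
  have : z ∈ E := hle (by rw [hS]; exact IntermediateField.mem_top)
  exact this


/-- `τ`-orders of a birational map for `τ ≠ 1` (S12602). -/
theorem ff_tau_orders_birational [IsAlgClosed k] (hK : IsFunctionField k K) {n : ℕ}
    (φ : Fin (n + 1) → K) (hφ : LinearIndependent k φ) (h0 : φ 0 ≠ 0)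
    (hbir : IntermediateField.adjoin k (Set.range fun i => φ i / φ 0) = ⊤)
    (τ : K →ₐ[k] K) (hτ : τ ≠ AlgHom.id k K) {s : K} (H : K →ₐ[k] PowerSeries K)
    (hH : IsHasseFamily s H) (J : Fin n → ℕ)
    (hJ : IsOrders K (hcol (AlgHom.id k K) H φ) J) :
    ∃ m : Fin n, ∀ j : ℕ,
      IsJump K (hcol τ H φ) (j + 1) ↔ (j = 0 ∨ ∃ l, l ≠ m ∧ J l = j) := by
  classical
  -- notation
  obtain ⟨d, hd⟩ : ∃ d : ℕ → (Fin (n + 1) → K), ∀ j, d j = fun i => hasseD H j (φ i) :=
    ⟨_, fun _ => rfl⟩
  obtain ⟨v, hv⟩ : ∃ v : Fin (n + 1) → K, v = fun i => τ (φ i) := ⟨_, rfl⟩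
  obtain ⟨T, hT⟩ : ∃ T : ℕ → Submodule K (Fin (n + 1) → K),
      ∀ m, T m = Submodule.span K (d '' Set.Iio m) := ⟨_, fun _ => rfl⟩
  have hd0 : d 0 = φ := by
    rw [hd]; funext i; exact ff_hasseD_zero H hH.2 (φ i)
  have hTmono : ∀ a b, a ≤ b → T a ≤ T b := fun a b hab => by
    rw [hT, hT]
    exact Submodule.span_mono (Set.image_mono fun j hj => lt_of_lt_of_le hj hab)
  have hTsucc : ∀ m, T (m + 1) = T m ⊔ Submodule.span K {d m} := by
    intro m
    have hI : Set.Iio (m + 1) = insert m (Set.Iio m) := by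
      ext j; simp only [Set.mem_Iio, Set.mem_insert_iff]; omega
    rw [hT, hT, hI, Set.image_insert_eq, Submodule.span_insert, sup_comm]
  have hT0 : T 0 = ⊥ := by
    have hI0 : Set.Iio (0 : ℕ) = ∅ := by ext j; simp
    rw [hT, hI0, Set.image_empty, Submodule.span_empty]
  have hT1 : T 1 = Submodule.span K {φ} := by
    rw [hTsucc, hT0, bot_sup_eq, hd0]
  -- spans of initial segments of the two column sequences
  have hcs : ∀ j, hcol (AlgHom.id k K) H φ (j + 1) = d j := fun j => by rw [hd]; rfl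
  have hc's : ∀ j, hcol τ H φ (j + 1) = d j := fun j => by rw [hd]; rfl
  have hc0 : hcol (AlgHom.id k K) H φ 0 = d 0 := by rw [hd0]; rfl
  have hc'0 : hcol τ H φ 0 = v := by rw [hv]; rfl
  have hspanc : ∀ j, 1 ≤ j →
      Submodule.span K (hcol (AlgHom.id k K) H φ '' Set.Iio (j + 1)) = T j := by
    intro j hj
    rw [hT]
    congr 1
    ext w
    constructor
    · rintro ⟨i, hi, rfl⟩
      rcases i with _ | i
      · exact ⟨0, hj, hc0.symm⟩
      · exact ⟨i, by simpa using hi, (hcs i).symm⟩
    · rintro ⟨i, hi, rfl⟩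
      exact ⟨i + 1, by simpa using hi, hcs i⟩
  have hspanc' : ∀ j,
      Submodule.span K (hcol τ H φ '' Set.Iio (j + 1)) = Submodule.span K {v} ⊔ T j := by
    intro j
    have himg : hcol τ H φ '' Set.Iio (j + 1) = insert v (d '' Set.Iio j) := by
      ext w
      constructor
      · rintro ⟨i, hi, rfl⟩
        rcases i with _ | i
        · exact Or.inl hc'0
        · exact Or.inr ⟨i, by simpa using hi, (hc's i).symm⟩
      · rintro (rfl | ⟨i, hi, rfl⟩)
        · exact ⟨0, by simp, hc'0⟩
        · exact ⟨i + 1, by simpa using hi, hc's i⟩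
    rw [himg, Submodule.span_insert, hT]
  have hjumpc : ∀ j, 1 ≤ j → (IsJump K (hcol (AlgHom.id k K) H φ) (j + 1) ↔ d j ∉ T j) := by
    intro j hj
    unfold IsJump
    rw [hspanc j hj, hcs]
  have hjumpc' : ∀ j, (IsJump K (hcol τ H φ) (j + 1) ↔ d j ∉ Submodule.span K {v} ⊔ T j) := by
    intro j
    unfold IsJump
    rw [hspanc' j, hc's]
  have hJpos := ff_orders_pos_of_id H φ hH J hJ
  -- `τ φ` is not proportional to `φ`
  have hτφ0 : τ (φ 0) ≠ 0 := fun h => h0 ((map_eq_zero_iff τ τ.toRingHom.injective).mp h)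
  have hF1 : v ∉ T 1 := by
    rw [hT1, Submodule.mem_span_singleton]
    rintro ⟨lam, hlam⟩
    apply hτ
    have hlam' : ∀ i, lam * φ i = τ (φ i) := fun i => by
      have := congrFun hlam i
      rw [hv] at this
      simpa using this
    have hlam0 : lam ≠ 0 := by
      rintro rfl
      exact hτφ0 (by rw [← hlam' 0, zero_mul])
    apply ff_algHom_eq_id_of_adjoin_eq_top τ _ hbir
    rintro _ ⟨i, rfl⟩
    rw [map_div₀, ← hlam' i, ← hlam' 0, mul_div_mul_left _ _ hlam0]
  -- `τ φ` lies in some `T N`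
  have hF2 : ∃ N, v ∈ T N := by
    have hspan := ff_span_hasse_cols_eq_top hK φ hφ H hH
    have hd' : d = fun j : ℕ => fun i => hasseD H j (φ i) := funext hd
    rw [← hd'] at hspan
    obtain ⟨N, hN⟩ := ff_exists_span_Iio_eq_top d hspan
    exact ⟨N, by rw [hT, hN]; exact Submodule.mem_top⟩
  have hN₀ := Nat.find_spec hF2
  have hN₀min : ∀ N, N < Nat.find hF2 → v ∉ T N := fun N hN => Nat.find_min hF2 hN
  have hN₀2 : 2 ≤ Nat.find hF2 := by
    by_contra hlt
    push Not at hlt
    exact hF1 (hTmono _ _ (by omega) hN₀)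
  obtain ⟨js, hjs⟩ : ∃ js, Nat.find hF2 = js + 1 := ⟨Nat.find hF2 - 1, by omega⟩
  have hjs1 : 1 ≤ js := by omega
  have hvin : v ∈ T (js + 1) := hjs ▸ hN₀
  have hvout : v ∉ T js := hN₀min js (by omega)
  -- decomposition of `v`
  rw [hTsucc, Submodule.mem_sup] at hvin
  obtain ⟨w, hw, w', hw', hvw⟩ := hvin
  obtain ⟨μ, rfl⟩ := Submodule.mem_span_singleton.mp hw'
  have hμ0 : μ ≠ 0 := by
    rintro rfl
    rw [zero_smul, add_zero] at hvw
    exact hvout (hvw ▸ hw)
  have hdjs : d js ∉ T js := by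
    intro hmem
    apply hvout
    rw [← hvw]
    exact Submodule.add_mem _ hw (Submodule.smul_mem _ _ hmem)
  obtain ⟨m, hm⟩ := (hJ.2 js).mpr ((hjumpc js hjs1).mpr hdjs)
  refine ⟨m, fun j => ?_⟩
  rw [hjumpc']
  have hrange : ∀ j, 1 ≤ j → ((∃ l, J l = j) ↔ d j ∉ T j) := fun j hj => by
    rw [← hjumpc j hj, ← hJ.2 j]
    rfl
  rcases Nat.eq_zero_or_pos j with rfl | hjpos
  · -- `j = 0`
    simp only [true_or, iff_true]
    rw [hT0, sup_bot_eq, hd0, Submodule.mem_span_singleton]
    rintro ⟨lam, hlam⟩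
    apply hF1
    rw [hT1, Submodule.mem_span_singleton]
    have hlam0 : lam ≠ 0 := by
      rintro rfl
      rw [zero_smul] at hlam
      exact h0 (by rw [← hlam]; rfl)
    exact ⟨lam⁻¹, by rw [← hlam, smul_smul, inv_mul_cancel₀ hlam0, one_smul]⟩
  · have hj0 : j ≠ 0 := by omega
    rcases lt_trichotomy j js with hlt | heq | hgt
    · -- `j < js`
      have hA : d j ∈ Submodule.span K {v} ⊔ T j ↔ d j ∈ T j := by
        constructor
        · intro hmem
          rw [Submodule.mem_sup] at hmem
          obtain ⟨x, hx, y, hy, hxy⟩ := hmem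
          obtain ⟨lam, rfl⟩ := Submodule.mem_span_singleton.mp hx
          by_cases hlam0 : lam = 0
          · rw [hlam0, zero_smul, zero_add] at hxy
            exact hxy ▸ hy
          · exfalso
            apply hN₀min (j + 1) (by omega)
            have hv' : v = lam⁻¹ • (d j - y) := by
              rw [← hxy, add_sub_cancel_right, smul_smul, inv_mul_cancel₀ hlam0, one_smul]
            rw [hv']
            refine Submodule.smul_mem _ _ (Submodule.sub_mem _ ?_ (hTmono _ _ (Nat.le_succ j) hy))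
            rw [hTsucc]
            exact Submodule.mem_sup_right (Submodule.mem_span_singleton_self _)
        · exact fun h => Submodule.mem_sup_right h
      rw [hA, ← hrange j hjpos]
      constructor
      · rintro ⟨l, hl⟩
        refine Or.inr ⟨l, ?_, hl⟩
        rintro rfl
        omega
      · rintro (h | ⟨l, -, hl⟩)
        · exact absurd h hj0
        · exact ⟨l, hl⟩
    · -- `j = js`
      subst heq
      have hmem : d j ∈ Submodule.span K {v} ⊔ T j := by
        have hdj : d j = μ⁻¹ • (v - w) := by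
          rw [← hvw, add_sub_cancel_left, smul_smul, inv_mul_cancel₀ hμ0, one_smul]
        rw [hdj]
        refine Submodule.smul_mem _ _ (Submodule.sub_mem _ ?_ (Submodule.mem_sup_right hw))
        exact Submodule.mem_sup_left (Submodule.mem_span_singleton_self _)
      constructor
      · intro h; exact absurd hmem h
      · rintro (h | ⟨l, hl, hlj⟩)
        · exact absurd h hj0
        · exact absurd (hJ.1.injective (hlj.trans hm.symm)) hl
    · -- `j > js`
      have hvT : v ∈ T j := by
        refine hTmono (js + 1) j hgt ?_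
        rw [hTsucc, ← hvw]
        exact Submodule.add_mem _ (Submodule.mem_sup_left hw)
          (Submodule.mem_sup_right (Submodule.smul_mem _ _ (Submodule.mem_span_singleton_self _)))
      have hsup : Submodule.span K {v} ⊔ T j = T j := by
        rw [sup_eq_right, Submodule.span_singleton_le_iff_mem]
        exact hvT
      rw [hsup, ← hrange j hjpos]
      constructor
      · rintro ⟨l, hl⟩
        refine Or.inr ⟨l, ?_, hl⟩
        rintro rfl
        omega
      · rintro (h | ⟨l, -, hl⟩)
        · exact absurd h hj0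
        · exact ⟨l, hl⟩

end Groth.Agent.Lib.Helper55
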