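import Groth.Agent.Lib.Helper55.FunFld.HasseLocal

/-! Canonical orders at a place and Weierstrass gaps. -/

namespace Groth.Agent.Lib.Helper55

open FunFld LocRes

variable {k K : Type*} [Field k] [Field K] [Algebra k K]
variable (H : K →ₐ[k] PowerSeries K)

theorem ff_canonical_orders_gap [IsAlgClosed k] (hK : IsFunctionField k K) (C : Divisor k K)
    (hC : IsCanonical k K C) {n : ℕ} (φ : Fin (n + 1) → K) (hφ : LinearIndependent k φ)
    (hspan : Submodule.span k (Set.range φ) = L C) (P : Place k K) (y : K)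
    (heff : (1 : K) ∈ Submodule.span k (Set.range (y • φ))) (hnorm : ∀ i, P.1 (y * φ i) ≤ 1)
    {t : K} (ht : P.1 t = WithZero.exp (-1)) (hH : IsHasseFamily t H) (j : ℕ) (hj : 1 ≤ j) :
    IsJump (IsLocalRing.ResidueField P.O) (hcolAt P H (y • φ)) (j + 1) ↔
      L (Finsupp.single P ((j : ℤ) + 1)) = L (Finsupp.single P (j : ℤ)) := by
  classical
  have hPdeg := ff_deg_eq_one_of_isAlgClosed hK P
  have hg : 0 < genus k K := by
    have h1 := (ff_canonical_ell_deg hK hC).1
    have h2 : ell C = n + 1 := by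
      unfold ell
      rw [← hspan, finrank_span_eq_card hφ]
      simp
    omega
  have hnorm' : ∀ i, P.1 ((y • φ) i) ≤ 1 := fun i => by
    simpa only [Pi.smul_apply, smul_eq_mul] using hnorm i
  rw [ff_isJump_hcolAt_iff H hK P ht hH (y • φ) hnorm' j]
  have hmem : ∀ f, f ∈ Submodule.span k (Set.range (y • φ)) ↔ ∃ x ∈ L C, f = y * x := by
    intro f
    rw [← hspan]
    constructor
    · intro hf
      obtain ⟨c, rfl⟩ := (Submodule.mem_span_range_iff_exists_fun k).mp hf
      refine ⟨∑ i, c i • φ i, Submodule.sum_mem _ fun i _ =>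
        Submodule.smul_mem _ _ (Submodule.subset_span ⟨i, rfl⟩), ?_⟩
      rw [Finset.mul_sum]
      refine Finset.sum_congr rfl fun i _ => ?_
      rw [Pi.smul_apply, smul_eq_mul, mul_smul_comm]
    · rintro ⟨x, hx, rfl⟩
      obtain ⟨c, rfl⟩ := (Submodule.mem_span_range_iff_exists_fun k).mp hx
      rw [Finset.mul_sum]
      refine Submodule.sum_mem _ fun i _ => ?_
      rw [mul_smul_comm]
      exact Submodule.smul_mem _ _ (Submodule.subset_span ⟨i, rfl⟩)
  have hint : ∀ x ∈ L C, P.1 (y * x) ≤ 1 := by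
    intro x hx
    have : y * x ∈ Submodule.span k (Set.range (y • φ)) := (hmem _).mpr ⟨x, hx, rfl⟩
    obtain ⟨c, hc⟩ := (Submodule.mem_span_range_iff_exists_fun k).mp this
    rw [← hc]
    exact ff_val_lincomb_le P (y • φ) hnorm' c
  obtain ⟨x₁, hx₁, h1x₁⟩ := (hmem 1).mp heff
  have hy0 : y ≠ 0 := by
    rintro rfl
    rw [zero_mul] at h1x₁
    exact one_ne_zero h1x₁
  have hx₁0 : x₁ ≠ 0 := by
    rintro rfl
    rw [mul_zero] at h1x₁
    exact one_ne_zero h1x₁
  have hsubP : ∀ (i : ℤ) (Q : Place k K), (C - Finsupp.single P i) Q = if Q = P then C P - i else C Q := by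
    intro i Q
    rw [Finsupp.sub_apply]
    split_ifs with h
    · rw [h, Finsupp.single_eq_same]
    · rw [Finsupp.single_eq_of_ne h, sub_zero]
  -- elements of `L(C - iP)` not in `L(C - (i+1)P)` have exact order at `P`
  have hexact : ∀ (i : ℤ) (x : K), x ∈ L (C - Finsupp.single P i) →
      x ∉ L (C - Finsupp.single P (i + 1)) → P.1 x = WithZero.exp (C P - i) := by
    intro i x hx hxn
    have hxP : P.1 x ≤ WithZero.exp (C P - i) := by
      have := hx P
      rwa [hsubP, if_pos rfl] at this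
    refine le_antisymm hxP ?_
    by_contra hlt
    push Not at hlt
    apply hxn
    intro Q
    rw [hsubP]
    split_ifs with hQ
    · subst hQ
      rw [ff_lt_exp_iff] at hlt
      refine hlt.trans_eq ?_
      congr 1; ring
    · have := hx Q
      rwa [hsubP, if_neg hQ] at this
  have hyval : P.1 y = WithZero.exp (-(C P)) := by
    obtain ⟨x, hxC, hxn⟩ := ff_exists_mem_not_mem_of_ell_lt hK
      (ff_ell_sub_single_lt hK hg C (Or.inr hC) P hPdeg)
    have hxP : P.1 x = WithZero.exp (C P) := by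
      have := hexact 0 x (by simpa using hxC) (by simpa using hxn)
      simpa using this
    obtain ⟨a, ha⟩ : ∃ a : ℤ, P.1 y = WithZero.exp a :=
      ⟨_, (WithZero.exp_log ((Valuation.ne_zero_iff P.1).mpr hy0)).symm⟩
    obtain ⟨b, hb⟩ : ∃ b : ℤ, P.1 x₁ = WithZero.exp b :=
      ⟨_, (WithZero.exp_log ((Valuation.ne_zero_iff P.1).mpr hx₁0)).symm⟩
    have h1 := hint x hxC
    rw [map_mul, ha, hxP, ← WithZero.exp_add, ← WithZero.exp_zero, WithZero.exp_le_exp] at h1
    have h2 : P.1 x₁ ≤ WithZero.exp (C P) := hx₁ P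
    rw [hb, WithZero.exp_le_exp] at h2
    have h3 : P.1 y * P.1 x₁ = 1 := by rw [← map_mul, ← h1x₁, map_one]
    rw [ha, hb, ← WithZero.exp_add, ← WithZero.exp_zero, WithZero.exp_inj] at h3
    rw [ha]
    congr 1
    omega
  -- reformulate in terms of `L(C)`
  have hstep1 : (1 ≤ j ∧ ∃ f ∈ Submodule.span k (Set.range (y • φ)),
      P.1 f = WithZero.exp (-(j : ℤ))) ↔ ∃ x ∈ L C, P.1 x = WithZero.exp (C P - j) := by
    constructor
    · rintro ⟨-, f, hf, hfj⟩
      obtain ⟨x, hx, rfl⟩ := (hmem f).mp hf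
      refine ⟨x, hx, ?_⟩
      rw [map_mul, hyval] at hfj
      have : P.1 x = WithZero.exp (C P) * (WithZero.exp (-(C P)) * P.1 x) := by
        rw [← mul_assoc, ← WithZero.exp_add]; simp
      rw [this, hfj, ← WithZero.exp_add]
      congr 1
    · rintro ⟨x, hx, hxj⟩
      refine ⟨hj, y * x, (hmem _).mpr ⟨x, hx, rfl⟩, ?_⟩
      rw [map_mul, hyval, hxj, ← WithZero.exp_add]
      congr 1; ring
  rw [hstep1]
  have hLle : ∀ i : ℕ, L (C - Finsupp.single P (i : ℤ)) ≤ L C := fun i =>
    ff_L_mono (sub_le_self _ (Finsupp.single_nonneg.mpr (Int.natCast_nonneg i)))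
  have hstep2 : (∃ x ∈ L C, P.1 x = WithZero.exp (C P - j)) ↔
      ell (C - Finsupp.single P ((j : ℤ) + 1)) < ell (C - Finsupp.single P (j : ℤ)) := by
    constructor
    · rintro ⟨x, hx, hxj⟩
      have hxin : x ∈ L (C - Finsupp.single P (j : ℤ)) := by
        intro Q
        rw [hsubP]
        split_ifs with hQ
        · subst hQ; exact hxj.le
        · exact hx Q
      have hxout : x ∉ L (C - Finsupp.single P ((j : ℤ) + 1)) := by
        intro hcon
        have := hcon P
        rw [hsubP, if_pos rfl, hxj, WithZero.exp_le_exp] at this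
        omega
      have hle : L (C - Finsupp.single P ((j : ℤ) + 1)) ≤ L (C - Finsupp.single P (j : ℤ)) :=
        ff_L_mono (sub_le_sub_left (ff_single_le_single P (by omega)) C)
      have hlt : L (C - Finsupp.single P ((j : ℤ) + 1)) < L (C - Finsupp.single P (j : ℤ)) :=
        lt_of_le_of_ne hle fun heq => hxout (heq ▸ hxin)
      have := ff_L_finiteDimensional hK (C - Finsupp.single P (j : ℤ))
      exact Submodule.finrank_lt_finrank_of_lt hlt
    · intro hlt
      obtain ⟨x, hxin, hxout⟩ := ff_exists_mem_not_mem_of_ell_lt hK hlt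
      exact ⟨x, hLle j hxin, hexact j x hxin hxout⟩
  rw [hstep2]
  -- Riemann–Roch
  have hRR1 := ff_riemann_roch hK hC (Finsupp.single P (j : ℤ))
  have hRR2 := ff_riemann_roch hK hC (Finsupp.single P ((j : ℤ) + 1))
  rw [ff_deg_single, hPdeg] at hRR1 hRR2
  have hm1 : ell (C - Finsupp.single P ((j : ℤ) + 1)) ≤ ell (C - Finsupp.single P (j : ℤ)) :=
    ff_ell_mono hK (sub_le_sub_left (ff_single_le_single P (by omega)) C)
  have hle2 : L (Finsupp.single P (j : ℤ)) ≤ L (Finsupp.single P ((j : ℤ) + 1)) :=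
    ff_L_mono (ff_single_le_single P (by omega))
  have hm2 : ell (Finsupp.single P (j : ℤ)) ≤ ell (Finsupp.single P ((j : ℤ) + 1)) :=
    ff_ell_mono hK (ff_single_le_single P (by omega))
  have hiff : L (Finsupp.single P ((j : ℤ) + 1)) = L (Finsupp.single P (j : ℤ)) ↔
      ell (Finsupp.single P ((j : ℤ) + 1)) = ell (Finsupp.single P (j : ℤ)) := by
    constructor
    · intro h; unfold ell; rw [h]
    · intro h
      have := ff_L_finiteDimensional hK (Finsupp.single P ((j : ℤ) + 1))
      exact (Submodule.eq_of_le_of_finrank_eq hle2 h.symm).symm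
  rw [hiff]
  push_cast at hRR1 hRR2
  constructor
  · intro h; omega
  · intro h; omega

end Groth.Agent.Lib.Helper55
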