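import Groth.Agent.Lib.Helper55.FunFld.HasseUniq
import Groth.Agent.Lib.Helper47.ColTri

/-! Change of the separating variable in Hasse derivatives, order sequences and Wronskians. -/

namespace Groth.Agent.Lib.Helper55

open FunFld LocRes

variable {k K : Type*} [Field k] [Field K] [Algebra k K]

theorem ff_coeff_pow_eq_zero_of_lt {g : PowerSeries K} (hg : PowerSeries.constantCoeff g = 0)
    {j d : ℕ} (h : j < d) : PowerSeries.coeff j (g ^ d) = 0 := by
  have h1 : (PowerSeries.X : PowerSeries K) ^ d ∣ g ^ d :=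
    pow_dvd_pow_of_dvd (PowerSeries.X_dvd_iff.mpr hg) d
  exact PowerSeries.X_pow_dvd_iff.mp h1 j h

theorem ff_coeff_pow_self {g : PowerSeries K} (hg : PowerSeries.constantCoeff g = 0) (j : ℕ) :
    PowerSeries.coeff j (g ^ j) = PowerSeries.coeff 1 g ^ j := by
  obtain ⟨g₁, rfl⟩ := PowerSeries.X_dvd_iff.mpr hg
  rw [mul_pow]
  have h1 := PowerSeries.coeff_X_pow_mul (g₁ ^ j) j 0
  rw [zero_add] at h1
  rw [h1, PowerSeries.coeff_zero_eq_constantCoeff_apply, map_pow]
  congr 1
  have h2 := PowerSeries.coeff_succ_X_mul 0 g₁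
  rw [zero_add] at h2
  rw [h2, PowerSeries.coeff_zero_eq_constantCoeff_apply]

/-- Hasse derivatives after a substitution. -/
theorem ff_hasseD_subst (Hs Ht : K →ₐ[k] PowerSeries K) {g : PowerSeries K}
    (hg : PowerSeries.constantCoeff g = 0) (hsub : ∀ y, Ht y = PowerSeries.subst g (Hs y))
    (j : ℕ) (y : K) :
    hasseD Ht j y = ∑ d ∈ Finset.range (j + 1), hasseD Hs d y * PowerSeries.coeff j (g ^ d) := by
  have hs : PowerSeries.HasSubst g := PowerSeries.HasSubst.of_constantCoeff_zero' hg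
  rw [hasseD_apply, hsub, PowerSeries.coeff_subst' hs]
  rw [finsum_eq_finsetSum_of_support_subset]
  · refine Finset.sum_congr rfl fun d _ => ?_
    rw [smul_eq_mul, hasseD_apply]
  · intro d hd
    rw [Function.mem_support] at hd
    rw [Finset.coe_range, Set.mem_Iio]
    by_contra hlt
    push Not at hlt
    apply hd
    rw [ff_coeff_pow_eq_zero_of_lt hg (by omega), smul_zero]


theorem ff_hasse_var_transcendental (hK : IsFunctionField k K) {s : K}
    (Hs : K →ₐ[k] PowerSeries K) (hHs : IsHasseFamily s Hs) : Transcendental k s :=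
  fun halg => ff_hasse_var_not_const Hs hHs (hK.2 s halg)

/-- Two total Hasse derivatives differ by a substitution. -/
theorem ff_hasse_change_subst (hK : IsFunctionField k K) {s t : K}
    (Hs Ht : K →ₐ[k] PowerSeries K) (hHs : IsHasseFamily s Hs) (hHt : IsHasseFamily t Ht) (y : K) :
    Ht y = PowerSeries.subst (Ht s - PowerSeries.C s) (Hs y) := by
  set g : PowerSeries K := Ht s - PowerSeries.C s with hg
  have hg0 : PowerSeries.constantCoeff g = 0 := by
    rw [hg, map_sub, hHt.2, PowerSeries.constantCoeff_C, sub_self]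
  have hgs : PowerSeries.HasSubst g := PowerSeries.HasSubst.of_constantCoeff_zero' hg0
  let σ : PowerSeries K →ₐ[K] PowerSeries K := PowerSeries.substAlgHom hgs
  have hσ : ∀ f, σ f = PowerSeries.subst g f := fun f => by
    rw [← PowerSeries.coe_substAlgHom hgs]
  have hext := ff_powerSeriesHom_ext hK (ff_hasse_var_transcendental hK Hs hHs) Ht
    ((σ.restrictScalars k).comp Hs) hHt.2 (fun z => by
      show PowerSeries.constantCoeff (σ (Hs z)) = z
      rw [hσ, ff_constantCoeff_subst hg0, hHs.2]) (by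
      show Ht s = σ (Hs s)
      rw [hHs.1, map_add, hσ PowerSeries.X, PowerSeries.subst_X hgs]
      have : σ (PowerSeries.C s) = PowerSeries.C s := σ.commutes s
      rw [this, hg]
      ring)
  have h2 : Ht y = σ (Hs y) := by
    rw [hext]
    rfl
  rw [h2]
  exact hσ _

theorem ff_hasseD_one_mul (hK : IsFunctionField k K) {s t : K}
    (Hs Ht : K →ₐ[k] PowerSeries K) (hHs : IsHasseFamily s Hs) (hHt : IsHasseFamily t Ht) :
    hasseD Ht 1 s * hasseD Hs 1 t = 1 := by
  have hg0 : PowerSeries.constantCoeff (Hs t - PowerSeries.C t) = 0 := by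
    rw [map_sub, hHs.2, PowerSeries.constantCoeff_C, sub_self]
  have h1 := ff_hasseD_subst Ht Hs hg0 (ff_hasse_change_subst hK Ht Hs hHt hHs) 1 s
  rw [ff_hasseD_gen Hs hHs] at h1
  simp only [one_ne_zero, if_false, if_true] at h1
  rw [Finset.sum_range_succ, Finset.sum_range_one, pow_zero, pow_one, PowerSeries.coeff_one,
    if_neg one_ne_zero, mul_zero, zero_add, map_sub, PowerSeries.coeff_C, if_neg one_ne_zero,
    sub_zero] at h1
  exact h1.symm

open Groth.Agent.Lib.Helper47.ColTri in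
theorem ff_wrMat_col {n : ℕ} (τ : K →ₐ[k] K) (H : K →ₐ[k] PowerSeries K) (φ : Fin (n + 1) → K)
    (J : Fin n → ℕ) (q : Fin (n + 1)) :
    (fun i => wrMat τ H φ J i q) = hcol τ H φ (idx J q) := by
  induction q using Fin.cases with
  | zero => rfl
  | succ l => rfl

open Groth.Agent.Lib.Helper47.ColTri in
/-- Order sequences and Wronskians under a triangular change of the column sequence. -/
theorem ff_isOrders_det_of_tri {n : ℕ} (τ : K →ₐ[k] K) (H H' : K →ₐ[k] PowerSeries K)
    (φ : Fin (n + 1) → K) (a : ℕ → K) (ha : ∀ j, a j ≠ 0)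
    (htri : ∀ j, hcol τ H' φ j - a j • hcol τ H φ j ∈
      Submodule.span K (hcol τ H φ '' Set.Iio j)) :
    (∀ J : Fin n → ℕ, IsOrders K (hcol τ H' φ) J ↔ IsOrders K (hcol τ H φ) J) ∧
    ∀ J : Fin n → ℕ, IsOrders K (hcol τ H φ) J →
      (wrMat τ H' φ J).det = (∏ q, a (idx J q)) * (wrMat τ H φ J).det := by
  refine ⟨fun J => isOrders_iff _ _ _ ha htri J, ?_⟩
  intro J hJ
  refine det_tri (wrMat τ H φ J) (wrMat τ H' φ J) (fun q => a (idx J q)) ?_
  intro q
  rw [ff_wrMat_col, ff_wrMat_col]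
  have h1 := htri (idx J q)
  rw [span_jumps _ J hJ] at h1
  have hset : {q' | idx J q' < idx J q} = {q' | q' < q} := by
    ext q'
    simp only [Set.mem_ofPred_eq]
    exact (idx_strictMono J hJ.1).lt_iff_lt
  rw [hset] at h1
  have hfun : (fun q' => fun i => wrMat τ H φ J i q') = fun q' => hcol τ H φ (idx J q') := by
    funext q'
    exact ff_wrMat_col τ H φ J q'
  rw [hfun]
  exact h1

open Groth.Agent.Lib.Helper47.ColTri in
/-- Change of the separating variable (S12598). -/
theorem ff_orders_change_var (hK : IsFunctionField k K) {n : ℕ} (φ : Fin (n + 1) → K)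
    (τ : K →ₐ[k] K) {s t : K} (Hs Ht : K →ₐ[k] PowerSeries K) (hHs : IsHasseFamily s Hs)
    (hHt : IsHasseFamily t Ht) :
    (∀ J : Fin n → ℕ, IsOrders K (hcol τ Ht φ) J ↔ IsOrders K (hcol τ Hs φ) J) ∧
    ∀ J : Fin n → ℕ, IsOrders K (hcol τ Hs φ) J →
      (wrMat τ Ht φ J).det = hasseD Ht 1 s ^ (∑ l, J l) * (wrMat τ Hs φ J).det := by
  set u := hasseD Ht 1 s with hu
  have hu0 : u ≠ 0 := by
    intro h0
    have := ff_hasseD_one_mul hK Hs Ht hHs hHt
    rw [← hu, h0, zero_mul] at this
    exact zero_ne_one this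
  set g : PowerSeries K := Ht s - PowerSeries.C s with hg
  have hg0 : PowerSeries.constantCoeff g = 0 := by
    rw [hg, map_sub, hHt.2, PowerSeries.constantCoeff_C, sub_self]
  have hg1 : PowerSeries.coeff 1 g = u := by
    rw [hg, map_sub, PowerSeries.coeff_C, if_neg one_ne_zero, sub_zero, hu, hasseD_apply]
  have hformula := ff_hasseD_subst Hs Ht hg0 (ff_hasse_change_subst hK Hs Ht hHs hHt)
  obtain ⟨a, ha0, has⟩ : ∃ a : ℕ → K, a 0 = 1 ∧ ∀ j, a (j + 1) = u ^ j :=
    ⟨fun j => Nat.casesOn j 1 fun j => u ^ j, rfl, fun _ => rfl⟩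
  have ha : ∀ j, a j ≠ 0 := by
    intro j
    cases j with
    | zero => rw [ha0]; exact one_ne_zero
    | succ j => rw [has]; exact pow_ne_zero _ hu0
  have htri : ∀ j, hcol τ Ht φ j - a j • hcol τ Hs φ j ∈
      Submodule.span K (hcol τ Hs φ '' Set.Iio j) := by
    intro j
    cases j with
    | zero =>
      have : hcol τ Ht φ 0 - a 0 • hcol τ Hs φ 0 = 0 := by
        funext i
        simp [hcol, ha0]
      rw [this]
      exact Submodule.zero_mem _
    | succ j =>
      have h1 : hcol τ Ht φ (j + 1) - a (j + 1) • hcol τ Hs φ (j + 1) =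
          ∑ d ∈ Finset.range j, PowerSeries.coeff j (g ^ d) • hcol τ Hs φ (d + 1) := by
        funext i
        simp only [hcol, Pi.sub_apply, Pi.smul_apply, smul_eq_mul, Finset.sum_apply]
        rw [hformula j (φ i), Finset.sum_range_succ, ff_coeff_pow_self hg0, hg1, has]
        rw [add_sub_assoc, mul_comm (hasseD Hs j (φ i)), sub_self, add_zero]
        exact Finset.sum_congr rfl fun d _ => mul_comm _ _
      rw [h1]
      refine Submodule.sum_mem _ fun d hd => Submodule.smul_mem _ _ (Submodule.subset_span ?_)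
      refine ⟨d + 1, ?_, rfl⟩
      rw [Finset.mem_range] at hd
      rw [Set.mem_Iio]
      omega
  obtain ⟨h1, h2⟩ := ff_isOrders_det_of_tri τ Hs Ht φ a ha htri
  refine ⟨h1, fun J hJ => ?_⟩
  rw [h2 J hJ, Fin.prod_univ_succ]
  congr 1
  simp only [idx_zero, idx_succ, ha0, has, one_mul]
  rw [Finset.prod_pow_eq_pow_sum]

end Groth.Agent.Lib.Helper55
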