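import Groth.Agent.Lib.Helper55.FunFld.HasseBir
import Mathlib.LinearAlgebra.Vandermonde

/-! Classical order sequences in characteristic `0` or larger than the degree. -/

namespace Groth.Agent.Lib.Helper55

open FunFld LocRes Matrix Finset

theorem ff_binom_det_int {N : ℕ} (v : Fin N → ℕ) :
    (vandermonde fun i => (v i : ℤ)).det =
      (∏ i : Fin N, (Nat.factorial (i : ℕ) : ℤ)) *
        (Matrix.of fun i j : Fin N => ((v i).choose (j : ℕ) : ℤ)).det := by
  rw [det_eval_matrixOfPolynomials_eq_det_vandermonde (fun i => (v i : ℤ))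
      (fun i => descPochhammer ℤ i) (fun i => descPochhammer_natDegree ℤ i)
      (fun i => monic_descPochhammer ℤ i)]
  have h := det_mul_row (fun (i : Fin N) => ((Nat.factorial (i : ℕ)) : ℤ))
    (Matrix.of fun i j : Fin N => ((v i).choose (j : ℕ) : ℤ))
  rw [← h]
  congr 1
  ext i j
  rw [of_apply, of_apply, of_apply, descPochhammer_eval_eq_descFactorial ℤ _ _,
    Nat.descFactorial_eq_factorial_mul_choose]
  push_cast
  ring

theorem ff_binom_det_ne_zero (k : Type*) [Field k] {N : ℕ} (v : Fin N → ℕ)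
    (hv : ∀ i i', i ≠ i' → (v i : k) ≠ (v i' : k)) :
    (Matrix.of fun i j : Fin N => (((v i).choose (j : ℕ) : ℕ) : k)).det ≠ 0 := by
  have h := congrArg (Int.castRingHom k) (ff_binom_det_int v)
  rw [map_mul, RingHom.map_det, RingHom.map_det] at h
  have h1 : (Int.castRingHom k).mapMatrix (vandermonde fun i => (v i : ℤ)) =
      vandermonde fun i => (v i : k) := by
    ext i j
    simp [vandermonde]
  have h2 : (Int.castRingHom k).mapMatrix (Matrix.of fun i j : Fin N => ((v i).choose (j : ℕ) : ℤ)) =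
      Matrix.of fun i j : Fin N => (((v i).choose (j : ℕ) : ℕ) : k) := by
    ext i j
    simp
  rw [h1, h2] at h
  intro h0
  rw [h0, mul_zero] at h
  have := (det_vandermonde_ne_zero_iff (v := fun i => (v i : k))).mpr (by
    intro i i' hii'
    by_contra hne
    exact hv i i' hne hii')
  exact this h

variable {k K : Type*} [Field k] [Field K] [Algebra k K]

/-- Natural numbers in a range below the characteristic have distinct images. -/
theorem ff_natCast_ne_of_lt_char {d : ℕ} (hchar : ringChar k = 0 ∨ d < ringChar k) {a b : ℕ}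
    (hab : a < b) (hb : b ≤ d) : (a : k) ≠ (b : k) := by
  intro h
  have h1 : ((b - a : ℕ) : k) = 0 := by
    rw [Nat.cast_sub hab.le, h, sub_self]
  rw [CharP.cast_eq_zero_iff k (ringChar k)] at h1
  rcases hchar with h0 | hlt
  · rw [h0, zero_dvd_iff] at h1
    omega
  · have := Nat.le_of_dvd (by omega) h1
    omega

/-- A strictly increasing sequence of naturals on `Fin n` grows at least linearly. -/
theorem ff_strictMono_fin_add_le {n : ℕ} (J : Fin n → ℕ) (hJ : StrictMono J) (a b : Fin n)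
    (hab : a ≤ b) : J a + ((b : ℕ) - (a : ℕ)) ≤ J b := by
  obtain ⟨d, hd⟩ : ∃ d, (b : ℕ) = (a : ℕ) + d := ⟨(b : ℕ) - (a : ℕ), by
    have : (a : ℕ) ≤ (b : ℕ) := hab
    omega⟩
  induction d generalizing b with
  | zero =>
    have : b = a := Fin.ext (by omega)
    rw [this]; omega
  | succ d ih =>
    have hlt : (a : ℕ) + d < n := by have := b.2; omega
    have h1 := ih ⟨(a : ℕ) + d, hlt⟩ (by rw [Fin.le_def]; simp) (by simp)
    have h2 : J ⟨(a : ℕ) + d, hlt⟩ < J b := hJ (by rw [Fin.lt_def]; simp; omega)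
    simp only at h1
    omega

/-- A strictly increasing sequence on `Fin n` with values in `[c, c + n)` is `l ↦ c + l`. -/
theorem ff_strictMono_eq_of_bounded {n : ℕ} (J : Fin n → ℕ) (hJ : StrictMono J) (c : ℕ)
    (hlow : ∀ l, c ≤ J l) (hup : ∀ l, J l < c + n) : ∀ l : Fin n, J l = c + (l : ℕ) := by
  intro l
  have hn : 0 < n := by have := l.2; omega
  have h1 := ff_strictMono_fin_add_le J hJ ⟨0, hn⟩ l (by rw [Fin.le_def]; simp)
  have h2 := ff_strictMono_fin_add_le J hJ l ⟨n - 1, by omega⟩ (by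
    rw [Fin.le_def]; have := l.2; simp; omega)
  have h3 := hlow ⟨0, hn⟩
  have h4 := hup ⟨n - 1, by omega⟩
  simp only at h1 h2
  have := l.2
  omega

/-- At every place there is a local parameter whose first Hasse derivative does not vanish. -/
theorem ff_exists_sep_uniformizer {s : K} (H : K →ₐ[k] PowerSeries K) (hH : IsHasseFamily s H)
    (P : Place k K) : ∃ t : K, P.1 t = WithZero.exp (-1) ∧ hasseD H 1 t ≠ 0 := by
  obtain ⟨t₀, ht₀⟩ := ff_exists_uniformizer P
  by_cases h0 : hasseD H 1 t₀ = 0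
  · obtain ⟨c, hc⟩ := ff_exists_nat_exp_ge (P.1 s)
    have hpow : ∀ N : ℕ, hasseD H 1 (t₀ ^ N) = 0 := by
      intro N
      induction N with
      | zero => rw [pow_zero, ff_hasseD_one]; simp
      | succ N ih =>
        rw [pow_succ, ff_hasseD_mul', Finset.sum_range_succ, Finset.sum_range_one]
        simp only [Nat.sub_zero, Nat.sub_self]
        rw [ih, h0]
        simp
    have hDs : hasseD H 1 s = 1 := by
      rw [ff_hasseD_gen H hH]; simp
    have hz : hasseD H 1 (s * t₀ ^ (c + 2)) = t₀ ^ (c + 2) := by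
      rw [ff_hasseD_mul', Finset.sum_range_succ, Finset.sum_range_one]
      simp only [Nat.sub_zero, Nat.sub_self]
      rw [hpow, hDs, ff_hasseD_zero H hH.2, ff_hasseD_zero H hH.2]
      simp
    have ht0 : t₀ ≠ 0 := by
      rintro rfl
      rw [map_zero] at ht₀
      exact WithZero.exp_ne_zero ht₀.symm
    refine ⟨t₀ + s * t₀ ^ (c + 2), ?_, ?_⟩
    · have hlt : P.1 (s * t₀ ^ (c + 2)) < P.1 t₀ := by
        rw [map_mul, map_pow, ht₀, ← WithZero.exp_nsmul]
        calc P.1 s * WithZero.exp ((c + 2) • (-1 : ℤ))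
            ≤ WithZero.exp (c : ℤ) * WithZero.exp ((c + 2) • (-1 : ℤ)) := mul_le_mul' hc le_rfl
          _ = WithZero.exp (-2) := by
            rw [← WithZero.exp_add]
            congr 1
            simp only [nsmul_eq_mul, Nat.cast_add, Nat.cast_ofNat]
            ring
          _ < WithZero.exp (-1) := WithZero.exp_lt_exp.mpr (by norm_num)
      rw [Valuation.map_add_eq_of_lt_left P.1 hlt, ht₀]
    · rw [ff_hasseD_add, h0, hz, zero_add]
      exact pow_ne_zero _ ht0
  · exact ⟨t₀, ht₀, h0⟩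

/-- Orders at `P` of functions of a normalized linear system are bounded by the degree. -/
theorem ff_local_order_le_deg [IsAlgClosed k] (hK : IsFunctionField k K) {ι : Type*} [Fintype ι]
    [Nonempty ι] (φ : ι → K) (P : Place k K) (hint : ∀ i, P.1 (φ i) ≤ 1) (i₀ : ι)
    (hi₀ : P.1 (φ i₀) = 1) {f : K} (hf : f ∈ Submodule.span k (Set.range φ)) (hf0 : f ≠ 0) :
    P.ord f ≤ (mapDiv k φ).deg := by
  have hL : f ∈ L (mapDiv k φ) := by
    refine (Submodule.span_le (p := L (mapDiv k φ))).mpr ?_ hf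
    rintro _ ⟨i, rfl⟩
    intro Q
    rcases ff_val_le_exp_mapDiv hK φ i Q with h | h
    · exact h
    · rw [h, map_zero]; exact zero_le
  rw [ff_mem_L_iff_div hK _ hf0] at hL
  have hP0 : mapDiv k φ P = 0 := ff_mapDiv_apply_eq_zero hK φ P hint i₀ hi₀
  have hle : Finsupp.single P (P.ord f) ≤ mapDiv k φ + div k f := by
    intro Q
    by_cases hQ : Q = P
    · subst hQ
      rw [Finsupp.single_eq_same, Finsupp.add_apply, hP0, ff_div_apply hK, zero_add]
    · rw [Finsupp.single_eq_of_ne hQ]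
      exact hL Q
  have h1 := ff_deg_mono hle
  rw [ff_deg_single, ff_deg_add, ff_deg_div hK, add_zero, ff_deg_eq_one_of_isAlgClosed hK P] at h1
  simpa using h1

/-- Multiplying a tuple of nonzero functions by a nonzero function does not change the degree. -/
theorem ff_deg_mapDiv_mul (hK : IsFunctionField k K) {ι : Type*} [Fintype ι] [Nonempty ι]
    (φ : ι → K) (hφ0 : ∀ i, φ i ≠ 0) {y : K} (hy : y ≠ 0) :
    (mapDiv k fun i => y * φ i).deg = (mapDiv k φ).deg := by
  have h : mapDiv k (fun i => y * φ i) = mapDiv k φ - div k y := by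
    ext Q
    obtain ⟨j, hj⟩ := ff_exists_max_index φ Q
    rw [Finsupp.sub_apply, ff_div_apply hK,
      ff_mapDiv_eq_neg_ord hK φ hφ0 Q j hj,
      ff_mapDiv_eq_neg_ord hK (fun i => y * φ i) (fun i => mul_ne_zero hy (hφ0 i)) Q j
        (fun i => by rw [map_mul, map_mul]; exact mul_le_mul' le_rfl (hj i)),
      ff_ord_mul Q hy (hφ0 j)]
    ring
  rw [h, ff_deg_sub, ff_deg_div hK, sub_zero]

/-- A normalized linearly independent tuple has an order sequence at `P`. -/
theorem ff_exists_local_orders [IsAlgClosed k] (hK : IsFunctionField k K) (P : Place k K) {t : K}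
    (ht : P.1 t = WithZero.exp (-1)) (H : K →ₐ[k] PowerSeries K) (hH : IsHasseFamily t H) {n : ℕ}
    (φ : Fin (n + 1) → K) (hφ : LinearIndependent k φ) (hint : ∀ i, P.1 (φ i) ≤ 1)
    (i₀ : Fin (n + 1)) (hi₀ : P.1 (φ i₀) = 1) :
    ∃ J' : Fin n → ℕ, IsOrders (IsLocalRing.ResidueField P.O) (hcolAt P H φ) J' := by
  classical
  apply ff_exists_isOrders_of_span_eq_top
  · intro h
    have h1 := congrFun h i₀
    change evalP P (φ i₀) = 0 at h1
    rw [ff_evalP_eq_zero_iff P (hint i₀), hi₀] at h1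
    exact lt_irrefl _ h1
  · by_contra hne
    obtain ⟨f, hf0, hfle⟩ := Submodule.exists_le_ker_of_lt_top _ (lt_top_iff_ne_top.mpr hne)
    obtain ⟨a, ha⟩ : ∃ a : Fin (n + 1) → IsLocalRing.ResidueField P.O,
        ∀ q, a q = f fun q' => if q = q' then 1 else 0 := ⟨_, fun _ => rfl⟩
    have hf : ∀ v, f v = ∑ q, a q * v q := by
      intro v
      rw [LinearMap.pi_apply_eq_sum_univ f v]
      refine Finset.sum_congr rfl fun q _ => ?_
      rw [ha, smul_eq_mul, mul_comm]
    have hli := ff_hasse_rows_linearIndependent H hK P ht hH φ hφ hint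
    have hrel : ∑ i, a i • (fun j => evalP P (hasseD H j (φ i))) = 0 := by
      funext j
      rw [Finset.sum_apply]
      simp only [Pi.smul_apply, smul_eq_mul, Pi.zero_apply]
      have h1 : f (hcolAt P H φ (j + 1)) = 0 := hfle (Submodule.subset_span ⟨j + 1, rfl⟩)
      rw [hf] at h1
      exact h1
    have ha0 := Fintype.linearIndependent_iff.mp hli a hrel
    apply hf0
    refine LinearMap.ext fun v => ?_
    rw [hf]
    simp [ha0]

/-- If the Wronskian matrix at the index sequence `(a, a+1, …, a+n-1)` is nonsingular and the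
orders are at least `a`, the orders are `(a, a+1, …, a+n-1)`. -/
theorem ff_orders_eq_of_det_ne_zero {n : ℕ} (τ : K →ₐ[k] K) (H : K →ₐ[k] PowerSeries K)
    (φ : Fin (n + 1) → K) (J : Fin n → ℕ) (hJ : IsOrders K (hcol τ H φ) J) (a : ℕ)
    (hlow : ∀ l, a ≤ J l) (hdet : (wrMat τ H φ (fun l : Fin n => a + (l : ℕ))).det ≠ 0) :
    J = fun l : Fin n => a + (l : ℕ) := by
  classical
  funext l
  have hn : 0 < n := by have := l.2; omega
  have hli := Matrix.linearIndependent_cols_of_det_ne_zero hdet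
  have htop := hli.span_eq_top_of_card_eq_finrank' (by simp)
  have hspan : Submodule.span K (hcol τ H φ '' Set.Iio (a + n - 1 + 2)) = ⊤ := by
    rw [eq_top_iff, ← htop, Submodule.span_le]
    rintro _ ⟨q, rfl⟩
    apply Submodule.subset_span
    refine ⟨Groth.Agent.Lib.Helper47.ColTri.idx (fun l : Fin n => a + (l : ℕ)) q, ?_, ?_⟩
    · rw [Set.mem_Iio]
      refine Fin.cases ?_ (fun l' => ?_) q
      · simp
      · have := l'.2
        simp only [Groth.Agent.Lib.Helper47.ColTri.idx_succ]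
        omega
    · exact (ff_wrMat_col τ H φ _ q).symm
  have hrank := ff_finrank_span_le_of_isOrders (hcol τ H φ) J hJ (a + n - 1)
  rw [hspan, finrank_top, Module.finrank_fintype_fun_eq_card, Fintype.card_fin] at hrank
  have hall : (Finset.univ.filter fun l : Fin n => J l ≤ a + n - 1) = Finset.univ := by
    apply Finset.eq_univ_of_card
    have h1 := Finset.card_filter_le (Finset.univ : Finset (Fin n)) fun l : Fin n => J l ≤ a + n - 1
    rw [Finset.card_univ] at h1
    rw [Fintype.card_fin] at h1 ⊢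
    omega
  have hup : ∀ l, J l < a + n := by
    intro l'
    have : l' ∈ Finset.univ.filter fun l : Fin n => J l ≤ a + n - 1 := by
      rw [hall]; exact Finset.mem_univ _
    rw [Finset.mem_filter] at this
    omega
  exact ff_strictMono_eq_of_bounded J hJ.1 a hlow hup l

theorem ff_binomMat_det_ne_zero_zero (k : Type*) [Field k] {n : ℕ} (J' : Fin n → ℕ)
    (hv : ∀ i i', i ≠ i' → (J' i : k) ≠ (J' i' : k)) :
    (binomMat k J' (fun l : Fin n => 0 + (l : ℕ))).det ≠ 0 := by
  have h : binomMat k J' (fun l : Fin n => 0 + (l : ℕ)) =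
      Matrix.of fun i j : Fin n => (((J' i).choose (j : ℕ) : ℕ) : k) := by
    ext i j
    simp [binomMat]
  rw [h]
  exact ff_binom_det_ne_zero k J' hv

theorem ff_binomMat_det_ne_zero_one (k : Type*) [Field k] {n : ℕ} (J' : Fin n → ℕ)
    (hv : ∀ i i', i ≠ i' → (J' i : k) ≠ (J' i' : k)) (hv0 : ∀ i, ((0 : ℕ) : k) ≠ (J' i : k)) :
    (binomMat k J' (fun l : Fin n => 1 + (l : ℕ))).det ≠ 0 := by
  obtain ⟨v, hv0', hvs⟩ : ∃ v : Fin (n + 1) → ℕ, v 0 = 0 ∧ ∀ l, v l.succ = J' l :=
    ⟨Fin.cases 0 J', rfl, fun _ => rfl⟩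
  have hM := ff_det_of_first_row
    (Matrix.of fun i j : Fin (n + 1) => (((v i).choose (j : ℕ) : ℕ) : k))
    (by simp [hv0']) (by
      intro s
      rw [Matrix.of_apply, hv0', Fin.val_succ, Nat.choose_zero_succ, Nat.cast_zero])
  have h : binomMat k J' (fun l : Fin n => 1 + (l : ℕ)) =
      (Matrix.of fun i j : Fin (n + 1) => (((v i).choose (j : ℕ) : ℕ) : k)).submatrix
        Fin.succ Fin.succ := by
    ext i j
    simp [binomMat, hvs, add_comm]
  rw [h, ← hM]
  apply ff_binom_det_ne_zero k v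
  intro i i' hii'
  induction i using Fin.cases with
  | zero =>
    induction i' using Fin.cases with
    | zero => exact absurd rfl hii'
    | succ l' => rw [hv0', hvs]; exact hv0 l'
  | succ l =>
    induction i' using Fin.cases with
    | zero => rw [hv0', hvs]; exact (hv0 l).symm
    | succ l' =>
      rw [hvs, hvs]
      exact hv l l' fun h => hii' (by rw [h])

/-- Core of the classicality theorem: at a (strong) fixed place, for normalized data in a local
parameter, the Wronskian matrix at `(a, a+1, …)` is nonsingular. -/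
theorem ff_classical_det_ne_zero [IsAlgClosed k] (hK : IsFunctionField k K) (τ : K →ₐ[k] K)
    (P : Place k K) {n : ℕ} (φ : Fin (n + 1) → K) (hφ : LinearIndependent k φ)
    (i₀ : Fin (n + 1)) (hi₀ : φ i₀ = 1) (hint : ∀ i, P.1 (φ i) ≤ 1) {t : K}
    (ht : P.1 t = WithZero.exp (-1)) (H : K →ₐ[k] PowerSeries K) (hH : IsHasseFamily t H)
    (hchar : ringChar k = 0 ∨ (mapDiv k φ).deg < ringChar k) (a : ℕ)
    (ha : (a = 1 ∧ IsFixedPt τ P) ∨ (a = 0 ∧ IsStrongFixedPt τ P)) :
    (wrMat τ H φ (fun l : Fin n => a + (l : ℕ))).det ≠ 0 := by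
  have h1V : (1 : K) ∈ Submodule.span k (Set.range φ) := Submodule.subset_span ⟨i₀, hi₀⟩
  have hP1 : P.1 (φ i₀) = 1 := by rw [hi₀, map_one]
  obtain ⟨J', hJ'⟩ := ff_exists_local_orders hK P ht H hH φ hφ hint i₀ hP1
  obtain ⟨hmono, hpos, hex, -⟩ := ff_isOrders_hcolAt H hK P ht hH φ hint J' hJ'
  have hdeg0 : 0 ≤ (mapDiv k φ).deg := ff_deg_nonneg (ff_mapDiv_nonneg_of_one hK φ i₀ hi₀)
  obtain ⟨d, hd⟩ : ∃ d : ℕ, (mapDiv k φ).deg = (d : ℤ) := ⟨_, (Int.toNat_of_nonneg hdeg0).symm⟩
  have hchar' : ringChar k = 0 ∨ d < ringChar k := by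
    rcases hchar with h | h
    · exact Or.inl h
    · right
      rw [hd] at h
      exact_mod_cast h
  have hJd : ∀ l, J' l ≤ d := by
    intro l
    obtain ⟨f, hf, hPf⟩ := hex l
    have hf0 : f ≠ 0 := by
      rintro rfl
      rw [map_zero] at hPf
      exact WithZero.exp_ne_zero hPf.symm
    have h1 := ff_local_order_le_deg hK φ P hint i₀ hP1 hf hf0
    rw [ff_val_eq_exp_neg_ord P hf0, WithZero.exp_inj] at hPf
    rw [hd] at h1
    omega
  have hdist : ∀ i i', i ≠ i' → (J' i : k) ≠ (J' i' : k) := by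
    intro i i' hii'
    rcases lt_or_gt_of_ne (hmono.injective.ne hii') with h | h
    · exact ff_natCast_ne_of_lt_char hchar' h (hJd i')
    · exact (ff_natCast_ne_of_lt_char hchar' h (hJd i)).symm
  have hfix : IsFixedPt τ P := by
    rcases ha with ⟨-, h⟩ | ⟨-, h⟩
    · exact h
    · intro z hz
      exact lt_of_le_of_lt (h z hz) (by
        rw [← WithZero.exp_zero]; exact WithZero.exp_lt_exp.mpr (by norm_num))
  have hw := (ff_wronskian_order H hK τ P hfix φ h1V hint ht hH J' hJ'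
    (fun l : Fin n => a + (l : ℕ))).2
  have hval : P.1 (wrMat τ H φ (fun l : Fin n => a + (l : ℕ))).det =
      WithZero.exp (-∑ l, ((J' l : ℤ) - ((a + (l : ℕ) : ℕ) : ℤ))) := by
    rcases ha with ⟨rfl, -⟩ | ⟨rfl, hs⟩
    · refine (hw (Or.inl fun l => by omega)).mpr ?_
      exact ff_binomMat_det_ne_zero_one k J' hdist fun i =>
        ff_natCast_ne_of_lt_char hchar' (hpos i) (hJd i)
    · refine (hw (Or.inr hs)).mpr ?_
      exact ff_binomMat_det_ne_zero_zero k J' hdist
  intro h0
  rw [h0, map_zero] at hval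
  exact WithZero.exp_ne_zero hval.symm

/-- Multiplying the tuple by a nonzero function does not change the (`τ`-)orders. -/
theorem ff_isOrders_mul (τ : K →ₐ[k] K) (H : K →ₐ[k] PowerSeries K)
    (hconst : ∀ y : K, PowerSeries.constantCoeff (H y) = y) {n : ℕ} (φ : Fin (n + 1) → K) {y : K}
    (hy : y ≠ 0) {m : ℕ} (J : Fin m → ℕ) :
    IsOrders K (hcol τ H fun i => y * φ i) J ↔ IsOrders K (hcol τ H φ) J := by
  obtain ⟨a, ha0, has⟩ : ∃ a : ℕ → K, a 0 = τ y ∧ ∀ j, a (j + 1) = y :=
    ⟨fun j => Nat.casesOn j (τ y) fun _ => y, rfl, fun _ => rfl⟩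
  have ha : ∀ j, a j ≠ 0 := by
    intro j
    cases j with
    | zero => rw [ha0]; exact (map_ne_zero τ).mpr hy
    | succ j => rw [has]; exact hy
  refine Groth.Agent.Lib.Helper47.ColTri.isOrders_iff _ _ a ha ?_ J
  intro j
  cases j with
  | zero =>
    have : hcol τ H (fun i => y * φ i) 0 - a 0 • hcol τ H φ 0 = 0 := by
      funext i
      simp [hcol, ha0]
    rw [this]
    exact Submodule.zero_mem _
  | succ j =>
    have h1 : hcol τ H (fun i => y * φ i) (j + 1) =
        ∑ b ∈ Finset.range (j + 1), hasseD H b y • hcol τ H φ (j - b + 1) := by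
      funext i
      rw [Finset.sum_apply]
      simp only [hcol, Pi.smul_apply, smul_eq_mul]
      exact ff_hasseD_mul' H j y (φ i)
    rw [h1, Finset.sum_range_succ', Nat.sub_zero, ff_hasseD_zero H hconst, has, add_sub_cancel_right]
    refine Submodule.sum_mem _ fun b hb => Submodule.smul_mem _ _ (Submodule.subset_span ?_)
    rw [Finset.mem_range] at hb
    exact ⟨j - (b + 1) + 1, by rw [Set.mem_Iio]; omega, rfl⟩

/-- Classical orders (S12611), uniform statement: `a = 1` for `τ = 1`, and `a = 0` at a strong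
fixed place of `τ`. -/
theorem ff_isOrders_classical [IsAlgClosed k] (hK : IsFunctionField k K) {n : ℕ}
    (φ : Fin (n + 1) → K) (hφ : LinearIndependent k φ)
    (hchar : ringChar k = 0 ∨ (mapDiv k φ).deg < ringChar k) (τ : K →ₐ[k] K) {s : K}
    (H : K →ₐ[k] PowerSeries K) (hH : IsHasseFamily s H) (P : Place k K) (a : ℕ)
    (ha : (a = 1 ∧ τ = AlgHom.id k K) ∨ (a = 0 ∧ IsStrongFixedPt τ P)) :
    IsOrders K (hcol τ H φ) (fun l : Fin n => a + (l : ℕ)) := by
  obtain ⟨t, ht, hu⟩ := ff_exists_sep_uniformizer H hH P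
  obtain ⟨Ht, σ, hHt, -⟩ := ff_exists_hasseFamily_subst H hH.2 t hu
  obtain ⟨j, hj⟩ := ff_exists_max_index φ P
  have hφ0 : ∀ i, φ i ≠ 0 := fun i => hφ.ne_zero i
  have hy : (φ j)⁻¹ ≠ 0 := inv_ne_zero (hφ0 j)
  have hφ' : LinearIndependent k fun i => (φ j)⁻¹ * φ i :=
    hφ.map' (LinearMap.mulLeft k (φ j)⁻¹)
      (LinearMap.ker_eq_bot.mpr fun a b h => mul_left_cancel₀ hy h)
  have hj1 : (fun i => (φ j)⁻¹ * φ i) j = 1 := inv_mul_cancel₀ (hφ0 j)
  have hint : ∀ i, P.1 ((fun i => (φ j)⁻¹ * φ i) i) ≤ 1 := by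
    intro i
    simp only [map_mul, map_inv₀]
    rw [inv_mul_le_iff₀ (zero_lt_iff.mpr (ff_val_ne_zero P (hφ0 j))), mul_one]
    exact hj i
  have hchar' : ringChar k = 0 ∨ (mapDiv k fun i => (φ j)⁻¹ * φ i).deg < ringChar k := by
    rw [ff_deg_mapDiv_mul hK φ hφ0 hy]
    exact hchar
  have ha' : (a = 1 ∧ IsFixedPt τ P) ∨ (a = 0 ∧ IsStrongFixedPt τ P) := by
    rcases ha with ⟨h1, rfl⟩ | h
    · exact Or.inl ⟨h1, fun z hz => hz⟩
    · exact Or.inr h
  have hdet := ff_classical_det_ne_zero hK τ P _ hφ' j hj1 hint ht Ht hHt hchar' a ha'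
  obtain ⟨J, hJ, -⟩ := ff_exists_isOrders hK _ hφ' τ Ht hHt
  have hlow : ∀ l, a ≤ J l := by
    intro l
    rcases ha with ⟨rfl, rfl⟩ | ⟨rfl, -⟩
    · exact ff_orders_pos_of_id Ht _ hHt J hJ l
    · exact Nat.zero_le _
  have hJeq := ff_orders_eq_of_det_ne_zero τ Ht _ J hJ a hlow hdet
  rw [hJeq] at hJ
  rw [(ff_orders_change_var hK _ τ H Ht hH hHt).1] at hJ
  exact (ff_isOrders_mul τ H hH.2 φ hy _).mp hJ

end Groth.Agent.Lib.Helper55
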