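import Groth.Agent.Lib.Helper55.FunFld.HasseInv
import Groth.Agent.S12595

/-! Fixed places of a nontrivial endomorphism are Weierstrass points (S12610). -/

namespace Groth.Agent.Lib.Helper55

open FunFld LocRes

variable {k K : Type*} [Field k] [Field K] [Algebra k K]

/-- At a fixed place the `τ`-orders are bounded by the orders at the place. -/
theorem ff_tau_orders_le_local [IsAlgClosed k] (hK : IsFunctionField k K) (τ : K →ₐ[k] K)
    (P : Place k K) (hP : IsFixedPt τ P) {n : ℕ} (φ : Fin (n + 1) → K)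
    (heff : (1 : K) ∈ Submodule.span k (Set.range φ)) (hnorm : ∀ i, P.1 (φ i) ≤ 1) {t : K}
    (ht : P.1 t = WithZero.exp (-1)) (H : K →ₐ[k] PowerSeries K) (hH : IsHasseFamily t H)
    (J : Fin n → ℕ) (hJ : IsOrders K (hcol τ H φ) J) (J' : Fin n → ℕ)
    (hJ' : IsOrders (IsLocalRing.ResidueField P.O) (hcolAt P H φ) J') : ∀ l, J l ≤ J' l := by
  classical
  obtain ⟨hmono', hpos', -, -⟩ := ff_isOrders_hcolAt H hK P ht hH φ hnorm J' hJ'
  have hdet' : (wrMat τ H φ J').det ≠ 0 := by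
    obtain ⟨-, hiff⟩ := ff_wronskian_order H hK τ P hP φ heff hnorm ht hH J' hJ' J'
    have h1 := (hiff (Or.inl fun l => hpos' l)).mpr (by
      rw [ff_binomMat_self_det k J' hmono']; exact one_ne_zero)
    intro h0
    rw [h0, map_zero] at h1
    exact WithZero.exp_ne_zero h1.symm
  obtain ⟨idx, hidx0, hidxs⟩ : ∃ idx : Fin (n + 1) → ℕ, idx 0 = 0 ∧
      ∀ l : Fin n, idx l.succ = J' l + 1 := ⟨Fin.cases 0 fun l => J' l + 1, rfl, fun _ => rfl⟩
  refine ff_orders_le_of_linearIndependent (hcol τ H φ) J hJ J' hmono' idx hidx0 hidxs ?_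
  have hcolumns : ∀ i q, wrMat τ H φ J' i q = hcol τ H φ (idx q) i := by
    intro i q
    induction q using Fin.cases with
    | zero => rw [hidx0]; rfl
    | succ l => rw [hidxs, ff_wrMat_succ]; rfl
  rw [Fintype.linearIndependent_iff]
  intro v hv
  by_contra hne
  push Not at hne
  apply hdet'
  apply Matrix.exists_mulVec_eq_zero_iff.mp
  refine ⟨v, fun h0 => ?_, ?_⟩
  · obtain ⟨q, hq⟩ := hne
    exact hq (congrFun h0 q)
  · funext i
    have := congrFun hv i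
    simp only [Finset.sum_apply, Pi.smul_apply, smul_eq_mul, Pi.zero_apply] at this
    simp only [Matrix.mulVec, dotProduct, hcolumns, Pi.zero_apply]
    rw [← this]
    exact Finset.sum_congr rfl fun q _ => mul_comm _ _

/-- A fixed place of a nontrivial endomorphism is a Weierstrass point of a birational map (S12610). -/
theorem ff_wDiv_pos_of_fixedPt [IsAlgClosed k] (hK : IsFunctionField k K) {n : ℕ}
    (φ : Fin (n + 1) → K) (hφ : LinearIndependent k φ) (h0 : φ 0 ≠ 0)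
    (hbir : IntermediateField.adjoin k (Set.range fun i => φ i / φ 0) = ⊤)
    (τ : K →ₐ[k] K) (hτ : τ ≠ AlgHom.id k K) (P : Place k K) (hP : IsFixedPt τ P)
    (s : K) (H : K →ₐ[k] PowerSeries K) (hH : IsHasseFamily s H)
    (J : Fin n → ℕ) (hJ : IsOrders K (hcol τ H φ) J)
    (Φ : Place k K → (K →ₐ[k] LaurentSeries k))
    (hΦ : ∀ P : Place k K, IsExpansionAt P.1 (Φ P)) :
    0 < wDiv τ H Φ s φ J P := by
  -- the first `τ`-order is zero
  have hjump : IsJump K (hcol τ H φ) 1 := by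
    by_contra hnj
    exact hτ ((Groth.Agent.S12595.result k K hK φ h0 hbir τ s H hH).mp hnj)
  obtain ⟨l₀, hl₀⟩ : ∃ l, J l = 0 := (hJ.2 0).mpr hjump
  -- local data at `P`
  obtain ⟨t, ht, hu⟩ := ff_exists_sep_uniformizer H hH P
  obtain ⟨Ht, σ, hHt, -⟩ := ff_exists_hasseFamily_subst H hH.2 t hu
  obtain ⟨j, hj⟩ := ff_exists_max_index φ P
  have hφ0 : ∀ i, φ i ≠ 0 := fun i => hφ.ne_zero i
  have hy : (φ j)⁻¹ ≠ 0 := inv_ne_zero (hφ0 j)
  have hφ' : LinearIndependent k fun i => (φ j)⁻¹ * φ i :=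
    hφ.map' (LinearMap.mulLeft k (φ j)⁻¹)
      (LinearMap.ker_eq_bot.mpr fun a b h => mul_left_cancel₀ hy h)
  have hj1 : (fun i => (φ j)⁻¹ * φ i) j = 1 := inv_mul_cancel₀ (hφ0 j)
  have hint : ∀ i, P.1 ((fun i => (φ j)⁻¹ * φ i) i) ≤ 1 := by
    intro i
    simp only [map_mul, map_inv₀]
    rw [inv_mul_le_iff₀ (zero_lt_iff.mpr (ff_val_ne_zero P (hφ0 j))), mul_one]
    exact hj i
  have heff : (1 : K) ∈ Submodule.span k (Set.range fun i => (φ j)⁻¹ * φ i) :=
    Submodule.subset_span ⟨j, hj1⟩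
  have hP1 : P.1 ((fun i => (φ j)⁻¹ * φ i) j) = 1 := by rw [hj1, map_one]
  have hinv := ff_wDiv_invariance hK φ hφ τ s H hH t Ht hHt J hJ 1 (by simp) (φ j)⁻¹ hy
    (fun i => (φ j)⁻¹ * φ i) (fun i => by simp [Matrix.one_apply]) Φ hΦ
  rw [← hinv]
  have hJt : IsOrders K (hcol τ Ht fun i => (φ j)⁻¹ * φ i) J := by
    rw [(ff_orders_change_var hK _ τ H Ht hH hHt).1]
    exact (ff_isOrders_mul τ H hH.2 φ hy J).mpr hJ
  obtain ⟨J', hJ'⟩ := ff_exists_local_orders hK P ht Ht hHt _ hφ' hint j hP1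
  obtain ⟨-, hpos', -, -⟩ := ff_isOrders_hcolAt Ht hK P ht hHt _ hint J' hJ'
  have hle := ff_tau_orders_le_local hK τ P hP _ heff hint ht Ht hHt J hJt J' hJ'
  have hcoeff := (ff_wDiv_coeff Ht hK τ P hP _ heff hint ht hHt J hJt J' hJ' Φ (hΦ P)).1
  refine lt_of_lt_of_le ?_ hcoeff
  have h1 : (1 : ℤ) ≤ (J' l₀ : ℤ) - J l₀ := by
    have := hpos' l₀
    rw [hl₀]; push_cast; omega
  have h2 : (J' l₀ : ℤ) - J l₀ ≤ ∑ l, ((J' l : ℤ) - J l) :=
    Finset.single_le_sum (f := fun l => (J' l : ℤ) - J l)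
      (fun l _ => by have := hle l; omega) (Finset.mem_univ l₀)
  omega

end Groth.Agent.Lib.Helper55
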