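import Groth.Agent.Lib.Helper55.FunFld.LocConductor
import Mathlib.RingTheory.AlgebraTower
import Mathlib.RingTheory.PowerBasis
import Mathlib.FieldTheory.IntermediateField.Adjoin.Basic

/-!
# The genus bound `g ≤ (d-1)(d-2)/2` for a plane model of degree `d` (S11054)
-/

open FunFld Module

namespace Groth.Agent.Lib.Helper55

variable {k K : Type*} [Field k] [Field K] [Algebra k K]

/-- A general element of a subspace `W ⊆ L(E)`. -/
theorem ff_exists_general_in [Infinite k] (E : Divisor k K) (W : Submodule k K) (hW : W ≤ L E)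
    (hbpf : ∀ Q : Place k K, E Q ≠ 0 → ∃ x ∈ W, x ∉ L (E - Finsupp.single Q 1)) :
    ∃ t ∈ W, ∀ Q : Place k K, E Q ≠ 0 → Q.1 t = WithZero.exp (E Q) := by
  classical
  let p : E.support → Submodule k W := fun Q =>
    (L (E - Finsupp.single Q.1 1)).comap W.subtype
  have hp : ∀ Q, p Q ≠ ⊤ := by
    intro Q h
    obtain ⟨x, hx, hx'⟩ := hbpf Q.1 (Finsupp.mem_support_iff.mp Q.2)
    have : (⟨x, hx⟩ : W) ∈ p Q := by rw [h]; trivial
    exact hx' this
  obtain ⟨t, ht⟩ := Submodule.exists_forall_notMem_of_forall_ne_top p hp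
  refine ⟨t.1, t.2, fun Q hQ => ?_⟩
  have h1 : Q.1 t.1 ≤ WithZero.exp (E Q) := (ff_mem_L_iff E t.1).mp (hW t.2) Q
  have h2 : t.1 ∉ L (E - Finsupp.single Q 1) := ht ⟨Q, Finsupp.mem_support_iff.mpr hQ⟩
  by_contra hne
  exact h2 ((ff_mem_L_sub_single_iff E Q t.1).mpr ⟨hW t.2, lt_of_le_of_ne h1 hne⟩)

/-- Entries of a tuple lie in `L` of its divisor, when the tuple contains `1`. -/
theorem ff_val_le_exp_mapDiv (hK : IsFunctionField k K) {ι : Type*} [Fintype ι] [Nonempty ι]
    (φ : ι → K) (i : ι) (Q : Place k K) : Q.1 (φ i) ≤ WithZero.exp (mapDiv k φ Q) ∨ φ i = 0 := by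
  by_cases h0 : φ i = 0
  · exact Or.inr h0
  · left
    rw [ff_mapDiv_apply hK, ff_val_eq_exp_neg_ord Q h0, WithZero.exp_le_exp, neg_le_neg_iff]
    exact Finset.inf'_le _ (Finset.mem_univ i)

theorem ff_mapDiv_nonneg_of_one (hK : IsFunctionField k K) {ι : Type*} [Fintype ι] [Nonempty ι]
    (φ : ι → K) (i₁ : ι) (h1 : φ i₁ = 1) : (0 : Divisor k K) ≤ mapDiv k φ := by
  intro Q
  rw [ff_mapDiv_apply hK]
  have h := Finset.inf'_le (s := Finset.univ) (fun i => Q.ord (φ i)) (Finset.mem_univ i₁)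
  simp only [h1] at h
  have h2 : Q.ord (1 : K) = 0 := by
    have := ff_ord_const Q (1 : k)
    rwa [map_one] at this
  rw [h2] at h
  simp only [Finsupp.coe_zero, Pi.zero_apply]
  omega

/-- Some entry (or `1`) attains the divisor of the tuple at `Q`. -/
theorem ff_exists_val_eq_exp_mapDiv (hK : IsFunctionField k K) {ι : Type*} [Fintype ι]
    [Nonempty ι] (φ : ι → K) (i₁ : ι) (h1 : φ i₁ = 1) (Q : Place k K) :
    ∃ i, Q.1 (φ i) = WithZero.exp (mapDiv k φ Q) := by
  obtain ⟨i, -, hi⟩ := Finset.exists_mem_eq_inf' (s := Finset.univ) Finset.univ_nonempty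
    (fun i => Q.ord (φ i))
  by_cases h0 : φ i = 0
  · refine ⟨i₁, ?_⟩
    rw [ff_mapDiv_apply hK, hi, h0, ff_ord_zero, neg_zero, WithZero.exp_zero, h1, map_one]
  · exact ⟨i, by rw [ff_mapDiv_apply hK, hi, ff_val_eq_exp_neg_ord Q h0]⟩

theorem ff_pow_mem_L {D : Divisor k K} {z : K} (hz : z ∈ L D) (a : ℕ) : z ^ a ∈ L (a • D) := by
  induction a with
  | zero =>
    rw [pow_zero, zero_nsmul, ff_mem_L_iff]
    intro Q
    simp
  | succ a ih =>
    rw [pow_succ, succ_nsmul]
    exact ff_mul_mem_L ih hz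

theorem ff_two_mul_sum_sub (m n : ℕ) (h : n ≤ m + 1) :
    2 * ∑ b ∈ Finset.range n, (m + 1 - b) + n * n = 2 * n * (m + 1) + n := by
  induction n with
  | zero => simp
  | succ n ih =>
    have ih' := ih (by omega)
    rw [Finset.sum_range_succ]
    obtain ⟨t, ht⟩ : ∃ t, m + 1 = t + (n + 1) := ⟨m + 1 - (n + 1), by omega⟩
    have e : m + 1 - n = t + 1 := by omega
    rw [e]
    rw [ht] at ih' ⊢
    nlinarith [ih']

/-- Monomials `x^a y^b` with `b < [K : k(x)]` and `a + b ≤ m` are linearly independent elements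
of `L(mD)` when `x, y ∈ L(D)` generate `K`. -/
theorem ff_sum_le_ell_of_generators (hK : IsFunctionField k K) {D : Divisor k K} (hD : 0 ≤ D)
    {x y : K} (hx : x ∈ L D) (hy : y ∈ L D) (hxt : Transcendental k x)
    (hxy : IntermediateField.adjoin k ({x, y} : Set K) = ⊤) (m : ℕ) :
    ∑ b ∈ Finset.range (finrank (IntermediateField.adjoin k ({x} : Set K)) K), (m + 1 - b) ≤
      ell (m • D) := by
  classical
  have hfin := ff_finite_of_transcendental hK hxt
  set F := IntermediateField.adjoin k ({x} : Set K) with hF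
  have hint : IsIntegral F y := IsIntegral.of_finite F y
  have htop : IntermediateField.adjoin F ({y} : Set K) = ⊤ := by
    rw [← IntermediateField.restrictScalars_eq_top_iff (K := k), hF,
      IntermediateField.adjoin_adjoin_left, ← hxy]
    congr 1
  have hnd : (minpoly F y).natDegree = finrank F K := by
    rw [← IntermediateField.adjoin.finrank hint, htop, IntermediateField.finrank_top']
  set nd := finrank F K with hnd'
  have hb : LinearIndependent k
      (fun a : Fin (m + 1) => (IntermediateField.AdjoinSimple.gen k x) ^ (a : ℕ)) :=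
    ff_linearIndependent_pow_gen hxt (m + 1)
  have hc : LinearIndependent F (fun b : Fin (minpoly F y).natDegree => y ^ (b : ℕ)) :=
    linearIndependent_pow y
  rw [hnd] at hc
  have hprod := linearIndependent_smul hb hc
  let emb : (Σ b : Fin nd, Fin (m + 1 - b)) → Fin (m + 1) × Fin nd :=
    fun p => (⟨(p.2 : ℕ), by have := p.2.2; omega⟩, p.1)
  have hemb : Function.Injective emb := by
    rintro ⟨b₁, a₁⟩ ⟨b₂, a₂⟩ h
    simp only [emb, Prod.mk.injEq, Fin.mk.injEq] at h
    obtain ⟨h1, h2⟩ := h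
    subst h2
    have : a₁ = a₂ := Fin.ext h1
    subst this
    rfl
  have hι := hprod.comp emb hemb
  have hmem : ∀ p : (Σ b : Fin nd, Fin (m + 1 - b)),
      x ^ (p.2 : ℕ) * y ^ (p.1 : ℕ) ∈ L (m • D) := by
    intro p
    have h1 := ff_mul_mem_L (ff_pow_mem_L hx (p.2 : ℕ)) (ff_pow_mem_L hy (p.1 : ℕ))
    rw [← add_nsmul] at h1
    refine ff_L_mono (nsmul_le_nsmul_left hD ?_) h1
    have := p.2.2
    omega
  let v : (Σ b : Fin nd, Fin (m + 1 - b)) → L (m • D) := fun p => ⟨_, hmem p⟩
  have hv : LinearIndependent k v := by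
    apply LinearIndependent.of_comp (L (m • D)).subtype
    convert hι using 1
    funext p
    simp only [Function.comp_apply, Submodule.subtype_apply, v, emb, Algebra.smul_def, map_pow,
      IntermediateField.AdjoinSimple.algebraMap_gen]
  have := ff_L_finiteDimensional hK (m • D)
  have hcard := hv.fintype_card_le_finrank
  rw [Fintype.card_sigma] at hcard
  simp only [Fintype.card_fin] at hcard
  rw [Fin.sum_univ_eq_sum_range (fun b => m + 1 - b) nd] at hcard
  exact hcard

/-- S11054: `2g ≤ (d-1)(d-2)` for a plane model of degree `d`. -/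
theorem ff_plane_genus_le [IsAlgClosed k] (hK : IsFunctionField k K) (x y : K)
    (hxy : IntermediateField.adjoin k ({x, y} : Set K) = ⊤) :
    2 * (genus k K : ℤ) ≤
      ((mapDiv k ![(1 : K), x, y]).deg - 1) * ((mapDiv k ![(1 : K), x, y]).deg - 2) := by
  classical
  set φ : Fin 3 → K := ![1, x, y] with hφ
  set D := mapDiv k φ with hD
  have hD0 : 0 ≤ D := ff_mapDiv_nonneg_of_one hK φ 0 rfl
  have hφL : ∀ i, φ i ∈ L D := by
    intro i
    rw [ff_mem_L_iff]
    intro Q
    rcases ff_val_le_exp_mapDiv hK φ i Q with h | h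
    · exact h
    · rw [h, map_zero]; exact zero_le
  have hxL : x ∈ L D := hφL 1
  have hyL : y ∈ L D := hφL 2
  set W := Submodule.span k (Set.range φ) with hW
  have hWL : W ≤ L D := Submodule.span_le.mpr (by rintro _ ⟨i, rfl⟩; exact hφL i)
  -- `D ≠ 0`
  obtain ⟨Q₀, hQ₀⟩ : ∃ Q₀, D Q₀ ≠ 0 := by
    by_contra hcon
    push Not at hcon
    have hD0' : D = 0 := Finsupp.ext hcon
    rw [hD0', ff_L_zero hK, Submodule.mem_one] at hxL hyL
    obtain ⟨a, ha⟩ := hxL
    obtain ⟨b, hb⟩ := hyL
    have hbot : IntermediateField.adjoin k ({x, y} : Set K) = ⊥ := by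
      rw [IntermediateField.adjoin_eq_bot_iff]
      rintro z (rfl | rfl)
      · exact IntermediateField.mem_bot.mpr ⟨a, ha⟩
      · exact IntermediateField.mem_bot.mpr ⟨b, hb⟩
    obtain ⟨⟨t, ht, -⟩, -⟩ := hK
    have : t ∈ (⊥ : IntermediateField k K) := by rw [← hbot, hxy]; trivial
    rw [IntermediateField.mem_bot] at this
    obtain ⟨c, rfl⟩ := this
    exact ht (isAlgebraic_algebraMap c)
  -- a general element of `W`
  have hbpf : ∀ Q : Place k K, D Q ≠ 0 → ∃ w ∈ W, w ∉ L (D - Finsupp.single Q 1) := by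
    intro Q _
    obtain ⟨i, hi⟩ := ff_exists_val_eq_exp_mapDiv hK φ 0 rfl Q
    refine ⟨φ i, Submodule.subset_span ⟨i, rfl⟩, ?_⟩
    rw [ff_mem_L_sub_single_iff]
    rintro ⟨-, h⟩
    rw [hi] at h
    exact lt_irrefl _ h
  obtain ⟨x', hx'W, hx'gen⟩ := ff_exists_general_in D W hWL hbpf
  have hx'L : x' ∈ L D := hWL hx'W
  obtain ⟨c, hc⟩ := (Submodule.mem_span_range_iff_exists_fun k).mp hx'W
  rw [Fin.sum_univ_three] at hc
  have hφ0 : φ 0 = 1 := rfl
  have hφ1 : φ 1 = x := rfl
  have hφ2 : φ 2 = y := rfl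
  rw [hφ0, hφ1, hφ2] at hc
  have hQ₀pos : 0 < D Q₀ := lt_of_le_of_ne (hD0 Q₀) (Ne.symm hQ₀)
  have hx'pole : 1 < Q₀.1 x' := by
    rw [hx'gen Q₀ hQ₀, ← WithZero.exp_zero, WithZero.exp_lt_exp]
    exact hQ₀pos
  have hx'nc : x' ∉ Set.range (algebraMap k K) := by
    rintro ⟨a, rfl⟩
    exact absurd hx'pole (not_lt.mpr (Q₀.2.1 a))
  have hx't : Transcendental k x' := ff_transcendental_of_not_mem_range hK hx'nc
  have hx'0 : x' ≠ 0 := by
    rintro rfl
    exact hx'nc ⟨0, map_zero _⟩
  -- a second generator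
  obtain ⟨y', hy'L, hgen⟩ : ∃ y' ∈ L D, IntermediateField.adjoin k ({x', y'} : Set K) = ⊤ := by
    by_cases hc2 : c 2 = 0
    · refine ⟨y, hyL, ?_⟩
      rw [← top_le_iff, ← hxy, IntermediateField.adjoin_le_iff]
      have hc1 : c 1 ≠ 0 := by
        intro hc1
        apply hx'nc
        refine ⟨c 0, ?_⟩
        rw [← hc, hc1, hc2, zero_smul, zero_smul, add_zero, add_zero, Algebra.smul_def, mul_one]
      have hxe : x = (c 1)⁻¹ • (x' - c 0 • (1 : K)) := by
        rw [← hc, hc2, zero_smul, add_zero, add_sub_cancel_left, smul_smul,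
          inv_mul_cancel₀ hc1, one_smul]
      rintro z (rfl | rfl)
      · rw [hxe]
        exact IntermediateField.smul_mem _ (sub_mem
          (IntermediateField.subset_adjoin k _ (by simp))
          (IntermediateField.smul_mem _ (one_mem _)))
      · exact IntermediateField.subset_adjoin k _ (by simp)
    · refine ⟨x, hxL, ?_⟩
      rw [← top_le_iff, ← hxy, IntermediateField.adjoin_le_iff]
      have hye : y = (c 2)⁻¹ • (x' - c 0 • (1 : K) - c 1 • x) := by
        rw [← hc]
        have : c 0 • (1 : K) + c 1 • x + c 2 • y - c 0 • (1 : K) - c 1 • x = c 2 • y := by ring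
        rw [this, smul_smul, inv_mul_cancel₀ hc2, one_smul]
      rintro z (rfl | rfl)
      · exact IntermediateField.subset_adjoin k _ (by simp)
      · rw [hye]
        exact IntermediateField.smul_mem _ (sub_mem (sub_mem
          (IntermediateField.subset_adjoin k _ (by simp))
          (IntermediateField.smul_mem _ (one_mem _)))
          (IntermediateField.smul_mem _ (IntermediateField.subset_adjoin k _ (by simp))))
  -- the pole divisor of `x'` is `D`
  have hpd : (ff_poleDiv x' : Divisor k K) = D := by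
    ext Q
    rw [ff_poleDiv_apply hK]
    by_cases hQ : D Q = 0
    · have h1 := (ff_mem_L_iff D x').mp hx'L Q
      rw [hQ, WithZero.exp_zero] at h1
      have := (ff_ord_nonneg_iff Q hx'0).mpr h1
      rw [hQ]
      omega
    · have h1 := hx'gen Q hQ
      rw [ff_val_eq_exp_neg_ord Q hx'0] at h1
      have h2 := WithZero.exp_injective h1
      have h3 : 0 < D Q := lt_of_le_of_ne (hD0 Q) (Ne.symm hQ)
      omega
  set n := finrank (IntermediateField.adjoin k ({x'} : Set K)) K with hn
  have hdeg : D.deg = (n : ℤ) := by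
    rw [← hpd]
    exact ff_deg_poleDiv hK hx't
  have hfin := ff_finite_of_transcendental hK hx't
  have hnpos : 0 < n := Module.finrank_pos
  set g := genus k K with hg
  set m := 2 * g + n + 1 with hm
  have h1 := ff_sum_le_ell_of_generators hK hD0 hx'L hy'L hx't hgen m
  have h2 := ff_two_mul_sum_sub m n (by omega)
  have h3 := ff_ell_eq_of_deg_ge hK (m • D) (by
    rw [ff_deg_nsmul, hdeg]
    have : (1 : ℤ) ≤ n := by exact_mod_cast hnpos
    have hm' : (m : ℤ) = 2 * g + n + 1 := by rw [hm]; push_cast; ring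
    nlinarith)
  rw [ff_deg_nsmul, hdeg] at h3
  rw [hdeg]
  zify at h1 h2
  nlinarith

end Groth.Agent.Lib.Helper55
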