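import Groth.Agent.Lib.Helper55.FunFld.TateCanonAC
import Groth.Agent.Lib.Helper55.FunFld.HasseFix
import Groth.Agent.Lib.Helper55.FunFld.PlaneGenus
import Groth.Agent.Lib.Helper63.MapDiv

/-! Nonnegativity and degree of the Weierstrass divisor `W(φ, τ)` (S12603). -/

set_option autoImplicit false

open FunFld Module LocRes

namespace Groth.Agent.Lib.Helper55

variable {k K : Type*} [Field k] [Field K] [Algebra k K]

theorem ff_deg_zsmul (n : ℤ) (D : Divisor k K) : (n • D).deg = n * D.deg := by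
  obtain ⟨m, rfl | rfl⟩ := n.eq_nat_or_neg
  · rw [natCast_zsmul, ff_deg_nsmul]
  · rw [neg_smul, natCast_zsmul, ff_deg_neg, ff_deg_nsmul]; ring

theorem ff_wDiv_nonneg_at [IsAlgClosed k] (hK : IsFunctionField k K) {n : ℕ}
    (φ : Fin (n + 1) → K) (hφ : LinearIndependent k φ) (τ : K →ₐ[k] K) (s : K)
    (Hs : K →ₐ[k] PowerSeries K) (hHs : IsHasseFamily s Hs) (J : Fin n → ℕ)
    (hJ : IsOrders K (hcol τ Hs φ) J) (Φ : Place k K → (K →ₐ[k] LaurentSeries k))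
    (hΦ : ∀ P : Place k K, IsExpansionAt P.1 (Φ P)) (P : Place k K) :
    0 ≤ wDiv τ Hs Φ s φ J P := by
  classical
  have hφ0 : ∀ i, φ i ≠ 0 := fun i => hφ.ne_zero i
  obtain ⟨j, hj⟩ := ff_exists_max_index φ P
  set y : K := (φ j)⁻¹ with hy
  have hy0 : y ≠ 0 := inv_ne_zero (hφ0 j)
  set φ' : Fin (n + 1) → K := fun i => y * φ i with hφ'
  have hvj : P.1 (φ j) ≠ 0 := (Valuation.ne_zero_iff _).mpr (hφ0 j)
  have hnorm : ∀ i, P.1 (φ' i) ≤ 1 := by
    intro i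
    rw [hφ', map_mul, hy, map_inv₀]
    calc (P.1 (φ j))⁻¹ * P.1 (φ i) ≤ (P.1 (φ j))⁻¹ * P.1 (φ j) := mul_le_mul' le_rfl (hj i)
      _ = 1 := inv_mul_cancel₀ hvj
  have h1 : φ' j = 1 := inv_mul_cancel₀ (hφ0 j)
  obtain ⟨t, ht, hu⟩ := ff_exists_sep_uniformizer Hs hHs P
  obtain ⟨Ht, σ, hHt, -⟩ := ff_exists_hasseFamily_subst Hs hHs.2 t hu
  have hinv := ff_wDiv_invariance hK φ hφ τ s Hs hHs t Ht hHt J hJ 1
    (by rw [Matrix.det_one]; exact one_ne_zero) y hy0 φ' (by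
      intro i
      simp only [hφ', Matrix.one_apply, ite_smul, one_smul, zero_smul, Finset.sum_ite_eq,
        Finset.mem_univ, if_true]) Φ hΦ
  rw [← hinv]
  unfold wDiv
  rw [Finsupp.add_apply, Finsupp.add_apply, Finsupp.add_apply, Finsupp.smul_apply,
    Finsupp.smul_apply, ff_div_apply hK,
    ff_mapDiv_apply_eq_zero hK φ' P hnorm j (by rw [h1, map_one]),
    ff_divDiff_apply_uniformizer Φ P (hΦ P) ht, smul_zero, smul_zero, add_zero, add_zero]
  have hm0 : 0 ≤ mapDiv k (τ ∘ φ') P :=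
    ff_mapDiv_nonneg_of_one hK (τ ∘ φ') j (by rw [Function.comp_apply, h1, map_one]) P
  by_cases hdet : (wrMat τ Ht φ' J).det = 0
  · rw [hdet]
    unfold Place.ord
    rw [map_zero]
    simpa using hm0
  · have hval : P.1 (wrMat τ Ht φ' J).det ≤ WithZero.exp (mapDiv k (τ ∘ φ') P) := by
      rw [Matrix.det_succ_column_zero]
      refine Valuation.map_sum_le _ fun i _ => ?_
      rw [map_mul, map_mul, map_pow, Valuation.map_neg, map_one, one_pow, one_mul]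
      have h2 : P.1 (wrMat τ Ht φ' J i 0) ≤ WithZero.exp (mapDiv k (τ ∘ φ') P) := by
        rcases ff_val_le_exp_mapDiv hK (τ ∘ φ') i P with h | h
        · exact h
        · rw [ff_wrMat_zero]
          have : τ (φ' i) = 0 := h
          rw [this, map_zero]; exact zero_le
      have h3 : P.1 ((wrMat τ Ht φ' J).submatrix i.succAbove Fin.succ).det ≤ 1 := by
        refine (ff_evalP_det P _ fun r c => ?_).1
        rw [Matrix.submatrix_apply, ff_wrMat_succ]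
        exact ff_hasse_integral Ht hK P ht hHt _ _ (hnorm _)
      calc P.1 (wrMat τ Ht φ' J i 0) * P.1 ((wrMat τ Ht φ' J).submatrix i.succAbove Fin.succ).det
          ≤ WithZero.exp (mapDiv k (τ ∘ φ') P) * 1 := mul_le_mul' h2 h3
        _ = _ := mul_one _
    rw [ff_val_eq_exp_neg_ord P hdet, WithZero.exp_le_exp] at hval
    omega

theorem ff_wDiv_nonneg [IsAlgClosed k] (hK : IsFunctionField k K) {n : ℕ}
    (φ : Fin (n + 1) → K) (hφ : LinearIndependent k φ) (τ : K →ₐ[k] K) (s : K)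
    (Hs : K →ₐ[k] PowerSeries K) (hHs : IsHasseFamily s Hs) (J : Fin n → ℕ)
    (hJ : IsOrders K (hcol τ Hs φ) J) (Φ : Place k K → (K →ₐ[k] LaurentSeries k))
    (hΦ : ∀ P : Place k K, IsExpansionAt P.1 (Φ P)) :
    0 ≤ wDiv τ Hs Φ s φ J :=
  fun P => ff_wDiv_nonneg_at hK φ hφ τ s Hs hHs J hJ Φ hΦ P

theorem ff_deg_wDiv [IsAlgClosed k] (hK : IsFunctionField k K) {n : ℕ}
    (φ : Fin (n + 1) → K) (τ : K →ₐ[k] K) (s : K)
    (Hs : K →ₐ[k] PowerSeries K) (hHs : IsHasseFamily s Hs) (J : Fin n → ℕ)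
    (Φ : Place k K → (K →ₐ[k] LaurentSeries k))
    (hΦ : ∀ P : Place k K, IsExpansionAt P.1 (Φ P)) :
    (wDiv τ Hs Φ s φ J).deg =
      ((Module.finrank τ.fieldRange K : ℤ) + n) * (mapDiv k φ).deg +
        (2 * (genus k K : ℤ) - 2) * ∑ l, (J l : ℤ) := by
  unfold wDiv
  rw [ff_deg_add, ff_deg_add, ff_deg_add, ff_deg_div hK, ff_deg_zsmul, ff_deg_zsmul,
    Groth.Agent.Lib.Helper63.MapDiv.deg_mapDiv_comp τ hK φ, ff_deg_divDiff hK Hs hHs Φ hΦ]
  ring

end Groth.Agent.Lib.Helper55
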