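import Groth.Agent.Lib.Helper55.FunFld.HasseSV

/-! The coefficient of the Weierstrass divisor at a place, for a map normalized there and Hasse
derivatives with respect to a local parameter. -/

namespace Groth.Agent.Lib.Helper55

open FunFld LocRes

variable {k K : Type*} [Field k] [Field K] [Algebra k K]

/-- The differential of a uniformizer has order `0`, read through an expansion. -/
theorem ff_ordDiff_uniformizer {F : Type*} [Field F] [Algebra k F]
    (w : Valuation K (WithZero (Multiplicative ℤ))) (Φ : K →ₐ[k] LaurentSeries F)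
    (hΦ : ∀ f : K, Valued.v (Φ f) = w f) {t : K} (ht : w t = WithZero.exp (-1)) :
    ordDiff Φ 1 t = 0 := by
  have h1 : Valued.v (Φ t) ≤ WithZero.exp (-(1 : ℤ)) := by rw [hΦ, ht]
  have h2 : ¬ Valued.v (Φ t) ≤ WithZero.exp (-(2 : ℤ)) := by
    rw [hΦ, ht, WithZero.exp_le_exp]; norm_num
  rw [LaurentSeries.valuation_le_iff_coeff_lt_eq_zero] at h1 h2
  push Not at h2
  obtain ⟨m, hm2, hm⟩ := h2
  have hm1 : m = 1 := by
    by_contra hne
    exact hm (h1 m (by omega))
  subst hm1
  have hv : Valued.v (D F (Φ t)) = 1 := by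
    apply le_antisymm
    · rw [← WithZero.exp_zero, ← neg_zero, LaurentSeries.valuation_le_iff_coeff_lt_eq_zero]
      intro n hn
      rw [D_coeff, h1 (n + 1) (by omega), smul_zero]
    · by_contra hlt
      push Not at hlt
      rw [ff_lt_one_iff, show (-1 : ℤ) = -(1 : ℤ) from rfl,
        LaurentSeries.valuation_le_iff_coeff_lt_eq_zero] at hlt
      have := hlt 0 (by norm_num)
      rw [D_coeff] at this
      simp only [zero_add, one_smul] at this
      exact hm this
  unfold ordDiff vDiff
  rw [map_one, one_mul, hv, WithZero.log_one, neg_zero]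

theorem ff_divDiff_apply_uniformizer (Φ : Place k K → (K →ₐ[k] LaurentSeries k))
    (P : Place k K) (hΦ : IsExpansionAt P.1 (Φ P)) {t : K} (ht : P.1 t = WithZero.exp (-1)) :
    divDiff Φ 1 t P = 0 := by
  unfold divDiff
  split_ifs with h
  · rw [Finsupp.ofSupportFinite_coe]
    exact ff_ordDiff_uniformizer P.1 (Φ P) hΦ.1 ht
  · rfl

/-- The divisor of a tuple normalized at `P` with a unit entry has coefficient `0` at `P`. -/
theorem ff_mapDiv_apply_eq_zero (hK : IsFunctionField k K) {ι : Type*} [Fintype ι] [Nonempty ι]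
    (φ : ι → K) (P : Place k K) (hnorm : ∀ i, P.1 (φ i) ≤ 1) (i₀ : ι) (hi₀ : P.1 (φ i₀) = 1) :
    mapDiv k φ P = 0 := by
  rw [ff_mapDiv_apply hK, neg_eq_zero]
  apply le_antisymm
  · refine (Finset.inf'_le _ (Finset.mem_univ i₀)).trans_eq ?_
    unfold Place.ord
    rw [hi₀, WithZero.log_one, neg_zero]
  · rw [Finset.le_inf'_iff]
    intro i _
    unfold Place.ord
    by_cases h0 : φ i = 0
    · rw [h0, map_zero, WithZero.log_zero, neg_zero]
    · have hv : P.1 (φ i) ≠ 0 := (Valuation.ne_zero_iff P.1).mpr h0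
      obtain ⟨m, hm⟩ : ∃ m : ℤ, P.1 (φ i) = WithZero.exp m := ⟨_, (WithZero.exp_log hv).symm⟩
      have h1 : WithZero.exp m ≤ WithZero.exp 0 := by
        rw [← hm, WithZero.exp_zero]; exact hnorm i
      rw [WithZero.exp_le_exp] at h1
      rw [hm, WithZero.log_exp]
      omega

/-- In an effective tuple normalized at `P`, some entry is a unit at `P`. -/
theorem ff_exists_unit_entry (P : Place k K) {ι : Type*} [Fintype ι] (φ : ι → K)
    (heff : (1 : K) ∈ Submodule.span k (Set.range φ)) (hnorm : ∀ i, P.1 (φ i) ≤ 1) :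
    ∃ i, P.1 (φ i) = 1 := by
  by_contra hcon
  push Not at hcon
  have hlt : ∀ i, P.1 (φ i) < 1 := fun i => lt_of_le_of_ne (hnorm i) (hcon i)
  obtain ⟨c, hc⟩ := (Submodule.mem_span_range_iff_exists_fun k).mp heff
  have h1 : P.1 (∑ i, c i • φ i) < 1 := by
    refine P.1.map_sum_lt one_ne_zero fun i _ => ?_
    rw [Algebra.smul_def, map_mul]
    exact lt_of_le_of_lt ((mul_le_mul' (P.2.1 _) le_rfl).trans_eq (one_mul _)) (hlt i)
  rw [hc, map_one] at h1
  exact lt_irrefl _ h1


/-- Jump vectors of a sequence, taken along a strictly increasing index sequence, are linearly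
independent. -/
theorem ff_linearIndependent_of_jumps {F V : Type*} [Field F] [AddCommGroup V] [Module F V]
    (c : ℕ → V) : ∀ (m : ℕ) (idx : Fin m → ℕ), StrictMono idx → (∀ q, IsJump F c (idx q)) →
      LinearIndependent F (fun q => c (idx q)) := by
  intro m
  induction m with
  | zero => intro idx _ _; exact linearIndependent_empty_type
  | succ m ih =>
    intro idx hmono hjump
    rw [linearIndependent_finSucc']
    refine ⟨ih (fun q => idx q.castSucc) (fun a b hab => hmono (Fin.castSucc_lt_castSucc_iff.mpr hab))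
      (fun q => hjump _), ?_⟩
    intro hmem
    apply hjump (Fin.last m)
    refine Submodule.span_mono ?_ hmem
    rintro _ ⟨q, rfl⟩
    exact ⟨idx q.castSucc, hmono (Fin.castSucc_lt_last q), rfl⟩

variable (H : K →ₐ[k] PowerSeries K)

/-- The Wronskian at an order sequence is nonzero as soon as the leading column is nonzero. -/
theorem ff_wrMat_det_ne_zero (τ : K →ₐ[k] K) {n : ℕ} (φ : Fin (n + 1) → K)
    (hφ0 : ∃ i, φ i ≠ 0) (J : Fin n → ℕ) (hJ : IsOrders K (hcol τ H φ) J) :
    (wrMat τ H φ J).det ≠ 0 := by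
  classical
  obtain ⟨idx, hidx0, hidxs⟩ : ∃ idx : Fin (n + 1) → ℕ, idx 0 = 0 ∧ ∀ l : Fin n, idx l.succ = J l + 1 :=
    ⟨Fin.cases 0 fun l => J l + 1, rfl, fun _ => rfl⟩
  have hmono : StrictMono idx := by
    intro a b hab
    induction a using Fin.cases with
    | zero =>
      induction b using Fin.cases with
      | zero => exact absurd hab (lt_irrefl _)
      | succ b => rw [hidx0, hidxs]; omega
    | succ a =>
      induction b using Fin.cases with
      | zero => exact absurd hab (Fin.not_lt_zero _)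
      | succ b =>
        rw [hidxs, hidxs]
        have := hJ.1 (Fin.succ_lt_succ_iff.mp hab)
        omega
  have hjump : ∀ q, IsJump K (hcol τ H φ) (idx q) := by
    intro q
    induction q using Fin.cases with
    | zero =>
      rw [hidx0]
      unfold IsJump
      have hI0 : Set.Iio (0 : ℕ) = ∅ := by ext j; simp
      rw [hI0, Set.image_empty, Submodule.span_empty, Submodule.mem_bot]
      obtain ⟨i, hi⟩ := hφ0
      intro h0
      have := congrFun h0 i
      simp only [hcol, Pi.zero_apply] at this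
      exact hi ((map_eq_zero_iff τ τ.toRingHom.injective).mp this)
    | succ l =>
      rw [hidxs]
      exact (hJ.2 (J l)).mp ⟨l, rfl⟩
  have hli := ff_linearIndependent_of_jumps (hcol τ H φ) (n + 1) idx hmono hjump
  have hcolumns : ∀ i q, wrMat τ H φ J i q = hcol τ H φ (idx q) i := by
    intro i q
    induction q using Fin.cases with
    | zero => rw [hidx0]; rfl
    | succ l => rw [hidxs, ff_wrMat_succ]; rfl
  intro hdet
  obtain ⟨v, hv0, hv⟩ := Matrix.exists_mulVec_eq_zero_iff.mpr hdet
  apply hv0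
  have hsum : ∑ q, v q • hcol τ H φ (idx q) = 0 := by
    funext i
    have := congrFun hv i
    simp only [Matrix.mulVec, dotProduct, hcolumns, Pi.zero_apply] at this
    simp only [Finset.sum_apply, Pi.smul_apply, smul_eq_mul, Pi.zero_apply]
    rw [← this]
    exact Finset.sum_congr rfl fun q _ => mul_comm _ _
  funext q
  exact Fintype.linearIndependent_iff.mp hli v hsum q

/-- The coefficient of the Weierstrass divisor at a fixed point `P`, for an effective map
normalized at `P` and Hasse derivatives with respect to a local parameter at `P`. -/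
theorem ff_wDiv_apply [IsAlgClosed k] (hK : IsFunctionField k K) (τ : K →ₐ[k] K) (P : Place k K)
    (hP : IsFixedPt τ P) {n : ℕ} (φ : Fin (n + 1) → K)
    (heff : (1 : K) ∈ Submodule.span k (Set.range φ)) (hnorm : ∀ i, P.1 (φ i) ≤ 1)
    {t : K} (ht : P.1 t = WithZero.exp (-1)) (J : Fin n → ℕ)
    (Φ : Place k K → (K →ₐ[k] LaurentSeries k)) (hΦ : IsExpansionAt P.1 (Φ P)) :
    wDiv τ H Φ t φ J P = P.ord (wrMat τ H φ J).det := by
  obtain ⟨i₀, hi₀⟩ := ff_exists_unit_entry P φ heff hnorm
  have hτnorm : ∀ i, P.1 ((τ ∘ φ) i) ≤ 1 := fun i => ff_fixedPt_val_le hK τ P hP (hnorm i)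
  have hτeff : (1 : K) ∈ Submodule.span k (Set.range (τ ∘ φ)) := by
    obtain ⟨c, hc⟩ := (Submodule.mem_span_range_iff_exists_fun k).mp heff
    have := congrArg τ hc
    rw [map_sum, map_one] at this
    rw [← this]
    refine Submodule.sum_mem _ fun i _ => ?_
    rw [map_smul]
    exact Submodule.smul_mem _ _ (Submodule.subset_span ⟨i, rfl⟩)
  obtain ⟨i₁, hi₁⟩ := ff_exists_unit_entry P (τ ∘ φ) hτeff hτnorm
  unfold wDiv
  rw [Finsupp.add_apply, Finsupp.add_apply, Finsupp.add_apply, Finsupp.smul_apply,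
    Finsupp.smul_apply, ff_div_apply hK, ff_mapDiv_apply_eq_zero hK φ P hnorm i₀ hi₀,
    ff_mapDiv_apply_eq_zero hK (τ ∘ φ) P hτnorm i₁ hi₁, ff_divDiff_apply_uniformizer Φ P hΦ ht]
  simp


/-- For `τ = id` every order is positive. -/
theorem ff_orders_pos_of_id {n : ℕ} (φ : Fin (n + 1) → K) {t : K} (hH : IsHasseFamily t H)
    (J : Fin n → ℕ) (hJ : IsOrders K (hcol (AlgHom.id k K) H φ) J) : ∀ l, 0 < J l := by
  intro l
  by_contra h0
  have hJ0 : J l = 0 := by omega
  have hjump := (hJ.2 (J l)).mp ⟨l, rfl⟩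
  rw [hJ0] at hjump
  apply hjump
  refine Submodule.subset_span ⟨0, by simp, ?_⟩
  funext i
  simp only [hcol, AlgHom.coe_id, id_eq, ff_hasseD_zero H hH.2]

/-- The coefficient of the Weierstrass divisor at a fixed point (S12615). -/
theorem ff_wDiv_coeff [IsAlgClosed k] (hK : IsFunctionField k K) (τ : K →ₐ[k] K) (P : Place k K)
    (hP : IsFixedPt τ P) {n : ℕ} (φ : Fin (n + 1) → K)
    (heff : (1 : K) ∈ Submodule.span k (Set.range φ)) (hnorm : ∀ i, P.1 (φ i) ≤ 1)
    {t : K} (ht : P.1 t = WithZero.exp (-1)) (hH : IsHasseFamily t H)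
    (J : Fin n → ℕ) (hJ : IsOrders K (hcol τ H φ) J)
    (J' : Fin n → ℕ) (hJ' : IsOrders (IsLocalRing.ResidueField P.O) (hcolAt P H φ) J')
    (Φ : Place k K → (K →ₐ[k] LaurentSeries k)) (hΦ : IsExpansionAt P.1 (Φ P)) :
    (∑ l, ((J' l : ℤ) - J l)) ≤ wDiv τ H Φ t φ J P ∧
    ((τ = AlgHom.id k K ∨ IsStrongFixedPt τ P) →
      (wDiv τ H Φ t φ J P = ∑ l, ((J' l : ℤ) - J l) ↔ (binomMat k J' J).det ≠ 0)) := by
  obtain ⟨i₀, hi₀⟩ := ff_exists_unit_entry P φ heff hnorm
  have hφ0 : ∃ i, φ i ≠ 0 := ⟨i₀, by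
    rintro h0
    rw [h0, map_zero] at hi₀
    exact zero_ne_one hi₀⟩
  have hdet := ff_wrMat_det_ne_zero H τ φ hφ0 J hJ
  rw [ff_wDiv_apply H hK τ P hP φ heff hnorm ht J Φ hΦ]
  obtain ⟨hle, hiff⟩ := ff_wronskian_order H hK τ P hP φ heff hnorm ht hH J' hJ' J
  rw [ff_val_eq_exp_neg_ord P hdet] at hle hiff
  rw [WithZero.exp_le_exp] at hle
  refine ⟨by omega, fun hor => ?_⟩
  have hor' : (∀ l, 0 < J l) ∨ IsStrongFixedPt τ P := by
    rcases hor with rfl | hS
    · exact Or.inl (ff_orders_pos_of_id H φ hH J hJ)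
    · exact Or.inr hS
  rw [← hiff hor', WithZero.exp_inj]
  constructor
  · intro h; rw [h]
  · intro h; omega


theorem ff_binomMat_self_det (R : Type*) [CommRing R] {n : ℕ} (J : Fin n → ℕ) (hJ : StrictMono J) :
    (binomMat R J J).det = 1 := by
  rw [Matrix.det_of_isLowerTriangular]
  · refine Finset.prod_eq_one fun i _ => ?_
    simp [binomMat]
  · intro i j hij
    have hlt : i < j := hij
    simp only [binomMat, Matrix.of_apply]
    rw [Nat.choose_eq_zero_of_lt (hJ hlt), Nat.cast_zero]

/-- Minimality of the order sequence: if the columns at the indices `0, J' l + 1` are linearly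
independent, then `J l ≤ J' l`. -/
theorem ff_orders_le_of_linearIndependent {F V : Type*} [Field F] [AddCommGroup V] [Module F V]
    [FiniteDimensional F V]
    (c : ℕ → V) {n : ℕ} (J : Fin n → ℕ) (hJ : IsOrders F c J) (J' : Fin n → ℕ)
    (hJ' : StrictMono J') (idx : Fin (n + 1) → ℕ) (hidx0 : idx 0 = 0)
    (hidxs : ∀ l : Fin n, idx l.succ = J' l + 1)
    (hli : LinearIndependent F (fun q => c (idx q))) : ∀ l, J l ≤ J' l := by
  classical
  intro l₀
  by_contra hlt
  push Not at hlt
  have h3 := ff_finrank_span_le_of_isOrders c J hJ (J' l₀)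
  have h4 : (Finset.univ.filter fun l => J l ≤ J' l₀).card ≤ (l₀ : ℕ) := by
    rw [← Fin.card_Iio l₀]
    apply Finset.card_le_card
    intro l hl
    rw [Finset.mem_filter] at hl
    rw [Finset.mem_Iio]
    by_contra hge
    push Not at hge
    have := hJ.1.monotone hge
    omega
  have hs : (l₀ : ℕ) + 1 + 1 ≤ n + 1 := Nat.succ_le_succ l₀.2
  have hli' : LinearIndependent F (fun q : Fin ((l₀ : ℕ) + 1 + 1) => c (idx (Fin.castLE hs q))) :=
    hli.comp (Fin.castLE hs) (Fin.castLE_injective hs)
  have hle : Submodule.span F (Set.range fun q : Fin ((l₀ : ℕ) + 1 + 1) => c (idx (Fin.castLE hs q)))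
      ≤ Submodule.span F (c '' Set.Iio (J' l₀ + 2)) := by
    apply Submodule.span_mono
    rintro _ ⟨q, rfl⟩
    refine ⟨idx (Fin.castLE hs q), ?_, rfl⟩
    rw [Set.mem_Iio]
    induction q using Fin.cases with
    | zero =>
      have : Fin.castLE hs 0 = 0 := rfl
      rw [this, hidx0]; omega
    | succ r =>
      have : Fin.castLE hs r.succ = (Fin.castLE l₀.2 r).succ := rfl
      rw [this, hidxs]
      have : J' (Fin.castLE l₀.2 r) ≤ J' l₀ := by
        apply hJ'.monotone
        rw [Fin.le_def]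
        have := r.2
        simp only [Fin.val_castLE]
        omega
      omega
  have h5 := Submodule.finrank_mono hle
  rw [finrank_span_eq_card hli', Fintype.card_fin] at h5
  omega

/-- Orders versus orders at a place (S12608). -/
theorem ff_orders_vs_local [IsAlgClosed k] (hK : IsFunctionField k K) (P : Place k K) {n : ℕ}
    (φ : Fin (n + 1) → K) (heff : (1 : K) ∈ Submodule.span k (Set.range φ))
    (hnorm : ∀ i, P.1 (φ i) ≤ 1) {t : K} (ht : P.1 t = WithZero.exp (-1))
    (hH : IsHasseFamily t H) (J : Fin n → ℕ)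
    (hJ : IsOrders K (hcol (AlgHom.id k K) H φ) J) (J' : Fin n → ℕ)
    (hJ' : IsOrders (IsLocalRing.ResidueField P.O) (hcolAt P H φ) J')
    (Φ : Place k K → (K →ₐ[k] LaurentSeries k)) (hΦ : IsExpansionAt P.1 (Φ P)) :
    (∀ l, J l ≤ J' l) ∧
    ((∀ l, J' l = J l) ↔ evalP P (wrMat (AlgHom.id k K) H φ J).det ≠ 0) ∧
    ((∀ l, J' l = J l) ↔ wDiv (AlgHom.id k K) H Φ t φ J P = 0) := by
  classical
  have hP : IsFixedPt (AlgHom.id k K) P := fun z hz => hz
  obtain ⟨i₀, hi₀⟩ := ff_exists_unit_entry P φ heff hnorm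
  have hφ0 : ∃ i, φ i ≠ 0 := ⟨i₀, by
    rintro h0
    rw [h0, map_zero] at hi₀
    exact zero_ne_one hi₀⟩
  have hdet := ff_wrMat_det_ne_zero H (AlgHom.id k K) φ hφ0 J hJ
  have hJpos := ff_orders_pos_of_id H φ hH J hJ
  obtain ⟨hmono', hpos', -, -⟩ := ff_isOrders_hcolAt H hK P ht hH φ hnorm J' hJ'
  -- the Wronskian at the local orders is a unit at `P`
  have hdet' : (wrMat (AlgHom.id k K) H φ J').det ≠ 0 := by
    obtain ⟨-, hiff⟩ := ff_wronskian_order H hK (AlgHom.id k K) P hP φ heff hnorm ht hH J' hJ' J'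
    have h1 := (hiff (Or.inl fun l => hpos' l)).mpr (by
      rw [ff_binomMat_self_det k J' hmono']; exact one_ne_zero)
    intro h0
    rw [h0, map_zero] at h1
    exact WithZero.exp_ne_zero h1.symm
  -- (a)
  have ha : ∀ l, J l ≤ J' l := by
    obtain ⟨idx, hidx0, hidxs⟩ : ∃ idx : Fin (n + 1) → ℕ, idx 0 = 0 ∧
        ∀ l : Fin n, idx l.succ = J' l + 1 := ⟨Fin.cases 0 fun l => J' l + 1, rfl, fun _ => rfl⟩
    refine ff_orders_le_of_linearIndependent (hcol (AlgHom.id k K) H φ) J hJ J' hmono' idx hidx0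
      hidxs ?_
    have hcolumns : ∀ i q, wrMat (AlgHom.id k K) H φ J' i q =
        hcol (AlgHom.id k K) H φ (idx q) i := by
      intro i q
      induction q using Fin.cases with
      | zero => rw [hidx0]; rfl
      | succ l => rw [hidxs, ff_wrMat_succ]; rfl
    rw [Fintype.linearIndependent_iff]
    intro v hv
    by_contra hne
    push Not at hne
    apply hdet'
    apply Matrix.exists_mulVec_eq_zero_iff.mp
    refine ⟨v, fun h0 => ?_, ?_⟩
    · obtain ⟨q, hq⟩ := hne
      exact hq (congrFun h0 q)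
    · funext i
      have := congrFun hv i
      simp only [Finset.sum_apply, Pi.smul_apply, smul_eq_mul, Pi.zero_apply] at this
      simp only [Matrix.mulVec, dotProduct, hcolumns, Pi.zero_apply]
      rw [← this]
      exact Finset.sum_congr rfl fun q _ => mul_comm _ _
  obtain ⟨hle, hiff⟩ := ff_wronskian_order H hK (AlgHom.id k K) P hP φ heff hnorm ht hH J' hJ' J
  have hiff' := hiff (Or.inl hJpos)
  -- equality of orders iff the Wronskian is a unit
  have hunit : (∀ l, J' l = J l) ↔ P.1 (wrMat (AlgHom.id k K) H φ J).det = 1 := by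
    constructor
    · intro heq
      have hJJ : J' = J := funext heq
      have h1 := hiff'.mpr (by rw [hJJ, ff_binomMat_self_det k J hJ.1]; exact one_ne_zero)
      rw [h1, hJJ]
      simp
    · intro h1
      rw [h1, ← WithZero.exp_zero, WithZero.exp_le_exp] at hle
      have hsum : ∑ l, ((J' l : ℤ) - J l) = 0 := by
        have : 0 ≤ ∑ l, ((J' l : ℤ) - J l) :=
          Finset.sum_nonneg fun l _ => by have := ha l; omega
        omega
      intro l
      have := (Finset.sum_eq_zero_iff_of_nonneg (fun l _ => by have := ha l; omega)).mp hsum l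
        (Finset.mem_univ l)
      omega
  have hev : evalP P (wrMat (AlgHom.id k K) H φ J).det ≠ 0 ↔
      P.1 (wrMat (AlgHom.id k K) H φ J).det = 1 := by
    constructor
    · intro hne
      have hle1 : P.1 (wrMat (AlgHom.id k K) H φ J).det ≤ 1 := by
        by_contra hgt
        apply hne
        unfold evalP
        rw [dif_neg hgt]
      refine le_antisymm hle1 (not_lt.mp fun hlt => hne ?_)
      exact (ff_evalP_eq_zero_iff P hle1).mpr hlt
    · intro h1 h0
      rw [ff_evalP_eq_zero_iff P h1.le, h1] at h0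
      exact lt_irrefl _ h0
  refine ⟨ha, hunit.trans hev.symm, ?_⟩
  rw [ff_wDiv_apply H hK (AlgHom.id k K) P hP φ heff hnorm ht J Φ hΦ, hunit,
    ff_val_eq_exp_neg_ord P hdet, ← WithZero.exp_zero, WithZero.exp_inj]
  constructor
  · intro h; omega
  · intro h; omega

end Groth.Agent.Lib.Helper55
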