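import Groth.Agent.Lib.Helper55.FunFld.Hasse

/-! Local theory of Hasse derivatives at a place: values, Taylor criterion, orders at a place. -/

namespace Groth.Agent.Lib.Helper55

open FunFld LocRes

variable {k K : Type*} [Field k] [Field K] [Algebra k K]

theorem ff_evalP_of_le (P : Place k K) {z : K} (hz : P.1 z ≤ 1) :
    evalP P z = IsLocalRing.residue P.O ⟨z, (Valuation.mem_valuationSubring_iff P.1 z).mpr hz⟩ := by
  unfold evalP
  rw [dif_pos hz]

theorem ff_evalP_eq_zero_iff (P : Place k K) {z : K} (hz : P.1 z ≤ 1) :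
    evalP P z = 0 ↔ P.1 z < 1 := by
  rw [ff_evalP_of_le P hz, IsLocalRing.residue_eq_zero_iff, ff_mem_maximalIdeal_iff]

theorem ff_evalP_add (P : Place k K) {y z : K} (hy : P.1 y ≤ 1) (hz : P.1 z ≤ 1) :
    evalP P (y + z) = evalP P y + evalP P z := by
  have hyz : P.1 (y + z) ≤ 1 := (P.1.map_add y z).trans (max_le hy hz)
  rw [ff_evalP_of_le P hy, ff_evalP_of_le P hz, ff_evalP_of_le P hyz, ← map_add]
  rfl

theorem ff_evalP_mul (P : Place k K) {y z : K} (hy : P.1 y ≤ 1) (hz : P.1 z ≤ 1) :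
    evalP P (y * z) = evalP P y * evalP P z := by
  have hyz : P.1 (y * z) ≤ 1 := by
    rw [map_mul]; exact (mul_le_mul' hy hz).trans_eq (one_mul _)
  rw [ff_evalP_of_le P hy, ff_evalP_of_le P hz, ff_evalP_of_le P hyz, ← map_mul]
  rfl

theorem ff_evalP_algebraMap (P : Place k K) (c : k) :
    evalP P (algebraMap k K c) = algebraMap k (IsLocalRing.ResidueField P.O) c := by
  rw [ff_evalP_of_le P (P.2.1 c)]
  rfl

theorem ff_evalP_one (P : Place k K) : evalP P (1 : K) = 1 := by
  have := ff_evalP_algebraMap P (1 : k)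
  rwa [map_one, map_one] at this

theorem ff_evalP_zero (P : Place k K) : evalP P (0 : K) = 0 := by
  rw [ff_evalP_eq_zero_iff P (by rw [map_zero]; exact zero_le), map_zero]
  exact zero_lt_one

theorem ff_evalP_smul (P : Place k K) (c : k) {z : K} (hz : P.1 z ≤ 1) :
    evalP P (c • z) = algebraMap k (IsLocalRing.ResidueField P.O) c * evalP P z := by
  rw [Algebra.smul_def, ff_evalP_mul P (P.2.1 c) hz, ff_evalP_algebraMap]

theorem ff_evalP_sum (P : Place k K) {ι : Type*} (s : Finset ι) (f : ι → K)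
    (hf : ∀ i ∈ s, P.1 (f i) ≤ 1) : evalP P (∑ i ∈ s, f i) = ∑ i ∈ s, evalP P (f i) := by
  classical
  induction s using Finset.induction_on with
  | empty => simp [ff_evalP_zero]
  | insert a s ha ih =>
    rw [Finset.sum_insert ha, Finset.sum_insert ha, ff_evalP_add P (hf a (Finset.mem_insert_self a s))
      (P.1.map_sum_le fun i hi => hf i (Finset.mem_insert_of_mem hi)),
      ih fun i hi => hf i (Finset.mem_insert_of_mem hi)]

theorem ff_evalP_eq_iff (P : Place k K) {y z : K} (hy : P.1 y ≤ 1) (hz : P.1 z ≤ 1) :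
    evalP P y = evalP P z ↔ P.1 (y - z) < 1 := by
  have hyz : P.1 (y - z) ≤ 1 := (Valuation.map_sub _ _ _).trans (max_le hy hz)
  rw [← ff_evalP_eq_zero_iff P hyz]
  have h1 : evalP P y = evalP P (y - z) + evalP P z := by
    rw [← ff_evalP_add P hyz hz, sub_add_cancel]
  rw [h1]
  constructor
  · intro h
    exact add_eq_right.mp h
  · intro h
    rw [h, zero_add]

theorem ff_algebraMap_residue_bijective [IsAlgClosed k] (hK : IsFunctionField k K) (P : Place k K) :
    Function.Bijective (algebraMap k (IsLocalRing.ResidueField P.O)) := by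
  have hfd := ff_finiteDimensional_residueField hK P
  have hint : Algebra.IsIntegral k (IsLocalRing.ResidueField P.O) :=
    @Algebra.IsIntegral.of_finite k (IsLocalRing.ResidueField P.O) _ _ (Place.algRes P) hfd
  exact IsAlgClosed.algebraMap_bijective_of_isIntegral (k := k)
    (K := IsLocalRing.ResidueField P.O)


variable (H : K →ₐ[k] PowerSeries K)

theorem ff_val_natCast_le (P : Place k K) (m : ℕ) : P.1 (m : K) ≤ 1 := by
  have h := P.2.1 (m : k)
  rwa [map_natCast] at h

/-- Expansion of `D^i (t^J u)`: it is `t^(J-i)` times an integral element congruent to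
`(J choose i) u` modulo the maximal ideal (written multiplicatively to avoid negative powers). -/
theorem ff_hasse_expansion [IsAlgClosed k] (hK : IsFunctionField k K) (P : Place k K) {t : K}
    (ht : P.1 t = WithZero.exp (-1)) (hH : IsHasseFamily t H) (J i : ℕ) {u : K} (hu : P.1 u ≤ 1) :
    ∃ N : K, P.1 N ≤ 1 ∧ hasseD H i (t ^ J * u) * t ^ i = t ^ J * N ∧
      P.1 (N - (J.choose i : K) * u) < 1 := by
  have htlt : P.1 t < 1 := by
    rw [ht, ← WithZero.exp_zero, WithZero.exp_lt_exp]; norm_num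
  have hint := ff_hasse_integral H hK P ht hH
  refine ⟨∑ a ∈ Finset.range (i + 1), (J.choose a : K) * (t ^ (i - a) * hasseD H (i - a) u),
    ?_, ?_, ?_⟩
  · refine P.1.map_sum_le fun a _ => ?_
    rw [map_mul, map_mul, map_pow]
    refine (mul_le_mul' (ff_val_natCast_le P _)
      ((mul_le_mul' (pow_le_one' htlt.le _) (hint _ u hu)).trans_eq (one_mul _))).trans_eq (one_mul _)
  · rw [ff_hasseD_mul', Finset.sum_mul, Finset.mul_sum]
    refine Finset.sum_congr rfl fun a ha => ?_
    have hai : a ≤ i := Nat.lt_succ_iff.mp (Finset.mem_range.mp ha)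
    have hpow : t ^ i = t ^ a * t ^ (i - a) := by rw [← pow_add, Nat.add_sub_cancel' hai]
    have hgen := ff_hasseD_gen_pow H hH J a
    calc hasseD H a (t ^ J) * hasseD H (i - a) u * t ^ i
        = (hasseD H a (t ^ J) * t ^ a) * (t ^ (i - a) * hasseD H (i - a) u) := by
          rw [hpow]; ring
      _ = t ^ J * ((J.choose a : K) * (t ^ (i - a) * hasseD H (i - a) u)) := by
          rw [hgen]; ring
  · rw [Finset.sum_range_succ, Nat.sub_self, pow_zero, one_mul, ff_hasseD_zero H hH.2,
      add_sub_cancel_right]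
    refine lt_of_le_of_lt (P.1.map_sum_le (g := P.1 t) fun a ha => ?_) htlt
    have hai : a < i := Finset.mem_range.mp ha
    rw [map_mul, map_mul, map_pow]
    have h1 : P.1 t ^ (i - a) ≤ P.1 t := by
      have : i - a = (i - a - 1) + 1 := by omega
      rw [this, pow_succ]
      exact (mul_le_mul' (pow_le_one' htlt.le _) le_rfl).trans_eq (one_mul _)
    exact (mul_le_mul' (ff_val_natCast_le P _)
      ((mul_le_mul' h1 (hint _ u hu)).trans_eq (mul_one _))).trans_eq (one_mul _)


theorem ff_exists_eq_pow_mul (P : Place k K) {t : K} (ht : P.1 t = WithZero.exp (-1)) (N : ℕ)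
    {y : K} (hy : P.1 y ≤ WithZero.exp (-(N : ℤ))) : ∃ u : K, P.1 u ≤ 1 ∧ y = t ^ N * u := by
  have ht0 : t ≠ 0 := ff_uniformizer_ne_zero P ht
  refine ⟨y / t ^ N, ?_, by field_simp⟩
  rw [map_div₀, map_pow, ht, ← WithZero.exp_nsmul, div_le_iff₀ (by exact WithZero.exp_pos), one_mul]
  simpa using hy

theorem ff_val_pow_mul (P : Place k K) {t : K} (ht : P.1 t = WithZero.exp (-1)) (N : ℕ) (u : K) :
    P.1 (t ^ N * u) = WithZero.exp (-(N : ℤ)) * P.1 u := by
  rw [map_mul, map_pow, ht, ← WithZero.exp_nsmul]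
  simp

/-- The Taylor criterion: an integral `y` has order at least `N` exactly when its first `N`
Hasse derivatives vanish at `P`. -/
theorem ff_taylor_criterion [IsAlgClosed k] (hK : IsFunctionField k K) (P : Place k K) {t : K}
    (ht : P.1 t = WithZero.exp (-1)) (hH : IsHasseFamily t H) (N : ℕ) {y : K} (hy : P.1 y ≤ 1) :
    P.1 y ≤ WithZero.exp (-(N : ℤ)) ↔ ∀ j < N, P.1 (hasseD H j y) < 1 := by
  have ht0 : t ≠ 0 := ff_uniformizer_ne_zero P ht
  have htlt : P.1 t < 1 := by
    rw [ht, ← WithZero.exp_zero, WithZero.exp_lt_exp]; norm_num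
  constructor
  · intro hyN j hj
    obtain ⟨u, hu, rfl⟩ := ff_exists_eq_pow_mul P ht N hyN
    obtain ⟨M, hM, hexp, -⟩ := ff_hasse_expansion H hK P ht hH N j hu
    have h1 : P.1 (hasseD H j (t ^ N * u)) * WithZero.exp (-(j : ℤ)) =
        WithZero.exp (-(N : ℤ)) * P.1 M := by
      have := congrArg P.1 hexp
      rwa [map_mul, map_mul, map_pow, map_pow, ht, ← WithZero.exp_nsmul, ← WithZero.exp_nsmul,
        nsmul_eq_mul, nsmul_eq_mul, mul_neg_one, mul_neg_one] at this
    have h2 : P.1 (hasseD H j (t ^ N * u)) ≤ WithZero.exp (-(N : ℤ) + j) := by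
      have h3 : P.1 (hasseD H j (t ^ N * u)) =
          WithZero.exp (-(N : ℤ)) * P.1 M * WithZero.exp (j : ℤ) := by
        rw [← h1, mul_assoc, ← WithZero.exp_add]
        simp
      rw [h3, WithZero.exp_add, mul_assoc, mul_comm (P.1 M), ← mul_assoc]
      exact (mul_le_mul' le_rfl hM).trans_eq (mul_one _)
    refine lt_of_le_of_lt h2 ?_
    rw [← WithZero.exp_zero, WithZero.exp_lt_exp]
    omega
  · intro h
    induction N with
    | zero => simpa using hy
    | succ N ih =>
      have hyN := ih fun j hj => h j (Nat.lt_succ_of_lt hj)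
      obtain ⟨u, hu, rfl⟩ := ff_exists_eq_pow_mul P ht N hyN
      obtain ⟨M, hM, hexp, hcong⟩ := ff_hasse_expansion H hK P ht hH N N hu
      have hDM : hasseD H N (t ^ N * u) = M := by
        have hpow : t ^ N ≠ 0 := pow_ne_zero _ ht0
        have : hasseD H N (t ^ N * u) * t ^ N = M * t ^ N := by rw [hexp, mul_comm]
        exact mul_right_cancel₀ hpow this
      rw [Nat.choose_self, Nat.cast_one, one_mul] at hcong
      have hM1 : P.1 M < 1 := by rw [← hDM]; exact h N (Nat.lt_succ_self N)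
      have hu1 : P.1 u < 1 := by
        have : u = M - (M - u) := by ring
        rw [this]
        exact lt_of_le_of_lt (Valuation.map_sub _ _ _) (max_lt hM1 hcong)
      rw [ff_val_pow_mul P ht]
      rw [ff_lt_one_iff] at hu1
      calc WithZero.exp (-(N : ℤ)) * P.1 u ≤ WithZero.exp (-(N : ℤ)) * WithZero.exp (-1) :=
            mul_le_mul' le_rfl hu1
        _ = WithZero.exp (-((N + 1 : ℕ) : ℤ)) := by
            rw [← WithZero.exp_add]; congr 1; push_cast; ring

/-- An integral element has order exactly `j` iff its Hasse derivatives of index `< j` vanish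
at `P` and the `j`-th does not. -/
theorem ff_val_eq_exp_iff [IsAlgClosed k] (hK : IsFunctionField k K) (P : Place k K) {t : K}
    (ht : P.1 t = WithZero.exp (-1)) (hH : IsHasseFamily t H) (j : ℕ) {y : K} (hy : P.1 y ≤ 1) :
    P.1 y = WithZero.exp (-(j : ℤ)) ↔
      (∀ i < j, evalP P (hasseD H i y) = 0) ∧ evalP P (hasseD H j y) ≠ 0 := by
  have hint := ff_hasse_integral H hK P ht hH
  have hcrit := fun N => ff_taylor_criterion H hK P ht hH N hy
  have hev : ∀ i, evalP P (hasseD H i y) = 0 ↔ P.1 (hasseD H i y) < 1 := fun i =>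
    ff_evalP_eq_zero_iff P (hint i y hy)
  simp only [hev]
  constructor
  · intro h
    refine ⟨(hcrit j).mp h.le, fun hj => ?_⟩
    have : P.1 y ≤ WithZero.exp (-((j + 1 : ℕ) : ℤ)) := by
      rw [hcrit (j + 1)]
      intro i hi
      rcases Nat.lt_succ_iff_lt_or_eq.mp hi with hi | rfl
      · exact (hcrit j).mp h.le i hi
      · exact (hev _).mp hj
    rw [h, WithZero.exp_le_exp] at this
    push_cast at this
    omega
  · rintro ⟨h1, h2⟩
    refine le_antisymm ((hcrit j).mpr h1) ?_
    by_contra hlt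
    push Not at hlt
    rw [ff_lt_exp_iff] at hlt
    apply h2
    have h3 : P.1 y ≤ WithZero.exp (-((j + 1 : ℕ) : ℤ)) := by
      refine hlt.trans_eq ?_
      congr 1; push_cast; ring
    exact (hev _).mpr ((hcrit (j + 1)).mp h3 j (Nat.lt_succ_self j))


theorem ff_val_lincomb_le (P : Place k K) {ι : Type*} [Fintype ι] (φ : ι → K)
    (hnorm : ∀ i, P.1 (φ i) ≤ 1) (c : ι → k) : P.1 (∑ r, c r • φ r) ≤ 1 := by
  refine P.1.map_sum_le fun r _ => ?_
  rw [Algebra.smul_def, map_mul]
  exact (mul_le_mul' (P.2.1 _) (hnorm r)).trans_eq (one_mul _)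

theorem ff_evalP_hasseD_lincomb [IsAlgClosed k] (hK : IsFunctionField k K) (P : Place k K) {t : K}
    (ht : P.1 t = WithZero.exp (-1)) (hH : IsHasseFamily t H) {ι : Type*} [Fintype ι] (φ : ι → K)
    (hnorm : ∀ i, P.1 (φ i) ≤ 1) (c : ι → k) (i : ℕ) :
    evalP P (hasseD H i (∑ r, c r • φ r)) =
      ∑ r, algebraMap k (IsLocalRing.ResidueField P.O) (c r) * evalP P (hasseD H i (φ r)) := by
  have hint := ff_hasse_integral H hK P ht hH
  rw [ff_hasseD_sum]
  simp only [ff_hasseD_smul]
  rw [ff_evalP_sum]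
  · refine Finset.sum_congr rfl fun r _ => ?_
    rw [ff_evalP_smul P _ (hint i _ (hnorm r))]
  · intro r _
    rw [Algebra.smul_def, map_mul]
    exact (mul_le_mul' (P.2.1 _) (hint i _ (hnorm r))).trans_eq (one_mul _)

/-- Column `j + 1` of the matrix of values of Hasse derivatives is a jump iff `j ≥ 1` and
some function in the span has order exactly `j` at `P`. -/
theorem ff_isJump_hcolAt_iff [IsAlgClosed k] (hK : IsFunctionField k K) (P : Place k K) {t : K}
    (ht : P.1 t = WithZero.exp (-1)) (hH : IsHasseFamily t H) {ι : Type*} [Fintype ι] (φ : ι → K)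
    (hnorm : ∀ i, P.1 (φ i) ≤ 1) (j : ℕ) :
    IsJump (IsLocalRing.ResidueField P.O) (hcolAt P H φ) (j + 1) ↔
      1 ≤ j ∧ ∃ f ∈ Submodule.span k (Set.range φ), P.1 f = WithZero.exp (-(j : ℤ)) := by
  classical
  set κ := IsLocalRing.ResidueField P.O with hκ
  set A : ℕ → ι → κ := fun i r => evalP P (hasseD H i (φ r)) with hA
  have hc0 : hcolAt P H φ 0 = A 0 := by
    funext r
    simp only [hcolAt, hA, ff_hasseD_zero H hH.2]
  have hcs : ∀ i, hcolAt P H φ (i + 1) = A i := fun i => rfl
  unfold IsJump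
  rcases Nat.eq_zero_or_pos j with rfl | hj
  · simp only [zero_add, hcs, nonpos_iff_eq_zero, one_ne_zero, false_and, iff_false, not_not]
    refine Submodule.subset_span ⟨0, by simp, hc0⟩
  have himg : hcolAt P H φ '' Set.Iio (j + 1) = A '' Set.Iio j := by
    ext v
    constructor
    · rintro ⟨m, hm, rfl⟩
      rcases m with _ | m
      · exact ⟨0, hj, hc0.symm⟩
      · exact ⟨m, by simpa using hm, rfl⟩
    · rintro ⟨i, hi, rfl⟩
      exact ⟨i + 1, by simpa using hi, rfl⟩
  rw [himg, hcs]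
  have hlin := fun (c : ι → k) (i : ℕ) => ff_evalP_hasseD_lincomb H hK P ht hH φ hnorm c i
  constructor
  · intro hnot
    refine ⟨hj, ?_⟩
    obtain ⟨f, hfj, hle⟩ := Submodule.exists_le_ker_of_notMem hnot
    have hsurj := (ff_algebraMap_residue_bijective hK P).2
    choose c hc using fun r : ι => hsurj (f fun r' => if r = r' then 1 else 0)
    have hf : ∀ v : ι → κ, f v = ∑ r, algebraMap k κ (c r) * v r := by
      intro v
      rw [LinearMap.pi_apply_eq_sum_univ f v]
      refine Finset.sum_congr rfl fun r _ => ?_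
      rw [hc, smul_eq_mul, mul_comm]
    refine ⟨∑ r, c r • φ r, ?_, ?_⟩
    · exact Submodule.sum_mem _ fun r _ => Submodule.smul_mem _ _ (Submodule.subset_span ⟨r, rfl⟩)
    · rw [ff_val_eq_exp_iff H hK P ht hH j (ff_val_lincomb_le P φ hnorm c)]
      constructor
      · intro i hi
        rw [hlin, ← hf (A i)]
        exact hle (Submodule.subset_span ⟨i, hi, rfl⟩)
      · rw [hlin, ← hf (A j)]
        exact hfj
  · rintro ⟨-, g, hg, hgj⟩ hmem
    obtain ⟨c, rfl⟩ := (Submodule.mem_span_range_iff_exists_fun k).mp hg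
    rw [ff_val_eq_exp_iff H hK P ht hH j (ff_val_lincomb_le P φ hnorm c)] at hgj
    let f : (ι → κ) →ₗ[κ] κ := ∑ r, algebraMap k κ (c r) • LinearMap.proj r
    have hf : ∀ v : ι → κ, f v = ∑ r, algebraMap k κ (c r) * v r := by
      intro v
      simp only [f, LinearMap.sum_apply, LinearMap.smul_apply, LinearMap.proj_apply, smul_eq_mul]
    have hle : Submodule.span κ (A '' Set.Iio j) ≤ LinearMap.ker f := by
      rw [Submodule.span_le]
      rintro _ ⟨i, hi, rfl⟩
      rw [SetLike.mem_coe, LinearMap.mem_ker, hf, ← hlin]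
      exact hgj.1 i hi
    apply hgj.2
    rw [hlin, ← hf (A j)]
    exact hle hmem


theorem ff_eq_zero_of_forall_val_le (P : Place k K) {f : K}
    (h : ∀ N : ℕ, P.1 f ≤ WithZero.exp (-(N : ℤ))) : f = 0 := by
  by_contra hf
  have hv : P.1 f ≠ 0 := (Valuation.ne_zero_iff P.1).mpr hf
  obtain ⟨m, hm⟩ : ∃ m : ℤ, P.1 f = WithZero.exp m := ⟨_, (WithZero.exp_log hv).symm⟩
  have h1 := h (m.natAbs + 1)
  rw [hm, WithZero.exp_le_exp] at h1
  push_cast at h1
  have h2 : -|m| ≤ m := neg_abs_le m
  omega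

/-- The rows of the (infinite) matrix of values of Hasse derivatives of a linearly independent
integral tuple are linearly independent over the residue field. -/
theorem ff_hasse_rows_linearIndependent [IsAlgClosed k] (hK : IsFunctionField k K) (P : Place k K)
    {t : K} (ht : P.1 t = WithZero.exp (-1)) (hH : IsHasseFamily t H) {ι : Type*} [Fintype ι]
    (φ : ι → K) (hφ : LinearIndependent k φ) (hnorm : ∀ i, P.1 (φ i) ≤ 1) :
    LinearIndependent (IsLocalRing.ResidueField P.O)
      (fun i : ι => fun j : ℕ => evalP P (hasseD H j (φ i))) := by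
  classical
  rw [Fintype.linearIndependent_iff]
  intro g hg
  have hbij := ff_algebraMap_residue_bijective hK P
  choose c hc using fun r : ι => hbij.2 (g r)
  have hint := ff_hasse_integral H hK P ht hH
  have hf0 : ∑ r, c r • φ r = 0 := by
    apply ff_eq_zero_of_forall_val_le P
    intro N
    rw [ff_taylor_criterion H hK P ht hH N (ff_val_lincomb_le P φ hnorm c)]
    intro j _
    rw [← ff_evalP_eq_zero_iff P (hint j _ (ff_val_lincomb_le P φ hnorm c)),
      ff_evalP_hasseD_lincomb H hK P ht hH φ hnorm c j]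
    have := congrFun hg j
    simp only [Finset.sum_apply, Pi.smul_apply, smul_eq_mul, Pi.zero_apply] at this
    simpa only [hc] using this
  have hc0 := Fintype.linearIndependent_iff.mp hφ c hf0
  intro i
  rw [← hc i, hc0 i, map_zero]


theorem ff_linearIndependent_of_place_val_injective {ι : Type*} [Fintype ι] (P : Place k K) (w : ι → K)
    (hw : ∀ i, w i ≠ 0) (hinj : Function.Injective fun i => P.1 (w i)) : LinearIndependent k w := by
  rw [Fintype.linearIndependent_iff]
  intro c hc
  have hrel : ∑ i, algebraMap k K (c i) * w i = 0 := by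
    simpa only [Algebra.smul_def] using hc
  have := ff_coeff_zero_of_val_injective P w hw c hrel fun i j _ _ h => hinj h
  intro i
  rw [this]; rfl

/-- Normalising the leading coefficient of a function of order `j`. -/
theorem ff_exists_hermite [IsAlgClosed k] (hK : IsFunctionField k K) (P : Place k K) {t : K}
    (ht : P.1 t = WithZero.exp (-1)) {V : Submodule k K} {f : K} (hf : f ∈ V) {j : ℕ}
    (hfj : P.1 f = WithZero.exp (-(j : ℤ))) :
    ∃ g ∈ V, P.1 g = WithZero.exp (-(j : ℤ)) ∧ evalP P (g / t ^ j) = 1 := by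
  have ht0 : t ≠ 0 := ff_uniformizer_ne_zero P ht
  have hu : P.1 (f / t ^ j) = 1 := by
    rw [map_div₀, map_pow, ht, ← WithZero.exp_nsmul, hfj]
    simp
  obtain ⟨c, hc⟩ := ff_exists_const_approx hK P hu.le
  have hc0 : c ≠ 0 := by
    rintro rfl
    rw [map_zero, sub_zero, hu] at hc
    exact lt_irrefl _ hc
  refine ⟨c⁻¹ • f, V.smul_mem _ hf, ?_, ?_⟩
  · rw [Algebra.smul_def, map_mul, ff_val_const P (inv_ne_zero hc0), one_mul, hfj]
  · have h1 : c⁻¹ • f / t ^ j = c⁻¹ • (f / t ^ j) := by rw [smul_div_assoc]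
    rw [h1, ff_evalP_smul P _ hu.le, (ff_evalP_eq_iff P hu.le (P.2.1 c)).mpr hc,
      ff_evalP_algebraMap, ← map_mul, inv_mul_cancel₀ hc0, map_one]

/-- A Hermite family: `1` together with functions of prescribed distinct positive orders and
leading coefficient `1`. -/
theorem ff_exists_hermite_family [IsAlgClosed k] (hK : IsFunctionField k K) (P : Place k K) {t : K}
    (ht : P.1 t = WithZero.exp (-1)) {V : Submodule k K} (h1V : (1 : K) ∈ V) {n : ℕ}
    (J' : Fin n → ℕ) (hJmono : StrictMono J') (hJpos : ∀ l, 1 ≤ J' l)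
    (hJex : ∀ l, ∃ f ∈ V, P.1 f = WithZero.exp (-(J' l : ℤ))) :
    ∃ ψ : Fin (n + 1) → K, (∀ i, ψ i ∈ V) ∧ ψ 0 = 1 ∧
      (∀ l : Fin n, P.1 (ψ l.succ) = WithZero.exp (-(J' l : ℤ)) ∧
        evalP P (ψ l.succ / t ^ J' l) = 1) ∧ LinearIndependent k ψ := by
  have hex : ∀ l, ∃ g ∈ V, P.1 g = WithZero.exp (-(J' l : ℤ)) ∧ evalP P (g / t ^ J' l) = 1 := by
    intro l
    obtain ⟨f, hf, hfj⟩ := hJex l
    exact ff_exists_hermite hK P ht hf hfj
  choose g hgV hgval hgev using hex
  obtain ⟨ψ, hψ0, hψs⟩ : ∃ ψ : Fin (n + 1) → K, ψ 0 = 1 ∧ ∀ l : Fin n, ψ l.succ = g l :=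
    ⟨Fin.cases 1 g, rfl, fun _ => rfl⟩
  obtain ⟨v, hv0, hvs⟩ : ∃ v : Fin (n + 1) → ℕ, v 0 = 0 ∧ ∀ l : Fin n, v l.succ = J' l :=
    ⟨Fin.cases 0 J', rfl, fun _ => rfl⟩
  refine ⟨ψ, ?_, hψ0, fun l => ⟨by rw [hψs]; exact hgval l, by rw [hψs]; exact hgev l⟩, ?_⟩
  · intro i
    induction i using Fin.cases with
    | zero => rw [hψ0]; exact h1V
    | succ l => rw [hψs]; exact hgV l
  · have hval : ∀ i : Fin (n + 1), P.1 (ψ i) = WithZero.exp (-(v i : ℤ)) := by
      intro i
      induction i using Fin.cases with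
      | zero => rw [hψ0, hv0]; simp
      | succ l => rw [hψs, hvs]; exact hgval l
    apply ff_linearIndependent_of_place_val_injective P
    · intro i hi
      have := hval i
      rw [hi, map_zero] at this
      exact WithZero.exp_ne_zero this.symm
    · intro i i' hii
      simp only [hval, WithZero.exp_inj, neg_inj, Nat.cast_inj] at hii
      induction i using Fin.cases with
      | zero =>
        induction i' using Fin.cases with
        | zero => rfl
        | succ l' =>
          have := hJpos l'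
          rw [hv0, hvs] at hii
          omega
      | succ l =>
        induction i' using Fin.cases with
        | zero =>
          have := hJpos l
          rw [hv0, hvs] at hii
          omega
        | succ l' =>
          rw [hvs, hvs] at hii
          rw [hJmono.injective hii]

/-- What the order sequence at `P` says in terms of orders of functions in the span. -/
theorem ff_isOrders_hcolAt [IsAlgClosed k] (hK : IsFunctionField k K) (P : Place k K) {t : K}
    (ht : P.1 t = WithZero.exp (-1)) (hH : IsHasseFamily t H) {ι : Type*} [Fintype ι] (φ : ι → K)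
    (hnorm : ∀ i, P.1 (φ i) ≤ 1) {n : ℕ} (J' : Fin n → ℕ)
    (hJ' : IsOrders (IsLocalRing.ResidueField P.O) (hcolAt P H φ) J') :
    StrictMono J' ∧ (∀ l, 1 ≤ J' l) ∧
      (∀ l, ∃ f ∈ Submodule.span k (Set.range φ), P.1 f = WithZero.exp (-(J' l : ℤ))) ∧
      ∀ j : ℕ, 1 ≤ j → (∃ f ∈ Submodule.span k (Set.range φ), P.1 f = WithZero.exp (-(j : ℤ))) →
        j ∈ Set.range J' := by
  have hiff := fun j => ff_isJump_hcolAt_iff H hK P ht hH φ hnorm j
  refine ⟨hJ'.1, fun l => ?_, fun l => ?_, fun j hj hf => ?_⟩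
  · exact ((hiff (J' l)).mp ((hJ'.2 (J' l)).mp ⟨l, rfl⟩)).1
  · exact ((hiff (J' l)).mp ((hJ'.2 (J' l)).mp ⟨l, rfl⟩)).2
  · exact (hJ'.2 j).mpr ((hiff j).mpr ⟨hj, hf⟩)


/-- Hermite basis of the span of an effective normalized tuple, and the description of the
orders at `P`. -/
theorem ff_hermite_basis [IsAlgClosed k] (hK : IsFunctionField k K) (P : Place k K) {n : ℕ}
    (φ : Fin (n + 1) → K) (hφ : LinearIndependent k φ)
    (heff : (1 : K) ∈ Submodule.span k (Set.range φ)) (hnorm : ∀ i, P.1 (φ i) ≤ 1)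
    {t : K} (ht : P.1 t = WithZero.exp (-1)) (hH : IsHasseFamily t H)
    (J' : Fin n → ℕ) (hJ' : IsOrders (IsLocalRing.ResidueField P.O) (hcolAt P H φ) J') :
    (∃ φ' : Fin (n + 1) → K,
      Submodule.span k (Set.range φ') = Submodule.span k (Set.range φ) ∧
      P.1 (φ' 0) = 1 ∧ evalP P (φ' 0) = 1 ∧
      ∀ l : Fin n, P.1 (φ' l.succ) = WithZero.exp (-(J' l : ℤ)) ∧
        evalP P (φ' l.succ / t ^ J' l) = 1) ∧
    ∀ j : ℕ, (j = 0 ∨ j ∈ Set.range J') ↔
      ∃ f ∈ Submodule.span k (Set.range φ), P.1 f = WithZero.exp (-(j : ℤ)) := by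
  obtain ⟨hmono, hpos, hex, hrange⟩ := ff_isOrders_hcolAt H hK P ht hH φ hnorm J' hJ'
  constructor
  · obtain ⟨ψ, hψV, hψ0, hψs, hψli⟩ :=
      ff_exists_hermite_family hK P ht heff J' hmono hpos hex
    refine ⟨ψ, ?_, by rw [hψ0, map_one], by rw [hψ0, ff_evalP_one], hψs⟩
    have hle : Submodule.span k (Set.range ψ) ≤ Submodule.span k (Set.range φ) := by
      rw [Submodule.span_le]
      rintro _ ⟨i, rfl⟩
      exact hψV i
    have : FiniteDimensional k (Submodule.span k (Set.range φ)) :=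
      FiniteDimensional.span_of_finite k (Set.finite_range φ)
    apply Submodule.eq_of_le_of_finrank_eq hle
    rw [finrank_span_eq_card hψli, finrank_span_eq_card hφ]
  · intro j
    constructor
    · rintro (rfl | ⟨l, rfl⟩)
      · exact ⟨1, heff, by simp⟩
      · exact hex l
    · intro hf
      rcases Nat.eq_zero_or_pos j with rfl | hj
      · exact Or.inl rfl
      · exact Or.inr (hrange j hj hf)

/-- A nonsingular effective normalized map has first order `1` at `P`. -/
theorem ff_first_order_of_nonsingular [IsAlgClosed k] (hK : IsFunctionField k K) (P : Place k K)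
    {n : ℕ} (hn : 0 < n) (φ : Fin (n + 1) → K)
    (heff : (1 : K) ∈ Submodule.span k (Set.range φ)) (hnorm : ∀ i, P.1 (φ i) ≤ 1)
    (hns : IsNonsingularAt φ P) {t : K} (ht : P.1 t = WithZero.exp (-1)) (hH : IsHasseFamily t H)
    (J' : Fin n → ℕ) (hJ' : IsOrders (IsLocalRing.ResidueField P.O) (hcolAt P H φ) J') :
    J' ⟨0, hn⟩ = 1 := by
  obtain ⟨hmono, hpos, hex, hrange⟩ := ff_isOrders_hcolAt H hK P ht hH φ hnorm J' hJ'
  have htle : P.1 t ≤ 1 := by
    rw [ht, ← WithZero.exp_zero, WithZero.exp_le_exp]; norm_num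
  have h1 : ∃ t' ∈ Submodule.span k (Set.range φ), P.1 t' = WithZero.exp (-1 : ℤ) :=
    (ff_exists_uniformizer_inLocRing_iff hK φ P heff hnorm).mp ⟨t, hns t htle, ht⟩
  obtain ⟨l, hl⟩ := hrange 1 le_rfl (by simpa using h1)
  have h2 : J' ⟨0, hn⟩ ≤ J' l := hmono.monotone (Fin.mk_le_of_le_val (Nat.zero_le _))
  have h3 := hpos ⟨0, hn⟩
  omega

end Groth.Agent.Lib.Helper55
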