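import Groth.Agent.Lib.Helper55.FunFld.HasseClassical

/-! Finiteness of ramification of a separating variable, via Hasse derivatives and Riemann–Roch. -/

namespace Groth.Agent.Lib.Helper55

open FunFld LocRes

variable {k K : Type*} [Field k] [Field K] [Algebra k K]

/-- A local parameter at a place where `s` is integral is separating: its first Hasse derivative
with respect to `s` does not vanish. -/
theorem ff_hasseD_uniformizer_ne_zero [IsAlgClosed k] (hK : IsFunctionField k K) {s : K}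
    (Hs : K →ₐ[k] PowerSeries K) (hHs : IsHasseFamily s Hs) (Q : Place k K) (hs : Q.1 s ≤ 1)
    {t : K} (ht : Q.1 t = WithZero.exp (-1)) : hasseD Hs 1 t ≠ 0 := by
  intro h0
  have hDs : hasseD Hs 1 s = 1 := by
    rw [ff_hasseD_gen Hs hHs]; simp
  have ht2 : hasseD Hs 1 (t ^ 2) = 0 := by
    rw [pow_two, ff_hasseD_mul', Finset.sum_range_succ, Finset.sum_range_one]
    simp only [Nat.sub_zero, Nat.sub_self]
    rw [h0]
    simp
  have hz : hasseD Hs 1 (s * t ^ 2) = t ^ 2 := by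
    rw [ff_hasseD_mul', Finset.sum_range_succ, Finset.sum_range_one]
    simp only [Nat.sub_zero, Nat.sub_self]
    rw [ht2, hDs, ff_hasseD_zero Hs hHs.2, ff_hasseD_zero Hs hHs.2]
    simp
  have ht0 : t ≠ 0 := by
    rintro rfl
    rw [map_zero] at ht
    exact WithZero.exp_ne_zero ht.symm
  have hlt : Q.1 (s * t ^ 2) < Q.1 t := by
    rw [map_mul, map_pow, ht, ← WithZero.exp_nsmul]
    calc Q.1 s * WithZero.exp (2 • (-1 : ℤ)) ≤ 1 * WithZero.exp (2 • (-1 : ℤ)) :=
          mul_le_mul' hs le_rfl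
      _ = WithZero.exp (-2) := by rw [one_mul]; rfl
      _ < WithZero.exp (-1) := WithZero.exp_lt_exp.mpr (by norm_num)
  have ht' : Q.1 (t + s * t ^ 2) = WithZero.exp (-1) := by
    rw [Valuation.map_add_eq_of_lt_left Q.1 hlt, ht]
  have hDt' : hasseD Hs 1 (t + s * t ^ 2) = t ^ 2 := by
    rw [ff_hasseD_add, h0, hz, zero_add]
  have hu : hasseD Hs 1 (t + s * t ^ 2) ≠ 0 := by
    rw [hDt']; exact pow_ne_zero _ ht0
  obtain ⟨Ht', σ, hHt', -⟩ := ff_exists_hasseFamily_subst Hs hHs.2 _ hu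
  have h1 := ff_hasseD_one_mul hK Hs Ht' hHs hHt'
  have h2 := ff_hasse_integral Ht' hK Q ht' hHt' 1 s hs
  have h3 := congrArg Q.1 h1
  rw [map_mul, map_one, hDt', map_pow, ht, ← WithZero.exp_nsmul] at h3
  have h4 : Q.1 (hasseD Ht' 1 s) * WithZero.exp (2 • (-1 : ℤ)) ≤ 1 * WithZero.exp (2 • (-1 : ℤ)) :=
    mul_le_mul' h2 le_rfl
  rw [h3, one_mul, ← WithZero.exp_zero, WithZero.exp_le_exp] at h4
  norm_num at h4

/-- If some local parameter at `Q` has integral first Hasse derivative with respect to `s`, and `s`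
is integral at `Q`, then `s - s(Q)` is a local parameter at `Q`. -/
theorem ff_unramified_of_val_hasseD_le [IsAlgClosed k] (hK : IsFunctionField k K) {s : K}
    (Hs : K →ₐ[k] PowerSeries K) (hHs : IsHasseFamily s Hs) (Q : Place k K) (hs : Q.1 s ≤ 1)
    {t : K} (ht : Q.1 t = WithZero.exp (-1)) (hDt : Q.1 (hasseD Hs 1 t) ≤ 1) :
    ∃ c : k, Q.1 (s - algebraMap k K c) = WithZero.exp (-1) := by
  have hu := ff_hasseD_uniformizer_ne_zero hK Hs hHs Q hs ht
  obtain ⟨Ht, σ, hHt, -⟩ := ff_exists_hasseFamily_subst Hs hHs.2 _ hu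
  have h1 := ff_hasseD_one_mul hK Hs Ht hHs hHt
  have h2 := ff_hasse_integral Ht hK Q ht hHt 1 s hs
  have h3 := congrArg Q.1 h1
  rw [map_mul, map_one] at h3
  have h4 : Q.1 (hasseD Ht 1 s) = 1 := by
    apply le_antisymm h2
    by_contra hlt
    push Not at hlt
    have : Q.1 (hasseD Ht 1 s) * Q.1 (hasseD Hs 1 t) ≤ Q.1 (hasseD Ht 1 s) * 1 :=
      mul_le_mul' le_rfl hDt
    rw [h3, mul_one] at this
    exact lt_irrefl _ (lt_of_le_of_lt this hlt)
  obtain ⟨c, hc⟩ := ff_exists_const_approx hK Q hs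
  refine ⟨c, ?_⟩
  have hy : Q.1 (s - algebraMap k K c) ≤ 1 := hc.le
  have := (ff_val_eq_exp_iff Ht hK Q ht hHt 1 hy).mpr ⟨?_, ?_⟩
  · simpa using this
  · intro i hi
    have hi0 : i = 0 := by omega
    subst hi0
    rw [ff_hasseD_zero Ht hHt.2, ff_evalP_eq_zero_iff Q hy]
    exact hc
  · rw [ff_hasseD_sub, ff_hasseD_algebraMap, if_neg one_ne_zero, sub_zero]
    rw [Ne, ff_evalP_eq_zero_iff Q h2, h4]
    exact lt_irrefl _

theorem ff_finite_poles_any (hK : IsFunctionField k K) (x : K) : {Q : Place k K | 1 < Q.1 x}.Finite := by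
  refine (ff_finite_support_ord hK x).subset ?_
  intro Q hQ
  rw [Set.mem_ofPred_eq] at hQ
  rw [Function.mem_support]
  have hx0 : x ≠ 0 := by
    rintro rfl
    rw [map_zero] at hQ
    exact not_lt.mpr zero_le hQ
  rw [ff_val_eq_exp_neg_ord Q hx0, ← WithZero.exp_zero, WithZero.exp_lt_exp] at hQ
  omega

/-- A separating variable is unramified outside a finite set of places: `s` is integral there and
`s - s(Q)` is a local parameter. -/
theorem ff_finite_ramified [IsAlgClosed k] (hK : IsFunctionField k K) {s : K}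
    (Hs : K →ₐ[k] PowerSeries K) (hHs : IsHasseFamily s Hs) :
    {Q : Place k K | ¬ (Q.1 s ≤ 1 ∧ ∃ c : k, Q.1 (s - algebraMap k K c) = WithZero.exp (-1))}.Finite := by
  classical
  obtain ⟨P₀⟩ := ff_nonempty_place hK
  set g := genus k K with hg
  set D₀ : Divisor k K := Finsupp.single P₀ (2 * (g : ℤ) + 1) with hD₀
  have hdeg1 : ∀ Q : Place k K, Q.deg = 1 := ff_deg_eq_one_of_isAlgClosed hK
  have hdegD₀ : D₀.deg = 2 * (g : ℤ) + 1 := by
    rw [hD₀, ff_deg_single, hdeg1]; simp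
  have hfd := ff_L_finiteDimensional hK D₀
  let b := Module.finBasis k (L D₀)
  have hSfin : ({P₀} ∪ {Q : Place k K | 1 < Q.1 s} ∪
      ⋃ i, {Q : Place k K | 1 < Q.1 (hasseD Hs 1 (b i : K))}).Finite :=
    ((Set.finite_singleton P₀).union (ff_finite_poles_any hK s)).union
      (Set.finite_iUnion fun i => ff_finite_poles_any hK _)
  refine hSfin.subset ?_
  intro Q hQ
  by_contra hQS
  apply hQ
  simp only [Set.mem_union, Set.mem_singleton_iff, Set.mem_ofPred_eq, Set.mem_iUnion, not_or,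
    not_exists, not_lt] at hQS
  obtain ⟨⟨hQP₀, hs⟩, hbi⟩ := hQS
  refine ⟨hs, ?_⟩
  have hD₀Q : D₀ Q = 0 := by
    rw [hD₀, Finsupp.single_apply, if_neg (Ne.symm hQP₀)]
  -- every function of `L D₀` has integral derivative at `Q`
  have hL : ∀ f ∈ L D₀, Q.1 (hasseD Hs 1 f) ≤ 1 := by
    intro f hf
    have h1 := b.sum_repr ⟨f, hf⟩
    have h2 : f = ∑ i, b.repr ⟨f, hf⟩ i • (b i : K) := by
      have h3 : ((∑ i, b.repr ⟨f, hf⟩ i • b i : L D₀) : K) = f := congrArg (Subtype.val) h1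
      refine h3.symm.trans ?_
      rw [Submodule.coe_sum]
      simp only [Submodule.coe_smul]
    rw [h2, ff_hasseD_sum]
    refine Valuation.map_sum_le Q.1 fun i _ => ?_
    rw [ff_hasseD_smul, Algebra.smul_def, map_mul]
    calc Q.1 (algebraMap k K _) * Q.1 (hasseD Hs 1 (b i : K)) ≤ 1 * 1 :=
          mul_le_mul' (Q.2.1 _) (hbi i)
      _ = 1 := one_mul 1
  -- Riemann–Roch gives functions of orders `0` and `1` at `Q`
  have hsingle : Divisor.deg (Finsupp.single Q (1 : ℤ) : Divisor k K) = 1 := by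
    rw [ff_deg_single, hdeg1]; simp
  have hell0 := ff_ell_eq_of_deg_ge hK D₀ (by rw [hdegD₀]; omega)
  have hell1 := ff_ell_eq_of_deg_ge hK (D₀ - Finsupp.single Q 1) (by
    rw [ff_deg_sub, hdegD₀, hsingle]; omega)
  have hell2 := ff_ell_eq_of_deg_ge hK (D₀ - Finsupp.single Q 1 - Finsupp.single Q 1) (by
    rw [ff_deg_sub, ff_deg_sub, hdegD₀, hsingle]; omega)
  rw [ff_deg_sub, hdegD₀, hsingle] at hell1
  rw [ff_deg_sub, ff_deg_sub, hdegD₀, hsingle] at hell2
  rw [hdegD₀] at hell0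
  obtain ⟨h, hhL, hhn⟩ := ff_exists_mem_not_mem_of_ell_lt hK
    (D := D₀ - Finsupp.single Q 1) (E := D₀) (by omega)
  obtain ⟨f, hfL, hfn⟩ := ff_exists_mem_not_mem_of_ell_lt hK
    (D := D₀ - Finsupp.single Q 1 - Finsupp.single Q 1) (E := D₀ - Finsupp.single Q 1) (by omega)
  rw [ff_mem_L_sub_single_iff] at hhn hfL hfn
  rw [ff_mem_L_sub_single_iff] at hfn
  have hhQ : Q.1 h = 1 := by
    have h1 : Q.1 h ≤ 1 := by
      have := (ff_mem_L_iff D₀ h).mp hhL Q
      rwa [hD₀Q, WithZero.exp_zero] at this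
    refine le_antisymm h1 ?_
    by_contra hlt
    push Not at hlt
    exact hhn ⟨hhL, by rwa [hD₀Q, WithZero.exp_zero]⟩
  obtain ⟨hfL0, hfQ⟩ := hfL
  rw [hD₀Q, WithZero.exp_zero] at hfQ
  have hfQ' : Q.1 f = WithZero.exp (-1) := by
    refine le_antisymm (ff_lt_one_iff.mp hfQ) ?_
    by_contra hlt
    push Not at hlt
    apply hfn
    refine ⟨⟨hfL0, by rwa [hD₀Q, WithZero.exp_zero]⟩, ?_⟩
    rw [Finsupp.sub_apply, hD₀Q, Finsupp.single_eq_same]
    exact hlt
  have hh0 : h ≠ 0 := by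
    rintro rfl
    rw [map_zero] at hhQ
    exact zero_ne_one hhQ
  -- the local parameter `t = f / h`
  have ht : Q.1 (f / h) = WithZero.exp (-1) := by
    rw [map_div₀, hhQ, div_one, hfQ']
  have hDf : hasseD Hs 1 f = f / h * hasseD Hs 1 h + hasseD Hs 1 (f / h) * h := by
    have h1 : f = f / h * h := by field_simp
    conv_lhs => rw [h1]
    rw [ff_hasseD_mul', Finset.sum_range_succ, Finset.sum_range_one]
    simp only [Nat.sub_zero, Nat.sub_self]
    rw [ff_hasseD_zero Hs hHs.2, ff_hasseD_zero Hs hHs.2]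
  have hDt : hasseD Hs 1 (f / h) = (hasseD Hs 1 f - f / h * hasseD Hs 1 h) / h := by
    rw [hDf]; field_simp; ring
  have hDtQ : Q.1 (hasseD Hs 1 (f / h)) ≤ 1 := by
    rw [hDt, map_div₀, hhQ, div_one]
    refine (Valuation.map_sub_le Q.1 (hL f hfL0) ?_)
    rw [map_mul, ht]
    calc WithZero.exp (-1) * Q.1 (hasseD Hs 1 h) ≤ 1 * 1 :=
          mul_le_mul' (by rw [← WithZero.exp_zero, WithZero.exp_le_exp]; norm_num) (hL h hhL)
      _ = 1 := one_mul 1
  exact ff_unramified_of_val_hasseD_le hK Hs hHs Q hs ht hDtQ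

end Groth.Agent.Lib.Helper55
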