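import Groth.Agent.Lib.Helper55.FunFld.ExpExist2

/-! The Stöhr–Voloch bound for strong fixed points (S12604). -/

set_option autoImplicit false

open FunFld Module LocRes

namespace Groth.Agent.Lib.Helper55

variable {k K : Type*} [Field k] [Field K] [Algebra k K]

theorem ff_isFixedPt_of_strong {τ : K →ₐ[k] K} {P : Place k K} (hS : IsStrongFixedPt τ P) :
    IsFixedPt τ P := by
  intro z hz
  refine lt_of_le_of_lt (hS z hz) ?_
  rw [← WithZero.exp_zero, WithZero.exp_lt_exp]; norm_num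

theorem ff_wDiv_ge_of_strongFixedPt [IsAlgClosed k] (hK : IsFunctionField k K) {n : ℕ}
    (hn : 0 < n) (φ : Fin (n + 1) → K) (hφ : LinearIndependent k φ) (τ : K →ₐ[k] K) (s : K)
    (Hs : K →ₐ[k] PowerSeries K) (hHs : IsHasseFamily s Hs) (J : Fin n → ℕ)
    (hJ : IsOrders K (hcol τ Hs φ) J) (Φ : Place k K → (K →ₐ[k] LaurentSeries k))
    (hΦ : ∀ P : Place k K, IsExpansionAt P.1 (Φ P)) (P : Place k K)
    (hS : IsStrongFixedPt τ P) : (n : ℤ) ≤ wDiv τ Hs Φ s φ J P := by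
  classical
  have hφ0 : ∀ i, φ i ≠ 0 := fun i => hφ.ne_zero i
  obtain ⟨j, hj⟩ := ff_exists_max_index φ P
  set y : K := (φ j)⁻¹ with hy
  have hy0 : y ≠ 0 := inv_ne_zero (hφ0 j)
  set φ' : Fin (n + 1) → K := fun i => y * φ i with hφ'
  have hvj : P.1 (φ j) ≠ 0 := (Valuation.ne_zero_iff _).mpr (hφ0 j)
  have hnorm : ∀ i, P.1 (φ' i) ≤ 1 := by
    intro i
    rw [hφ', map_mul, hy, map_inv₀]
    calc (P.1 (φ j))⁻¹ * P.1 (φ i) ≤ (P.1 (φ j))⁻¹ * P.1 (φ j) := mul_le_mul' le_rfl (hj i)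
      _ = 1 := inv_mul_cancel₀ hvj
  have h1 : φ' j = 1 := inv_mul_cancel₀ (hφ0 j)
  obtain ⟨t, ht, hu⟩ := ff_exists_sep_uniformizer Hs hHs P
  obtain ⟨Ht, σ, hHt, -⟩ := ff_exists_hasseFamily_subst Hs hHs.2 t hu
  have hinv := ff_wDiv_invariance hK φ hφ τ s Hs hHs t Ht hHt J hJ 1
    (by rw [Matrix.det_one]; exact one_ne_zero) y hy0 φ' (by
      intro i
      simp only [hφ', Matrix.one_apply, ite_smul, one_smul, zero_smul, Finset.sum_ite_eq,
        Finset.mem_univ, if_true]) Φ hΦ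
  rw [← hinv]
  have hφ'eq : φ' = y • φ := by
    funext i
    rw [Pi.smul_apply, smul_eq_mul]
  have hJ1 : IsOrders K (hcol τ Hs φ') J := by
    rw [hφ'eq]
    exact ((Groth.Agent.S12597.result k K hK φ hφ τ s Hs hHs y hy0).1 J).mpr hJ
  have hJ2 : IsOrders K (hcol τ Ht φ') J :=
    ((ff_orders_change_var hK φ' τ Hs Ht hHs hHt).1 J).mpr hJ1
  have hφ'li : LinearIndependent k φ' := by
    have := hφ.map' (LinearMap.mulLeft k y) (by
      rw [LinearMap.ker_eq_bot]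
      intro a b hab
      exact mul_left_cancel₀ hy0 hab)
    exact this
  have heff : (1 : K) ∈ Submodule.span k (Set.range φ') := Submodule.subset_span ⟨j, h1⟩
  obtain ⟨J', hJ'⟩ := ff_exists_local_orders hK P ht Ht hHt φ' hφ'li hnorm j (by rw [h1, map_one])
  have hP := ff_isFixedPt_of_strong hS
  have hc := (ff_wDiv_coeff Ht hK τ P hP φ' heff hnorm ht hHt J hJ2 J' hJ' Φ (hΦ P)).1
  have hle := ff_tau_orders_le Ht hK τ P hS hn φ' heff hnorm ht hHt J hJ2 J' hJ'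
  have hpos := (ff_isOrders_hcolAt Ht hK P ht hHt φ' hnorm J' hJ').2.1 ⟨0, hn⟩
  refine le_trans ?_ hc
  calc (n : ℤ) = ∑ _l : Fin n, (1 : ℤ) := by simp
    _ ≤ ∑ l, ((J' l : ℤ) - J l) := by
      refine Finset.sum_le_sum fun l _ => ?_
      have := hle l
      omega

theorem ff_strongFixedPt_bound [IsAlgClosed k] (hK : IsFunctionField k K) (τ : K →ₐ[k] K)
    {n : ℕ} (φ : Fin (n + 1) → K) (hφ : LinearIndependent k φ)
    (hτφ : ¬ ∃ y : K, ∀ i, τ (φ i) = y * φ i) (s : K) (H : K →ₐ[k] PowerSeries K)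
    (hH : IsHasseFamily s H) (J : Fin n → ℕ) (hJ : IsOrders K (hcol τ H φ) J) :
    {P : Place k K | IsStrongFixedPt τ P}.Finite ∧
    (n : ℤ) * (Set.ncard {P : Place k K | IsStrongFixedPt τ P} : ℤ) ≤
      ((n : ℤ) + Module.finrank τ.fieldRange K) * (mapDiv k φ).deg +
        (2 * (genus k K : ℤ) - 2) * ∑ l, (J l : ℤ) := by
  classical
  have hn : 0 < n := by
    by_contra h0
    have hn0 : n = 0 := by omega
    subst hn0
    apply hτφ
    refine ⟨τ (φ 0) / φ 0, fun i => ?_⟩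
    have hi : i = 0 := Fin.ext (by have := i.2; omega)
    subst hi
    rw [div_mul_cancel₀ _ (hφ.ne_zero 0)]
  obtain ⟨Φ, hΦ⟩ := ff_exists_expansions hK H hH
  set W := wDiv τ H Φ s φ J with hWdef
  have hW0 : 0 ≤ W := ff_wDiv_nonneg hK φ hφ τ s H hH J hJ Φ hΦ
  have hdeg := ff_deg_wDiv hK φ τ s H hH J Φ hΦ
  have hge : ∀ P : Place k K, IsStrongFixedPt τ P → (n : ℤ) ≤ W P := fun P hP =>
    ff_wDiv_ge_of_strongFixedPt hK hn φ hφ τ s H hH J hJ Φ hΦ P hP
  have hsub : {P : Place k K | IsStrongFixedPt τ P} ⊆ (W.support : Set (Place k K)) := by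
    intro P hP
    rw [Finset.mem_coe, Finsupp.mem_support_iff]
    have := hge P hP
    intro h0
    rw [h0] at this
    have : (n : ℤ) ≤ 0 := this
    omega
  have hfin : {P : Place k K | IsStrongFixedPt τ P}.Finite := W.support.finite_toSet.subset hsub
  refine ⟨hfin, ?_⟩
  rw [Set.ncard_eq_toFinset_card _ hfin]
  have hsub' : hfin.toFinset ⊆ W.support := by
    intro P hP
    rw [Set.Finite.mem_toFinset] at hP
    exact hsub hP
  have hdegW : W.deg = ∑ P ∈ W.support, W P * (P.deg : ℤ) := rfl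
  calc (n : ℤ) * (hfin.toFinset.card : ℤ) = ∑ _P ∈ hfin.toFinset, (n : ℤ) := by
        rw [Finset.sum_const, nsmul_eq_mul, mul_comm]
    _ ≤ ∑ P ∈ hfin.toFinset, W P * (P.deg : ℤ) := by
        refine Finset.sum_le_sum fun P hP => ?_
        rw [Set.Finite.mem_toFinset] at hP
        have h1 := hge P hP
        have h2 : (1 : ℤ) ≤ P.deg := by exact_mod_cast ff_deg_pos hK P
        nlinarith
    _ ≤ ∑ P ∈ W.support, W P * (P.deg : ℤ) := by
        refine Finset.sum_le_sum_of_subset_of_nonneg hsub' fun P _ _ => ?_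
        exact mul_nonneg (hW0 P) (Int.natCast_nonneg _)
    _ = W.deg := hdegW.symm
    _ = _ := by rw [hdeg]; ring

end Groth.Agent.Lib.Helper55
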