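import Groth.Agent.Lib.Helper55.FunFld.HasseWr

/-! Comparison of the `τ`-orders with the orders at a strong fixed point (local Stöhr–Voloch). -/

namespace Groth.Agent.Lib.Helper55

open FunFld LocRes Polynomial

theorem ff_binom_poly_lemma {F : Type*} [Field F] {s : ℕ} (Jr : Fin s → ℕ) (hinj : Function.Injective Jr)
    (m I : ℕ) (hm : ∀ r, m ≤ Jr r) (hI : ∀ r, Jr r ≤ I + m) (a : Fin s → F)
    (h : ∀ j ≤ I, ∑ r, a r * (((Jr r).choose j : ℕ) : F) = 0) : a = 0 := by
  classical
  set G : F[X] := ∑ r, C (a r) * (1 + X) ^ Jr r with hG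
  set G₀ : F[X] := ∑ r, C (a r) * (1 + X) ^ (Jr r - m) with hG₀
  have hGG₀ : G = G₀ * (1 + X) ^ m := by
    rw [hG, hG₀, Finset.sum_mul]
    refine Finset.sum_congr rfl fun r _ => ?_
    rw [mul_assoc, ← pow_add, Nat.sub_add_cancel (hm r)]
  have hdvd : X ^ (I + 1) ∣ G := by
    rw [X_pow_dvd_iff]
    intro d hd
    rw [hG, finsetSum_coeff]
    simp only [coeff_C_mul, coeff_one_add_X_pow]
    exact h d (Nat.lt_succ_iff.mp hd)
  have hcop : IsCoprime (X ^ (I + 1) : F[X]) ((1 + X) ^ m) := by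
    apply IsCoprime.pow
    exact ⟨-1, 1, by ring⟩
  have hdvd₀ : X ^ (I + 1) ∣ G₀ := by
    rw [hGG₀] at hdvd
    exact hcop.dvd_of_dvd_mul_right hdvd
  have hdeg : G₀.natDegree < (X ^ (I + 1) : F[X]).natDegree := by
    rw [natDegree_X_pow, Nat.lt_succ_iff]
    refine natDegree_sum_le_of_forall_le _ _ fun r _ => ?_
    refine (natDegree_C_mul_le _ _).trans ?_
    have h1 : (1 + X : F[X]).natDegree ≤ 1 := by
      rw [add_comm, ← C_1, natDegree_X_add_C]
    refine (natDegree_pow_le_of_le (Jr r - m) h1).trans ?_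
    have := hI r
    omega
  have hG₀0 : G₀ = 0 := eq_zero_of_dvd_of_natDegree_lt hdvd₀ hdeg
  have hcomp : ∑ r, C (a r) * X ^ (Jr r - m) = (0 : F[X]) := by
    have := congrArg (fun p => p.comp (X - 1)) hG₀0
    simp only [hG₀, zero_comp] at this
    rw [← this]
    rw [show (∑ r, C (a r) * (1 + X) ^ (Jr r - m) : F[X]).comp (X - 1) =
      ∑ r, (C (a r) * (1 + X) ^ (Jr r - m) : F[X]).comp (X - 1) from by
        simp [Polynomial.comp, eval₂_finsetSum]]
    refine Finset.sum_congr rfl fun r _ => ?_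
    rw [C_mul_comp, pow_comp, add_comp, one_comp, X_comp]
    ring
  funext r₀
  have := congrArg (fun p => p.coeff (Jr r₀ - m)) hcomp
  simp only [finsetSum_coeff, coeff_C_mul, coeff_X_pow, coeff_zero] at this
  rw [Finset.sum_eq_single r₀] at this
  · simpa using this
  · intro r _ hr
    rw [if_neg, mul_zero]
    intro heq
    apply hr
    apply hinj
    have := hm r; have := hm r₀
    omega
  · intro h; exact absurd (Finset.mem_univ _) h

theorem ff_span_eq_span_jumps {R M : Type*} [DivisionRing R] [AddCommGroup M] [Module R M]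
    (c : ℕ → M) (m : ℕ) :
    Submodule.span R (c '' Set.Iio m) = Submodule.span R (c '' {j | j < m ∧ IsJump R c j}) := by
  induction m with
  | zero => simp
  | succ m ih =>
    have hI : Set.Iio (m + 1) = insert m (Set.Iio m) := by
      ext j; simp only [Set.mem_Iio, Set.mem_insert_iff]; omega
    rw [hI, Set.image_insert_eq, Submodule.span_insert, ih]
    by_cases hj : IsJump R c m
    · have : {j | j < m + 1 ∧ IsJump R c j} = insert m {j | j < m ∧ IsJump R c j} := by
        ext j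
        simp only [Set.mem_ofPred_eq, Set.mem_insert_iff]
        constructor
        · rintro ⟨h1, h2⟩
          rcases Nat.lt_succ_iff_lt_or_eq.mp h1 with h | rfl
          · exact Or.inr ⟨h, h2⟩
          · exact Or.inl rfl
        · rintro (rfl | ⟨h1, h2⟩)
          · exact ⟨Nat.lt_succ_self _, hj⟩
          · exact ⟨Nat.lt_succ_of_lt h1, h2⟩
      rw [this, Set.image_insert_eq, Submodule.span_insert]
    · have : {j | j < m + 1 ∧ IsJump R c j} = {j | j < m ∧ IsJump R c j} := by
        ext j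
        simp only [Set.mem_ofPred_eq]
        constructor
        · rintro ⟨h1, h2⟩
          rcases Nat.lt_succ_iff_lt_or_eq.mp h1 with h | rfl
          · exact ⟨h, h2⟩
          · exact absurd h2 hj
        · rintro ⟨h1, h2⟩
          exact ⟨Nat.lt_succ_of_lt h1, h2⟩
      rw [this]
      unfold IsJump at hj
      push Not at hj
      rw [ih] at hj
      rw [sup_eq_right, Submodule.span_singleton_le_iff_mem]
      exact hj

theorem ff_finrank_span_le_of_isOrders {F V : Type*} [Field F] [AddCommGroup V] [Module F V]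
    (c : ℕ → V) {n : ℕ} (J : Fin n → ℕ) (hJ : IsOrders F c J) (I : ℕ) :
    Module.finrank F (Submodule.span F (c '' Set.Iio (I + 2))) ≤
      1 + (Finset.univ.filter fun l => J l ≤ I).card := by
  classical
  set T : Finset ℕ := insert 0 ((Finset.univ.filter fun l => J l ≤ I).image fun l => J l + 1)
    with hT
  have hsub : {j | j < I + 2 ∧ IsJump F c j} ⊆ (T : Set ℕ) := by
    rintro j ⟨hj, hjump⟩
    rcases j with _ | j
    · simp [hT]
    · obtain ⟨l, rfl⟩ := (hJ.2 j).mpr hjump
      rw [hT, Finset.coe_insert, Set.mem_insert_iff]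
      refine Or.inr ?_
      rw [Finset.mem_coe, Finset.mem_image]
      exact ⟨l, Finset.mem_filter.mpr ⟨Finset.mem_univ _, by omega⟩, rfl⟩
  have hle : Submodule.span F (c '' Set.Iio (I + 2)) ≤ Submodule.span F ((T.image c : Finset V) : Set V) := by
    rw [ff_span_eq_span_jumps, Finset.coe_image]
    exact Submodule.span_mono (Set.image_mono hsub)
  refine (Submodule.finrank_mono hle).trans ?_
  refine (finrank_span_finset_le_card _).trans ?_
  refine Finset.card_image_le.trans ?_
  refine (Finset.card_insert_le _ _).trans ?_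
  rw [add_comm]
  exact Nat.add_le_add_left Finset.card_image_le 1

variable {k K : Type*} [Field k] [Field K] [Algebra k K]
variable (H : K →ₐ[k] PowerSeries K)

theorem ff_evalP_sub (P : Place k K) {y z : K} (hy : P.1 y ≤ 1) (hz : P.1 z ≤ 1) :
    evalP P (y - z) = evalP P y - evalP P z := by
  have hyz : P.1 (y - z) ≤ 1 := (Valuation.map_sub _ _ _).trans (max_le hy hz)
  rw [eq_sub_iff_add_eq, ← ff_evalP_add P hyz hz, sub_add_cancel]

theorem ff_evalP_sum_mul_eq_zero (P : Place k K) {ι : Type*} [Fintype ι] (ν e : ι → K)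
    (hν : ∀ q, P.1 (ν q) ≤ 1) (he : ∀ q, P.1 (e q) ≤ 1) (h : ∑ q, ν q * e q = 0) :
    ∑ q, evalP P (ν q) * evalP P (e q) = 0 := by
  rw [← ff_evalP_zero P, ← h, ff_evalP_sum]
  · refine Finset.sum_congr rfl fun q _ => ?_
    rw [ff_evalP_mul P (hν q) (he q)]
  · intro q _
    rw [map_mul]
    exact (mul_le_mul' (hν q) (he q)).trans_eq (one_mul _)


/-- Core of the comparison: the rows `(τ g_q, D^0 g_q, …, D^I g_q)` of a Hermite family at a
strong fixed point are linearly independent over `K` as soon as `I ≥ j_r - j_1` for all `r`. -/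
theorem ff_sv_core [IsAlgClosed k] (hK : IsFunctionField k K) (τ : K →ₐ[k] K) (P : Place k K)
    (hS : IsStrongFixedPt τ P) {t : K} (ht : P.1 t = WithZero.exp (-1)) (hH : IsHasseFamily t H)
    {s : ℕ} (g : Fin (s + 1) → K) (hg0 : g 0 = 1) (Jr : Fin s → ℕ) (hJinj : Function.Injective Jr)
    (hJpos : ∀ r, 1 ≤ Jr r) (hgval : ∀ r, P.1 (g r.succ) = WithZero.exp (-(Jr r : ℤ)))
    (hgev : ∀ r, evalP P (g r.succ / t ^ Jr r) = 1)
    (m I : ℕ) (hm : ∀ r, m ≤ Jr r) (hI : ∀ r, Jr r ≤ I + m)
    (lam : Fin (s + 1) → K) (h0 : ∑ q, lam q * τ (g q) = 0)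
    (hj : ∀ j ≤ I, ∑ q, lam q * hasseD H j (g q) = 0) : lam = 0 := by
  classical
  by_contra hne
  have ht0 : t ≠ 0 := ff_uniformizer_ne_zero P ht
  have hP : IsFixedPt τ P := fun z hz => lt_of_le_of_lt (hS z hz) (by
    rw [← WithZero.exp_zero, WithZero.exp_lt_exp]; norm_num)
  obtain ⟨w, hw0, hws⟩ : ∃ w : Fin (s + 1) → K, w 0 = 1 ∧ ∀ r : Fin s, w r.succ = t ^ Jr r :=
    ⟨Fin.cases 1 fun r => t ^ Jr r, rfl, fun _ => rfl⟩
  have hwne : ∀ q, w q ≠ 0 := by
    intro q
    induction q using Fin.cases with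
    | zero => rw [hw0]; exact one_ne_zero
    | succ r => rw [hws]; exact pow_ne_zero _ ht0
  obtain ⟨μ, hμ⟩ : ∃ μ : Fin (s + 1) → K, ∀ q, μ q = lam q * w q := ⟨_, fun _ => rfl⟩
  obtain ⟨q₀, hq₀⟩ := ff_exists_max_index μ P
  have hμ0 : μ q₀ ≠ 0 := by
    intro h0'
    apply hne
    funext q
    have h1 : P.1 (μ q) ≤ P.1 (μ q₀) := hq₀ q
    rw [h0', map_zero, le_zero_iff, map_eq_zero, hμ] at h1
    exact (mul_eq_zero.mp h1).resolve_right (hwne q)
  obtain ⟨ν, hν⟩ : ∃ ν : Fin (s + 1) → K, ∀ q, ν q = μ q / μ q₀ := ⟨_, fun _ => rfl⟩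
  have hνle : ∀ q, P.1 (ν q) ≤ 1 := fun q => by
    rw [hν, map_div₀]
    exact div_le_one_of_le₀ (hq₀ q) zero_le
  have hνq₀ : ν q₀ = 1 := by rw [hν]; exact div_self hμ0
  have hu : ∀ r : Fin s, P.1 (g r.succ / t ^ Jr r) = 1 ∧
      g r.succ = t ^ Jr r * (g r.succ / t ^ Jr r) := by
    intro r
    constructor
    · rw [map_div₀, map_pow, ht, ← WithZero.exp_nsmul, hgval r]
      simp
    · field_simp
  have htransfer : ∀ (x e : Fin (s + 1) → K) (σ : K), (∀ q, x q * σ = w q * e q) →
      ∑ q, lam q * x q = 0 → ∑ q, ν q * e q = 0 := by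
    intro x e σ hxe hsum
    have h1 : ∑ q, ν q * e q = (σ / μ q₀) * ∑ q, lam q * x q := by
      rw [Finset.mul_sum]
      refine Finset.sum_congr rfl fun q _ => ?_
      rw [hν, hμ]
      calc lam q * w q / μ q₀ * e q = lam q * (w q * e q) / μ q₀ := by ring
        _ = lam q * (x q * σ) / μ q₀ := by rw [hxe]
        _ = σ / μ q₀ * (lam q * x q) := by ring
    rw [h1, hsum, mul_zero]
  -- the difference column
  obtain ⟨eA, heA0, heAs⟩ : ∃ eA : Fin (s + 1) → K, eA 0 = 0 ∧
      ∀ r : Fin s, eA r.succ = τ (g r.succ) / t ^ Jr r - g r.succ / t ^ Jr r :=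
    ⟨Fin.cases 0 fun r => τ (g r.succ) / t ^ Jr r - g r.succ / t ^ Jr r, rfl, fun _ => rfl⟩
  have hτg : ∀ r : Fin s, P.1 (τ (g r.succ) / t ^ Jr r) < 1 := by
    intro r
    have hfix := ff_fixedPt_pow_mul hK τ P hP ht (Jr r) (hu r).1.le
    rw [← (hu r).2] at hfix
    exact hfix.2 hS (hJpos r)
  have hA := htransfer (fun q => τ (g q) - g q) eA 1 (by
    intro q
    induction q using Fin.cases with
    | zero => simp [hg0, heA0]
    | succ r =>
      simp only [mul_one]
      rw [hws, heAs]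
      field_simp) (by
    have h1 := hj 0 (Nat.zero_le _)
    simp only [ff_hasseD_zero H hH.2] at h1
    simp only [mul_sub, Finset.sum_sub_distrib, h0, h1, sub_zero])
  have heAle : ∀ q, P.1 (eA q) ≤ 1 := by
    intro q
    induction q using Fin.cases with
    | zero => rw [heA0, map_zero]; exact zero_le
    | succ r =>
      rw [heAs]
      exact (Valuation.map_sub _ _ _).trans (max_le (hτg r).le (hu r).1.le)
  have hAres := ff_evalP_sum_mul_eq_zero P ν eA hνle heAle hA
  have heAev : ∀ r : Fin s, evalP P (eA r.succ) = -1 := by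
    intro r
    rw [heAs, ff_evalP_sub P (hτg r).le (hu r).1.le, hgev r,
      (ff_evalP_eq_zero_iff P (hτg r).le).mpr (hτg r), zero_sub]
  rw [Fin.sum_univ_succ, heA0, ff_evalP_zero, mul_zero, zero_add] at hAres
  simp only [heAev, mul_neg, mul_one, Finset.sum_neg_distrib, neg_eq_zero] at hAres
  -- the columns of Hasse derivatives
  have hexp : ∀ (j : ℕ) (r : Fin s), ∃ N' : K, P.1 N' ≤ 1 ∧
      hasseD H j (g r.succ) * t ^ j = t ^ Jr r * N' ∧
      evalP P N' = (((Jr r).choose j : ℕ) : IsLocalRing.ResidueField P.O) := by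
    intro j r
    obtain ⟨N', hN'le, hN'eq, hN'cong⟩ := ff_hasse_expansion H hK P ht hH (Jr r) j (hu r).1.le
    rw [← (hu r).2] at hN'eq
    refine ⟨N', hN'le, hN'eq, ?_⟩
    have hCu : P.1 (((Jr r).choose j : K) * (g r.succ / t ^ Jr r)) ≤ 1 := by
      rw [map_mul, (hu r).1, mul_one]
      exact ff_val_natCast_le P _
    rw [(ff_evalP_eq_iff P hN'le hCu).mpr hN'cong,
      ff_evalP_mul P (ff_val_natCast_le P _) (hu r).1.le, hgev r, mul_one, ff_evalP_natCast]
  choose Nrj hNle hNeq hNev using hexp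
  have hcol : ∀ j ≤ I, evalP P (ν 0) * (if j = 0 then 1 else 0) +
      ∑ r : Fin s, evalP P (ν r.succ) * (((Jr r).choose j : ℕ) : IsLocalRing.ResidueField P.O)
        = 0 := by
    intro j hjI
    obtain ⟨e, he0, hes⟩ : ∃ e : Fin (s + 1) → K, e 0 = (if j = 0 then 1 else 0) ∧
        ∀ r : Fin s, e r.succ = Nrj j r :=
      ⟨Fin.cases (if j = 0 then 1 else 0) fun r => Nrj j r, rfl, fun _ => rfl⟩
    have hcolj := htransfer (fun q => hasseD H j (g q)) e (t ^ j) (by
      intro q
      induction q using Fin.cases with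
      | zero =>
        simp only [hg0, ff_hasseD_one, he0, hw0, one_mul]
        split_ifs with h
        · rw [h, pow_zero, one_mul]
        · rw [zero_mul]
      | succ r =>
        show hasseD H j (g r.succ) * t ^ j = w r.succ * e r.succ
        rw [hws, hes, hNeq]) (hj j hjI)
    have hele : ∀ q, P.1 (e q) ≤ 1 := by
      intro q
      induction q using Fin.cases with
      | zero =>
        rw [he0]
        split_ifs
        · rw [map_one]
        · rw [map_zero]; exact zero_le
      | succ r => rw [hes]; exact hNle j r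
    have hres := ff_evalP_sum_mul_eq_zero P ν e hνle hele hcolj
    rw [Fin.sum_univ_succ, he0] at hres
    simp only [hes, hNev] at hres
    convert hres using 2
    split_ifs
    · rw [ff_evalP_one]
    · rw [ff_evalP_zero]
  have ha0 : evalP P (ν 0) = 0 := by
    have h1 := hcol 0 (Nat.zero_le _)
    simp only [if_true, mul_one, Nat.choose_zero_right, Nat.cast_one] at h1
    rw [hAres, add_zero] at h1
    exact h1
  have hpoly := ff_binom_poly_lemma Jr hJinj m I hm hI (fun r => evalP P (ν r.succ)) (by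
    intro j hjI
    have h1 := hcol j hjI
    rw [ha0, zero_mul, zero_add] at h1
    exact h1)
  have hall : ∀ q, evalP P (ν q) = 0 := by
    intro q
    induction q using Fin.cases with
    | zero => exact ha0
    | succ r => exact congrFun hpoly r
  have := hall q₀
  rw [hνq₀, ff_evalP_one] at this
  exact one_ne_zero this


/-- At a strong fixed point, the `τ`-orders are bounded by the orders at the point, shifted by
the first one. -/
theorem ff_tau_orders_le [IsAlgClosed k] (hK : IsFunctionField k K) (τ : K →ₐ[k] K)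
    (P : Place k K) (hS : IsStrongFixedPt τ P) {n : ℕ} (hn : 0 < n) (φ : Fin (n + 1) → K)
    (heff : (1 : K) ∈ Submodule.span k (Set.range φ)) (hnorm : ∀ i, P.1 (φ i) ≤ 1)
    {t : K} (ht : P.1 t = WithZero.exp (-1)) (hH : IsHasseFamily t H)
    (J : Fin n → ℕ) (hJ : IsOrders K (hcol τ H φ) J)
    (J' : Fin n → ℕ) (hJ' : IsOrders (IsLocalRing.ResidueField P.O) (hcolAt P H φ) J') :
    ∀ l, J l + J' ⟨0, hn⟩ ≤ J' l := by
  classical
  intro l₀
  obtain ⟨hmono, hpos, hex, -⟩ := ff_isOrders_hcolAt H hK P ht hH φ hnorm J' hJ'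
  obtain ⟨ψ, hψV, hψ0, hψs, -⟩ := ff_exists_hermite_family hK P ht heff J' hmono hpos hex
  have hmle : ∀ l, J' ⟨0, hn⟩ ≤ J' l := fun l =>
    hmono.monotone (Fin.mk_le_of_le_val (Nat.zero_le _))
  by_contra hlt
  push Not at hlt
  obtain ⟨I, hI⟩ : ∃ I, J' l₀ = I + J' ⟨0, hn⟩ := ⟨J' l₀ - J' ⟨0, hn⟩, by
    have := hmle l₀; omega⟩
  have hIJ : I < J l₀ := by omega
  have hs' : (l₀ : ℕ) + 1 ≤ n := l₀.2
  have hs : (l₀ : ℕ) + 1 + 1 ≤ n + 1 := Nat.succ_le_succ hs'
  obtain ⟨g, hg⟩ : ∃ g : Fin ((l₀ : ℕ) + 1 + 1) → K, ∀ q, g q = ψ (Fin.castLE hs q) :=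
    ⟨_, fun _ => rfl⟩
  obtain ⟨Jr, hJr⟩ : ∃ Jr : Fin ((l₀ : ℕ) + 1) → ℕ, ∀ r, Jr r = J' (Fin.castLE hs' r) :=
    ⟨_, fun _ => rfl⟩
  have hg0 : g 0 = 1 := by rw [hg, ← hψ0]; rfl
  have hgs : ∀ r : Fin ((l₀ : ℕ) + 1), g r.succ = ψ (Fin.castLE hs' r).succ := fun r => by
    rw [hg]; rfl
  have hJinj : Function.Injective Jr := by
    intro r r' h
    rw [hJr, hJr] at h
    exact Fin.castLE_injective hs' (hmono.injective h)
  have hJle : ∀ r, Jr r ≤ I + J' ⟨0, hn⟩ := by
    intro r
    rw [hJr, ← hI]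
    apply hmono.monotone
    rw [Fin.le_def]
    have := r.2
    simp only [Fin.val_castLE]
    omega
  -- transition coefficients
  have hA : ∀ q, ∃ a : Fin (n + 1) → k, g q = ∑ i, a i • φ i := fun q => by
    obtain ⟨a, ha⟩ := (Submodule.mem_span_range_iff_exists_fun k).mp (hψV (Fin.castLE hs q))
    exact ⟨a, by rw [hg]; exact ha.symm⟩
  choose A hA using hA
  let Λ : (Fin (n + 1) → K) →ₗ[K] (Fin ((l₀ : ℕ) + 1 + 1) → K) :=
    LinearMap.pi fun q => ∑ i, algebraMap k K (A q i) • LinearMap.proj i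
  have hΛ : ∀ v q, Λ v q = ∑ i, algebraMap k K (A q i) * v i := by
    intro v q
    simp only [Λ, LinearMap.pi_apply, LinearMap.sum_apply, LinearMap.smul_apply,
      LinearMap.proj_apply, smul_eq_mul]
  have hΛ0 : Λ (hcol τ H φ 0) = fun q => τ (g q) := by
    funext q
    rw [hΛ, hA q, map_sum]
    refine Finset.sum_congr rfl fun i _ => ?_
    rw [map_smul, Algebra.smul_def]
    rfl
  have hΛs : ∀ j, Λ (hcol τ H φ (j + 1)) = fun q => hasseD H j (g q) := by
    intro j
    funext q
    rw [hΛ, hA q, ff_hasseD_sum]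
    refine Finset.sum_congr rfl fun i _ => ?_
    rw [ff_hasseD_smul, Algebra.smul_def]
    rfl
  set W := Submodule.span K (hcol τ H φ '' Set.Iio (I + 2)) with hW
  have htop : W.map Λ = ⊤ := by
    by_contra hne
    obtain ⟨f, hf0, hfle⟩ := Submodule.exists_le_ker_of_lt_top _ (lt_top_iff_ne_top.mpr hne)
    obtain ⟨lam, hlam⟩ : ∃ lam : Fin ((l₀ : ℕ) + 1 + 1) → K,
        ∀ q, lam q = f fun q' => if q = q' then 1 else 0 := ⟨_, fun _ => rfl⟩
    have hf : ∀ v, f v = ∑ q, lam q * v q := by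
      intro v
      rw [LinearMap.pi_apply_eq_sum_univ f v]
      refine Finset.sum_congr rfl fun q _ => ?_
      rw [hlam, smul_eq_mul, mul_comm]
    have hker : ∀ j < I + 2, f (Λ (hcol τ H φ j)) = 0 := by
      intro j hj
      have : Λ (hcol τ H φ j) ∈ W.map Λ :=
        Submodule.mem_map_of_mem (Submodule.subset_span ⟨j, hj, rfl⟩)
      exact hfle this
    have h0 : ∑ q, lam q * τ (g q) = 0 := by
      have := hker 0 (by omega)
      rwa [hΛ0, hf] at this
    have hj : ∀ j ≤ I, ∑ q, lam q * hasseD H j (g q) = 0 := by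
      intro j hjI
      have := hker (j + 1) (by omega)
      rwa [hΛs, hf] at this
    have hlam0 := ff_sv_core H hK τ P hS ht hH g hg0 Jr hJinj
      (fun r => by rw [hJr]; exact hpos _)
      (fun r => by rw [hgs, hJr]; exact (hψs _).1)
      (fun r => by rw [hgs, hJr]; exact (hψs _).2)
      (J' ⟨0, hn⟩) I (fun r => by rw [hJr]; exact hmle _) hJle lam h0 hj
    apply hf0
    refine LinearMap.ext fun v => ?_
    rw [hf, hlam0]
    simp
  have h1 : Module.finrank K (W.map Λ) = (l₀ : ℕ) + 1 + 1 := by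
    rw [htop, finrank_top, Module.finrank_fin_fun]
  have h2 : Module.finrank K (W.map Λ) ≤ Module.finrank K W := Submodule.finrank_map_le Λ W
  have h3 : Module.finrank K W ≤ 1 + (Finset.univ.filter fun l => J l ≤ I).card :=
    ff_finrank_span_le_of_isOrders (hcol τ H φ) J hJ I
  have h4 : (Finset.univ.filter fun l => J l ≤ I).card ≤ (l₀ : ℕ) := by
    rw [← Fin.card_Iio l₀]
    apply Finset.card_le_card
    intro l hl
    rw [Finset.mem_filter] at hl
    rw [Finset.mem_Iio]
    by_contra hge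
    push Not at hge
    have := hJ.1.monotone hge
    omega
  omega

end Groth.Agent.Lib.Helper55
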