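import Groth.Agent.Lib.Helper55.FunFld.HasseExist

/-! In characteristic zero a linear system has only finitely many points with a section vanishing
to order beyond its dimension; finiteness of torsion on genus one. -/

namespace Groth.Agent.Lib.Helper55

open FunFld LocRes IntermediateField

variable {k K : Type*} [Field k] [Field K] [Algebra k K]

theorem ff_exists_hasseFamily_of_charZero [CharZero k] (hK : IsFunctionField k K) {s : K}
    (hs : Transcendental k s) : ∃ H : K →ₐ[k] PowerSeries K, IsHasseFamily s H := by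
  have := ff_finite_of_transcendental hK hs
  have : CharZero k⟮s⟯ := charZero_of_injective_algebraMap (algebraMap k k⟮s⟯).injective
  exact ff_exists_hasseFamily_of_isSeparable hs

/-- If the Wronskian at the orders `J` is a unit at `P`, the orders at `P` are `J`. -/
theorem ff_local_orders_eq_of_val_eq_one [IsAlgClosed k] (hK : IsFunctionField k K) (τ : K →ₐ[k] K)
    (P : Place k K) (hP : IsFixedPt τ P) {n : ℕ} (φ : Fin (n + 1) → K)
    (heff : (1 : K) ∈ Submodule.span k (Set.range φ)) (hnorm : ∀ i, P.1 (φ i) ≤ 1) {t : K}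
    (ht : P.1 t = WithZero.exp (-1)) (H : K →ₐ[k] PowerSeries K) (hH : IsHasseFamily t H)
    (J : Fin n → ℕ) (hJ : IsOrders K (hcol τ H φ) J) (J' : Fin n → ℕ)
    (hJ' : IsOrders (IsLocalRing.ResidueField P.O) (hcolAt P H φ) J')
    (h1 : P.1 (wrMat τ H φ J).det = 1) : ∀ l, J' l = J l := by
  have ha := ff_tau_orders_le_local hK τ P hP φ heff hnorm ht H hH J hJ J' hJ'
  obtain ⟨hle, -⟩ := ff_wronskian_order H hK τ P hP φ heff hnorm ht hH J' hJ' J
  rw [h1, ← WithZero.exp_zero, WithZero.exp_le_exp] at hle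
  have hsum : ∑ l, ((J' l : ℤ) - J l) = 0 := by
    have : 0 ≤ ∑ l, ((J' l : ℤ) - J l) :=
      Finset.sum_nonneg fun l _ => by have := ha l; omega
    omega
  intro l
  have := (Finset.sum_eq_zero_iff_of_nonneg (fun l _ => by have := ha l; omega)).mp hsum l
    (Finset.mem_univ l)
  omega

/-- In characteristic zero, only finitely many places carry a function of the linear system
vanishing to order greater than `n`. -/
theorem ff_finite_high_order [IsAlgClosed k] [CharZero k] (hK : IsFunctionField k K) {n : ℕ}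
    (φ : Fin (n + 1) → K) (hφ : LinearIndependent k φ)
    (heff : (1 : K) ∈ Submodule.span k (Set.range φ)) :
    {Q : Place k K | (∀ i, Q.1 (φ i) ≤ 1) ∧ ∃ f ∈ Submodule.span k (Set.range φ), ∃ j : ℕ,
      n < j ∧ Q.1 f = WithZero.exp (-(j : ℤ))}.Finite := by
  obtain ⟨s, hs, -⟩ := hK.1
  obtain ⟨Hs, hHs⟩ := ff_exists_hasseFamily_of_charZero hK hs
  obtain ⟨P₀⟩ := ff_nonempty_place hK
  have hchar : ringChar k = 0 := ringChar.eq_zero
  have hJ := ff_isOrders_classical hK φ hφ (Or.inl hchar) (AlgHom.id k K) Hs hHs P₀ 1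
    (Or.inl ⟨rfl, rfl⟩)
  have hW := ff_wrMat_det_ne_zero Hs (AlgHom.id k K) φ ⟨0, hφ.ne_zero 0⟩ _ hJ
  refine ((ff_finite_ramified hK Hs hHs).union
    (ff_finite_support_ord hK (wrMat (AlgHom.id k K) Hs φ fun l : Fin n => 1 + (l : ℕ)).det)).subset ?_
  rintro Q ⟨hnorm, f, hf, j, hj, hQf⟩
  by_contra hQS
  rw [Set.mem_union, not_or, Set.mem_ofPred_eq, not_not, Function.mem_support, not_not] at hQS
  obtain ⟨⟨hs1, c, hc⟩, hordW⟩ := hQS
  have hHt : IsHasseFamily (s - algebraMap k K c) Hs := by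
    refine ⟨?_, hHs.2⟩
    rw [map_sub, hHs.1, AlgHom.commutes, PowerSeries.algebraMap_apply, map_sub]
    ring
  have hW1 : Q.1 (wrMat (AlgHom.id k K) Hs φ fun l : Fin n => 1 + (l : ℕ)).det = 1 := by
    rw [ff_val_eq_exp_neg_ord Q hW, hordW, neg_zero, WithZero.exp_zero]
  obtain ⟨i₀, hi₀⟩ := ff_exists_unit_entry Q φ heff hnorm
  obtain ⟨J', hJ'⟩ := ff_exists_local_orders hK Q hc Hs hHt φ hφ hnorm i₀ hi₀
  have heq := ff_local_orders_eq_of_val_eq_one hK (AlgHom.id k K) Q (fun z hz => hz) φ heff hnorm hc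
    Hs hHt _ hJ J' hJ' hW1
  obtain ⟨-, -, -, hrange⟩ := ff_isOrders_hcolAt Hs hK Q hc hHt φ hnorm J' hJ'
  obtain ⟨l, hl⟩ := hrange j (by omega) ⟨f, hf, hQf⟩
  rw [heq l] at hl
  have := l.2
  omega

end Groth.Agent.Lib.Helper55
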