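import Groth.Agent.Lib.Helper55.FunFld.HasseRank
import Mathlib.FieldTheory.PurelyInseparable.Basic

/-! Uniqueness of total Hasse derivatives on a function field: two `k`-algebra homomorphisms
`K → K[[X]]` lifting the identity and agreeing at a transcendental element are equal. -/

namespace Groth.Agent.Lib.Helper55

open FunFld LocRes Polynomial

variable {k K : Type*} [Field k] [Field K] [Algebra k K]

/-- Agreement on a subfield propagates to separable elements over it. -/
theorem ff_powerSeriesHom_eq_of_isSeparable (H H' : K →ₐ[k] PowerSeries K)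
    (hc : ∀ y : K, PowerSeries.constantCoeff (H y) = y)
    (hc' : ∀ y : K, PowerSeries.constantCoeff (H' y) = y)
    (E₀ : IntermediateField k K) (hE₀ : ∀ y ∈ E₀, H y = H' y) {z : K} (hz : IsSeparable E₀ z) :
    H z = H' z := by
  set f := minpoly E₀ z with hf
  have hfz : aeval z f = 0 := minpoly.aeval E₀ z
  have hder : aeval z (derivative f) ≠ 0 := hz.aeval_derivative_ne_zero hfz
  let ι : E₀ →+* K := algebraMap E₀ K
  let hH : E₀ →+* PowerSeries K := H.toRingHom.comp ι
  let hH' : E₀ →+* PowerSeries K := H'.toRingHom.comp ι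
  have hHH' : hH = hH' := by
    ext y : 1
    exact hE₀ y y.2
  set fH : (PowerSeries K)[X] := f.map hH with hfH
  have h1 : fH.eval (H z) = 0 := by
    rw [hfH, eval_map]
    have h2 : eval₂ hH (H z) f = H (aeval z f) := (hom_eval₂ f ι H.toRingHom z).symm
    rw [h2, hfz, map_zero]
  have h1' : fH.eval (H' z) = 0 := by
    rw [hfH, hHH', eval_map]
    have h2 : eval₂ hH' (H' z) f = H' (aeval z f) := (hom_eval₂ f ι H'.toRingHom z).symm
    rw [h2, hfz, map_zero]
  obtain ⟨κ, hκ⟩ := binomExpansion fH (H' z) (H z - H' z)
  rw [add_sub_cancel, h1, h1', zero_add] at hκ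
  have hfac : (H z - H' z) * (eval (H' z) (derivative fH) + κ * (H z - H' z)) = 0 := by
    rw [hκ]; ring
  rcases mul_eq_zero.mp hfac with h | h
  · exact sub_eq_zero.mp h
  · exfalso
    apply hder
    have h3 := congrArg (PowerSeries.constantCoeff (R := K)) h
    rw [map_add, map_mul, map_sub, hc, hc', sub_self, mul_zero, add_zero, map_zero] at h3
    have h4 : PowerSeries.constantCoeff (eval (H' z) (derivative fH)) =
        aeval z (derivative f) := by
      rw [hfH, derivative_map, eval_map]
      have := hom_eval₂ (derivative f) hH (PowerSeries.constantCoeff (R := K)) (H' z)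
      rw [this, hc']
      have h5 : (PowerSeries.constantCoeff (R := K)).comp hH = ι := by
        ext y : 1
        exact hc _
      rw [h5]
      rfl
    rw [← h4, h3]

/-- Uniqueness of total Hasse derivatives. -/
theorem ff_powerSeriesHom_ext (hK : IsFunctionField k K) {s : K} (hs : Transcendental k s)
    (H H' : K →ₐ[k] PowerSeries K)
    (hc : ∀ y : K, PowerSeries.constantCoeff (H y) = y)
    (hc' : ∀ y : K, PowerSeries.constantCoeff (H' y) = y) (hss : H s = H' s) : H = H' := by
  classical
  have hH0 : ∀ x : K, x ≠ 0 → H x ≠ 0 := by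
    intro x hx h0
    apply hx
    rw [← hc x, h0, map_zero]
  let E : IntermediateField k K := Subalgebra.toIntermediateField (AlgHom.equalizer H H') (by
    intro x hx
    rw [AlgHom.mem_equalizer] at hx ⊢
    by_cases hx0 : x = 0
    · rw [hx0, inv_zero]; simp
    · have h1 : H x⁻¹ * H x = 1 := by rw [← map_mul, inv_mul_cancel₀ hx0, map_one]
      have h2 : H' x⁻¹ * H x = 1 := by rw [hx, ← map_mul, inv_mul_cancel₀ hx0, map_one]
      exact mul_right_cancel₀ (hH0 x hx0) (h1.trans h2.symm))
  have hsE : IntermediateField.adjoin k ({s} : Set K) ≤ E := by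
    rw [IntermediateField.adjoin_le_iff]
    rintro _ rfl
    exact hss
  have hE₀ : ∀ y ∈ IntermediateField.adjoin k ({s} : Set K), H y = H' y := fun y hy => hsE hy
  have hfin := ff_finite_of_transcendental hK hs
  have halg : Algebra.IsAlgebraic (IntermediateField.adjoin k ({s} : Set K)) K :=
    Algebra.IsAlgebraic.of_finite _ _
  obtain ⟨q, hq⟩ := ExpChar.exists k
  have hqE : ExpChar (IntermediateField.adjoin k ({s} : Set K)) q :=
    expChar_of_injective_algebraMap (FaithfulSMul.algebraMap_injective k _) q
  have hqS : ExpChar (separableClosure (IntermediateField.adjoin k ({s} : Set K)) K) q :=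
    expChar_of_injective_algebraMap (FaithfulSMul.algebraMap_injective k _) q
  have hqR : ExpChar (PowerSeries K) q :=
    expChar_of_injective_algebraMap (FaithfulSMul.algebraMap_injective k _) q
  have hpi : IsPurelyInseparable (separableClosure (IntermediateField.adjoin k ({s} : Set K)) K) K :=
    separableClosure.isPurelyInseparable _ K
  refine AlgHom.ext fun y => ?_
  obtain ⟨n, ⟨z, hz⟩⟩ := IsPurelyInseparable.pow_mem
    (separableClosure (IntermediateField.adjoin k ({s} : Set K)) K) q y
  have hzsep : IsSeparable (IntermediateField.adjoin k ({s} : Set K)) (y ^ q ^ n) := by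
    rw [← hz]
    exact mem_separableClosure_iff.mp z.2
  have h1 := ff_powerSeriesHom_eq_of_isSeparable H H' hc hc' _ hE₀ hzsep
  rw [map_pow, map_pow] at h1
  exact iterateFrobenius_inj (PowerSeries K) q n h1

end Groth.Agent.Lib.Helper55
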