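import Groth.Agent.Lib.Helper55.FunFld.HasseLocal
import Mathlib.LinearAlgebra.Matrix.ToLinearEquiv

/-! Order of the Wronskian-type determinant at a fixed point (local Stöhr–Voloch estimate). -/

namespace Groth.Agent.Lib.Helper55

open FunFld LocRes

variable {k K : Type*} [Field k] [Field K] [Algebra k K]
variable (H : K →ₐ[k] PowerSeries K)

theorem ff_wrMat_zero (τ : K →ₐ[k] K) {n : ℕ} (φ : Fin (n + 1) → K) (I : Fin n → ℕ)
    (i : Fin (n + 1)) : wrMat τ H φ I i 0 = τ (φ i) := rfl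

theorem ff_wrMat_succ (τ : K →ₐ[k] K) {n : ℕ} (φ : Fin (n + 1) → K) (I : Fin n → ℕ)
    (i : Fin (n + 1)) (l : Fin n) : wrMat τ H φ I i l.succ = hasseD H (I l) (φ i) := by
  simp [wrMat]

theorem ff_wrMat_lincomb (τ : K →ₐ[k] K) {n : ℕ} (φ ψ : Fin (n + 1) → K)
    (A : Matrix (Fin (n + 1)) (Fin (n + 1)) k) (hA : ∀ r, ψ r = ∑ i, A r i • φ i)
    (I : Fin n → ℕ) :
    wrMat τ H ψ I = (A.map (algebraMap k K)) * wrMat τ H φ I := by
  ext r c
  rw [Matrix.mul_apply]
  induction c using Fin.cases with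
  | zero =>
    simp only [ff_wrMat_zero, Matrix.map_apply]
    rw [hA r, map_sum]
    refine Finset.sum_congr rfl fun i _ => ?_
    rw [map_smul, Algebra.smul_def]
  | succ l =>
    simp only [ff_wrMat_succ, Matrix.map_apply]
    rw [hA r, ff_hasseD_sum]
    refine Finset.sum_congr rfl fun i _ => ?_
    rw [ff_hasseD_smul, Algebra.smul_def]

/-- The transition matrix between two linearly independent families, one in the span of the other,
has nonzero determinant. -/
theorem ff_det_ne_zero_of_lincomb {m : ℕ} (φ ψ : Fin m → K) (hψ : LinearIndependent k ψ)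
    (A : Matrix (Fin m) (Fin m) k) (hA : ∀ r, ψ r = ∑ i, A r i • φ i) : A.det ≠ 0 := by
  intro hdet
  obtain ⟨v, hv0, hv⟩ := Matrix.exists_vecMul_eq_zero_iff.mpr hdet
  apply hv0
  have hsum : ∑ r, v r • ψ r = 0 := by
    simp only [hA, Finset.smul_sum, smul_smul]
    rw [Finset.sum_comm]
    refine Finset.sum_eq_zero fun i _ => ?_
    rw [← Finset.sum_smul]
    have : ∑ r, v r * A r i = 0 := by
      have := congrFun hv i
      simpa [Matrix.vecMul, dotProduct] using this
    rw [this, zero_smul]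
  funext r
  exact Fintype.linearIndependent_iff.mp hψ v hsum r

theorem ff_det_of_first_row {R : Type*} [CommRing R] {n : ℕ}
    (M : Matrix (Fin (n + 1)) (Fin (n + 1)) R) (h00 : M 0 0 = 1)
    (h0 : ∀ s : Fin n, M 0 s.succ = 0) : M.det = (M.submatrix Fin.succ Fin.succ).det := by
  rw [Matrix.det_succ_row_zero, Fin.sum_univ_succ]
  simp [h00, h0]

theorem ff_det_of_first_col {R : Type*} [CommRing R] {n : ℕ}
    (M : Matrix (Fin (n + 1)) (Fin (n + 1)) R) (h00 : M 0 0 = 1)
    (h0 : ∀ r : Fin n, M r.succ 0 = 0) : M.det = (M.submatrix Fin.succ Fin.succ).det := by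
  rw [Matrix.det_succ_column_zero, Fin.sum_univ_succ]
  simp [h00, h0]

/-- The determinant of a matrix with integral entries is integral, and its value at `P` is the
determinant of the matrix of values. -/
theorem ff_evalP_det (P : Place k K) {m : ℕ} (N : Matrix (Fin m) (Fin m) K)
    (hN : ∀ r c, P.1 (N r c) ≤ 1) :
    P.1 N.det ≤ 1 ∧ evalP P N.det = (Matrix.of fun r c => evalP P (N r c)).det := by
  let N₀ : Matrix (Fin m) (Fin m) P.O := Matrix.of fun r c =>
    ⟨N r c, (Valuation.mem_valuationSubring_iff P.1 _).mpr (hN r c)⟩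
  have hN₀ : N = N₀.map P.O.subtype := by
    ext r c; rfl
  have hdet : N.det = P.O.subtype N₀.det := by
    rw [hN₀, ← RingHom.mapMatrix_apply, ← RingHom.map_det]
  have hle : P.1 N.det ≤ 1 := by
    rw [hdet]
    exact (Valuation.mem_valuationSubring_iff P.1 _).mp N₀.det.2
  refine ⟨hle, ?_⟩
  rw [ff_evalP_of_le P hle]
  have h1 : (⟨N.det, (Valuation.mem_valuationSubring_iff P.1 _).mpr hle⟩ : P.O) = N₀.det :=
    Subtype.ext hdet
  rw [h1, RingHom.map_det]
  congr 1
  ext r c
  simp only [RingHom.mapMatrix_apply, Matrix.map_apply, Matrix.of_apply]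
  rw [ff_evalP_of_le P (hN r c)]
  rfl

theorem ff_evalP_natCast (P : Place k K) (m : ℕ) :
    evalP P ((m : ℕ) : K) = ((m : ℕ) : IsLocalRing.ResidueField P.O) := by
  have := ff_evalP_algebraMap P ((m : ℕ) : k)
  rwa [map_natCast, map_natCast] at this

/-- A fixed point: the endomorphism preserves the valuation ring. -/
theorem ff_fixedPt_val_le [IsAlgClosed k] (hK : IsFunctionField k K) (τ : K →ₐ[k] K)
    (P : Place k K) (hP : IsFixedPt τ P) {z : K} (hz : P.1 z ≤ 1) : P.1 (τ z) ≤ 1 := by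
  obtain ⟨c, hc⟩ := ff_exists_const_approx hK P hz
  have h1 : τ z = τ (z - algebraMap k K c) + algebraMap k K c := by
    rw [map_sub, τ.commutes, sub_add_cancel]
  rw [h1]
  exact (P.1.map_add _ _).trans (max_le (hP _ hc).le (P.2.1 c))

/-- At a fixed point, `τ (t^J u) = t^J ν` with `ν` integral; at a strong fixed point with
`J ≥ 1`, `ν` is in the maximal ideal. -/
theorem ff_fixedPt_pow_mul [IsAlgClosed k] (hK : IsFunctionField k K) (τ : K →ₐ[k] K)
    (P : Place k K) (hP : IsFixedPt τ P) {t : K} (ht : P.1 t = WithZero.exp (-1)) (J : ℕ)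
    {u : K} (hu : P.1 u ≤ 1) :
    P.1 (τ (t ^ J * u) / t ^ J) ≤ 1 ∧
      (IsStrongFixedPt τ P → 1 ≤ J → P.1 (τ (t ^ J * u) / t ^ J) < 1) := by
  have ht0 : t ≠ 0 := ff_uniformizer_ne_zero P ht
  have htlt : P.1 t < 1 := by
    rw [ht, ← WithZero.exp_zero, WithZero.exp_lt_exp]; norm_num
  have hτu := ff_fixedPt_val_le hK τ P hP hu
  have hτt : P.1 (τ t / t) ≤ 1 := by
    rw [map_div₀, ht, div_le_iff₀ (by exact WithZero.exp_pos), one_mul, ← ff_lt_one_iff]
    exact hP t htlt
  have heq : τ (t ^ J * u) / t ^ J = (τ t / t) ^ J * τ u := by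
    rw [map_mul, map_pow, div_pow]
    field_simp
  rw [heq, map_mul, map_pow]
  refine ⟨(mul_le_mul' (pow_le_one' hτt J) hτu).trans_eq (one_mul _), fun hS hJ => ?_⟩
  have hτt' : P.1 (τ t / t) < 1 := by
    rw [map_div₀, ht, div_lt_iff₀ (by exact WithZero.exp_pos), one_mul]
    refine lt_of_le_of_lt (hS t htlt) ?_
    rw [WithZero.exp_lt_exp]; norm_num
  have hpow : P.1 (τ t / t) ^ J < 1 := pow_lt_one' hτt' (by omega)
  calc P.1 (τ t / t) ^ J * P.1 (τ u) ≤ P.1 (τ t / t) ^ J * 1 := mul_le_mul' le_rfl hτu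
    _ = P.1 (τ t / t) ^ J := mul_one _
    _ < 1 := hpow


theorem ff_exp_sum {ι : Type*} (s : Finset ι) (f : ι → ℤ) :
    WithZero.exp (∑ x ∈ s, f x) = ∏ x ∈ s, WithZero.exp (f x) := by
  classical
  induction s using Finset.induction_on with
  | empty => simp
  | insert a s ha ih => rw [Finset.sum_insert ha, Finset.prod_insert ha, WithZero.exp_add, ih]

theorem ff_val_prod_cases (P : Place k K) {t : K} (ht : P.1 t = WithZero.exp (-1)) {n : ℕ}
    (I : Fin n → ℕ) (tI : Fin (n + 1) → K) (h0 : tI 0 = 1) (hs : ∀ s : Fin n, tI s.succ = t ^ I s) :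
    P.1 (∏ c, tI c) = WithZero.exp (-(∑ l, (I l : ℤ))) := by
  rw [Fin.prod_univ_succ, h0, one_mul, map_prod]
  simp only [hs, map_pow, ht, ← WithZero.exp_nsmul]
  rw [← Finset.sum_neg_distrib, ff_exp_sum]
  refine Finset.prod_congr rfl fun l _ => ?_
  simp

/-- Local Stöhr–Voloch estimate for the order of the Wronskian-type determinant at a fixed point. -/
theorem ff_wronskian_order [IsAlgClosed k] (hK : IsFunctionField k K) (τ : K →ₐ[k] K)
    (P : Place k K) (hP : IsFixedPt τ P) {n : ℕ} (φ : Fin (n + 1) → K)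
    (heff : (1 : K) ∈ Submodule.span k (Set.range φ)) (hnorm : ∀ i, P.1 (φ i) ≤ 1)
    {t : K} (ht : P.1 t = WithZero.exp (-1)) (hH : IsHasseFamily t H)
    (J : Fin n → ℕ) (hJ : IsOrders (IsLocalRing.ResidueField P.O) (hcolAt P H φ) J)
    (I : Fin n → ℕ) :
    P.1 (wrMat τ H φ I).det ≤ WithZero.exp (-(∑ l, ((J l : ℤ) - I l))) ∧
    (((∀ l, 0 < I l) ∨ IsStrongFixedPt τ P) →
      (P.1 (wrMat τ H φ I).det = WithZero.exp (-(∑ l, ((J l : ℤ) - I l))) ↔
        (binomMat k J I).det ≠ 0)) := by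
  classical
  have ht0 : t ≠ 0 := ff_uniformizer_ne_zero P ht
  obtain ⟨hmono, hpos, hex, -⟩ := ff_isOrders_hcolAt H hK P ht hH φ hnorm J hJ
  obtain ⟨ψ, hψV, hψ0, hψs, hψli⟩ := ff_exists_hermite_family hK P ht heff J hmono hpos hex
  have hA : ∀ r, ∃ a : Fin (n + 1) → k, ψ r = ∑ i, a i • φ i := fun r => by
    obtain ⟨a, ha⟩ := (Submodule.mem_span_range_iff_exists_fun k).mp (hψV r)
    exact ⟨a, ha.symm⟩
  choose A hA using hA
  have hdetA := ff_det_ne_zero_of_lincomb φ ψ hψli (Matrix.of A) hA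
  have hwr := ff_wrMat_lincomb H τ φ ψ (Matrix.of A) hA I
  have hdet : (wrMat τ H ψ I).det = algebraMap k K (Matrix.of A).det * (wrMat τ H φ I).det := by
    rw [hwr, Matrix.det_mul, ← RingHom.mapMatrix_apply, ← RingHom.map_det]
  have hval : P.1 (wrMat τ H ψ I).det = P.1 (wrMat τ H φ I).det := by
    rw [hdet, map_mul, ff_val_const P hdetA, one_mul]
  rw [← hval]
  obtain ⟨tI, htI0, htIs⟩ : ∃ tI : Fin (n + 1) → K, tI 0 = 1 ∧ ∀ s : Fin n, tI s.succ = t ^ I s :=
    ⟨Fin.cases 1 (fun s => t ^ I s), rfl, fun _ => rfl⟩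
  obtain ⟨tJ, htJ0, htJs⟩ : ∃ tJ : Fin (n + 1) → K, tJ 0 = 1 ∧ ∀ s : Fin n, tJ s.succ = t ^ J s :=
    ⟨Fin.cases 1 (fun s => t ^ J s), rfl, fun _ => rfl⟩
  have htJne : ∀ r, tJ r ≠ 0 := by
    intro r
    induction r using Fin.cases with
    | zero => rw [htJ0]; exact one_ne_zero
    | succ r => rw [htJs]; exact pow_ne_zero _ ht0
  obtain ⟨N, hNdef⟩ : ∃ N : Matrix (Fin (n + 1)) (Fin (n + 1)) K,
      ∀ r c, N r c = wrMat τ H ψ I r c * tI c / tJ r := ⟨Matrix.of fun r c => _, fun _ _ => rfl⟩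
  have hMN : wrMat τ H ψ I * Matrix.diagonal tI = Matrix.diagonal tJ * N := by
    ext r c
    rw [Matrix.mul_diagonal, Matrix.diagonal_mul, hNdef]
    have := htJne r
    field_simp
  have hdetMN : (wrMat τ H ψ I).det * ∏ c, tI c = (∏ r, tJ r) * N.det := by
    have := congrArg Matrix.det hMN
    rwa [Matrix.det_mul, Matrix.det_mul, Matrix.det_diagonal, Matrix.det_diagonal] at this
  have hprodI := ff_val_prod_cases P ht I tI htI0 htIs
  have hprodJ := ff_val_prod_cases P ht J tJ htJ0 htJs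
  have hu : ∀ r : Fin n, P.1 (ψ r.succ / t ^ J r) = 1 ∧
      ψ r.succ = t ^ J r * (ψ r.succ / t ^ J r) := by
    intro r
    constructor
    · rw [map_div₀, map_pow, ht, ← WithZero.exp_nsmul, (hψs r).1]
      simp
    · field_simp
  have hN00 : N 0 0 = 1 := by
    rw [hNdef, ff_wrMat_zero, htI0, htJ0, hψ0, map_one]
    simp
  have hN0s : ∀ s : Fin n, N 0 s.succ = if I s = 0 then 1 else 0 := by
    intro s
    rw [hNdef, ff_wrMat_succ, htIs, htJ0, hψ0, ff_hasseD_one, div_one]
    split_ifs with h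
    · rw [h, pow_zero, one_mul]
    · rw [zero_mul]
  have hNr0 : ∀ r : Fin n, P.1 (N r.succ 0) ≤ 1 ∧ (IsStrongFixedPt τ P → P.1 (N r.succ 0) < 1) := by
    intro r
    have e : N r.succ 0 = τ (t ^ J r * (ψ r.succ / t ^ J r)) / t ^ J r := by
      rw [← (hu r).2, hNdef, ff_wrMat_zero, htI0, htJs, mul_one]
    have hfix := ff_fixedPt_pow_mul hK τ P hP ht (J r) (hu r).1.le
    rw [e]
    exact ⟨hfix.1, fun hS => hfix.2 hS (hpos r)⟩
  have hNrs : ∀ r s : Fin n, P.1 (N r.succ s.succ) ≤ 1 ∧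
      evalP P (N r.succ s.succ) = (((J r).choose (I s) : ℕ) : IsLocalRing.ResidueField P.O) := by
    intro r s
    obtain ⟨N', hN'le, hN'eq, hN'cong⟩ := ff_hasse_expansion H hK P ht hH (J r) (I s) (hu r).1.le
    have e : N r.succ s.succ = N' := by
      rw [hNdef, ff_wrMat_succ, htIs, htJs]
      rw [← (hu r).2] at hN'eq
      rw [hN'eq]
      field_simp
    rw [e]
    refine ⟨hN'le, ?_⟩
    have hCu : P.1 (((J r).choose (I s) : K) * (ψ r.succ / t ^ J r)) ≤ 1 := by
      rw [map_mul, (hu r).1, mul_one]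
      exact ff_val_natCast_le P _
    rw [(ff_evalP_eq_iff P hN'le hCu).mpr hN'cong, ff_evalP_mul P (ff_val_natCast_le P _) (hu r).1.le,
      (hψs r).2, mul_one, ff_evalP_natCast]
  have hNint : ∀ r c, P.1 (N r c) ≤ 1 := by
    intro r c
    induction r using Fin.cases with
    | zero =>
      induction c using Fin.cases with
      | zero => rw [hN00, map_one]
      | succ s =>
        rw [hN0s]
        split_ifs
        · rw [map_one]
        · rw [map_zero]; exact zero_le
    | succ r =>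
      induction c using Fin.cases with
      | zero => exact (hNr0 r).1
      | succ s => exact (hNrs r s).1
  obtain ⟨hdetle, hdetev⟩ := ff_evalP_det P N hNint
  have hkey : P.1 (wrMat τ H ψ I).det =
      WithZero.exp (-(∑ l, ((J l : ℤ) - I l))) * P.1 N.det := by
    have h1 := congrArg P.1 hdetMN
    rw [map_mul, map_mul, hprodI, hprodJ] at h1
    have h2 : P.1 (wrMat τ H ψ I).det = P.1 (wrMat τ H ψ I).det *
        WithZero.exp (-(∑ l, (I l : ℤ))) * WithZero.exp (∑ l, (I l : ℤ)) := by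
      rw [mul_assoc, ← WithZero.exp_add]
      simp
    rw [h2, h1, mul_right_comm, ← WithZero.exp_add]
    congr 2
    rw [Finset.sum_sub_distrib]
    ring
  rw [hkey]
  refine ⟨(mul_le_mul' le_rfl hdetle).trans_eq (mul_one _), fun hor => ?_⟩
  have hsub : (Matrix.of fun r c => evalP P (N r c)).submatrix Fin.succ Fin.succ =
      (binomMat k J I).map (algebraMap k (IsLocalRing.ResidueField P.O)) := by
    ext r s
    simp only [Matrix.submatrix_apply, Matrix.of_apply, Matrix.map_apply, binomMat]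
    rw [(hNrs r s).2, map_natCast]
  have hdetR : (Matrix.of fun r c => evalP P (N r c)).det =
      algebraMap k (IsLocalRing.ResidueField P.O) (binomMat k J I).det := by
    rw [RingHom.map_det, RingHom.mapMatrix_apply, ← hsub]
    rcases hor with hIpos | hS
    · apply ff_det_of_first_row
      · simp only [Matrix.of_apply]
        rw [hN00, ff_evalP_one]
      · intro s
        simp only [Matrix.of_apply]
        rw [hN0s, if_neg (hIpos s).ne', ff_evalP_zero]
    · apply ff_det_of_first_col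
      · simp only [Matrix.of_apply]
        rw [hN00, ff_evalP_one]
      · intro r
        simp only [Matrix.of_apply]
        rw [ff_evalP_eq_zero_iff P (hNr0 r).1]
        exact (hNr0 r).2 hS
  have hinj := (ff_algebraMap_residue_bijective hK P).1
  have h1 : P.1 N.det = 1 ↔ (binomMat k J I).det ≠ 0 := by
    rw [← (map_ne_zero_iff _ hinj), ← hdetR, ← hdetev, Ne, ff_evalP_eq_zero_iff P hdetle]
    constructor
    · intro h; rw [h]; exact lt_irrefl _
    · intro h; exact le_antisymm hdetle (not_lt.mp h)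
  rw [← h1]
  constructor
  · intro h
    have hne : WithZero.exp (-(∑ l, ((J l : ℤ) - I l))) ≠ 0 := WithZero.exp_ne_zero
    have := mul_left_cancel₀ hne (h.trans (mul_one _).symm)
    exact this
  · intro h
    rw [h, mul_one]

end Groth.Agent.Lib.Helper55
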