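import Groth.Agent.Lib.Helper55.FunFld.Riemann

/-! The index of speciality: `dim A/(A(D)+K) = g - (deg D + 1 - ℓ(D))`. -/

set_option autoImplicit false

open FunFld Module

namespace Groth.Agent.Lib.Helper55

variable {k K : Type*} [Field k] [Field K] [Algebra k K]

theorem ff_mem_adele_iff (a : Place k K → K) :
    a ∈ adele k K ↔ {P : Place k K | ¬ P.1 (a P) ≤ 1}.Finite := by
  change (∀ᶠ P : Place k K in Filter.cofinite, P.1 (a P) ≤ 1) ↔ _
  rw [Filter.eventually_cofinite]

theorem ff_AD_le_adele (D : Divisor k K) : AD D ≤ adele k K := by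
  intro a ha
  rw [ff_mem_adele_iff]
  refine D.support.finite_toSet.subset ?_
  intro P hP
  rw [Finset.mem_coe, Finsupp.mem_support_iff]
  intro h0
  apply hP
  have := ha P
  rwa [h0, WithZero.exp_zero] at this

theorem ff_diag_mem_adele (hK : IsFunctionField k K) (x : K) : diag k K x ∈ adele k K := by
  rw [ff_mem_adele_iff]
  by_cases hx : x = 0
  · subst hx
    simp [ff_diag_apply]
  · refine (ff_finite_support_ord hK x).subset ?_
    intro P hP
    have hP' : ¬ P.1 x ≤ 1 := hP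
    have := (ff_ord_neg_iff P hx).mpr (not_le.mp hP')
    exact ne_of_lt this

theorem ff_range_diag_le_adele (hK : IsFunctionField k K) :
    LinearMap.range (diag k K) ≤ adele k K := by
  rintro _ ⟨x, rfl⟩
  exact ff_diag_mem_adele hK x

theorem ff_ADK_le_adele (hK : IsFunctionField k K) (D : Divisor k K) :
    AD D ⊔ LinearMap.range (diag k K) ≤ adele k K :=
  sup_le (ff_AD_le_adele D) (ff_range_diag_le_adele hK)

/-- Every adele lies in some `A(E)`. -/
theorem ff_exists_AD_of_mem_adele {a : Place k K → K} (ha : a ∈ adele k K) :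
    ∃ E : Divisor k K, 0 ≤ E ∧ a ∈ AD E := by
  classical
  rw [ff_mem_adele_iff] at ha
  have hsupp : (Function.support fun P : Place k K => max 0 (WithZero.log (P.1 (a P)))).Finite := by
    refine ha.subset ?_
    intro P hP hle
    apply hP
    by_cases h0 : P.1 (a P) = 0
    · simp [h0]
    · have : WithZero.log (P.1 (a P)) ≤ 0 := by
        rw [WithZero.log_le_iff_le_exp h0, WithZero.exp_zero]; exact hle
      exact max_eq_left this
  refine ⟨Finsupp.ofSupportFinite _ hsupp, ?_, ?_⟩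
  · intro P
    exact le_max_left _ _
  · intro P
    change P.1 (a P) ≤ WithZero.exp (max 0 (WithZero.log (P.1 (a P))))
    exact WithZero.le_exp_log.trans (WithZero.exp_le_exp.mpr (le_max_right _ _))

/-- If `B` is nonspecial (`ℓ(B) = deg B + 1 - g`), then `A = A(B) + K`. -/
theorem ff_adele_eq_of_nonspecial (hK : IsFunctionField k K) {B : Divisor k K}
    (hB : B.deg + 1 - (ell B : ℤ) = genus k K) :
    adele k K = AD B ⊔ LinearMap.range (diag k K) := by
  apply le_antisymm _ (ff_ADK_le_adele hK B)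
  intro a ha
  obtain ⟨E, hE0, haE⟩ := ff_exists_AD_of_mem_adele ha
  have hB₁ : B ≤ B ⊔ E := le_sup_left
  obtain ⟨hfd, hrk⟩ := ff_ADK_quot hK hB₁
  have h1 := ff_delta_le_genus hK (B ⊔ E)
  have h2 : finrank k (↥(AD (B ⊔ E) ⊔ LinearMap.range (diag k K)) ⧸
      (AD B ⊔ LinearMap.range (diag k K)).comap
        (AD (B ⊔ E) ⊔ LinearMap.range (diag k K)).subtype) = 0 := by
    have : (finrank k (↥(AD (B ⊔ E) ⊔ LinearMap.range (diag k K)) ⧸
      (AD B ⊔ LinearMap.range (diag k K)).comap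
        (AD (B ⊔ E) ⊔ LinearMap.range (diag k K)).subtype) : ℤ) ≤ 0 := by
      rw [hrk]; linarith
    omega
  have h3 := ff_le_of_quot_finrank_zero _ _ hfd h2
  exact h3 (Submodule.mem_sup_left (ff_AD_mono (le_sup_right : E ≤ B ⊔ E) haE))

/-- `dim A/(A(D)+K) = g - (deg D + 1 - ℓ(D))`. -/
theorem ff_finrank_adele_quot (hK : IsFunctionField k K) (D : Divisor k K) :
    FiniteDimensional k (↥(adele k K) ⧸ ADK D) ∧
    (finrank k (↥(adele k K) ⧸ ADK D) : ℤ) = (genus k K : ℤ) - (D.deg + 1 - ell D) := by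
  classical
  obtain ⟨N, hN⟩ := ff_riemann hK
  -- a divisor `A₁ ≥ D` of large degree
  obtain ⟨P⟩ : Nonempty (Place k K) := by
    obtain ⟨⟨x, hx, -⟩, -⟩ := id hK
    obtain ⟨P, -⟩ := ff_exists_zero hK hx
    exact ⟨P⟩
  set m : ℕ := (N - D.deg).toNat with hm
  set A₁ : Divisor k K := D + Finsupp.single P (m : ℤ) with hA₁
  have hDA₁ : D ≤ A₁ := le_add_of_nonneg_right (Finsupp.single_nonneg.mpr (Int.natCast_nonneg _))
  have hdeg : N ≤ A₁.deg := by
    rw [hA₁, ff_deg_add, ff_deg_single]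
    have h1 : N - D.deg ≤ m := Int.self_le_toNat _
    have h2 : (1 : ℤ) ≤ P.deg := by exact_mod_cast ff_deg_pos hK P
    have h3 : (0 : ℤ) ≤ m := Int.natCast_nonneg _
    nlinarith
  have hA₁ns := hN A₁ hdeg
  have hadele := ff_adele_eq_of_nonspecial hK hA₁ns
  obtain ⟨hfd, hrk⟩ := ff_ADK_quot hK hDA₁
  obtain ⟨h1, h2⟩ := ff_quot_congr (A := AD D ⊔ LinearMap.range (diag k K)) hadele hfd
  refine ⟨h1, ?_⟩
  change (finrank k (↥(adele k K) ⧸
    (AD D ⊔ LinearMap.range (diag k K)).comap (adele k K).subtype) : ℤ) = _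
  rw [h2, hrk, hA₁ns]

/-- `dim W(D) = g - (deg D + 1 - ℓ(D))`. -/
theorem ff_finrank_WD (hK : IsFunctionField k K) (D : Divisor k K) :
    FiniteDimensional k (WD D) ∧
    (finrank k (WD D) : ℤ) = (genus k K : ℤ) - (D.deg + 1 - ell D) := by
  obtain ⟨hfd, hrk⟩ := ff_finrank_adele_quot hK D
  let e := Submodule.dualQuotEquivDualAnnihilator (ADK D)
  have hfd2 : FiniteDimensional k (Module.Dual k (↥(adele k K) ⧸ ADK D)) := inferInstance
  refine ⟨e.finiteDimensional, ?_⟩
  change (finrank k ↥(ADK D).dualAnnihilator : ℤ) = _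
  rw [← e.finrank_eq, Subspace.dual_finrank_eq, hrk]

end Groth.Agent.Lib.Helper55
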