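import Groth.Agent.Lib.Helper55.FunFld.LocFinite

/-!
# Nonsingularity via hyperplane intersection multiplicity (S11076)
-/

open FunFld Module

namespace Groth.Agent.Lib.Helper55

variable {k K : Type*} [Field k] [Field K] [Algebra k K]

theorem ff_mapDiv_apply (hK : IsFunctionField k K) {ι : Type*} [Fintype ι] [Nonempty ι]
    (φ : ι → K) (Q : Place k K) :
    mapDiv k φ Q = -Finset.univ.inf' Finset.univ_nonempty (fun i => Q.ord (φ i)) := by
  have hfin : (Function.support fun P : Place k K =>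
      -Finset.univ.inf' Finset.univ_nonempty (fun i => P.ord (φ i))).Finite := by
    refine (Set.finite_iUnion fun i => ff_finite_support_ord hK (φ i)).subset ?_
    intro P hP
    rw [Function.mem_support] at hP
    by_contra hcon
    rw [Set.mem_iUnion] at hcon
    push Not at hcon
    apply hP
    have : ∀ i, P.ord (φ i) = 0 := fun i => by
      have := hcon i
      rwa [Function.mem_support, not_not] at this
    simp [this]
  unfold mapDiv
  rw [dif_pos hfin]
  rfl

theorem ff_ord_le_of_val_le (Q : Place k K) {x y : K} (hx : x ≠ 0) (hy : y ≠ 0)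
    (h : Q.1 x ≤ Q.1 y) : Q.ord y ≤ Q.ord x := by
  rw [ff_val_eq_exp_neg_ord Q hx, ff_val_eq_exp_neg_ord Q hy, WithZero.exp_le_exp] at h
  omega

theorem ff_mapDiv_eq_neg_ord (hK : IsFunctionField k K) {ι : Type*} [Fintype ι] [Nonempty ι]
    (φ : ι → K) (hφ0 : ∀ i, φ i ≠ 0) (Q : Place k K) (j : ι)
    (hmax : ∀ i, Q.1 (φ i) ≤ Q.1 (φ j)) : mapDiv k φ Q = -Q.ord (φ j) := by
  rw [ff_mapDiv_apply hK]
  congr 1
  refine le_antisymm (Finset.inf'_le _ (Finset.mem_univ j)) ?_
  refine (Finset.le_inf'_iff _ _).mpr fun i _ => ?_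
  exact ff_ord_le_of_val_le Q (hφ0 i) (hφ0 j) (hmax i)

theorem ff_sameImage_self [IsAlgClosed k] (hK : IsFunctionField k K) {ι : Type*} [Fintype ι]
    [Nonempty ι] (φ : ι → K) (hφ0 : ∀ i, φ i ≠ 0) (P : Place k K) : SameImage φ P P := by
  classical
  obtain ⟨j, -, hj⟩ := Finset.exists_max_image Finset.univ (fun i => P.1 (φ i))
    Finset.univ_nonempty
  have hmax : ∀ i, P.1 (φ i) ≤ P.1 (φ j) := fun i => hj i (Finset.mem_univ i)
  refine ⟨j, hφ0 j, hmax, hmax, fun i => ?_⟩
  have hle : P.1 (φ i / φ j) ≤ 1 := by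
    rw [map_div₀]
    exact (div_le_one₀ (zero_lt_iff.mpr (ff_val_ne_zero P (hφ0 j)))).mpr (hmax i)
  obtain ⟨c, hc⟩ := ff_exists_const_approx hK P hle
  exact ⟨c, hc, hc⟩

/-- If `P` is the only place with the image point of `P`, then the local ring at `P` lies in
the valuation ring of no other place. -/
theorem ff_H1_of_fibre [IsAlgClosed k] (hK : IsFunctionField k K) {ι : Type*} [Fintype ι]
    [Nonempty ι] (φ : ι → K) (hφ0 : ∀ i, φ i ≠ 0) (P : Place k K)
    (hfib : ∀ Q : Place k K, SameImage φ P Q → Q = P) (Q : Place k K)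
    (hQ : ∀ z : K, InLocRing φ P z → Q.1 z ≤ 1) : Q = P := by
  classical
  by_contra hne
  obtain ⟨j, -, hj⟩ := Finset.exists_max_image Finset.univ (fun i => P.1 (φ i))
    Finset.univ_nonempty
  have hmax : ∀ i, P.1 (φ i) ≤ P.1 (φ j) := fun i => hj i (Finset.mem_univ i)
  have hj0 : φ j ≠ 0 := hφ0 j
  have hxR : ∀ i, φ i / φ j ∈ Algebra.adjoin k (Set.range fun i => φ i / φ j) :=
    fun i => Algebra.subset_adjoin ⟨i, rfl⟩
  have hxloc : ∀ i, InLocRing φ P (φ i / φ j) := fun i =>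
    ⟨j, hj0, hmax, _, hxR i, 1, Subalgebra.one_mem _, map_one _, mul_one _⟩
  have hxP : ∀ i, P.1 (φ i / φ j) ≤ 1 := by
    intro i
    rw [map_div₀]
    exact (div_le_one₀ (zero_lt_iff.mpr (ff_val_ne_zero P hj0))).mpr (hmax i)
  have hxQ : ∀ i, Q.1 (φ i / φ j) ≤ 1 := fun i => hQ _ (hxloc i)
  have hmaxQ : ∀ i, Q.1 (φ i) ≤ Q.1 (φ j) := by
    intro i
    have := hxQ i
    rw [map_div₀] at this
    exact (div_le_one₀ (zero_lt_iff.mpr (ff_val_ne_zero Q hj0))).mp this
  choose b hb using fun i => ff_exists_const_approx hK P (hxP i)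
  choose b' hb' using fun i => ff_exists_const_approx hK Q (hxQ i)
  by_cases hbb : ∀ i, b i = b' i
  · exact hne (hfib Q ⟨j, hj0, hmax, hmaxQ, fun i => ⟨b i, hb i, by rw [hbb i]; exact hb' i⟩⟩)
  · push Not at hbb
    obtain ⟨i, hi⟩ := hbb
    set w := φ i / φ j - algebraMap k K (b' i) with hw
    have hwR : w ∈ Algebra.adjoin k (Set.range fun i => φ i / φ j) :=
      Subalgebra.sub_mem _ (hxR i) (Subalgebra.algebraMap_mem _ _)
    have hwP : P.1 w = 1 := by
      have h1 : w = (φ i / φ j - algebraMap k K (b i)) + algebraMap k K (b i - b' i) := by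
        rw [hw, map_sub]; ring
      have h2 : P.1 (algebraMap k K (b i - b' i)) = 1 := ff_val_const P (sub_ne_zero.mpr hi)
      rw [h1, add_comm, Valuation.map_add_eq_of_lt_left P.1 (by rw [h2]; exact hb i), h2]
    have hw0 : w ≠ 0 := by
      intro h0
      rw [h0, map_zero] at hwP
      exact zero_ne_one hwP
    have hwinv : InLocRing φ P w⁻¹ :=
      ⟨j, hj0, hmax, 1, Subalgebra.one_mem _, w, hwR, hwP, inv_mul_cancel₀ hw0⟩
    have h3 := hQ _ hwinv
    rw [map_inv₀] at h3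
    have h4 : Q.1 w < 1 := hb' i
    have h5 : Q.1 w ≠ 0 := ff_val_ne_zero Q hw0
    have h6 : 1 < (Q.1 w)⁻¹ := (one_lt_inv₀ (zero_lt_iff.mpr h5)).mpr h4
    exact absurd h3 (not_le.mpr h6)

theorem ff_term_eq (hK : IsFunctionField k K) {ι : Type*} [Fintype ι] [Nonempty ι]
    (φ : ι → K) (hφ0 : ∀ i, φ i ≠ 0) (Q : Place k K) (j : ι)
    (hmax : ∀ i, Q.1 (φ i) ≤ Q.1 (φ j)) {l : K} (hl : l ≠ 0) :
    mapDiv k φ Q + Q.ord l = Q.ord (l / φ j) := by
  rw [ff_mapDiv_eq_neg_ord hK φ hφ0 Q j hmax, div_eq_mul_inv,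
    ff_ord_mul Q hl (inv_ne_zero (hφ0 j)), ff_ord_inv]
  ring

theorem ff_ord_eq_one_of_val (P : Place k K) {t : K} (ht : P.1 t = WithZero.exp (-1 : ℤ)) :
    P.ord t = 1 := by
  have ht0 := ff_uniformizer_ne_zero P ht
  rw [ff_val_eq_exp_neg_ord P ht0] at ht
  have := WithZero.exp_injective ht
  omega

/-- S11076: nonsingular at `P` iff some hyperplane has intersection multiplicity one at the
image point of `P`. -/
theorem ff_isNonsingularAt_iff_intMult [IsAlgClosed k] (hK : IsFunctionField k K) {n : ℕ}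
    (hn : 1 ≤ n) (φ : Fin (n + 1) → K) (hφ : LinearIndependent k φ) (P : Place k K) :
    IsNonsingularAt φ P ↔ ∃ c : Fin (n + 1) → k, ∑ i, c i • φ i ≠ 0 ∧
      ∑ᶠ Q ∈ {Q : Place k K | SameImage φ P Q},
        ((mapDiv k φ) Q + Q.ord (∑ i, c i • φ i)) = 1 := by
  classical
  have hφ0 : ∀ i, φ i ≠ 0 := fun i => hφ.ne_zero i
  obtain ⟨j, -, hj⟩ := Finset.exists_max_image Finset.univ (fun i => P.1 (φ i))
    Finset.univ_nonempty
  have hmax : ∀ i, P.1 (φ i) ≤ P.1 (φ j) := fun i => hj i (Finset.mem_univ i)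
  have hj0 : φ j ≠ 0 := hφ0 j
  have hxP : ∀ i, P.1 (φ i / φ j) ≤ 1 := by
    intro i
    rw [map_div₀]
    exact (div_le_one₀ (zero_lt_iff.mpr (ff_val_ne_zero P hj0))).mpr (hmax i)
  have hsumdiv : ∀ c : Fin (n + 1) → k, (∑ i, c i • φ i) / φ j = ∑ i, c i • (φ i / φ j) := by
    intro c
    rw [Finset.sum_div]
    exact Finset.sum_congr rfl fun i _ => smul_div_assoc _ _ _
  constructor
  · intro hns
    obtain ⟨H1, t, htL, htv⟩ := (ff_isNonsingularAt_iff_fibre_uniformizer hK hn φ hφ P).mp hns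
    have hfib : {Q : Place k K | SameImage φ P Q} = {P} := by
      ext Q
      simp only [Set.mem_setOf_eq, Set.mem_singleton_iff]
      constructor
      · intro h
        exact H1 Q fun z hz => ((ff_sameImage_iff hK φ hφ P Q).mp h z hz).1
      · rintro rfl
        exact ff_sameImage_self hK φ hφ0 Q
    -- a local parameter in the span of the ratios
    set φ' : Fin (n + 1) → K := fun i => φ i / φ j with hφ'
    have hφ'j : φ' j = 1 := div_self hj0
    have heff : (1 : K) ∈ Submodule.span k (Set.range φ') :=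
      Submodule.subset_span ⟨j, hφ'j⟩
    have hratio : (fun i => φ' i / φ' j) = fun i => φ i / φ j := by
      funext i
      rw [hφ'j, div_one]
    have htL' : InLocRing φ' P t := by
      rw [ff_inLocRing_iff φ' P j (by rw [hφ'j]; exact one_ne_zero)
        (fun i => by rw [hφ'j, map_one]; exact hxP i), hratio]
      exact (ff_inLocRing_iff φ P j hj0 hmax t).mp htL
    obtain ⟨t', ht'S, ht'v⟩ :=
      (ff_exists_uniformizer_inLocRing_iff hK φ' P heff hxP).mp ⟨t, htL', htv⟩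
    obtain ⟨c, hc⟩ := (Submodule.mem_span_range_iff_exists_fun k).mp ht'S
    have ht'0 : t' ≠ 0 := ff_uniformizer_ne_zero P ht'v
    have hl : ∑ i, c i • φ i = t' * φ j := by
      rw [← hc, Finset.sum_mul]
      refine Finset.sum_congr rfl fun i _ => ?_
      rw [hφ', smul_mul_assoc, div_mul_cancel₀ _ hj0]
    have hl0 : ∑ i, c i • φ i ≠ 0 := by
      rw [hl]
      exact mul_ne_zero ht'0 hj0
    refine ⟨c, hl0, ?_⟩
    rw [hfib, finsum_mem_singleton, ff_term_eq hK φ hφ0 P j hmax hl0, hl,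
      mul_div_cancel_right₀ _ hj0]
    exact ff_ord_eq_one_of_val P ht'v
  · rintro ⟨c, hl0, hsum⟩
    set l := ∑ i, c i • φ i with hl
    have hlS : l ∈ Submodule.span k (Set.range φ) :=
      Submodule.sum_mem _ fun i _ => Submodule.smul_mem _ _ (Submodule.subset_span ⟨i, rfl⟩)
    have hfin : {Q : Place k K | SameImage φ P Q}.Finite := ff_finite_fibre hK hn φ hφ P
    rw [finsum_mem_eq_finite_toFinset_sum _ hfin] at hsum
    set F := hfin.toFinset with hF
    have hPF : P ∈ F := by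
      rw [hF, Set.Finite.mem_toFinset]
      exact ff_sameImage_self hK φ hφ0 P
    -- each term is nonnegative, and positivity is the same condition at every place of the fibre
    have hterm : ∀ Q ∈ F, 0 ≤ mapDiv k φ Q + Q.ord l ∧
        (1 ≤ mapDiv k φ Q + Q.ord l ↔ 1 ≤ mapDiv k φ P + P.ord l) := by
      intro Q hQ
      rw [hF, Set.Finite.mem_toFinset] at hQ
      obtain ⟨j', hj'0, hmaxP, hmaxQ, hcc⟩ := hQ
      have hlR : l / φ j' ∈ Algebra.adjoin k (Set.range fun i => φ i / φ j') :=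
        ff_div_mem_adjoin_of_mem_span φ (φ j') hlS
      obtain ⟨cbar, hcP, hcQ⟩ := ff_adjoin_const_approx P Q _ hcc hlR
      have hl'0 : l / φ j' ≠ 0 := div_ne_zero hl0 hj'0
      rw [ff_term_eq hK φ hφ0 Q j' hmaxQ hl0, ff_term_eq hK φ hφ0 P j' hmaxP hl0]
      refine ⟨(ff_ord_nonneg_iff Q hl'0).mpr (ff_val_le_one_of_const_approx Q hcQ), ?_⟩
      have e1 : (1 : ℤ) ≤ Q.ord (l / φ j') ↔ Q.1 (l / φ j') < 1 := by
        rw [← ff_ord_pos_iff Q hl'0]
        omega
      have e2 : (1 : ℤ) ≤ P.ord (l / φ j') ↔ P.1 (l / φ j') < 1 := by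
        rw [← ff_ord_pos_iff P hl'0]
        omega
      rw [e1, e2, ff_val_lt_one_iff_const_zero Q hcQ, ff_val_lt_one_iff_const_zero P hcP]
    have hP1 : 1 ≤ mapDiv k φ P + P.ord l := by
      by_contra hcon
      have hall : ∀ Q ∈ F, mapDiv k φ Q + Q.ord l = 0 := by
        intro Q hQ
        obtain ⟨h0, h1⟩ := hterm Q hQ
        have : ¬ (1 ≤ mapDiv k φ Q + Q.ord l) := fun h => hcon (h1.mp h)
        omega
      rw [Finset.sum_eq_zero hall] at hsum
      exact zero_ne_one hsum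
    have hall1 : ∀ Q ∈ F, 1 ≤ mapDiv k φ Q + Q.ord l := fun Q hQ => (hterm Q hQ).2.mpr hP1
    rw [← Finset.add_sum_erase F _ hPF] at hsum
    have hcard : ((F.erase P).card : ℤ) ≤ ∑ Q ∈ F.erase P, (mapDiv k φ Q + Q.ord l) := by
      have := Finset.card_nsmul_le_sum (F.erase P) (fun Q => mapDiv k φ Q + Q.ord l) 1
        (fun Q hQ => hall1 Q (Finset.mem_of_mem_erase hQ))
      simpa using this
    have hPeq : mapDiv k φ P + P.ord l = 1 := by omega
    have hFP : F.erase P = ∅ := by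
      rw [← Finset.card_eq_zero]
      omega
    have hfib : ∀ Q : Place k K, SameImage φ P Q → Q = P := by
      intro Q hQ
      have hQF : Q ∈ F := by rw [hF, Set.Finite.mem_toFinset]; exact hQ
      by_contra hne
      have : Q ∈ F.erase P := Finset.mem_erase.mpr ⟨hne, hQF⟩
      rw [hFP] at this
      exact absurd this (Finset.notMem_empty Q)
    rw [ff_isNonsingularAt_iff_fibre_uniformizer hK hn φ hφ P]
    refine ⟨fun Q hQ => ff_H1_of_fibre hK φ hφ0 P hfib Q hQ, l / φ j, ?_, ?_⟩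
    · exact ⟨j, hj0, hmax, l / φ j, ff_div_mem_adjoin_of_mem_span φ (φ j) hlS, 1,
        Subalgebra.one_mem _, map_one _, mul_one _⟩
    · have hl'0 : l / φ j ≠ 0 := div_ne_zero hl0 hj0
      rw [ff_term_eq hK φ hφ0 P j hmax hl0] at hPeq
      rw [ff_val_eq_exp_neg_ord P hl'0, hPeq]

end Groth.Agent.Lib.Helper55
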