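import Mathlib

/-! Algebraic Krasner lemma, part 1: Newton–Hensel in adically complete rings (for S7138). -/

set_option autoImplicit false

namespace Groth.Agent.Lib.Helper55.Kras

open Polynomial

/-- Hensel's lemma for adically complete rings, without the monic hypothesis
(the proof is Mathlib's `IsAdicComplete.henselianRing`, which never uses monicity). -/
theorem hensel_nonmonic (R : Type*) [CommRing R] (I : Ideal R) [IsAdicComplete I R]
    (f : R[X]) (a₀ : R) (h₁ : f.eval a₀ ∈ I)
    (h₂ : IsUnit (Ideal.Quotient.mk I (f.derivative.eval a₀))) :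
    ∃ a : R, f.IsRoot a ∧ a - a₀ ∈ I := by
  classical
    let f' := derivative f
    let c : ℕ → R := fun n => Nat.recOn n a₀ fun _ b => b - f.eval b * Ring.inverse (f'.eval b)
    have hc : ∀ n, c (n + 1) = c n - f.eval (c n) * Ring.inverse (f'.eval (c n)) := by
      intro n
      simp only [c]
    have hc_mod : ∀ n, c n ≡ a₀ [SMOD I] := by
      intro n
      induction n with
      | zero => rfl
      | succ n ih => ?_
      rw [hc, sub_eq_add_neg, ← add_zero a₀]
      refine ih.add ?_
      rw [SModEq.zero, Ideal.neg_mem_iff]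
      refine I.mul_mem_right _ ?_
      rw [← SModEq.zero] at h₁ ⊢
      exact (ih.eval f).trans h₁
    have hf'c : ∀ n, IsUnit (f'.eval (c n)) := by
      intro n
      have := isLocalHom_of_le_jacobson_bot I (IsAdicComplete.le_jacobson_bot I)
      apply IsUnit.of_map (Ideal.Quotient.mk I)
      convert! h₂ using 1
      exact SModEq.def.mp ((hc_mod n).eval _)
    have hfcI : ∀ n, f.eval (c n) ∈ I ^ (n + 1) := by
      intro n
      induction n with
      | zero => simpa only [Nat.rec_zero, zero_add, pow_one] using! h₁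
      | succ n ih => ?_
      rw [← taylor_eval_sub (c n), hc, sub_eq_add_neg, sub_eq_add_neg,
        add_neg_cancel_comm]
      rw [eval_eq_sum, sum_over_range' _ _ _ (lt_add_of_pos_right _ zero_lt_two), ←
        Finset.sum_range_add_sum_Ico _ (Nat.le_add_left _ _)]
      swap
      · intro i
        rw [zero_mul]
      refine Ideal.add_mem _ ?_ ?_
      · rw [← one_add_one_eq_two, Finset.sum_range_succ, Finset.range_one, Finset.sum_singleton,
          taylor_coeff_zero, taylor_coeff_one, pow_zero, pow_one, mul_one, mul_neg,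
          mul_left_comm, Ring.mul_inverse_cancel _ (hf'c n), mul_one, add_neg_cancel]
        exact Ideal.zero_mem _
      · refine Submodule.sum_mem _ ?_
        simp only [Finset.mem_Ico]
        rintro i ⟨h2i, _⟩
        have aux : n + 2 ≤ i * (n + 1) := by trans 2 * (n + 1) <;> nlinarith only [h2i]
        refine Ideal.mul_mem_left _ _ (Ideal.pow_le_pow_right aux ?_)
        rw [pow_mul']
        exact Ideal.pow_mem_pow ((Ideal.neg_mem_iff _).2 <| Ideal.mul_mem_right _ _ ih) _
    have aux : ∀ m n, m ≤ n → c m ≡ c n [SMOD (I ^ m • ⊤ : Ideal R)] := by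
      intro m n hmn
      rw [← Ideal.one_eq_top, Ideal.smul_eq_mul, mul_one]
      obtain ⟨k, rfl⟩ := Nat.exists_eq_add_of_le hmn
      clear hmn
      induction k with
      | zero => rw [add_zero]
      | succ k ih => ?_
      rw [← add_assoc, hc, ← add_zero (c m), sub_eq_add_neg]
      refine ih.add ?_
      symm
      rw [SModEq.zero, Ideal.neg_mem_iff]
      refine Ideal.mul_mem_right _ _ (Ideal.pow_le_pow_right ?_ (hfcI _))
      rw [add_assoc]
      exact le_self_add
    obtain ⟨a, ha⟩ := IsPrecomplete.prec' c (aux _ _)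
    refine ⟨a, ?_, ?_⟩
    · show f.IsRoot a
      suffices ∀ n, f.eval a ≡ 0 [SMOD (I ^ n • ⊤ : Ideal R)] by exact IsHausdorff.haus' _ this
      intro n
      specialize ha n
      rw [← Ideal.one_eq_top, Ideal.smul_eq_mul, mul_one] at ha ⊢
      refine (ha.symm.eval f).trans ?_
      rw [SModEq.zero]
      exact Ideal.pow_le_pow_right le_self_add (hfcI _)
    · show a - a₀ ∈ I
      specialize ha (0 + 1)
      rw [hc, pow_one, ← Ideal.one_eq_top, Ideal.smul_eq_mul, mul_one, sub_eq_add_neg] at ha
      rw [← SModEq.sub_mem, ← add_zero a₀]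
      refine ha.symm.trans (SModEq.rfl.add ?_)
      rw [SModEq.zero, Ideal.neg_mem_iff]
      exact Ideal.mul_mem_right _ _ h₁

theorem eval_eval_mapC {B : Type*} [CommRing B] (g P : B[X]) (y : B) :
    ((g.map (C : B →+* B[X])).eval P).eval y = g.eval (P.eval y) := by
  induction g using Polynomial.induction_on' with
  | add p q hp hq => simp [hp, hq]
  | monomial n c => simp [Polynomial.eval_monomial]

/-- Newton's lemma with a non-unit derivative: if `g(a) = g'(a)^2 e` with `e ∈ I`, there is a root
`b = a + g'(a) y` with `y ∈ I`. -/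
theorem newton_general (B : Type*) [CommRing B] (I : Ideal B) [IsAdicComplete I B]
    (g : B[X]) (a t e : B) (ht : g.derivative.eval a = t) (he : g.eval a = t ^ 2 * e)
    (heI : e ∈ I) : ∃ y ∈ I, g.eval (a + t * y) = 0 := by
  -- Taylor expansion in `B[Y]`
  obtain ⟨k, hk⟩ := Polynomial.binomExpansion (g.map (C : B →+* B[X])) (C a) (C t * X)
  obtain ⟨Gp, hG⟩ : ∃ Gp : B[X], Gp = C e + X + k * X ^ 2 := ⟨_, rfl⟩
  have hkey : (g.map (C : B →+* B[X])).eval (C a + C t * X) = C (t ^ 2) * Gp := by
    rw [hk, hG, Polynomial.eval_map, Polynomial.eval₂_at_apply, Polynomial.derivative_map,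
      Polynomial.eval_map, Polynomial.eval₂_at_apply, ht, he]
    simp only [map_mul, map_pow]
    ring
  have h1 : Gp.eval 0 ∈ I := by
    rw [hG]; simpa using heI
  have h2 : IsUnit (Ideal.Quotient.mk I (Gp.derivative.eval 0)) := by
    rw [hG]
    simp
  obtain ⟨y, hy, hyI⟩ := hensel_nonmonic B I Gp 0 h1 h2
  rw [sub_zero] at hyI
  refine ⟨y, hyI, ?_⟩
  have h3 := congrArg (Polynomial.eval y) hkey
  rw [Polynomial.eval_mul, hy, mul_zero] at h3
  rw [← h3, eval_eval_mapC]
  simp

end Groth.Agent.Lib.Helper55.Kras
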