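import Groth.Agent.Lib.Helper55.FunFld.Kras1

/-! Algebraic Krasner lemma, part 2: completeness of finite free algebras; units times powers. -/

set_option autoImplicit false

namespace Groth.Agent.Lib.Helper55.Kras

open Polynomial

section Basis

variable {R B : Type*} [CommRing R] [CommRing B] [Algebra R B] {ι : Type*} [Fintype ι]
  (bs : Module.Basis ι R B) (ϖ : R)

theorem mem_span_pow_iff_repr (n : ℕ) (x : B) :
    x ∈ (Ideal.span {algebraMap R B ϖ}) ^ n ↔ ∀ i, bs.repr x i ∈ (Ideal.span {ϖ}) ^ n := by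
  rw [Ideal.span_singleton_pow, Ideal.mem_span_singleton']
  constructor
  · rintro ⟨y, rfl⟩ i
    rw [Ideal.span_singleton_pow, Ideal.mem_span_singleton']
    refine ⟨bs.repr y i, ?_⟩
    have : y * algebraMap R B ϖ ^ n = ϖ ^ n • y := by rw [Algebra.smul_def, map_pow, mul_comm]
    rw [this, map_smul, Finsupp.smul_apply, smul_eq_mul, mul_comm]
  · intro h
    simp_rw [Ideal.span_singleton_pow, Ideal.mem_span_singleton'] at h
    choose c hc using h
    refine ⟨∑ i, c i • bs i, ?_⟩
    conv_rhs => rw [← bs.sum_repr x]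
    have : (∑ i, c i • bs i) * algebraMap R B ϖ ^ n = ϖ ^ n • ∑ i, c i • bs i := by
      rw [Algebra.smul_def, map_pow, mul_comm]
    rw [this, Finset.smul_sum]
    refine Finset.sum_congr rfl fun i _ => ?_
    rw [smul_smul, ← hc i, mul_comm]

include bs in
theorem isAdicComplete_of_basis [IsAdicComplete (Ideal.span {ϖ}) R] :
    IsAdicComplete (Ideal.span {algebraMap R B ϖ}) B where
  haus' := by
    intro x hx
    have h0 : ∀ i, bs.repr x i = 0 := by
      intro i
      apply IsHausdorff.haus' (I := Ideal.span {ϖ})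
      intro n
      have := hx n
      rw [SModEq.zero, ← Ideal.one_eq_top, Ideal.smul_eq_mul, mul_one] at this ⊢
      exact (mem_span_pow_iff_repr bs ϖ n x).1 this i
    rw [← bs.sum_repr x]
    simp [h0]
  prec' := by
    intro f hf
    have hcoord : ∀ i, ∃ L : R, ∀ n, bs.repr (f n) i ≡ L [SMOD ((Ideal.span {ϖ}) ^ n • ⊤ : Ideal R)] := by
      intro i
      apply IsPrecomplete.prec'
      intro m n hmn
      have := hf hmn
      rw [SModEq.sub_mem, ← Ideal.one_eq_top, Ideal.smul_eq_mul, mul_one] at this ⊢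
      have h2 := (mem_span_pow_iff_repr bs ϖ m _).1 this i
      rwa [map_sub, Finsupp.sub_apply] at h2
    choose L hL using hcoord
    refine ⟨∑ i, L i • bs i, fun n => ?_⟩
    rw [SModEq.sub_mem, ← Ideal.one_eq_top, Ideal.smul_eq_mul, mul_one]
    rw [mem_span_pow_iff_repr bs ϖ n]
    intro i
    have := hL i n
    rw [SModEq.sub_mem, ← Ideal.one_eq_top, Ideal.smul_eq_mul, mul_one] at this
    rw [map_sub, Finsupp.sub_apply]
    have hrepr : bs.repr (∑ j, L j • bs j) i = L i := by
      rw [map_sum, Finsupp.finsetSum_apply]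
      simp only [map_smul, Module.Basis.repr_self, Finsupp.smul_single, smul_eq_mul, mul_one]
      rw [Finset.sum_eq_single i]
      · simp
      · intro j _ hj
        simp [Finsupp.single_apply, hj]
      · intro h; exact absurd (Finset.mem_univ i) h
    rwa [hrepr]

end Basis

/-- In a separated local ring with principal maximal ideal every nonzero element is a unit times a
power of the generator. -/
theorem exists_unit_mul_pow {R : Type*} [CommRing R] [IsLocalRing R] (ϖ : R)
    (hm : IsLocalRing.maximalIdeal R = Ideal.span {ϖ}) [IsHausdorff (Ideal.span {ϖ}) R]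
    {d : R} (hd : d ≠ 0) : ∃ (s : ℕ) (u : R), IsUnit u ∧ d = u * ϖ ^ s := by
  classical
  have hex : ∃ s : ℕ, d ∉ (Ideal.span {ϖ}) ^ s := by
    by_contra hcon
    push Not at hcon
    apply hd
    apply IsHausdorff.haus' (I := Ideal.span {ϖ})
    intro n
    rw [SModEq.zero, ← Ideal.one_eq_top, Ideal.smul_eq_mul, mul_one]
    exact hcon n
  have hs0 : Nat.find hex ≠ 0 := by
    intro h0
    have := Nat.find_spec hex
    rw [h0, pow_zero, Ideal.one_eq_top] at this
    exact this Submodule.mem_top
  obtain ⟨s, hs⟩ := Nat.exists_eq_succ_of_ne_zero hs0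
  have h1 : d ∈ (Ideal.span {ϖ}) ^ s := by
    by_contra hcon
    have := Nat.find_min' hex hcon
    omega
  rw [Ideal.span_singleton_pow, Ideal.mem_span_singleton'] at h1
  obtain ⟨u, hu⟩ := h1
  refine ⟨s, u, ?_, hu.symm⟩
  by_contra hnu
  have hum : u ∈ IsLocalRing.maximalIdeal R := (IsLocalRing.mem_maximalIdeal u).2 hnu
  rw [hm, Ideal.mem_span_singleton'] at hum
  obtain ⟨w, hw⟩ := hum
  have := Nat.find_spec hex
  rw [hs, Ideal.span_singleton_pow, Ideal.mem_span_singleton'] at this
  exact this ⟨w, by rw [← hu, ← hw, pow_succ]; ring⟩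

end Groth.Agent.Lib.Helper55.Kras
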