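import Groth.Agent.Lib.Helper55.FunFld.Kras2

/-! Algebraic Krasner lemma, part 3: the approximation argument. -/

set_option autoImplicit false

namespace Groth.Agent.Lib.Helper55.Kras

open Polynomial IntermediateField

theorem exists_integral_primitive (R Kh M : Type*) [CommRing R] [IsDomain R] [Field Kh]
    [Algebra R Kh] [IsFractionRing R Kh] [Field M] [Algebra Kh M] [Algebra R M]
    [IsScalarTower R Kh M] [FiniteDimensional Kh M] [Algebra.IsSeparable Kh M] :
    ∃ α : M, IsIntegral R α ∧ Kh⟮α⟯ = ⊤ := by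
  obtain ⟨α0, hα0⟩ := Field.exists_primitive_element Kh M
  have halg : IsAlgebraic R α0 :=
    (IsFractionRing.isAlgebraic_iff R Kh M).2 (Algebra.IsAlgebraic.isAlgebraic α0)
  obtain ⟨y, hy0, hy⟩ := halg.exists_integral_multiple
  refine ⟨y • α0, hy, ?_⟩
  rw [eq_top_iff, ← hα0, IntermediateField.adjoin_simple_le_iff]
  have hy' : algebraMap R Kh y ≠ 0 := by
    intro h
    exact hy0 ((IsFractionRing.injective R Kh) (by rw [h, map_zero]))
  have : α0 = (algebraMap R Kh y)⁻¹ • (y • α0) := by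
    rw [← algebraMap_smul Kh y α0, smul_smul, inv_mul_cancel₀ hy', one_smul]
  have h2 : (algebraMap R Kh y)⁻¹ • (y • α0) ∈ Kh⟮y • α0⟯ :=
    IntermediateField.smul_mem _ (IntermediateField.mem_adjoin_simple_self Kh (y • α0))
  rwa [← this] at h2

theorem bezout_clear {R Kh : Type*} [CommRing R] [IsDomain R] [Field Kh] [Algebra R Kh]
    [IsFractionRing R Kh] (f : R[X]) (hsep : (f.map (algebraMap R Kh)).Separable) :
    ∃ (a' b' : R[X]) (d : R), d ≠ 0 ∧ a' * f + b' * derivative f = C d := by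
  obtain ⟨a, b, hab⟩ := hsep
  obtain ⟨ca, hca, ha⟩ := IsLocalization.integerNormalization_spec (nonZeroDivisors R) a
  obtain ⟨cb, hcb, hb⟩ := IsLocalization.integerNormalization_spec (nonZeroDivisors R) b
  set a' := IsLocalization.integerNormalization (nonZeroDivisors R) a
  set b' := IsLocalization.integerNormalization (nonZeroDivisors R) b
  have ha' : a'.map (algebraMap R Kh) = C (algebraMap R Kh ca) * a := by
    rw [ha, ← algebraMap_smul Kh ca a, smul_eq_C_mul]
  have hb' : b'.map (algebraMap R Kh) = C (algebraMap R Kh cb) * b := by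
    rw [hb, ← algebraMap_smul Kh cb b, smul_eq_C_mul]
  refine ⟨C cb * a', C ca * b', ca * cb,
    mul_ne_zero (nonZeroDivisors.ne_zero hca) (nonZeroDivisors.ne_zero hcb), ?_⟩
  apply Polynomial.map_injective (algebraMap R Kh) (IsFractionRing.injective R Kh)
  simp only [Polynomial.map_add, Polynomial.map_mul, ha', hb', map_C, ← derivative_map, map_mul]
  linear_combination (C (algebraMap R Kh ca) * C (algebraMap R Kh cb)) * hab

theorem approx_poly {A R : Type*} [CommRing A] [Nontrivial A] [CommRing R] (φ : A →+* R) (ϖ : R)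
    (hdense : ∀ (r : R) (N : ℕ), ∃ (a : A) (r' : R), φ a - r = ϖ ^ N * r')
    (f : R[X]) (hf : f.Monic) (N : ℕ) :
    ∃ (gA : A[X]) (h : R[X]), gA.Monic ∧ gA.natDegree = f.natDegree ∧
      gA.map φ = f + C (ϖ ^ N) * h := by
  choose a r har using fun i : ℕ => hdense (f.coeff i) N
  set n := f.natDegree with hn
  have hdeg : (∑ i ∈ Finset.range n, C (a i) * X ^ i : A[X]).degree < n := by
    apply (Polynomial.degree_sum_le _ _).trans_lt
    apply (Finset.sup_lt_iff (WithBot.bot_lt_coe n)).2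
    intro i hi
    exact (degree_C_mul_X_pow_le _ _).trans_lt (WithBot.coe_lt_coe.2 (Finset.mem_range.1 hi))
  refine ⟨X ^ n + ∑ i ∈ Finset.range n, C (a i) * X ^ i, ∑ i ∈ Finset.range n, C (r i) * X ^ i,
    Polynomial.monic_X_pow_add hdeg, ?_, ?_⟩
  · apply natDegree_eq_of_degree_eq_some
    rw [degree_add_eq_left_of_degree_lt (by rwa [degree_X_pow]), degree_X_pow]
  · conv_rhs => rw [hf.as_sum]
    simp only [Polynomial.map_add, Polynomial.map_pow, map_X, Polynomial.map_sum,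
      Polynomial.map_mul, map_C, Finset.mul_sum]
    rw [add_assoc, ← Finset.sum_add_distrib]
    congr 1
    refine Finset.sum_congr rfl fun i _ => ?_
    have := har i
    rw [sub_eq_iff_eq_add] at this
    rw [this]
    simp only [map_add, map_mul, map_pow]
    ring

theorem core_root {R B : Type*} [CommRing R] [IsLocalRing R] [CommRing B] [Algebra R B]
    [Module.Finite R B] (ϖ : R) (hϖ : ¬ IsUnit ϖ)
    [IsAdicComplete (Ideal.span {algebraMap R B ϖ}) B]
    (x : B) (hx : Algebra.adjoin R {x} = ⊤)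
    (f g h a' b' : R[X]) (d u : R) (s N : ℕ) (hu : IsUnit u) (hd : d = u * ϖ ^ s)
    (hN : 2 * s + 1 ≤ N)
    (hfx : aeval x f = 0) (hg : g = f + C (ϖ ^ N) * h)
    (hbez : a' * f + b' * derivative f = C d) :
    ∃ β : B, aeval β g = 0 ∧ Algebra.adjoin R {β} = ⊤ := by
  obtain ⟨p, hp⟩ : ∃ p : B, p = algebraMap R B ϖ := ⟨_, rfl⟩
  obtain ⟨I, hI⟩ : ∃ I : Ideal B, I = Ideal.span {algebraMap R B ϖ} := ⟨_, rfl⟩
  have hcomp : IsAdicComplete I B := hI ▸ inferInstance
  have hpI : p ∈ I := by rw [hI, hp]; exact Ideal.mem_span_singleton_self _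
  have hJ : I ≤ Ideal.jacobson ⊥ := IsAdicComplete.le_jacobson_bot I
  obtain ⟨t0, ht0⟩ : ∃ t0 : B, t0 = aeval x (derivative f) := ⟨_, rfl⟩
  obtain ⟨w, hw⟩ : ∃ w : B, w = aeval x b' := ⟨_, rfl⟩
  obtain ⟨hx', hhx'⟩ : ∃ hx' : B, hx' = aeval x (derivative h) := ⟨_, rfl⟩
  obtain ⟨hx0, hhx0⟩ : ∃ hx0 : B, hx0 = aeval x h := ⟨_, rfl⟩
  have h1 : w * t0 = algebraMap R B u * p ^ s := by
    have := congrArg (aeval x) hbez
    rw [map_add, map_mul, map_mul, hfx, mul_zero, zero_add, aeval_C, hd, map_mul, map_pow,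
      ← hw, ← ht0, ← hp] at this
    exact this
  obtain ⟨t, ht⟩ : ∃ t : B, t = aeval x (derivative g) := ⟨_, rfl⟩
  have ht' : t = t0 + p ^ N * hx' := by
    rw [ht, hg, derivative_add, derivative_C_mul, map_add, map_mul, aeval_C, map_pow, ← hp,
      ← ht0, ← hhx']
  have hgx : aeval x g = p ^ N * hx0 := by
    rw [hg, map_add, hfx, zero_add, map_mul, aeval_C, map_pow, ← hp, ← hhx0]
  obtain ⟨j, hj⟩ : ∃ j : B, j = p ^ (N - s) * (hx' * w) := ⟨_, rfl⟩
  have hjJ : j ∈ Ideal.jacobson (⊥ : Ideal B) := by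
    apply hJ
    obtain ⟨k, hk⟩ : ∃ k, N - s = k + 1 := ⟨N - s - 1, by omega⟩
    rw [hj, hk, pow_succ]
    exact I.mul_mem_right _ (I.mul_mem_left _ hpI)
  obtain ⟨uu, huu⟩ := hu.map (algebraMap R B)
  have hv : IsUnit (algebraMap R B u + j) := by
    have h2 := (Ideal.mem_jacobson_bot.1 hjJ) ↑uu⁻¹
    have h3 : algebraMap R B u + j = ↑uu * (j * ↑uu⁻¹ + 1) := by
      rw [← huu, mul_add, mul_one, mul_comm j, ← mul_assoc, Units.mul_inv, one_mul, add_comm]
    rw [h3]
    exact uu.isUnit.mul h2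
  obtain ⟨vi, hvi⟩ := hv
  have h2 : t * w = p ^ s * ↑vi := by
    have hpow : p ^ N = p ^ s * p ^ (N - s) := by rw [← pow_add]; congr 1; omega
    rw [hvi, ht', add_mul, mul_comm t0 w, h1, hj, hpow]
    ring
  have h3 : p ^ s = t * (w * ↑vi⁻¹) := by
    rw [← mul_assoc, h2, mul_assoc, Units.mul_inv, mul_one]
  obtain ⟨e, he⟩ : ∃ e : B, e = (w * ↑vi⁻¹) ^ 2 * p ^ (N - 2 * s) * hx0 := ⟨_, rfl⟩
  have hge : aeval x g = t ^ 2 * e := by
    have hpow : p ^ N = (p ^ s) ^ 2 * p ^ (N - 2 * s) := by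
      rw [← pow_mul, ← pow_add]; congr 1; omega
    rw [hgx, hpow, he]
    conv_lhs => rw [h3]
    ring
  have heI : e ∈ I := by
    obtain ⟨k, hk⟩ : ∃ k, N - 2 * s = k + 1 := ⟨N - 2 * s - 1, by omega⟩
    rw [he, hk, pow_succ p k]
    exact I.mul_mem_right _ (I.mul_mem_left _ (I.mul_mem_left _ hpI))
  obtain ⟨y, hyI, hy⟩ := newton_general B I (g.map (algebraMap R B)) x t e
    (by rw [derivative_map, eval_map_algebraMap, ht])
    (by rw [eval_map_algebraMap]; exact hge) heI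
  obtain ⟨β, hβ⟩ : ∃ β : B, β = x + t * y := ⟨_, rfl⟩
  refine ⟨β, by rw [hβ, ← eval_map_algebraMap]; exact hy, ?_⟩
  have hIJR : Ideal.span {ϖ} ≤ Ideal.jacobson (⊥ : Ideal R) := by
    rw [IsLocalRing.jacobson_eq_maximalIdeal ⊥ bot_ne_top, Ideal.span_singleton_le_iff_mem]
    exact (IsLocalRing.mem_maximalIdeal ϖ).2 hϖ
  have hNak : (⊤ : Submodule R B) ≤ Subalgebra.toSubmodule (Algebra.adjoin R {β}) := by
    apply Submodule.le_of_le_smul_of_le_jacobson_bot (I := Ideal.span {ϖ}) Module.Finite.fg_top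
      hIJR
    intro b _
    have hb : b ∈ Algebra.adjoin R {x} := hx ▸ Algebra.mem_top
    rw [Algebra.adjoin_singleton_eq_range_aeval] at hb
    obtain ⟨q, hq⟩ := hb
    have hq' : aeval x q = b := hq
    rw [← hq']
    have hdvd : x - β ∣ aeval x q - aeval β q := by
      rw [← eval_map_algebraMap, ← eval_map_algebraMap]
      exact Polynomial.sub_dvd_eval_sub _ _ _
    obtain ⟨z, hz⟩ := hdvd
    rw [hI, Ideal.mem_span_singleton'] at hyI
    obtain ⟨y', hy'⟩ := hyI
    rw [Submodule.mem_sup]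
    refine ⟨aeval β q, ?_, aeval x q - aeval β q, ?_, by ring⟩
    · rw [Subalgebra.mem_toSubmodule, Algebra.adjoin_singleton_eq_range_aeval]
      exact ⟨q, rfl⟩
    · have : aeval x q - aeval β q = ϖ • (-(t * y' * z)) := by
        rw [hz, hβ, ← hy', Algebra.smul_def]
        ring
      rw [this]
      exact Submodule.smul_mem_smul (Ideal.mem_span_singleton_self ϖ) Submodule.mem_top
  exact Algebra.toSubmodule_eq_top.1 (top_le_iff.1 hNak)

theorem krasner_core {A R Kh M : Type*} [CommRing A] [Nontrivial A] [CommRing R] [IsDomain R]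
    [IsDiscreteValuationRing R] [Field Kh] [Algebra R Kh] [IsFractionRing R Kh] [Field M]
    [Algebra Kh M] [Algebra R M] [IsScalarTower R Kh M] [FiniteDimensional Kh M]
    [Algebra.IsSeparable Kh M] (φ : A →+* R) (ϖ : R) (hϖ : Irreducible ϖ)
    [IsAdicComplete (Ideal.span {ϖ}) R]
    (hdense : ∀ (r : R) (N : ℕ), ∃ (a : A) (r' : R), φ a - r = ϖ ^ N * r') :
    ∃ gA : A[X], gA.Monic ∧ gA.natDegree = Module.finrank Kh M ∧
      ∃ β : M, Kh⟮β⟯ = ⊤ ∧ eval₂ ((algebraMap R M).comp φ) β gA = 0 := by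
  obtain ⟨α, hαint, hαtop⟩ := exists_integral_primitive R Kh M
  obtain ⟨f, hf⟩ : ∃ f : R[X], f = minpoly R α := ⟨_, rfl⟩
  have hfm : f.Monic := hf ▸ minpoly.monic hαint
  have hfmap : f.map (algebraMap R Kh) = minpoly Kh α :=
    hf ▸ (minpoly.isIntegrallyClosed_eq_field_fractions' Kh hαint).symm
  have hdeg : f.natDegree = Module.finrank Kh M := by
    rw [← hfm.natDegree_map (algebraMap R Kh), hfmap]
    exact (Field.primitive_element_iff_minpoly_natDegree_eq Kh α).1 hαtop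
  have hsep : (f.map (algebraMap R Kh)).Separable :=
    hfmap ▸ Algebra.IsSeparable.isSeparable Kh α
  obtain ⟨a', b', d, hd0, hbez⟩ := bezout_clear f hsep
  obtain ⟨s, u, hdu⟩ := IsDiscreteValuationRing.eq_unit_mul_pow_irreducible hd0 hϖ
  obtain ⟨gA, h, hgAm, hgAdeg, hgA⟩ := approx_poly φ ϖ hdense f hfm (2 * s + 1)
  have hcomp : IsAdicComplete (Ideal.span {algebraMap R (AdjoinRoot f) ϖ}) (AdjoinRoot f) :=
    isAdicComplete_of_basis (AdjoinRoot.powerBasis' hfm).basis ϖ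
  have hfin : Module.Finite R (AdjoinRoot f) := (AdjoinRoot.powerBasis' hfm).finite
  obtain ⟨βB, hβB, hβtop⟩ := core_root ϖ hϖ.not_isUnit (AdjoinRoot.root f)
    AdjoinRoot.adjoinRoot_eq_top f (gA.map φ) h a' b' d u s (2 * s + 1) u.isUnit hdu le_rfl
    (by rw [AdjoinRoot.aeval_eq, AdjoinRoot.mk_self]) hgA hbez
  have hα0 : aeval α f = 0 := hf ▸ minpoly.aeval R α
  obtain ⟨π, hπ⟩ : ∃ π : AdjoinRoot f →ₐ[R] M, π (AdjoinRoot.root f) = α :=
    ⟨AdjoinRoot.liftAlgHom f (Algebra.ofId R M) α hα0,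
      AdjoinRoot.liftAlgHom_root f (Algebra.ofId R M) α hα0⟩
  refine ⟨gA, hgAm, hgAdeg.trans hdeg, π βB, ?_, ?_⟩
  · rw [eq_top_iff, ← hαtop, IntermediateField.adjoin_simple_le_iff]
    have h1 : α ∈ (Algebra.adjoin R {βB}).map π := by
      rw [hβtop]
      exact ⟨AdjoinRoot.root f, Algebra.mem_top, hπ⟩
    rw [AlgHom.map_adjoin, Set.image_singleton] at h1
    have h2 : Algebra.adjoin R {π βB} ≤ (Kh⟮π βB⟯.toSubalgebra).restrictScalars R :=
      Algebra.adjoin_le (by
        intro z hz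
        rw [Set.mem_singleton_iff] at hz
        rw [hz]
        exact IntermediateField.mem_adjoin_simple_self Kh _)
    exact h2 h1
  · have := congrArg π hβB
    rw [map_zero, ← Polynomial.aeval_algHom_apply, aeval_def, eval₂_map] at this
    exact this

end Groth.Agent.Lib.Helper55.Kras
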