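import Groth.Agent.Lib.Helper55.FunFld.Kras3

/-! Algebraic Krasner lemma, part 4: the completion of a DVR and the descent statement (S7138). -/

set_option autoImplicit false

universe u

namespace Groth.Agent.Lib.Helper55.Kras

open Polynomial IntermediateField IsLocalRing
open scoped Pointwise

theorem completion_isDVR (A : Type*) [CommRing A] [IsDomain A] [IsDiscreteValuationRing A]
    [IsDomain (AdicCompletion (maximalIdeal A) A)] :
    ∃ ϖ : AdicCompletion (maximalIdeal A) A, Irreducible ϖ ∧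
      IsDiscreteValuationRing (AdicCompletion (maximalIdeal A) A) ∧
      IsAdicComplete (Ideal.span {ϖ}) (AdicCompletion (maximalIdeal A) A) ∧
      ∀ (r : AdicCompletion (maximalIdeal A) A) (N : ℕ),
        ∃ (a : A) (r' : AdicCompletion (maximalIdeal A) A),
          algebraMap A (AdicCompletion (maximalIdeal A) A) a - r = ϖ ^ N * r' := by
  obtain ⟨π, hπ⟩ := IsDiscreteValuationRing.exists_irreducible A
  have hm : maximalIdeal A = Ideal.span {π} := hπ.maximalIdeal_eq
  obtain ⟨ϖ, hϖ⟩ : ∃ ϖ : AdicCompletion (maximalIdeal A) A,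
    ϖ = algebraMap A (AdicCompletion (maximalIdeal A) A) π := ⟨_, rfl⟩
  have hm' : maximalIdeal (AdicCompletion (maximalIdeal A) A) = Ideal.span {ϖ} := by
    rw [AdicCompletion.maximalIdeal_eq_map, hϖ]
    have : ∀ J : Ideal A, J = Ideal.span {π} →
        J.map (algebraMap A (AdicCompletion (maximalIdeal A) A)) =
          Ideal.span {algebraMap A (AdicCompletion (maximalIdeal A) A) π} := by
      rintro J rfl; rw [Ideal.map_span, Set.image_singleton]
    exact this _ hm
  have hcomp : IsAdicComplete (Ideal.span {ϖ}) (AdicCompletion (maximalIdeal A) A) :=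
    hm' ▸ inferInstance
  have hϖ0 : ϖ ≠ 0 := by
    intro h
    have : π = 0 := AdicCompletion.of_injective (maximalIdeal A) A (by
      rw [map_zero]; rw [hϖ] at h; exact h)
    exact hπ.ne_zero this
  have hprime : Prime ϖ := (Ideal.span_singleton_prime hϖ0).1 (hm' ▸ inferInstance)
  have hirr := hprime.irreducible
  refine ⟨ϖ, hirr, ?_, hcomp, ?_⟩
  · apply IsDiscreteValuationRing.ofHasUnitMulPowIrreducibleFactorization
    refine ⟨ϖ, hirr, fun {x} hx => ?_⟩
    obtain ⟨s, u, hu, hxu⟩ := exists_unit_mul_pow ϖ hm' hx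
    refine ⟨s, ?_⟩
    obtain ⟨uu, rfl⟩ := hu
    exact ⟨uu, by rw [hxu]; ring⟩
  · intro r N
    obtain ⟨a, ha⟩ := Submodule.Quotient.mk_surjective _
      (AdicCompletion.eval (maximalIdeal A) A N r)
    have hmem : algebraMap A (AdicCompletion (maximalIdeal A) A) a - r ∈
        (maximalIdeal A) ^ N • (⊤ : Submodule A (AdicCompletion (maximalIdeal A) A)) := by
      rw [AdicCompletion.algebraMap_apply,
        AdicCompletion.pow_smul_top_eq_ker_eval (maximalIdeal A).fg_of_isNoetherianRing]
      simpa [AdicCompletion.eval, sub_eq_zero] using ha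
    have hpow : (maximalIdeal A) ^ N • (⊤ : Submodule A (AdicCompletion (maximalIdeal A) A)) =
        (π ^ N) • ⊤ := by
      have : ∀ J : Ideal A, J = Ideal.span {π} →
          J ^ N • (⊤ : Submodule A (AdicCompletion (maximalIdeal A) A)) = (π ^ N) • ⊤ := by
        rintro J rfl; rw [Ideal.span_singleton_pow, Submodule.ideal_span_singleton_smul]
      exact this _ hm
    rw [hpow, Submodule.mem_smul_pointwise_iff_exists] at hmem
    obtain ⟨z, -, hz⟩ := hmem
    refine ⟨a, z, ?_⟩
    rw [← hz, Algebra.smul_def, map_pow, hϖ]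

open TensorProduct in
theorem krasner_descent (A K : Type u) [CommRing A] [IsDomain A]
    [IsDiscreteValuationRing A] [Field K] [Algebra A K] [IsFractionRing A K]
    (Kh : Type u) [Field Kh] [Algebra (AdicCompletion (IsLocalRing.maximalIdeal A) A) Kh]
    [IsFractionRing (AdicCompletion (IsLocalRing.maximalIdeal A) A) Kh] [Algebra A Kh] [Algebra K Kh]
    [IsScalarTower A (AdicCompletion (IsLocalRing.maximalIdeal A) A) Kh] [IsScalarTower A K Kh]
    (M : Type u) [Field M] [Algebra Kh M] [FiniteDimensional Kh M] [Algebra.IsSeparable Kh M] :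
    ∃ (L : Type u) (_ : Field L) (_ : Algebra K L), FiniteDimensional K L ∧ Algebra.IsSeparable K L ∧
      Nonempty ((Kh ⊗[K] L) ≃ₐ[Kh] M) := by
  haveI hdom : IsDomain (AdicCompletion (maximalIdeal A) A) :=
    (IsFractionRing.injective (AdicCompletion (maximalIdeal A) A) Kh).isDomain _
  obtain ⟨ϖ, hirr, hdvr, hcomp, hdense⟩ := completion_isDVR A
  letI algRM : Algebra (AdicCompletion (maximalIdeal A) A) M :=
    ((algebraMap Kh M).comp (algebraMap (AdicCompletion (maximalIdeal A) A) Kh)).toAlgebra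
  haveI : IsScalarTower (AdicCompletion (maximalIdeal A) A) Kh M :=
    IsScalarTower.of_algebraMap_eq (fun _ => rfl)
  obtain ⟨gA, hgAm, hgAdeg, β, hβtop, hβ⟩ :=
    krasner_core (A := A) (R := AdicCompletion (maximalIdeal A) A) (Kh := Kh) (M := M)
      (algebraMap A (AdicCompletion (maximalIdeal A) A)) ϖ hirr hdense
  letI algKM : Algebra K M := ((algebraMap Kh M).comp (algebraMap K Kh)).toAlgebra
  haveI : IsScalarTower K Kh M := IsScalarTower.of_algebraMap_eq (fun _ => rfl)
  obtain ⟨gK, hgK⟩ : ∃ gK : K[X], gK = gA.map (algebraMap A K) := ⟨_, rfl⟩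
  obtain ⟨gKh, hgKh⟩ : ∃ gKh : Kh[X], gKh = gK.map (algebraMap K Kh) := ⟨_, rfl⟩
  have hgKm : gK.Monic := hgK ▸ hgAm.map _
  have hgKhm : gKh.Monic := hgKh ▸ hgKm.map _
  have hhom : (algebraMap (AdicCompletion (maximalIdeal A) A) M).comp
      (algebraMap A (AdicCompletion (maximalIdeal A) A)) =
      ((algebraMap Kh M).comp (algebraMap K Kh)).comp (algebraMap A K) := by
    ext a
    show algebraMap Kh M (algebraMap (AdicCompletion (maximalIdeal A) A) Kh
      (algebraMap A (AdicCompletion (maximalIdeal A) A) a)) =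
      algebraMap Kh M (algebraMap K Kh (algebraMap A K a))
    rw [← IsScalarTower.algebraMap_apply A (AdicCompletion (maximalIdeal A) A) Kh,
      ← IsScalarTower.algebraMap_apply A K Kh]
  have hroot : aeval β gKh = 0 := by
    rw [aeval_def, hgKh, hgK, eval₂_map, eval₂_map, ← hhom]
    exact hβ
  have hβint : IsIntegral Kh β := IsIntegral.of_finite Kh β
  have hKhdeg : gKh.natDegree = Module.finrank Kh M := by
    rw [hgKh, hgKm.natDegree_map, hgK, hgAm.natDegree_map, hgAdeg]
  have hmin : minpoly Kh β = gKh := by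
    have h1 : minpoly Kh β ∣ gKh := minpoly.dvd Kh β hroot
    have h2 : (minpoly Kh β).natDegree = Module.finrank Kh M :=
      (Field.primitive_element_iff_minpoly_natDegree_eq Kh β).1 hβtop
    exact (Polynomial.eq_of_monic_of_dvd_of_natDegree_le (minpoly.monic hβint) hgKhm h1
      (by omega)).symm
  have hirrKh : Irreducible gKh := hmin ▸ minpoly.irreducible hβint
  have hsepKh : gKh.Separable := hmin ▸ Algebra.IsSeparable.isSeparable Kh β
  have hirrK : Irreducible gK :=
    hgKm.irreducible_of_irreducible_map (algebraMap K Kh) gK (hgKh ▸ hirrKh)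
  have hsepK : gK.Separable := (Polynomial.separable_map (algebraMap K Kh)).1 (hgKh ▸ hsepKh)
  haveI : Fact (Irreducible gK) := ⟨hirrK⟩
  haveI hfinL : FiniteDimensional K (AdjoinRoot gK) := (AdjoinRoot.powerBasis hirrK.ne_zero).finite
  have hroot_sep : IsSeparable K (AdjoinRoot.root gK) := by
    unfold IsSeparable
    rw [AdjoinRoot.minpoly_root hirrK.ne_zero, hgKm.leadingCoeff, inv_one, map_one, mul_one]
    exact hsepK
  have htop : K⟮AdjoinRoot.root gK⟯ = ⊤ :=
    IntermediateField.adjoin_eq_top_of_algebra K _ AdjoinRoot.adjoinRoot_eq_top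
  haveI hsepL : Algebra.IsSeparable K (AdjoinRoot gK) := by
    rw [← separableClosure.eq_top_iff, eq_top_iff, ← htop,
      IntermediateField.adjoin_simple_le_iff]
    exact mem_separableClosure_iff.2 hroot_sep
  refine ⟨AdjoinRoot gK, inferInstance, inferInstance, hfinL, hsepL, ?_⟩
  have hroot' : eval₂ (Algebra.ofId K M : K →+* M) β gK = 0 := by
    have : (Algebra.ofId K M : K →+* M) = (algebraMap Kh M).comp (algebraMap K Kh) := rfl
    rw [this, ← eval₂_map, ← hgKh]
    exact hroot
  obtain ⟨ψ, hψ⟩ : ∃ ψ : AdjoinRoot gK →ₐ[K] M, ψ (AdjoinRoot.root gK) = β :=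
    ⟨AdjoinRoot.liftAlgHom gK (Algebra.ofId K M) β hroot',
      AdjoinRoot.liftAlgHom_root gK (Algebra.ofId K M) β hroot'⟩
  obtain ⟨Φ, hΦ⟩ : ∃ Φ : Kh ⊗[K] AdjoinRoot gK →ₐ[Kh] M, ∀ a b, Φ (a ⊗ₜ b) = algebraMap Kh M a * ψ b :=
    ⟨Algebra.TensorProduct.lift (Algebra.ofId Kh M) ψ (fun _ _ => Commute.all _ _),
      fun a b => Algebra.TensorProduct.lift_tmul _ _ _ _ _⟩
  have hsurj : Function.Surjective Φ := by
    rw [← AlgHom.range_eq_top, eq_top_iff]
    have h1 : Algebra.adjoin Kh {β} = ⊤ := by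
      rw [← IntermediateField.adjoin_simple_toSubalgebra_of_isAlgebraic hβint.isAlgebraic, hβtop,
        IntermediateField.top_toSubalgebra]
    rw [← h1]
    apply Algebra.adjoin_le
    intro z hz
    rw [Set.mem_singleton_iff] at hz
    rw [hz]
    have h2 : Φ (1 ⊗ₜ AdjoinRoot.root gK) = β := by rw [hΦ, map_one, one_mul, hψ]
    exact ⟨1 ⊗ₜ AdjoinRoot.root gK, h2⟩
  have hrank : Module.finrank Kh (Kh ⊗[K] AdjoinRoot gK) = Module.finrank Kh M := by
    rw [Module.finrank_baseChange, (AdjoinRoot.powerBasis hirrK.ne_zero).finrank,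
      AdjoinRoot.powerBasis_dim, ← hKhdeg, hgKh, hgKm.natDegree_map]
  have hinj : Function.Injective Φ :=
    (LinearMap.injective_iff_surjective_of_finrank_eq_finrank (f := Φ.toLinearMap) hrank).2 hsurj
  exact ⟨AlgEquiv.ofBijective Φ ⟨hinj, hsurj⟩⟩

end Groth.Agent.Lib.Helper55.Kras
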