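import Groth.Agent.Lib.Helper55.FunFld.Kras4

/-! Krasner-type rigidity of integral closures over complete DVRs (S16501). -/

set_option autoImplicit false

universe u

namespace Groth.Agent.Lib.Helper55.Kras

open Polynomial IntermediateField IsLocalRing

/-- Newton's lemma starting from an approximate root. -/
theorem newton_approx (C : Type*) [CommRing C] (p : C) [IsAdicComplete (Ideal.span {p}) C]
    (f : C[X]) (c w z h0 uC : C) (huC : IsUnit uC) (s m : ℕ) (hm : 2 * s + 1 ≤ m)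
    (h1 : f.eval c = p ^ m * h0) (h2 : w * f.derivative.eval c = uC * p ^ s + p ^ m * z) :
    ∃ c' : C, f.eval c' = 0 := by
  obtain ⟨I, hI⟩ : ∃ I : Ideal C, I = Ideal.span {p} := ⟨_, rfl⟩
  have hcomp : IsAdicComplete I C := hI ▸ inferInstance
  have hpI : p ∈ I := by rw [hI]; exact Ideal.mem_span_singleton_self _
  have hJ : I ≤ Ideal.jacobson ⊥ := IsAdicComplete.le_jacobson_bot I
  obtain ⟨t, ht⟩ : ∃ t : C, t = f.derivative.eval c := ⟨_, rfl⟩
  rw [← ht] at h2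
  obtain ⟨j, hj⟩ : ∃ j : C, j = p ^ (m - s) * z := ⟨_, rfl⟩
  have hjJ : j ∈ Ideal.jacobson (⊥ : Ideal C) := by
    apply hJ
    obtain ⟨k, hk⟩ : ∃ k, m - s = k + 1 := ⟨m - s - 1, by omega⟩
    rw [hj, hk, pow_succ]
    exact I.mul_mem_right _ (I.mul_mem_left _ hpI)
  obtain ⟨uu, huu⟩ := huC
  have hv : IsUnit (uC + j) := by
    have h2' := (Ideal.mem_jacobson_bot.1 hjJ) ↑uu⁻¹
    have h3 : uC + j = ↑uu * (j * ↑uu⁻¹ + 1) := by
      rw [← huu, mul_add, mul_one, mul_comm j, ← mul_assoc, Units.mul_inv, one_mul, add_comm]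
    rw [h3]
    exact uu.isUnit.mul h2'
  obtain ⟨vi, hvi⟩ := hv
  have h3 : t * w = p ^ s * ↑vi := by
    have hpow : p ^ m = p ^ s * p ^ (m - s) := by rw [← pow_add]; congr 1; omega
    rw [hvi, mul_comm t w, h2, hj, hpow]
    ring
  have h4 : p ^ s = t * (w * ↑vi⁻¹) := by
    rw [← mul_assoc, h3, mul_assoc, Units.mul_inv, mul_one]
  obtain ⟨e, he⟩ : ∃ e : C, e = (w * ↑vi⁻¹) ^ 2 * p ^ (m - 2 * s) * h0 := ⟨_, rfl⟩
  have hge : f.eval c = t ^ 2 * e := by
    have hpow : p ^ m = (p ^ s) ^ 2 * p ^ (m - 2 * s) := by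
      rw [← pow_mul, ← pow_add]; congr 1; omega
    rw [h1, hpow, he]
    conv_lhs => rw [h4]
    ring
  have heI : e ∈ I := by
    obtain ⟨k, hk⟩ : ∃ k, m - 2 * s = k + 1 := ⟨m - 2 * s - 1, by omega⟩
    rw [he, hk, pow_succ p k]
    exact I.mul_mem_right _ (I.mul_mem_left _ (I.mul_mem_left _ hpI))
  obtain ⟨y, -, hy⟩ := newton_general C I f c t e ht.symm hge heI
  exact ⟨_, hy⟩

/-- From a homomorphism of quotients mod `ϖ^m` to a root in `C`. -/
theorem exists_root_of_quot_hom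
    (A : Type*) [CommRing A] (ϖ : A)
    (B C' : Type*) [CommRing B] [CommRing C'] [Algebra A B] [Algebra A C']
    [IsAdicComplete (Ideal.span {algebraMap A C' ϖ}) C']
    (f a' b' : A[X]) (d u : A) (s m : ℕ) (hu : IsUnit u) (hd : d = u * ϖ ^ s)
    (hm : 2 * s + 1 ≤ m) (hbez : a' * f + b' * derivative f = C d)
    (θ : B) (hθ : aeval θ f = 0)
    (ψ : (B ⧸ Ideal.span {algebraMap A B (ϖ ^ m)}) →ₐ[A]
      (C' ⧸ Ideal.span {algebraMap A C' (ϖ ^ m)})) :
    ∃ c : C', aeval c f = 0 := by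
  obtain ⟨IB, hIB⟩ : ∃ IB : Ideal B, IB = Ideal.span {algebraMap A B (ϖ ^ m)} := ⟨_, rfl⟩
  obtain ⟨IC, hIC⟩ : ∃ IC : Ideal C', IC = Ideal.span {algebraMap A C' (ϖ ^ m)} := ⟨_, rfl⟩
  obtain ⟨cθ, hcθ⟩ := Ideal.Quotient.mk_surjective (ψ (Ideal.Quotient.mk _ θ))
  have key : ∀ g : A[X], Ideal.Quotient.mk (Ideal.span {algebraMap A C' (ϖ ^ m)}) (aeval cθ g) =
      ψ (Ideal.Quotient.mk (Ideal.span {algebraMap A B (ϖ ^ m)}) (aeval θ g)) := by
    intro g
    have e1 := Polynomial.aeval_algHom_apply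
      (Ideal.Quotient.mkₐ A (Ideal.span {algebraMap A C' (ϖ ^ m)})) cθ g
    have e2 := Polynomial.aeval_algHom_apply
      (Ideal.Quotient.mkₐ A (Ideal.span {algebraMap A B (ϖ ^ m)})) θ g
    have e3 := Polynomial.aeval_algHom_apply ψ
      (Ideal.Quotient.mk (Ideal.span {algebraMap A B (ϖ ^ m)}) θ) g
    simp only [Ideal.Quotient.mkₐ_eq_mk] at e1 e2
    rw [← e1, ← e2, ← e3, hcθ]
  obtain ⟨p, hp⟩ : ∃ p : C', p = algebraMap A C' ϖ := ⟨_, rfl⟩
  have hmem1 : aeval cθ f ∈ Ideal.span {algebraMap A C' (ϖ ^ m)} := by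
    rw [← Ideal.Quotient.eq_zero_iff_mem, key, hθ, map_zero, map_zero]
  have hmem2 : aeval cθ (b' * derivative f) - algebraMap A C' d ∈
      Ideal.span {algebraMap A C' (ϖ ^ m)} := by
    rw [← Ideal.Quotient.eq_zero_iff_mem, map_sub, key]
    have : aeval θ (b' * derivative f) = algebraMap A B d := by
      have h := congrArg (aeval θ) hbez
      rw [map_add, map_mul, hθ, mul_zero, zero_add, aeval_C] at h
      exact h
    rw [this, ← Ideal.Quotient.algebraMap_eq, ← IsScalarTower.algebraMap_apply, AlgHom.commutes,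
      ← Ideal.Quotient.algebraMap_eq, ← IsScalarTower.algebraMap_apply, sub_self]
  rw [Ideal.mem_span_singleton', map_pow, ← hp] at hmem1 hmem2
  obtain ⟨h0, hh0⟩ := hmem1
  obtain ⟨z, hz⟩ := hmem2
  have hcomp : IsAdicComplete (Ideal.span {p}) C' := hp ▸ inferInstance
  obtain ⟨c', hc'⟩ := newton_approx C' p (f.map (algebraMap A C')) cθ (aeval cθ b') z h0
    (algebraMap A C' u) (hu.map _) s m hm
    (by rw [eval_map_algebraMap, ← hh0, mul_comm])
    (by
      rw [derivative_map, eval_map_algebraMap, ← map_mul]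
      have hz' : aeval cθ (b' * derivative f) = z * p ^ m + algebraMap A C' d := by
        rw [hz]; ring
      rw [hz', hd, map_mul, map_pow, ← hp]
      ring)
  exact ⟨c', by rw [← eval_map_algebraMap]; exact hc'⟩

end Groth.Agent.Lib.Helper55.Kras
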