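import Groth.Agent.Lib.Helper55.FunFld.Kras5

/-! Krasner-type rigidity of integral closures over complete DVRs (S16501), part 2. -/

set_option autoImplicit false

universe u

namespace Groth.Agent.Lib.Helper55.Kras

open Polynomial IntermediateField IsLocalRing

/-- A DVR finite over a DVR is torsion-free over it. -/
theorem injective_of_finite_dvr (A C' : Type*) [CommRing A] [IsDomain A] [IsDiscreteValuationRing A]
    [CommRing C'] [IsDomain C'] [IsDiscreteValuationRing C'] [Algebra A C'] [Module.Finite A C'] :
    Function.Injective (algebraMap A C') := by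
  rw [RingHom.injective_iff_ker_eq_bot]
  by_contra hne
  have hprime : (RingHom.ker (algebraMap A C')).IsPrime := RingHom.ker_isPrime _
  have hmax : (RingHom.ker (algebraMap A C')).IsMaximal := hprime.isMaximal hne
  have : Algebra.IsIntegral A C' := Algebra.IsIntegral.of_finite A C'
  have hbot : (⊥ : Ideal C').IsMaximal :=
    Ideal.isMaximal_of_isIntegral_of_isMaximal_comap (R := A) (⊥ : Ideal C') hmax
  exact IsDiscreteValuationRing.not_isField C' (Ring.isField_iff_maximal_bot.2 hbot)

/-- Generators of `B` give generators of `C'` when the quotients mod `ϖ^m` agree. -/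
theorem finrank_le_of_quot_hom (A : Type*) [CommRing A] [IsLocalRing A] (ϖ : A) (hϖ : ¬ IsUnit ϖ)
    (B C' : Type*) [CommRing B] [CommRing C'] [Algebra A B] [Algebra A C']
    [Module.Finite A C'] [Module.Finite A B] [Module.Free A B] (m : ℕ) (hm : 1 ≤ m)
    (ψ : (B ⧸ Ideal.span {algebraMap A B (ϖ ^ m)}) →ₐ[A]
      (C' ⧸ Ideal.span {algebraMap A C' (ϖ ^ m)})) (hψ : Function.Surjective ψ) :
    Module.finrank A C' ≤ Module.finrank A B := by
  classical
  let bs := Module.Free.chooseBasis A B
  choose cc hcc using fun i => Ideal.Quotient.mk_surjective (ψ (Ideal.Quotient.mk _ (bs i)))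
  have hIJR : Ideal.span {ϖ} ≤ Ideal.jacobson (⊥ : Ideal A) := by
    rw [IsLocalRing.jacobson_eq_maximalIdeal ⊥ bot_ne_top, Ideal.span_singleton_le_iff_mem]
    exact (IsLocalRing.mem_maximalIdeal ϖ).2 hϖ
  have hspan : Submodule.span A (Set.range cc) = ⊤ := by
    rw [eq_top_iff]
    apply Submodule.le_of_le_smul_of_le_jacobson_bot (I := Ideal.span {ϖ}) Module.Finite.fg_top
      hIJR
    intro c _
    obtain ⟨bq, hbq⟩ := hψ (Ideal.Quotient.mk _ c)
    obtain ⟨b, rfl⟩ := Ideal.Quotient.mk_surjective bq
    obtain ⟨r, hr⟩ : ∃ r : Module.Free.ChooseBasisIndex A B → A, ∑ i, r i • bs i = b :=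
      ⟨fun i => bs.repr b i, bs.sum_repr b⟩
    have h1 : Ideal.Quotient.mk (Ideal.span {algebraMap A C' (ϖ ^ m)}) c =
        Ideal.Quotient.mk _ (∑ i, r i • cc i) := by
      rw [← hbq, ← hr]
      simp only [map_sum]
      refine Finset.sum_congr rfl fun i _ => ?_
      have e1 : Ideal.Quotient.mk (Ideal.span {algebraMap A B (ϖ ^ m)}) (r i • bs i) =
          r i • Ideal.Quotient.mk _ (bs i) := rfl
      have e2 : Ideal.Quotient.mk (Ideal.span {algebraMap A C' (ϖ ^ m)}) (r i • cc i) =
          r i • Ideal.Quotient.mk _ (cc i) := rfl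
      rw [e1, e2, map_smul, hcc]
    rw [Ideal.Quotient.eq, Ideal.mem_span_singleton'] at h1
    obtain ⟨z, hz⟩ := h1
    rw [Submodule.mem_sup]
    refine ⟨∑ i, r i • cc i, ?_, c - ∑ i, r i • cc i, ?_, by ring⟩
    · exact Submodule.sum_mem _ fun i _ =>
        Submodule.smul_mem _ _ (Submodule.subset_span ⟨i, rfl⟩)
    · obtain ⟨k, hk⟩ : ∃ k, m = k + 1 := ⟨m - 1, by omega⟩
      have : c - ∑ i, r i • cc i = ϖ • (algebraMap A C' (ϖ ^ k) * z) := by
        rw [← hz, hk, pow_succ, map_mul, Algebra.smul_def]
        ring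
      rw [this]
      exact Submodule.smul_mem_smul (Ideal.mem_span_singleton_self ϖ) Submodule.mem_top
  have := finrank_le_of_span_eq_top hspan
  rwa [← Module.finrank_eq_card_chooseBasisIndex] at this

theorem iso_of_quot_iso
    (A : Type u) [CommRing A] [IsDomain A] [IsDiscreteValuationRing A]
    [IsAdicComplete (IsLocalRing.maximalIdeal A) A] (ϖ : A) (hϖ : Irreducible ϖ)
    (K : Type u) [Field K] [Algebra A K] [IsFractionRing A K]
    (L : Type u) [Field L] [Algebra K L] [Algebra A L] [IsScalarTower A K L]
    [FiniteDimensional K L] [Algebra.IsSeparable K L]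
    (B : Type u) [CommRing B] [Algebra A B] [Algebra B L] [IsScalarTower A B L]
    [IsIntegralClosure B A L]
    (α : L) (hαint : IsIntegral A α) (hαtop : K⟮α⟯ = ⊤)
    (a' b' : A[X]) (d u : A) (s : ℕ) (hu : IsUnit u) (hd : d = u * ϖ ^ s)
    (hbez : a' * minpoly A α + b' * derivative (minpoly A α) = C d)
    (C' : Type u) [CommRing C'] [IsDomain C'] [IsDiscreteValuationRing C'] [Algebra A C']
    [Module.Finite A C'] (m : ℕ) (hm : 2 * s + 1 ≤ m)
    (ψ : (B ⧸ Ideal.span {algebraMap A B (ϖ ^ m)}) ≃ₐ[A]
      (C' ⧸ Ideal.span {algebraMap A C' (ϖ ^ m)})) :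
    Nonempty (B ≃ₐ[A] C') := by
  have hmA : maximalIdeal A = Ideal.span {ϖ} := hϖ.maximalIdeal_eq
  have hcompA : IsAdicComplete (Ideal.span {ϖ}) A := hmA ▸ inferInstance
  -- B
  have hinjBL : Function.Injective (algebraMap B L) := IsIntegralClosure.algebraMap_injective B A L
  have hdomB : IsDomain B := hinjBL.isDomain _
  have hfinB : Module.Finite A B := IsIntegralClosure.finite A K L B
  have hinjAL : Function.Injective (algebraMap A L) := by
    rw [IsScalarTower.algebraMap_eq A K L]
    exact (algebraMap K L).injective.comp (IsFractionRing.injective A K)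
  have hinjAB : Function.Injective (algebraMap A B) := by
    intro x y hxy
    apply hinjAL
    rw [IsScalarTower.algebraMap_apply A B L, hxy, ← IsScalarTower.algebraMap_apply A B L]
  have htfB : Module.IsTorsionFree A B := by
    have : FaithfulSMul A B := (faithfulSMul_iff_algebraMap_injective A B).2 hinjAB
    infer_instance
  have hfreeB : Module.Free A B := inferInstance
  have hfracB : IsFractionRing B L := IsIntegralClosure.isFractionRing_of_finite_extension A K L B
  have hrankB : Module.finrank K L = Module.finrank A B := IsFractionRing.finrank_eq A K B L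
  -- C'
  have hinjC : Function.Injective (algebraMap A C') := injective_of_finite_dvr A C'
  have htfC : Module.IsTorsionFree A C' := by
    have : FaithfulSMul A C' := (faithfulSMul_iff_algebraMap_injective A C').2 hinjC
    infer_instance
  have hfreeC : Module.Free A C' := inferInstance
  have hcompC : IsAdicComplete (Ideal.span {algebraMap A C' ϖ}) C' :=
    isAdicComplete_of_basis (Module.Free.chooseBasis A C') ϖ
  have hm1 : 1 ≤ m := by omega
  have hrankC : Module.finrank A C' ≤ Module.finrank A B :=
    finrank_le_of_quot_hom A ϖ hϖ.not_isUnit B C' m hm1 ψ.toAlgHom ψ.surjective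
  -- θ
  obtain ⟨θ, hθ⟩ := (IsIntegralClosure.isIntegral_iff (A := B) (R := A) (B := L)).1 hαint
  have hθ0 : aeval θ (minpoly A α) = 0 := by
    apply hinjBL
    rw [map_zero, ← Polynomial.aeval_algebraMap_apply, hθ, minpoly.aeval]
  obtain ⟨c, hc⟩ := exists_root_of_quot_hom A ϖ B C' (minpoly A α) a' b' d u s m hu hd hm hbez
    θ hθ0 ψ.toAlgHom
  -- the field L' = Frac C'
  have hinjAL' : Function.Injective (algebraMap A (FractionRing C')) := by
    rw [IsScalarTower.algebraMap_eq A C' (FractionRing C')]
    exact (IsFractionRing.injective C' (FractionRing C')).comp hinjC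
  letI algKL' : Algebra K (FractionRing C') := (IsFractionRing.lift hinjAL').toAlgebra
  haveI : IsScalarTower A K (FractionRing C') :=
    IsScalarTower.of_algebraMap_eq (fun x => (IsFractionRing.lift_algebraMap hinjAL' x).symm)
  have hrankC' : Module.finrank K (FractionRing C') = Module.finrank A C' :=
    IsFractionRing.finrank_eq A K C' (FractionRing C')
  have hαK : IsIntegral K α := IsIntegral.of_finite K α
  have hminK : minpoly K α = (minpoly A α).map (algebraMap A K) :=
    minpoly.isIntegrallyClosed_eq_field_fractions' K hαint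
  have hroot : algebraMap C' (FractionRing C') c ∈ (minpoly K α).aroots (FractionRing C') := by
    rw [mem_aroots]
    refine ⟨minpoly.ne_zero hαK, ?_⟩
    rw [hminK, aeval_map_algebraMap, aeval_algebraMap_apply, hc, map_zero]
  obtain ⟨σ, -⟩ : ∃ σ : L →ₐ[K] FractionRing C', True :=
    ⟨((IntermediateField.algHomAdjoinIntegralEquiv K hαK).symm ⟨_, hroot⟩).comp
      ((IntermediateField.topEquiv.symm.trans
        (IntermediateField.equivOfEq hαtop.symm)).toAlgHom), trivial⟩
  have hσinj : Function.Injective σ := σ.toRingHom.injective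
  have hposC : 0 < Module.finrank A C' := Module.finrank_pos
  have hfinL' : FiniteDimensional K (FractionRing C') :=
    FiniteDimensional.of_finrank_pos (by rw [hrankC']; exact hposC)
  have hle : Module.finrank K L ≤ Module.finrank K (FractionRing C') :=
    LinearMap.finrank_le_finrank_of_injective (f := σ.toLinearMap) hσinj
  have heq : Module.finrank K L = Module.finrank K (FractionRing C') := by omega
  have hσsurj : Function.Surjective σ :=
    (LinearMap.injective_iff_surjective_of_finrank_eq_finrank (f := σ.toLinearMap) heq).1 hσinj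
  -- B as integral closure of A in L'
  letI algBL' : Algebra B (FractionRing C') := (σ.toRingHom.comp (algebraMap B L)).toAlgebra
  have hBL' : ∀ b : B, algebraMap B (FractionRing C') b = σ (algebraMap B L b) := fun _ => rfl
  haveI : IsScalarTower A B (FractionRing C') := IsScalarTower.of_algebraMap_eq (fun a => by
    rw [hBL', ← IsScalarTower.algebraMap_apply A B L, IsScalarTower.algebraMap_apply A K L,
      AlgHom.commutes, ← IsScalarTower.algebraMap_apply A K (FractionRing C')])
  haveI : IsIntegralClosure B A (FractionRing C') :=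
    { algebraMap_injective := hσinj.comp hinjBL
      isIntegral_iff := by
        intro x
        constructor
        · intro hx
          obtain ⟨y, rfl⟩ := hσsurj x
          have hy : IsIntegral A y :=
            (isIntegral_algHom_iff (σ.restrictScalars A) hσinj).1 hx
          obtain ⟨b, hb⟩ := (IsIntegralClosure.isIntegral_iff (A := B) (R := A) (B := L)).1 hy
          exact ⟨b, by rw [hBL', hb]⟩
        · rintro ⟨b, rfl⟩
          rw [hBL']
          have h1 : IsIntegral A (algebraMap B L b) :=
            (IsIntegralClosure.isIntegral_iff (A := B) (R := A) (B := L)).2 ⟨b, rfl⟩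
          exact (isIntegral_algHom_iff (σ.restrictScalars A) hσinj).2 h1 }
  haveI : Algebra.IsIntegral A C' := Algebra.IsIntegral.of_finite A C'
  exact ⟨IsIntegralClosure.equiv A B (FractionRing C') C'⟩

theorem krasner_rigidity
    (A : Type u) [CommRing A] [IsDomain A] [IsDiscreteValuationRing A]
    [IsAdicComplete (IsLocalRing.maximalIdeal A) A] (ϖ : A) (hϖ : Irreducible ϖ)
    (K : Type u) [Field K] [Algebra A K] [IsFractionRing A K]
    (L : Type u) [Field L] [Algebra K L] [Algebra A L] [IsScalarTower A K L]
    [FiniteDimensional K L] [Algebra.IsSeparable K L]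
    (B : Type u) [CommRing B] [Algebra A B] [Algebra B L] [IsScalarTower A B L]
    [IsIntegralClosure B A L] :
    ∃ m₀ : ℕ, 0 < m₀ ∧ ∀ (C : Type u) [CommRing C] [IsDomain C] [IsDiscreteValuationRing C]
      [Algebra A C] [Module.Finite A C],
      Nonempty (B ≃ₐ[A] C) ↔ ∃ m : ℕ, m₀ < m ∧
        Nonempty ((B ⧸ Ideal.span {algebraMap A B (ϖ ^ m)}) ≃ₐ[A]
          (C ⧸ Ideal.span {algebraMap A C (ϖ ^ m)})) := by
  obtain ⟨α, hαint, hαtop⟩ := exists_integral_primitive A K L
  have hfmap : (minpoly A α).map (algebraMap A K) = minpoly K α :=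
    (minpoly.isIntegrallyClosed_eq_field_fractions' K hαint).symm
  have hsep : ((minpoly A α).map (algebraMap A K)).Separable :=
    hfmap ▸ Algebra.IsSeparable.isSeparable K α
  obtain ⟨a', b', d, hd0, hbez⟩ := bezout_clear (minpoly A α) hsep
  obtain ⟨s, u, hdu⟩ := IsDiscreteValuationRing.eq_unit_mul_pow_irreducible hd0 hϖ
  refine ⟨2 * s + 1, by omega, ?_⟩
  intro C' _ _ _ _ _
  constructor
  · rintro ⟨e⟩
    refine ⟨2 * s + 2, by omega, ⟨Ideal.quotientEquivAlg _ _ e ?_⟩⟩
    rw [Ideal.map_span, Set.image_singleton]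
    congr 2
    exact (e.commutes _).symm
  · rintro ⟨m, hm, ⟨ψ⟩⟩
    exact iso_of_quot_iso A ϖ hϖ K L B α hαint hαtop a' b' d u s u.isUnit hdu hbez C' m
      (by omega) ψ

end Groth.Agent.Lib.Helper55.Kras
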