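import Groth.Agent.Lib.Helper55.FunFld.Degree

/-! `L(D)` and principal divisors. -/

set_option autoImplicit false

open FunFld Module

namespace Groth.Agent.Lib.Helper55

variable {k K : Type*} [Field k] [Field K] [Algebra k K]

theorem ff_mem_L_iff_div (hK : IsFunctionField k K) (D : Divisor k K) {x : K} (hx : x ≠ 0) :
    x ∈ L D ↔ 0 ≤ D + FunFld.div k x := by
  rw [ff_mem_L_iff]
  refine forall_congr' fun P => ?_
  rw [ff_val_eq_exp_neg_ord P hx, WithZero.exp_le_exp, Finsupp.add_apply, ff_div_apply hK]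
  change _ ↔ (0 : ℤ) ≤ _
  omega

theorem ff_deg_nonneg {E : Divisor k K} (h : 0 ≤ E) : 0 ≤ E.deg := by
  unfold Divisor.deg
  refine Finsupp.sum_nonneg fun P _ => ?_
  exact mul_nonneg (h P) (Int.natCast_nonneg _)

theorem ff_deg_mono {D E : Divisor k K} (h : D ≤ E) : D.deg ≤ E.deg := by
  have := ff_deg_nonneg (sub_nonneg.mpr h)
  rw [ff_deg_sub] at this
  linarith

/-- `L(D) = 0` for `deg D < 0`. -/
theorem ff_L_eq_bot_of_deg_neg (hK : IsFunctionField k K) (D : Divisor k K) (h : D.deg < 0) :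
    L D = ⊥ := by
  rw [eq_bot_iff]
  intro x hx
  rw [Submodule.mem_bot]
  by_contra hx0
  have h1 := ff_deg_nonneg ((ff_mem_L_iff_div hK D hx0).mp hx)
  rw [ff_deg_add, ff_deg_div hK] at h1
  linarith

theorem ff_div_mul (hK : IsFunctionField k K) {x y : K} (hx : x ≠ 0) (hy : y ≠ 0) :
    FunFld.div k (x * y) = FunFld.div k x + FunFld.div k y := by
  ext P
  rw [Finsupp.add_apply, ff_div_apply hK, ff_div_apply hK, ff_div_apply hK, ff_ord_mul P hx hy]

theorem ff_mul_mem_L_iff (hK : IsFunctionField k K) (D : Divisor k K) (x y : K) (hx : x ≠ 0) :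
    x * y ∈ L D ↔ y ∈ L (D + FunFld.div k x) := by
  by_cases hy : y = 0
  · subst hy; simp
  · rw [ff_mem_L_iff_div hK D (mul_ne_zero hx hy), ff_mem_L_iff_div hK _ hy, ff_div_mul hK hx hy,
      add_assoc]

theorem ff_L_ne_bot_iff (hK : IsFunctionField k K) (D : Divisor k K) :
    L D ≠ ⊥ ↔ ∃ x : K, x ≠ 0 ∧ 0 ≤ D + FunFld.div k x := by
  rw [Submodule.ne_bot_iff]
  constructor
  · rintro ⟨x, hx, hx0⟩
    exact ⟨x, hx0, (ff_mem_L_iff_div hK D hx0).mp hx⟩
  · rintro ⟨x, hx0, hx⟩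
    exact ⟨x, (ff_mem_L_iff_div hK D hx0).mpr hx, hx0⟩

end Groth.Agent.Lib.Helper55
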