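import Groth.Agent.Lib.Helper55.FunFld.AlgClosed
import Groth.Prelude.Def_W4bk4goldsch45

/-! Projective maps of a function field over an algebraically closed field: fibres. -/

set_option autoImplicit false

open FunFld Module

namespace Groth.Agent.Lib.Helper55

variable {k K : Type*} [Field k] [Field K] [Algebra k K]

/-- Over an algebraically closed constant field every integral element is congruent to a constant. -/
theorem ff_exists_const_approx [IsAlgClosed k] (hK : IsFunctionField k K) (P : Place k K) {z : K}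
    (hz : P.1 z ≤ 1) : ∃ c : k, P.1 (z - algebraMap k K c) < 1 := by
  have hfd := ff_finiteDimensional_residueField hK P
  let _ : Algebra k (IsLocalRing.ResidueField P.O) := Place.algRes P
  have hint : Algebra.IsIntegral k (IsLocalRing.ResidueField P.O) :=
    @Algebra.IsIntegral.of_finite k (IsLocalRing.ResidueField P.O) _ _ (Place.algRes P) hfd
  have hbij := IsAlgClosed.algebraMap_bijective_of_isIntegral (k := k)
    (K := IsLocalRing.ResidueField P.O)
  obtain ⟨c, hc⟩ := hbij.2 (IsLocalRing.residue P.O ⟨z, hz⟩)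
  refine ⟨c, ?_⟩
  have h1 : IsLocalRing.residue P.O (⟨z, hz⟩ - ⟨algebraMap k K c, P.2.1 c⟩) = 0 := by
    rw [map_sub, ← hc, sub_eq_zero]
    rfl
  rw [IsLocalRing.residue_eq_zero_iff, ff_mem_maximalIdeal_iff] at h1
  exact h1

theorem ff_const_approx_unique (P : Place k K) {z : K} {c c' : k}
    (h : P.1 (z - algebraMap k K c) < 1) (h' : P.1 (z - algebraMap k K c') < 1) : c = c' := by
  by_contra hne
  have h1 : algebraMap k K (c' - c) = (z - algebraMap k K c) - (z - algebraMap k K c') := by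
    rw [map_sub]; ring
  have h2 : P.1 (algebraMap k K (c' - c)) < 1 := by
    rw [h1]
    exact lt_of_le_of_lt (Valuation.map_sub _ _ _) (max_lt h h')
  rw [ff_val_const P (sub_ne_zero.mpr (Ne.symm hne))] at h2
  exact lt_irrefl _ h2

theorem ff_finite_zeros_of_ne_zero (hK : IsFunctionField k K) {x : K} (hx : x ≠ 0) :
    {P : Place k K | P.1 x < 1}.Finite := by
  by_cases hxk : x ∈ Set.range (algebraMap k K)
  · obtain ⟨c, rfl⟩ := hxk
    have hc : c ≠ 0 := by
      rintro rfl
      exact hx (map_zero _)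
    have : {P : Place k K | P.1 (algebraMap k K c) < 1} = ∅ := by
      ext P
      simp [ff_val_const P hc]
    rw [this]
    exact Set.finite_empty
  · exact ff_finite_zeros hK (ff_transcendental_of_not_mem_range hK hxk)

theorem ff_aeval_smul_of_isHomogeneous {n : ℕ} (g : MvPolynomial (Fin n) k) {d : ℕ}
    (hg : g.IsHomogeneous d) (a : K) (x : Fin n → K) :
    MvPolynomial.aeval (fun i => a * x i) g = a ^ d * MvPolynomial.aeval x g := by
  rw [MvPolynomial.aeval_def, MvPolynomial.eval₂_eq', MvPolynomial.aeval_def,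
    MvPolynomial.eval₂_eq', Finset.mul_sum]
  refine Finset.sum_congr rfl fun m hm => ?_
  have hd : d = ∑ i, m i := by
    rw [hg.degree_eq_sum_deg_support hm]
    exact Finset.sum_subset (Finset.subset_univ _) (fun i _ hi => by simpa using hi)
  simp_rw [mul_pow]
  rw [Finset.prod_mul_distrib, Finset.prod_pow_eq_pow_sum, ← hd]
  ring

/-- A homogeneous form not vanishing on the curve vanishes at the image of finitely many places. -/
theorem ff_finite_vanishing (hK : IsFunctionField k K) {n : ℕ} (φ : Fin (n + 1) → K)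
    (g : MvPolynomial (Fin (n + 1)) k) (hg : g.IsHomogeneous g.totalDegree)
    (hne : MvPolynomial.aeval φ g ≠ 0) :
    {P : Place k K | ∃ j, φ j ≠ 0 ∧ (∀ i, P.1 (φ i) ≤ P.1 (φ j)) ∧
      P.1 (MvPolynomial.aeval (fun i => φ i / φ j) g) < 1}.Finite := by
  have hfin : ∀ j : Fin (n + 1), φ j ≠ 0 →
      {P : Place k K | P.1 (MvPolynomial.aeval (fun i => φ i / φ j) g) < 1}.Finite := by
    intro j hj
    apply ff_finite_zeros_of_ne_zero hK
    have h1 : (fun i => φ i / φ j) = fun i => (φ j)⁻¹ * φ i := by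
      funext i; rw [div_eq_inv_mul]
    rw [h1, ff_aeval_smul_of_isHomogeneous g hg]
    exact mul_ne_zero (pow_ne_zero _ (inv_ne_zero hj)) hne
  have hU : (⋃ j ∈ {j : Fin (n + 1) | φ j ≠ 0},
      {P : Place k K | P.1 (MvPolynomial.aeval (fun i => φ i / φ j) g) < 1}).Finite :=
    Set.Finite.biUnion (Set.toFinite _) (fun j hj => hfin j hj)
  refine hU.subset ?_
  rintro P ⟨j, hj, -, hP⟩
  exact Set.mem_biUnion hj hP

/-- The fibres of a projective map are finite. -/
theorem ff_finite_fibre (hK : IsFunctionField k K) {n : ℕ} (hn : 1 ≤ n) (φ : Fin (n + 1) → K)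
    (hφ : LinearIndependent k φ) (P : Place k K) :
    {Q : Place k K | SameImage φ P Q}.Finite := by
  classical
  -- for each `j`, choose `i ≠ j`
  have hij : ∀ j : Fin (n + 1), ∃ i : Fin (n + 1), i ≠ j := by
    intro j
    by_cases h0 : j = 0
    · exact ⟨1, by rw [h0]; intro h; have := congrArg Fin.val h; simp at this; omega⟩
    · exact ⟨0, fun h => h0 h.symm⟩
  choose ι hι using hij
  -- the ratio `φ i / φ j - c` is nonzero for `i ≠ j`
  have hnz : ∀ (j : Fin (n + 1)) (c : k), φ (ι j) / φ j - algebraMap k K c ≠ 0 := by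
    intro j c h0
    have hj0 : φ j ≠ 0 := hφ.ne_zero j
    have h1 : φ (ι j) = algebraMap k K c * φ j := by
      rw [sub_eq_zero] at h0
      rw [← h0, div_mul_cancel₀ _ hj0]
    have h2 := Fintype.linearIndependent_iff.mp hφ
      (fun l => if l = ι j then 1 else if l = j then -c else 0) (by
        rw [Finset.sum_eq_add_of_mem (ι j) j (Finset.mem_univ _) (Finset.mem_univ _) (hι j)]
        · simp only [if_true, if_neg (hι j).symm, one_smul]
          rw [h1, Algebra.smul_def, map_neg]; ring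
        · intro l _ hl
          rw [if_neg hl.1, if_neg hl.2, zero_smul])
    have := h2 (ι j)
    simp at this
  have hfin : ∀ j : Fin (n + 1), {Q : Place k K | ∃ c : k,
      P.1 (φ (ι j) / φ j - algebraMap k K c) < 1 ∧
        Q.1 (φ (ι j) / φ j - algebraMap k K c) < 1}.Finite := by
    intro j
    by_cases hc : ∃ c : k, P.1 (φ (ι j) / φ j - algebraMap k K c) < 1
    · obtain ⟨c, hc⟩ := hc
      refine (ff_finite_zeros_of_ne_zero hK (hnz j c)).subset ?_
      rintro Q ⟨c', hc'P, hc'Q⟩
      have : c' = c := ff_const_approx_unique P hc'P hc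
      subst this
      exact hc'Q
    · have : {Q : Place k K | ∃ c : k, P.1 (φ (ι j) / φ j - algebraMap k K c) < 1 ∧
          Q.1 (φ (ι j) / φ j - algebraMap k K c) < 1} = ∅ := by
        ext Q
        simp only [Set.mem_setOf_eq, Set.mem_empty_iff_false, iff_false]
        rintro ⟨c, hc1, -⟩
        exact hc ⟨c, hc1⟩
      rw [this]
      exact Set.finite_empty
  have hU : (⋃ j : Fin (n + 1), {Q : Place k K | ∃ c : k,
      P.1 (φ (ι j) / φ j - algebraMap k K c) < 1 ∧
        Q.1 (φ (ι j) / φ j - algebraMap k K c) < 1}).Finite :=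
    Set.finite_iUnion hfin
  refine hU.subset ?_
  rintro Q ⟨j, -, -, -, hc⟩
  exact Set.mem_iUnion.mpr ⟨j, hc (ι j)⟩

theorem ff_val_le_one_of_const_approx (P : Place k K) {u : K} {c : k}
    (h : P.1 (u - algebraMap k K c) < 1) : P.1 u ≤ 1 := by
  have : u = (u - algebraMap k K c) + algebraMap k K c := by ring
  rw [this]
  exact (P.1.map_add _ _).trans (max_le h.le (P.2.1 c))

theorem ff_val_lt_one_iff_const_zero (P : Place k K) {u : K} {c : k}
    (h : P.1 (u - algebraMap k K c) < 1) : P.1 u < 1 ↔ c = 0 := by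
  constructor
  · intro hu
    by_contra hc
    have h1 : algebraMap k K c = u - (u - algebraMap k K c) := by ring
    have h2 : P.1 (algebraMap k K c) < 1 := by
      rw [h1]
      exact lt_of_le_of_lt (Valuation.map_sub _ _ _) (max_lt hu h)
    rw [ff_val_const P hc] at h2
    exact lt_irrefl _ h2
  · rintro rfl
    simpa using h

theorem ff_val_eq_one_of_const_approx (P : Place k K) {u : K} {c : k}
    (h : P.1 (u - algebraMap k K c) < 1) (hc : c ≠ 0) : P.1 u = 1 := by
  apply le_antisymm (ff_val_le_one_of_const_approx P h)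
  by_contra hlt
  exact hc ((ff_val_lt_one_iff_const_zero P h).mp (not_le.mp hlt))

/-- Elements of `k[r]` are congruent to constants simultaneously at `P` and `Q`
when the generators are. -/
theorem ff_adjoin_const_approx (P Q : Place k K) {ι : Type*} (r : ι → K)
    (hr : ∀ i, ∃ c : k, P.1 (r i - algebraMap k K c) < 1 ∧ Q.1 (r i - algebraMap k K c) < 1)
    {u : K} (hu : u ∈ Algebra.adjoin k (Set.range r)) :
    ∃ c : k, P.1 (u - algebraMap k K c) < 1 ∧ Q.1 (u - algebraMap k K c) < 1 := by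
  induction hu using Algebra.adjoin_induction with
  | mem x hx =>
    obtain ⟨i, rfl⟩ := hx
    exact hr i
  | algebraMap c => exact ⟨c, by simp, by simp⟩
  | add x y _ _ hx hy =>
    obtain ⟨a, ha1, ha2⟩ := hx
    obtain ⟨b, hb1, hb2⟩ := hy
    refine ⟨a + b, ?_, ?_⟩
    · have : x + y - algebraMap k K (a + b) = (x - algebraMap k K a) + (y - algebraMap k K b) := by
        rw [map_add]; ring
      rw [this]
      exact lt_of_le_of_lt (P.1.map_add _ _) (max_lt ha1 hb1)
    · have : x + y - algebraMap k K (a + b) = (x - algebraMap k K a) + (y - algebraMap k K b) := by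
        rw [map_add]; ring
      rw [this]
      exact lt_of_le_of_lt (Q.1.map_add _ _) (max_lt ha2 hb2)
  | mul x y _ _ hx hy =>
    obtain ⟨a, ha1, ha2⟩ := hx
    obtain ⟨b, hb1, hb2⟩ := hy
    have key : ∀ R : Place k K, R.1 (x - algebraMap k K a) < 1 → R.1 (y - algebraMap k K b) < 1 →
        R.1 (x * y - algebraMap k K (a * b)) < 1 := by
      intro R h1 h2
      have : x * y - algebraMap k K (a * b) =
          x * (y - algebraMap k K b) + algebraMap k K b * (x - algebraMap k K a) := by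
        rw [map_mul]; ring
      rw [this]
      refine lt_of_le_of_lt (R.1.map_add _ _) (max_lt ?_ ?_)
      · rw [map_mul]
        calc R.1 x * R.1 (y - algebraMap k K b) ≤ 1 * R.1 (y - algebraMap k K b) :=
              mul_le_mul' (ff_val_le_one_of_const_approx R h1) le_rfl
          _ = R.1 (y - algebraMap k K b) := one_mul _
          _ < 1 := h2
      · rw [map_mul]
        calc R.1 (algebraMap k K b) * R.1 (x - algebraMap k K a)
            ≤ 1 * R.1 (x - algebraMap k K a) := mul_le_mul' (R.2.1 b) le_rfl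
          _ = R.1 (x - algebraMap k K a) := one_mul _
          _ < 1 := h1
    exact ⟨a * b, key P ha1 hb1, key Q ha2 hb2⟩

/-- `SameImage` can be witnessed by any index of least order at `P`. -/
theorem ff_sameImage_change_index {ι : Type*} (φ : ι → K) (P Q : Place k K) {j₀ j : ι}
    (hj₀ : φ j₀ ≠ 0) (hP₀ : ∀ i, P.1 (φ i) ≤ P.1 (φ j₀)) (hQ₀ : ∀ i, Q.1 (φ i) ≤ Q.1 (φ j₀))
    (hc : ∀ i, ∃ c : k, P.1 (φ i / φ j₀ - algebraMap k K c) < 1 ∧
      Q.1 (φ i / φ j₀ - algebraMap k K c) < 1)
    (hj : φ j ≠ 0) (hP : ∀ i, P.1 (φ i) ≤ P.1 (φ j)) :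
    (∀ i, Q.1 (φ i) ≤ Q.1 (φ j)) ∧
    ∀ i, ∃ c : k, P.1 (φ i / φ j - algebraMap k K c) < 1 ∧
      Q.1 (φ i / φ j - algebraMap k K c) < 1 := by
  obtain ⟨cj, hcjP, hcjQ⟩ := hc j
  have hρP : P.1 (φ j / φ j₀) = 1 := by
    rw [map_div₀, le_antisymm (hP₀ j) (hP j₀)]
    exact div_self (ff_val_ne_zero P hj₀)
  have hcj0 : cj ≠ 0 := by
    intro h0
    have := (ff_val_lt_one_iff_const_zero P hcjP).mpr h0
    rw [hρP] at this
    exact lt_irrefl _ this
  have hρQ : Q.1 (φ j / φ j₀) = 1 := ff_val_eq_one_of_const_approx Q hcjQ hcj0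
  have hQj : Q.1 (φ j) = Q.1 (φ j₀) := by
    rw [map_div₀, div_eq_one_iff_eq (ff_val_ne_zero Q hj₀)] at hρQ
    exact hρQ
  refine ⟨fun i => (hQ₀ i).trans_eq hQj.symm, fun i => ?_⟩
  obtain ⟨ci, hciP, hciQ⟩ := hc i
  have hAcj : algebraMap k K cj ≠ 0 := by simpa using hcj0
  have key : ∀ R : Place k K, R.1 (φ j / φ j₀) = 1 →
      R.1 (φ i / φ j₀ - algebraMap k K ci) < 1 → R.1 (φ j / φ j₀ - algebraMap k K cj) < 1 →
      R.1 (φ i / φ j - algebraMap k K (ci / cj)) < 1 := by
    intro R hρ h1 h2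
    have heq : φ i / φ j - algebraMap k K (ci / cj) =
        ((φ i / φ j₀ - algebraMap k K ci) * algebraMap k K cj -
          algebraMap k K ci * (φ j / φ j₀ - algebraMap k K cj)) /
          ((φ j / φ j₀) * algebraMap k K cj) := by
      rw [map_div₀]
      field_simp
      ring
    rw [heq, map_div₀, map_mul, hρ, ff_val_const R hcj0, mul_one, div_one]
    refine lt_of_le_of_lt (Valuation.map_sub _ _ _) (max_lt ?_ ?_)
    · rw [map_mul, ff_val_const R hcj0, mul_one]; exact h1
    · rw [map_mul]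
      calc R.1 (algebraMap k K ci) * R.1 (φ j / φ j₀ - algebraMap k K cj)
          ≤ 1 * R.1 (φ j / φ j₀ - algebraMap k K cj) := mul_le_mul' (R.2.1 ci) le_rfl
        _ = R.1 (φ j / φ j₀ - algebraMap k K cj) := one_mul _
        _ < 1 := h2
  exact ⟨ci / cj, key P hρP hciP hcjP, key Q hρQ hciQ hcjQ⟩

/-- The fibre over `φ(P)` in terms of the local ring of `φ` at `P`. -/
theorem ff_sameImage_iff [IsAlgClosed k] (hK : IsFunctionField k K) {n : ℕ}
    (φ : Fin (n + 1) → K) (hφ : LinearIndependent k φ) (P Q : Place k K) :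
    SameImage φ P Q ↔
      ∀ z : K, InLocRing φ P z → (Q.1 z ≤ 1 ∧ (Q.1 z < 1 ↔ P.1 z < 1)) := by
  constructor
  · rintro ⟨j₀, hj₀, hP₀, hQ₀, hc⟩ z ⟨j, hj, hP, u, hu, w, hw, hw1, hzw⟩
    obtain ⟨hQ, hc'⟩ := ff_sameImage_change_index φ P Q hj₀ hP₀ hQ₀ hc hj hP
    obtain ⟨ubar, hubarP, hubarQ⟩ := ff_adjoin_const_approx P Q _ hc' hu
    obtain ⟨wbar, hwbarP, hwbarQ⟩ := ff_adjoin_const_approx P Q _ hc' hw
    have hwbar0 : wbar ≠ 0 := by
      intro h0
      have := (ff_val_lt_one_iff_const_zero P hwbarP).mpr h0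
      rw [hw1] at this
      exact lt_irrefl _ this
    have hwQ : Q.1 w = 1 := ff_val_eq_one_of_const_approx Q hwbarQ hwbar0
    have hzQ : Q.1 z = Q.1 u := by rw [← hzw, map_mul, hwQ, mul_one]
    have hzP : P.1 z = P.1 u := by rw [← hzw, map_mul, hw1, mul_one]
    rw [hzQ, hzP]
    refine ⟨ff_val_le_one_of_const_approx Q hubarQ, ?_⟩
    rw [ff_val_lt_one_iff_const_zero Q hubarQ, ff_val_lt_one_iff_const_zero P hubarP]
  · intro h
    obtain ⟨j, -, hj⟩ := Finset.exists_max_image Finset.univ (fun i => P.1 (φ i))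
      Finset.univ_nonempty
    have hj0 : φ j ≠ 0 := hφ.ne_zero j
    have hP : ∀ i, P.1 (φ i) ≤ P.1 (φ j) := fun i => hj i (Finset.mem_univ i)
    have hmem : ∀ i, φ i / φ j ∈ Algebra.adjoin k (Set.range fun i => φ i / φ j) :=
      fun i => Algebra.subset_adjoin ⟨i, rfl⟩
    have hloc : ∀ u ∈ Algebra.adjoin k (Set.range fun i => φ i / φ j), InLocRing φ P u :=
      fun u hu => ⟨j, hj0, hP, u, hu, 1, Subalgebra.one_mem _, map_one _, mul_one u⟩
    have hQ : ∀ i, Q.1 (φ i) ≤ Q.1 (φ j) := by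
      intro i
      have := (h _ (hloc _ (hmem i))).1
      rw [map_div₀] at this
      exact (div_le_one₀ (zero_lt_iff.mpr (ff_val_ne_zero Q hj0))).mp this
    refine ⟨j, hj0, hP, hQ, fun i => ?_⟩
    have hle : P.1 (φ i / φ j) ≤ 1 := by
      rw [map_div₀]
      exact (div_le_one₀ (zero_lt_iff.mpr (ff_val_ne_zero P hj0))).mpr (hP i)
    obtain ⟨c, hc⟩ := ff_exists_const_approx hK P hle
    refine ⟨c, hc, ?_⟩
    have hmem' : φ i / φ j - algebraMap k K c ∈ Algebra.adjoin k (Set.range fun i => φ i / φ j) :=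
      Subalgebra.sub_mem _ (hmem i) (Subalgebra.algebraMap_mem _ c)
    exact (h _ (hloc _ hmem')).2.mpr hc

end Groth.Agent.Lib.Helper55
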