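import Groth.Agent.Lib.Helper55.FunFld.TateLocal
import Groth.Agent.Lib.Helper55.FunFld.ProjMap

/-! The Tate residue of `dt / t` at a place with uniformizer `t`. -/

set_option autoImplicit false

open FunFld Module

namespace Groth.Agent.Lib.Helper55

open Tate

variable {k K : Type*} [Field k] [Field K] [Algebra k K]

/-- the conjugate projection `t ρ t⁻¹` onto `t O_P`. -/
noncomputable def ff_conjProj (ρ : K →ₗ[k] K) (t : K) : K →ₗ[k] K :=
  ff_mulK t ∘ₗ ρ ∘ₗ ff_mulK t⁻¹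

theorem ff_conjProj_isProj (P : Place k K) {ρ : K →ₗ[k] K}
    (hρ : LinearMap.IsProj (ff_ball P 0) ρ) {t : K} (ht : P.1 t = WithZero.exp (-1 : ℤ)) :
    LinearMap.IsProj (ff_ball P (-1)) (ff_conjProj ρ t) := by
  have ht0 := ff_uniformizer_ne_zero P ht
  refine ⟨fun v => ?_, fun a ha => ?_⟩
  · change t * ρ (t⁻¹ * v) ∈ _
    rw [ff_mem_ball, map_mul, ht]
    have := hρ.map_mem (t⁻¹ * v)
    rw [ff_mem_ball, WithZero.exp_zero] at this
    calc WithZero.exp (-1 : ℤ) * P.1 (ρ (t⁻¹ * v)) ≤ WithZero.exp (-1 : ℤ) * 1 :=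
          mul_le_mul' le_rfl this
      _ = _ := mul_one _
  · change t * ρ (t⁻¹ * a) = a
    have h1 : t⁻¹ * a ∈ ff_ball P 0 := by
      rw [ff_mem_ball] at ha ⊢
      rw [map_mul, map_inv₀, ht, WithZero.exp_zero]
      calc (WithZero.exp (-1 : ℤ))⁻¹ * P.1 a ≤ (WithZero.exp (-1 : ℤ))⁻¹ * WithZero.exp (-1 : ℤ) :=
            mul_le_mul' le_rfl ha
        _ = 1 := inv_mul_cancel₀ WithZero.exp_ne_zero
    rw [hρ.map_id _ h1, mul_inv_cancel_left₀ ht0]

theorem ff_comm_comp_inv (ρ : K →ₗ[k] K) {t : K} (ht0 : t ≠ 0) :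
    comm ρ (ff_mulK t) ∘ₗ ff_mulK t⁻¹ = ρ - ff_conjProj ρ t := by
  ext v
  simp only [LinearMap.comp_apply, comm_apply, ff_mulK_apply, LinearMap.sub_apply, ff_conjProj,
    mul_inv_cancel_left₀ ht0]

theorem ff_fd_map_id_sub (hK : IsFunctionField k K) (P : Place k K) {ρ' : K →ₗ[k] K}
    (hρ' : LinearMap.IsProj (ff_ball P (-1)) ρ') :
    FiniteDimensional k ((ff_ball P 0).map (LinearMap.id - ρ')) := by
  rw [← nearLE_bot_iff]
  have h1 := NearLE.map (ff_ball_nearLE hK P 0 (-1)) (LinearMap.id - ρ')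
  rwa [map_id_sub_eq_bot hρ'] at h1

/-- `res_P(dt/t) = dim_k (O_P / t O_P)` (as an element of `k`). -/
theorem ff_tres_inv_uniformizer (hK : IsFunctionField k K) (P : Place k K) {ρ : K →ₗ[k] K}
    (hρ : LinearMap.IsProj (ff_ball P 0) ρ) {t : K} (ht : P.1 t = WithZero.exp (-1 : ℤ)) :
    ff_tres ρ t⁻¹ t =
      (finrank k ((ff_ball P 0).map (LinearMap.id - ff_conjProj ρ t)) : k) := by
  have ht0 := ff_uniformizer_ne_zero P ht
  have hρ' := ff_conjProj_isProj P hρ ht
  have := ff_fd_map_id_sub hK P hρ'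
  unfold ff_tres tres
  rw [ff_comm_comp_inv ρ ht0]
  exact fpTr_proj_sub hρ hρ' (ff_ball_mono P (by norm_num))

theorem ff_tres_inv_uniformizer_algClosed [IsAlgClosed k] (hK : IsFunctionField k K)
    (P : Place k K) {ρ : K →ₗ[k] K} (hρ : LinearMap.IsProj (ff_ball P 0) ρ) {t : K}
    (ht : P.1 t = WithZero.exp (-1 : ℤ)) : ff_tres ρ t⁻¹ t = 1 := by
  rw [ff_tres_inv_uniformizer hK P hρ ht]
  have hρ' := ff_conjProj_isProj P hρ ht
  set ρ' := ff_conjProj ρ t with hρ'def
  set w₀ : K := (LinearMap.id - ρ' : K →ₗ[k] K) 1 with hw₀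
  have hw₀ne : w₀ ≠ 0 := by
    intro h0
    have h1 : (1 : K) = ρ' 1 := by
      have : (LinearMap.id - ρ' : K →ₗ[k] K) 1 = 1 - ρ' 1 := rfl
      rw [hw₀, this, sub_eq_zero] at h0
      exact h0
    have h2 := hρ'.map_mem (1 : K)
    rw [← h1, ff_mem_ball, map_one, ← WithZero.exp_zero, WithZero.exp_le_exp] at h2
    omega
  have hW : (ff_ball P 0).map (LinearMap.id - ρ') = Submodule.span k {w₀} := by
    apply le_antisymm
    · rintro _ ⟨a, ha, rfl⟩
      have ha' : P.1 a ≤ 1 := by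
        have := (ff_mem_ball P 0 a).mp ha
        rwa [WithZero.exp_zero] at this
      obtain ⟨c, hc⟩ := ff_exists_const_approx hK P ha'
      rw [ff_lt_one_iff] at hc
      have h1 : (LinearMap.id - ρ' : K →ₗ[k] K) (a - algebraMap k K c) = 0 := by
        have : (LinearMap.id - ρ' : K →ₗ[k] K) (a - algebraMap k K c) =
            (a - algebraMap k K c) - ρ' (a - algebraMap k K c) := rfl
        rw [this, hρ'.map_id _ hc, sub_self]
      have h2 : (LinearMap.id - ρ' : K →ₗ[k] K) a = c • w₀ := by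
        have : a = (a - algebraMap k K c) + c • (1 : K) := by
          rw [Algebra.smul_def, mul_one]; ring
        rw [this, map_add, h1, zero_add, map_smul]
      rw [h2]
      exact Submodule.smul_mem _ _ (Submodule.mem_span_singleton_self _)
    · rw [Submodule.span_singleton_le_iff_mem]
      refine ⟨1, ?_, rfl⟩
      change (1 : K) ∈ ff_ball P 0
      rw [ff_mem_ball, map_one, WithZero.exp_zero]
  rw [hW, finrank_span_singleton hw₀ne, Nat.cast_one]

end Groth.Agent.Lib.Helper55
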