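import Groth.Agent.Lib.Helper55.FunFld.TateSum
import Groth.Agent.Lib.Helper55.FunFld.TateUnif
import Mathlib.RingTheory.Kaehler.Basic

/-! The Weil differential attached to `ds` through Tate residues, and its divisor. -/

set_option autoImplicit false

open FunFld Module

namespace Groth.Agent.Lib.Helper55

open Tate

variable {k K : Type*} [Field k] [Field K] [Algebra k K]

/-- `Hom_k(K, k)` with `K` acting by translation of the argument. -/
def KDual (k K : Type*) [Field k] [Field K] [Algebra k K] : Type _ := K →ₗ[k] k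

namespace KDual

instance : AddCommGroup (KDual k K) := inferInstanceAs (AddCommGroup (K →ₗ[k] k))
instance : Module k (KDual k K) := inferInstanceAs (Module k (K →ₗ[k] k))

/-- view as a linear map. -/
def toLin (m : KDual k K) : K →ₗ[k] k := m

/-- build from a linear map. -/
def ofLin (m : K →ₗ[k] k) : KDual k K := m

@[ext] theorem ext {m m' : KDual k K} (h : ∀ x, m.toLin x = m'.toLin x) : m = m' :=
  LinearMap.ext h

noncomputable instance : SMul K (KDual k K) :=
  ⟨fun c m => ofLin (m.toLin ∘ₗ LinearMap.mul k K c)⟩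

theorem smul_apply (c : K) (m : KDual k K) (x : K) : (c • m).toLin x = m.toLin (c * x) := rfl

theorem add_apply (m m' : KDual k K) (x : K) : (m + m').toLin x = m.toLin x + m'.toLin x := rfl

theorem zero_apply (x : K) : (0 : KDual k K).toLin x = 0 := rfl

theorem ksmul_apply (a : k) (m : KDual k K) (x : K) : (a • m).toLin x = a • m.toLin x := rfl

noncomputable instance : Module K (KDual k K) where
  one_smul m := by ext x; rw [smul_apply, one_mul]
  mul_smul c d m := by ext x; rw [smul_apply, smul_apply, smul_apply, mul_comm c d, mul_assoc]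
  smul_zero c := by ext x; rw [smul_apply, zero_apply, zero_apply]
  smul_add c m m' := by ext x; rw [smul_apply, add_apply, add_apply, smul_apply, smul_apply]
  add_smul c d m := by
    ext x; rw [smul_apply, add_apply, smul_apply, smul_apply, add_mul, map_add]
  zero_smul m := by ext x; rw [smul_apply, zero_mul, map_zero, zero_apply]

instance : IsScalarTower k K (KDual k K) :=
  ⟨fun a c m => by
    ext x
    rw [smul_apply, ksmul_apply, smul_apply, smul_mul_assoc, map_smul]⟩

end KDual

/-- The derivation `v ↦ r(·, v)` attached to a pairing with the Leibniz property. -/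
noncomputable def ff_pairDer (r : K →ₗ[k] K →ₗ[k] k)
    (hleib : ∀ x y z, r x (y * z) = r (x * y) z + r (x * z) y) : Derivation k K (KDual k K) :=
  Derivation.mk' (r.flip : K →ₗ[k] (K →ₗ[k] k)) (by
    intro a b
    apply KDual.ext
    intro x
    rw [KDual.add_apply, KDual.smul_apply, KDual.smul_apply]
    change r x (a * b) = r (a * x) b + r (b * x) a
    rw [hleib, mul_comm x a, mul_comm x b])

theorem ff_pairDer_apply (r : K →ₗ[k] K →ₗ[k] k)
    (hleib : ∀ x y z, r x (y * z) = r (x * y) z + r (x * z) y) (v x : K) :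
    (ff_pairDer r hleib v).toLin x = r x v := rfl

/-- A pairing with the Leibniz property factors through Kähler differentials. -/
theorem ff_pair_of_D_eq (r : K →ₗ[k] K →ₗ[k] k)
    (hleib : ∀ x y z, r x (y * z) = r (x * y) z + r (x * z) y) {v t c : K}
    (h : KaehlerDifferential.D k K v = c • KaehlerDifferential.D k K t) (x : K) :
    r x v = r (c * x) t := by
  have h1 := congrArg (ff_pairDer r hleib).liftKaehlerDifferential h
  rw [map_smul, Derivation.liftKaehlerDifferential_comp_D,
    Derivation.liftKaehlerDifferential_comp_D] at h1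
  have h2 := congrArg (fun m : KDual k K => m.toLin x) h1
  simp only [KDual.smul_apply, ff_pairDer_apply] at h2
  exact h2

/-- the local Tate residue as a bilinear pairing. -/
noncomputable def ff_tresL (hK : IsFunctionField k K) (P : Place k K) {ρ : K →ₗ[k] K}
    (hρ : LinearMap.IsProj (ff_ball P 0) ρ) : K →ₗ[k] K →ₗ[k] k :=
  LinearMap.mk₂ k (ff_tres ρ) (ff_tres_add_left hK P hρ)
    (fun c x y => by rw [ff_tres_smul_left hK P hρ, smul_eq_mul])
    (ff_tres_add_right hK P hρ)
    (fun c x y => by rw [ff_tres_smul_right hK P hρ, smul_eq_mul])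

theorem ff_tres_of_D_eq (hK : IsFunctionField k K) (P : Place k K) {ρ : K →ₗ[k] K}
    (hρ : LinearMap.IsProj (ff_ball P 0) ρ) {v t c : K}
    (h : KaehlerDifferential.D k K v = c • KaehlerDifferential.D k K t) (x : K) :
    ff_tres ρ x v = ff_tres ρ (c * x) t :=
  ff_pair_of_D_eq (ff_tresL hK P hρ) (fun x y z => ff_tres_mul hK P hρ x y z) h x

theorem ff_tres_zero_left (ρ : K →ₗ[k] K) (y : K) : ff_tres ρ 0 y = 0 := by
  unfold ff_tres tres
  have : ff_mulK (k := k) (0 : K) = 0 := by ext z; simp
  rw [this, LinearMap.comp_zero, fpTr_zero]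

/-- The Weil differential `b ↦ res(b ds)` (adelic Tate residue). -/
noncomputable def ff_tateW (hK : IsFunctionField k K) (ρ : Place k K → K →ₗ[k] K)
    (hρ : ∀ P, LinearMap.IsProj (ff_ball P 0) (ρ P)) (s : K) : Module.Dual k (adele k K) where
  toFun b := tres (ff_adProj ρ hρ) (ff_adMul b) (ff_adMul (ff_adDiag hK s))
  map_add' b b' := by
    rw [ff_adMul_add, tres_add_left (ff_adProj_isProj ρ hρ) (ff_isE_adMul hK _)
      (ff_isE_adMul hK _) (ff_isE_adMul hK _)]
  map_smul' c b := by
    rw [ff_adMul_smul, tres_smul_left (ff_adProj_isProj ρ hρ) (ff_isE_adMul hK _)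
      (ff_isE_adMul hK _)]
    rfl

theorem ff_tateW_apply (hK : IsFunctionField k K) (ρ : Place k K → K →ₗ[k] K)
    (hρ : ∀ P, LinearMap.IsProj (ff_ball P 0) (ρ P)) (s : K) (b : adele k K)
    (T : Finset (Place k K)) (hT : ∀ P ∉ T, P.1 s ≤ 1 ∧ P.1 (b.1 P) ≤ 1) :
    ff_tateW hK ρ hρ s b = ∑ P ∈ T, ff_tres (ρ P) (b.1 P) s :=
  ff_global_tres_eq_sum hK ρ hρ s b T hT

theorem ff_tateW_diag (hK : IsFunctionField k K) (ρ : Place k K → K →ₗ[k] K)
    (hρ : ∀ P, LinearMap.IsProj (ff_ball P 0) (ρ P)) (s x : K) :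
    ff_tateW hK ρ hρ s ⟨diag k K x, ff_diag_mem_adele hK x⟩ = 0 :=
  ff_global_tres_diag hK ρ hρ x s

theorem ff_exists_finset_poles (hK : IsFunctionField k K) (s : K) (b : adele k K) :
    ∃ T : Finset (Place k K), ∀ P ∉ T, P.1 s ≤ 1 ∧ P.1 (b.1 P) ≤ 1 := by
  have h1 := (ff_mem_adele_iff _).mp (ff_diag_mem_adele hK s)
  have h2 := (ff_mem_adele_iff _).mp b.2
  refine ⟨(h1.union h2).toFinset, fun P hP => ?_⟩
  rw [Set.Finite.mem_toFinset, Set.mem_union, not_or, Set.mem_ofPred_eq, Set.mem_ofPred_eq,
    not_not, not_not] at hP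
  exact hP

/-- The divisor of the Weil differential of `ds`: local description by uniformizers. -/
theorem ff_tateW_mem_WD_iff (hK : IsFunctionField k K) (ρ : Place k K → K →ₗ[k] K)
    (hρ : ∀ P, LinearMap.IsProj (ff_ball P 0) (ρ P)) (s : K) (C : Place k K → ℤ)
    (t c : Place k K → K) (ht : ∀ P : Place k K, P.1 (t P) = WithZero.exp (-1 : ℤ))
    (hc : ∀ P : Place k K,
      KaehlerDifferential.D k K s = c P • KaehlerDifferential.D k K (t P))
    (hC : ∀ P : Place k K, P.1 (c P) = WithZero.exp (-(C P)))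
    (hnd : ∀ P : Place k K, ∃ u : K, P.1 u ≤ 1 ∧ ff_tres (ρ P) (u * (t P)⁻¹) (t P) ≠ 0)
    (E : Divisor k K) :
    ff_tateW hK ρ hρ s ∈ WD E ↔ ∀ P, E P ≤ C P := by
  classical
  constructor
  · intro hω
    by_contra hle
    obtain ⟨P, hP⟩ : ∃ P, C P < E P := by
      by_contra hcon
      push Not at hcon
      exact hle hcon
    obtain ⟨u, hu1, hune⟩ := hnd P
    have hc0 : c P ≠ 0 := by
      intro h0
      have := hC P
      rw [h0, map_zero] at this
      exact WithZero.exp_ne_zero this.symm
    have ht0 := ff_uniformizer_ne_zero P (ht P)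
    set x : K := u * (c P * t P)⁻¹ with hx
    have hxval : P.1 x ≤ WithZero.exp (E P) := by
      rw [hx, map_mul, map_inv₀, map_mul, hC P, ht P, ← WithZero.exp_add, ← WithZero.exp_neg]
      calc P.1 u * WithZero.exp (-(-(C P) + -1)) ≤ 1 * WithZero.exp (-(-(C P) + -1)) :=
            mul_le_mul' hu1 le_rfl
        _ = WithZero.exp (-(-(C P) + -1)) := one_mul _
        _ ≤ WithZero.exp (E P) := by rw [WithZero.exp_le_exp]; omega
    have hmem : (ff_adSingle P x : adele k K).1 ∈ AD E := by
      intro Q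
      rw [ff_adSingle_apply]
      split_ifs with h
      · subst h; exact hxval
      · rw [map_zero]; exact zero_le
    rw [ff_mem_WD_iff' hK] at hω
    have h0 := hω.1 _ hmem
    obtain ⟨T, hT⟩ := ff_exists_finset_poles hK s (ff_adSingle P x)
    have hT' : ∀ Q ∉ insert P T, Q.1 s ≤ 1 ∧ Q.1 ((ff_adSingle P x).1 Q) ≤ 1 :=
      fun Q hQ => hT Q fun h => hQ (Finset.mem_insert_of_mem h)
    have h1 := ff_tateW_apply hK ρ hρ s (ff_adSingle P x) (insert P T) hT'
    have h2 : ff_tateW hK ρ hρ s (ff_adSingle P x) = 0 := h0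
    rw [h2, Finset.sum_eq_single P] at h1
    · rw [ff_adSingle_apply, if_pos rfl, ff_tres_of_D_eq hK P (hρ P) (hc P)] at h1
      apply hune
      rw [h1]
      congr 1
      rw [hx]
      field_simp
    · intro Q _ hQP
      rw [ff_adSingle_apply, if_neg hQP, ff_tres_zero_left]
    · intro hP'
      exact absurd (Finset.mem_insert_self P T) hP'
  · intro hle
    rw [ff_mem_WD_iff' hK]
    refine ⟨fun α hα => ?_, fun x => ff_tateW_diag hK ρ hρ s x⟩
    obtain ⟨T, hT⟩ := ff_exists_finset_poles hK s ⟨α, ff_AD_le_adele E hα⟩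
    rw [ff_tateW_apply hK ρ hρ s _ T hT]
    refine Finset.sum_eq_zero fun P _ => ?_
    rw [ff_tres_of_D_eq hK P (hρ P) (hc P)]
    refine ff_tres_eq_zero_of_le_one hK P (hρ P) ?_ ?_
    · rw [map_mul, hC P]
      calc WithZero.exp (-(C P)) * P.1 (α P) ≤ WithZero.exp (-(C P)) * WithZero.exp (E P) :=
            mul_le_mul' le_rfl (hα P)
        _ ≤ 1 := by
          rw [← WithZero.exp_add, ← WithZero.exp_zero, WithZero.exp_le_exp]
          have := hle P
          omega
    · rw [ht P, ← WithZero.exp_zero, WithZero.exp_le_exp]; norm_num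

end Groth.Agent.Lib.Helper55

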