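import Groth.Agent.Lib.Helper55.FunFld.TateLocalG
import Groth.Agent.Lib.Helper55.FunFld.TateWeil
import Groth.Agent.Lib.Helper55.Tate.FinDim
import Groth.Agent.Lib.Helper63.LocResBasic

/-! Tate residues on the field of Laurent series over a finite extension `F` of `k`:
`res(f dg) = Tr_{F/k} coeff_{-1}(f g')`. -/

set_option autoImplicit false

open FunFld Module LocRes LaurentSeries

namespace Groth.Agent.Lib.Helper55

open Tate

variable (k F : Type*) [Field k] [Field F] [Algebra k F]

attribute [-instance] HahnSeries.instModule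

theorem ls_algebraMap (c : k) : algebraMap k F⸨X⸩ c = HahnSeries.C (algebraMap k F c) := by
  have := LocRes.map_algebraMap (AlgHom.id k F⸨X⸩) c
  simpa using this

theorem ls_coeff_ksmul (c : k) (h : F⸨X⸩) (n : ℤ) :
    (algebraMap k F⸨X⸩ c * h).coeff n = c • h.coeff n := by
  rw [ls_algebraMap, HahnSeries.C_mul_eq_smul, HahnSeries.coeff_smul, smul_eq_mul,
    Algebra.smul_def]

/-- coefficient maps as `k`-linear maps. -/
noncomputable def ls_coeffL (n : ℤ) : F⸨X⸩ →ₗ[k] F where
  toFun f := f.coeff n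
  map_add' _ _ := rfl
  map_smul' c f := by
    rw [Algebra.smul_def, ls_coeff_ksmul]
    rfl

@[simp] theorem ls_coeffL_apply (n : ℤ) (f : F⸨X⸩) : ls_coeffL k F n f = f.coeff n := rfl

/-- constants as a `k`-linear map. -/
noncomputable def ls_CL : F →ₗ[k] F⸨X⸩ where
  toFun c := HahnSeries.C c
  map_add' a b := map_add _ a b
  map_smul' c a := by
    rw [RingHom.id_apply, Algebra.smul_def, Algebra.smul_def, map_mul, ls_algebraMap]

@[simp] theorem ls_CL_apply (c : F) : ls_CL k F c = HahnSeries.C c := rfl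

/-- The `X`-adic valuation of Laurent series as a place over `k`. -/
noncomputable def lsPlace : Place k F⸨X⸩ :=
  ⟨Valued.v, fun c => by
      rw [ls_algebraMap, ← PowerSeries.coe_C]
      exact (val_le_one_iff_eq_coe F _).mpr ⟨_, rfl⟩,
    valuation_surjective F⟩

theorem lsPlace_val (f : F⸨X⸩) : (lsPlace k F).1 f = Valued.v f := rfl

theorem ls_mem_ball_iff (m : ℤ) (f : F⸨X⸩) :
    f ∈ ff_ball (lsPlace k F) m ↔ ∀ n < -m, f.coeff n = 0 := by
  rw [ff_mem_ball, lsPlace_val, show m = -(-m) by ring, valuation_le_iff_coeff_lt_eq_zero,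
    neg_neg]

theorem ls_near [FiniteDimensional k F] : FFNear (lsPlace k F) := by
  apply ffNear_of_pred
  intro m
  refine nearLE_of_linearMap
    ((ls_coeffL k F (-m)).comp (ff_ball (lsPlace k F) m).subtype) ?_
  intro b hb
  have h1 := (ls_mem_ball_iff k F m b.1).mp b.2
  rw [ls_mem_ball_iff]
  intro n hn
  rcases lt_or_eq_of_le (show n ≤ -m by omega) with h | h
  · exact h1 n h
  · rw [h]; exact hb

/-- truncation to the power-series part, as a function. -/
noncomputable def ls_truncFun (f : F⸨X⸩) : F⸨X⸩ where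
  coeff n := if 0 ≤ n then f.coeff n else 0
  isPWO_support' := f.isPWO_support.mono (by
    intro n hn
    simp only [Function.mem_support, ne_eq, ite_eq_right_iff, not_forall] at hn
    obtain ⟨_, h⟩ := hn
    exact h)

/-- truncation to the power-series part, `k`-linear. -/
noncomputable def ls_trunc : F⸨X⸩ →ₗ[k] F⸨X⸩ where
  toFun := ls_truncFun F
  map_add' f g := by
    ext n
    change (if 0 ≤ n then (f + g).coeff n else 0) =
      (if 0 ≤ n then f.coeff n else 0) + (if 0 ≤ n then g.coeff n else 0)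
    split_ifs <;> simp
  map_smul' c f := by
    ext n
    rw [RingHom.id_apply, Algebra.smul_def, Algebra.smul_def, ls_coeff_ksmul]
    change (if 0 ≤ n then (algebraMap k F⸨X⸩ c * f).coeff n else 0) =
      c • (if 0 ≤ n then f.coeff n else 0)
    rw [ls_coeff_ksmul]
    split_ifs <;> simp

theorem ls_trunc_coeff (f : F⸨X⸩) (n : ℤ) :
    (ls_trunc k F f).coeff n = if 0 ≤ n then f.coeff n else 0 := rfl

theorem ls_trunc_isProj : LinearMap.IsProj (ff_ball (lsPlace k F) 0) (ls_trunc k F) := by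
  refine ⟨fun f => ?_, fun f hf => ?_⟩
  · rw [ls_mem_ball_iff]
    intro n hn
    rw [ls_trunc_coeff, if_neg (by omega)]
  · rw [ls_mem_ball_iff] at hf
    ext n
    rw [ls_trunc_coeff]
    split_ifs with h
    · rfl
    · exact (hf n (by omega)).symm

/-- `[π, X] v = coeff_{-1}(v)` (as a constant series). -/
theorem ls_comm_X (v : F⸨X⸩) :
    comm (ls_trunc k F) (ff_mulK (HahnSeries.single (1 : ℤ) (1 : F))) v =
      HahnSeries.C (v.coeff (-1)) := by
  ext n
  rw [comm_apply, HahnSeries.coeff_sub, ls_trunc_coeff, ff_mulK_apply, ff_mulK_apply,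
    HahnSeries.coeff_single_mul, HahnSeries.coeff_single_mul, ls_trunc_coeff, one_mul, one_mul,
    HahnSeries.C_apply, HahnSeries.coeff_single]
  by_cases h0 : n = 0
  · subst h0
    simp
  · rw [if_neg h0]
    by_cases h1 : 0 ≤ n
    · rw [if_pos h1, if_pos (by omega), sub_self]
    · rw [if_neg h1, if_neg (by omega), sub_self]

/-- `res(a dX) = Tr_{F/k} coeff_{-1}(a)`. -/
theorem ls_tres_X [FiniteDimensional k F] (a : F⸨X⸩) :
    ff_tres (ls_trunc k F) a (HahnSeries.single (1 : ℤ) (1 : F)) =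
      Algebra.trace k F (a.coeff (-1)) := by
  unfold ff_tres tres
  have h1 : comm (ls_trunc k F) (ff_mulK (HahnSeries.single (1 : ℤ) (1 : F))) ∘ₗ ff_mulK a =
      ls_CL k F ∘ₗ (ls_coeffL k F (-1) ∘ₗ ff_mulK a) := by
    ext v : 1
    rw [LinearMap.comp_apply, ls_comm_X]
    rfl
  rw [h1, fpTr_comp_comm, fpTr_eq_trace, Algebra.trace_apply]
  congr 1
  ext c
  simp only [LinearMap.comp_apply, ls_CL_apply, ff_mulK_apply, ls_coeffL_apply]
  rw [HahnSeries.C_apply, HahnSeries.coeff_mul_single_zero]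
  rfl


section main

variable [FiniteDimensional k F]

/-- the Tate pairing on Laurent series. -/
noncomputable def ls_tresL : F⸨X⸩ →ₗ[k] F⸨X⸩ →ₗ[k] k :=
  LinearMap.mk₂ k (ff_tres (ls_trunc k F))
    (ffg_tres_add_left (lsPlace k F) (ls_near k F) (ls_trunc_isProj k F))
    (fun c x y => by
      rw [ffg_tres_smul_left (lsPlace k F) (ls_near k F) (ls_trunc_isProj k F), smul_eq_mul])
    (ffg_tres_add_right (lsPlace k F) (ls_near k F) (ls_trunc_isProj k F))
    (fun c x y => by
      rw [ffg_tres_smul_right (lsPlace k F) (ls_near k F) (ls_trunc_isProj k F), smul_eq_mul])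

theorem ls_tresL_apply (f g : F⸨X⸩) : ls_tresL k F f g = ff_tres (ls_trunc k F) f g := rfl

omit [FiniteDimensional k F] [Algebra k F] in
theorem ls_D_mul (f g : F⸨X⸩) :
    LocRes.D F (f * g) = f * LocRes.D F g + g * LocRes.D F f := by
  simp only [LocRes.D_apply]
  exact LocRes.derivative_mul F f g

omit [FiniteDimensional k F] in
theorem ls_D_ksmul (c : k) (g : F⸨X⸩) :
    LocRes.D F (algebraMap k F⸨X⸩ c * g) = algebraMap k F⸨X⸩ c * LocRes.D F g := by
  rw [ls_algebraMap, ls_D_mul, LocRes.D_apply F (HahnSeries.C _),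
    LocRes.derivative_C, mul_zero, add_zero]

/-- the Laurent residue pairing `Tr coeff_{-1}(f g')`. -/
noncomputable def ls_resL : F⸨X⸩ →ₗ[k] F⸨X⸩ →ₗ[k] k :=
  LinearMap.mk₂ k (fun f g => Algebra.trace k F ((f * LocRes.D F g).coeff (-1)))
    (fun f f' g => by rw [add_mul, HahnSeries.coeff_add, map_add])
    (fun c f g => by
      rw [Algebra.smul_def, mul_assoc, ls_coeff_ksmul, map_smul])
    (fun f g g' => by rw [map_add, mul_add, HahnSeries.coeff_add, map_add])
    (fun c f g => by
      rw [Algebra.smul_def, ls_D_ksmul, mul_left_comm, ls_coeff_ksmul, map_smul])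

theorem ls_resL_apply (f g : F⸨X⸩) :
    ls_resL k F f g = Algebra.trace k F ((f * LocRes.D F g).coeff (-1)) := rfl

theorem ls_resL_leibniz (x y z : F⸨X⸩) :
    ls_resL k F x (y * z) = ls_resL k F (x * y) z + ls_resL k F (x * z) y := by
  rw [ls_resL_apply, ls_resL_apply, ls_resL_apply, ls_D_mul,
    ← map_add, ← HahnSeries.coeff_add]
  congr 2
  ring

/-- the error derivation `δ_Tate - δ_Laurent`. -/
noncomputable def ls_E : Derivation k F⸨X⸩ (KDual k F⸨X⸩) :=
  ff_pairDer (ls_tresL k F)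
      (fun x y z => ffg_tres_mul (lsPlace k F) (ls_near k F) (ls_trunc_isProj k F) x y z) -
    ff_pairDer (ls_resL k F) (ls_resL_leibniz k F)

theorem ls_E_apply (f g : F⸨X⸩) :
    (ls_E k F g).toLin f =
      ff_tres (ls_trunc k F) f g - Algebra.trace k F ((f * LocRes.D F g).coeff (-1)) := rfl

theorem ls_D_X : LocRes.D F (HahnSeries.single (1 : ℤ) (1 : F)) = 1 := by
  ext n
  rw [LocRes.D_coeff, HahnSeries.coeff_one, HahnSeries.coeff_single]
  by_cases h0 : n = 0
  · subst h0; simp
  · rw [if_neg h0, if_neg (by omega), smul_zero]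

theorem ls_E_X : ls_E k F (HahnSeries.single (1 : ℤ) (1 : F)) = 0 := by
  apply KDual.ext
  intro f
  rw [ls_E_apply, ls_tres_X, ls_D_X, mul_one, sub_self]
  rfl

omit [FiniteDimensional k F] in
theorem ls_comm_C (c : F) : comm (ls_trunc k F) (ff_mulK (HahnSeries.C c)) = 0 := by
  ext v n
  rw [comm_apply, HahnSeries.coeff_sub, ls_trunc_coeff, ff_mulK_apply, ff_mulK_apply,
    HahnSeries.C_apply, HahnSeries.coeff_single_zero_mul, HahnSeries.coeff_single_zero_mul,
    ls_trunc_coeff]
  split_ifs <;> simp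

theorem ls_E_C (c : F) : ls_E k F (HahnSeries.C c) = 0 := by
  apply KDual.ext
  intro f
  rw [ls_E_apply, LocRes.D_apply F (HahnSeries.C _), LocRes.derivative_C, mul_zero]
  unfold ff_tres tres
  rw [ls_comm_C, LinearMap.zero_comp, fpTr_zero]
  simp
  rfl

theorem ls_E_X_zpow (n : ℤ) : ls_E k F ((HahnSeries.single (1 : ℤ) (1 : F)) ^ n) = 0 := by
  rw [Derivation.leibniz_zpow, ls_E_X, smul_zero, smul_zero]

theorem ls_E_single (n : ℤ) (c : F) : ls_E k F (HahnSeries.single n c) = 0 := by
  have h1 : HahnSeries.single n c =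
      HahnSeries.C c * (HahnSeries.single (1 : ℤ) (1 : F)) ^ n := by
    rw [← RatFunc.single_zpow, HahnSeries.C_apply, HahnSeries.single_mul_single, zero_add,
      mul_one]
  rw [h1, Derivation.leibniz, ls_E_X_zpow, ls_E_C, smul_zero, smul_zero, add_zero]

/-- vanishing in the integral range. -/
theorem ls_E_eq_zero_of_le_one {f g : F⸨X⸩} (hg : Valued.v g ≤ 1)
    (hf : Valued.v f ≤ WithZero.exp (-1 : ℤ)) : (ls_E k F g).toLin f = 0 := by
  rw [ls_E_apply]
  have hf1 : Valued.v f ≤ 1 := hf.trans (by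
    rw [← WithZero.exp_zero, WithZero.exp_le_exp]; norm_num)
  have h1 : ff_tres (ls_trunc k F) f g = 0 :=
    ffg_tres_eq_zero_of_le_one (lsPlace k F) (ls_near k F) (ls_trunc_isProj k F) hf1 hg
  have h2 : (f * LocRes.D F g).coeff (-1) = 0 := by
    have hDg : Valued.v (LocRes.D F g) ≤ WithZero.exp (-((0 : ℤ) - 1)) :=
      Groth.Agent.Lib.Helper63.LocResBasic.val_D_le (by simpa using hg)
    have h3 : Valued.v (f * LocRes.D F g) ≤ WithZero.exp (-(0 : ℤ)) := by
      rw [map_mul]
      calc Valued.v f * Valued.v (LocRes.D F g)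
          ≤ WithZero.exp (-1 : ℤ) * WithZero.exp (-((0 : ℤ) - 1)) := mul_le_mul' hf hDg
        _ = WithZero.exp (-(0 : ℤ)) := by rw [← WithZero.exp_add]; norm_num
    exact (valuation_le_iff_coeff_lt_eq_zero F).mp h3 (-1) (by norm_num)
  rw [h1, h2, map_zero, sub_zero]

theorem ls_E_eq_zero_of_val {f g : F⸨X⸩} {N : ℤ} (hg : Valued.v g ≤ WithZero.exp (-N))
    (hf : Valued.v f ≤ WithZero.exp (N - 1)) : (ls_E k F g).toLin f = 0 := by
  set T : F⸨X⸩ := HahnSeries.single (1 : ℤ) (1 : F) with hT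
  have hT0 : T ≠ 0 := HahnSeries.single_ne_zero one_ne_zero
  have hvT : ∀ m : ℤ, Valued.v (T ^ m) = WithZero.exp (-m) := by
    intro m
    rw [hT, ← RatFunc.single_zpow, valuation_single_zpow]
  have hg' : g = T ^ N * (T ^ (-N) * g) := by
    rw [← mul_assoc, ← zpow_add₀ hT0, add_neg_cancel, zpow_zero, one_mul]
  rw [hg', Derivation.leibniz, ls_E_X_zpow, smul_zero, add_zero, KDual.smul_apply]
  refine ls_E_eq_zero_of_le_one k F ?_ ?_
  · rw [map_mul, hvT, neg_neg]
    calc WithZero.exp N * Valued.v g ≤ WithZero.exp N * WithZero.exp (-N) :=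
          mul_le_mul' le_rfl hg
      _ = 1 := by rw [← WithZero.exp_add, add_neg_cancel, WithZero.exp_zero]
  · rw [map_mul, hvT]
    calc WithZero.exp (-N) * Valued.v f ≤ WithZero.exp (-N) * WithZero.exp (N - 1) :=
          mul_le_mul' le_rfl hf
      _ = WithZero.exp (-1 : ℤ) := by rw [← WithZero.exp_add]; congr 1; ring

theorem ls_exists_val_le (f : F⸨X⸩) : ∃ n : ℤ, Valued.v f ≤ WithZero.exp n := by
  by_cases h0 : Valued.v f = 0
  · exact ⟨0, by rw [h0]; exact zero_le⟩
  · exact ⟨WithZero.log (Valued.v f), WithZero.le_exp_log⟩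

theorem ls_E_eq_zero (g : F⸨X⸩) : ls_E k F g = 0 := by
  apply KDual.ext
  intro f
  obtain ⟨M, hM⟩ := ls_exists_val_le F f
  obtain ⟨M', hM'⟩ := ls_exists_val_le F g
  set N : ℤ := M + 1 with hN
  set g₀ : F⸨X⸩ := ∑ n ∈ Finset.Ico (-M') N, HahnSeries.single n (g.coeff n) with hg₀
  have hg₀E : ls_E k F g₀ = 0 := by
    rw [hg₀, map_sum]
    exact Finset.sum_eq_zero fun n _ => ls_E_single k F n _
  have hcoeff : ∀ n < -M', g.coeff n = 0 := by
    have : Valued.v g ≤ WithZero.exp (-(-M')) := by rwa [neg_neg]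
    exact (valuation_le_iff_coeff_lt_eq_zero F).mp this
  have hg₁ : Valued.v (g - g₀) ≤ WithZero.exp (-N) := by
    rw [valuation_le_iff_coeff_lt_eq_zero]
    intro n hn
    rw [HahnSeries.coeff_sub, hg₀, HahnSeries.coeff_sum]
    by_cases hmem : n ∈ Finset.Ico (-M') N
    · rw [Finset.sum_eq_single_of_mem n hmem, HahnSeries.coeff_single_same, sub_self]
      intro b _ hb
      exact HahnSeries.coeff_single_of_ne (Ne.symm hb)
    · have hlt : n < -M' := by
        rw [Finset.mem_Ico] at hmem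
        omega
      rw [hcoeff n hlt, Finset.sum_eq_zero, sub_zero]
      intro b hb
      refine HahnSeries.coeff_single_of_ne ?_
      rintro rfl
      exact hmem hb
  have hsplit : g = g₀ + (g - g₀) := by ring
  rw [hsplit, map_add, hg₀E, zero_add]
  exact ls_E_eq_zero_of_val k F hg₁ (by rw [hN]; simpa using hM)

/-- **Tate's residue on Laurent series is the classical one.** -/
theorem ls_tres_eq (f g : F⸨X⸩) :
    ff_tres (ls_trunc k F) f g = Algebra.trace k F ((f * LocRes.D F g).coeff (-1)) := by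
  have h := congrArg (fun m : KDual k F⸨X⸩ => m.toLin f) (ls_E_eq_zero k F g)
  simp only [ls_E_apply] at h
  exact sub_eq_zero.mp h

end main

end Groth.Agent.Lib.Helper55
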