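import Groth.Agent.Lib.Helper55.FunFld.Conductor

/-!
# The local conductor of a birational projective map (S12532)
-/

open FunFld Module

namespace Groth.Agent.Lib.Helper55

variable {k K : Type*} [Field k] [Field K] [Algebra k K]

theorem ff_sum_poleDiv_eq_zero_iff (hK : IsFunctionField k K) {ι : Type*} [Fintype ι]
    (x : ι → K) (Q : Place k K) :
    (∑ i, ff_poleDiv (x i) : Divisor k K) Q = 0 ↔ ∀ i, Q.1 (x i) ≤ 1 := by
  classical
  rw [Finsupp.finsetSum_apply]
  rw [Finset.sum_eq_zero_iff_of_nonneg (fun i _ => ff_poleDiv_nonneg (x i) Q)]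
  constructor
  · intro h i
    have h2 := h i (Finset.mem_univ i)
    have h3 := ff_val_le_exp_poleDiv hK (x i) Q
    rwa [h2, WithZero.exp_zero] at h3
  · intro h i _
    rw [ff_poleDiv_apply hK]
    by_cases h0 : x i = 0
    · rw [h0]; simp [ff_ord_zero]
    · have := (ff_ord_nonneg_iff Q h0).mpr (h i)
      omega

/-- The conductor of `k[x]` in its integral closure in `K = k(x)`. -/
theorem ff_exists_conductor [IsAlgClosed k] (hK : IsFunctionField k K)
    {ι : Type*} [Fintype ι] (x : ι → K) (i₀ : ι) (hi₀ : Transcendental k (x i₀))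
    (hbir : IntermediateField.adjoin k (Set.range x) = ⊤) :
    ∃ c ∈ Algebra.adjoin k (Set.range x), c ≠ 0 ∧
      ∀ y : K, (∀ Q : Place k K, (∀ i, Q.1 (x i) ≤ 1) → Q.1 y ≤ 1) →
        c * y ∈ Algebra.adjoin k (Set.range x) := by
  classical
  have hint : ∀ y : K, (∀ Q : Place k K, (∀ i, Q.1 (x i) ≤ 1) → Q.1 y ≤ 1) →
      IsIntegral (Algebra.adjoin k (Set.range x)) y := by
    intro y hy
    apply ff_isIntegral_of_valuationSubring
    intro V hV
    by_cases hVtop : V = ⊤
    · rw [hVtop]; trivial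
    · obtain ⟨Q, hQ⟩ := ff_exists_place_of_valuationSubring hK V
        (fun c => hV _ (Subalgebra.algebraMap_mem _ c)) hVtop
      rw [← hQ]
      refine (Valuation.mem_valuationSubring_iff _ _).mpr (hy Q fun i => ?_)
      have := hV _ (Algebra.subset_adjoin ⟨i, rfl⟩ : x i ∈ Algebra.adjoin k (Set.range x))
      rw [← hQ] at this
      exact (Valuation.mem_valuationSubring_iff _ _).mp this
  obtain ⟨B, hFG, hB⟩ := ff_exists_fg_subalgebra hK x i₀ hi₀ _ hint
  obtain ⟨T, hT⟩ := hFG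
  have hfrac : ∀ y : K, ∃ r w : K, r ∈ Algebra.adjoin k (Set.range x) ∧
      w ∈ Algebra.adjoin k (Set.range x) ∧ w ≠ 0 ∧ y * w = r := by
    intro y
    have : y ∈ IntermediateField.adjoin k (Set.range x) := by rw [hbir]; trivial
    obtain ⟨r, hr, w, hw, rfl⟩ := IntermediateField.mem_adjoin_iff_div.mp this
    by_cases hw0 : w = 0
    · exact ⟨0, 1, Subalgebra.zero_mem _, Subalgebra.one_mem _, one_ne_zero,
        by rw [hw0, div_zero, zero_mul]⟩
    · exact ⟨r, w, hr, hw, hw0, div_mul_cancel₀ r hw0⟩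
  choose r w hr hw hw0 hyw using hfrac
  set c := ∏ y ∈ T, w y with hc
  have hcR : c ∈ Algebra.adjoin k (Set.range x) := Subalgebra.prod_mem _ fun y _ => hw y
  have hc0 : c ≠ 0 := Finset.prod_ne_zero_iff.mpr fun y _ => hw0 y
  have hcT : ∀ y ∈ T, c * y ∈ Algebra.adjoin k (Set.range x) := by
    intro y hy
    rw [hc, ← Finset.mul_prod_erase T w hy]
    have : (w y * ∏ z ∈ T.erase y, w z) * y = (∏ z ∈ T.erase y, w z) * (y * w y) := by ring
    rw [this, hyw y]
    exact Subalgebra.mul_mem _ (Subalgebra.prod_mem _ fun z _ => hw z) (hr y)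
  have hcspan : ∀ b ∈ Submodule.span (Algebra.adjoin k (Set.range x)) (T : Set K),
      c * b ∈ Algebra.adjoin k (Set.range x) := by
    intro b hb
    induction hb using Submodule.span_induction with
    | mem y hy => exact hcT y hy
    | zero => rw [mul_zero]; exact Subalgebra.zero_mem _
    | add a b _ _ ha hb => rw [mul_add]; exact Subalgebra.add_mem _ ha hb
    | smul a b _ hb =>
      have : c * (a • b) = (a : K) * (c * b) := by
        change c * ((a : K) * b) = _
        ring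
      rw [this]
      exact Subalgebra.mul_mem _ a.2 hb
  refine ⟨c, hcR, hc0, fun y hy => ?_⟩
  apply hcspan
  rw [hT]
  exact hB y hy

/-- Clearing poles outside `supp E'` and an exceptional set by units at `P` from `R`. -/
theorem ff_clear_poles'' (hK : IsFunctionField k K) {E' : Divisor k K} (hE' : 0 ≤ E')
    (R : Subalgebra k K) (P : Place k K) (ex : Place k K → Prop)
    (hsep : ∀ Q : Place k K, ¬ ex Q → E' Q = 0 →
      ∃ h ∈ R, P.1 h = 1 ∧ ∃ M : ℕ, h ∈ L (M • E' - Finsupp.single Q 1)) :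
    ∀ (n : ℕ) (A : Divisor k K), 0 ≤ A → (∀ Q, ex Q → A Q = 0) → A.deg ≤ n →
      ∀ (N : ℕ) (z : K), z ∈ L (A + N • E') →
        ∃ h ∈ R, P.1 h = 1 ∧ ∃ M : ℕ, h * z ∈ L (M • E') := by
  classical
  intro n
  induction n with
  | zero =>
    intro A hA hAP hdeg N z hz
    have hA0 : A = 0 := by
      by_contra hne
      obtain ⟨Q, hQ⟩ : ∃ Q, A Q ≠ 0 := by
        by_contra hcon
        push Not at hcon
        exact hne (Finsupp.ext hcon)
      have h1 := ff_coeff_le_deg hK hA Q
      have h2 : 0 ≤ A Q := hA Q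
      push_cast at hdeg
      omega
    subst hA0
    refine ⟨1, Subalgebra.one_mem _, map_one _, N, ?_⟩
    rwa [one_mul, ← zero_add (N • E')]
  | succ n ih =>
    intro A hA hAP hdeg N z hz
    by_cases hA0 : A = 0
    · subst hA0
      refine ⟨1, Subalgebra.one_mem _, map_one _, N, ?_⟩
      rwa [one_mul, ← zero_add (N • E')]
    obtain ⟨Q, hQ⟩ : ∃ Q, A Q ≠ 0 := by
      by_contra hcon
      push Not at hcon
      exact hA0 (Finsupp.ext hcon)
    have hQpos : 0 < A Q := lt_of_le_of_ne (hA Q) (Ne.symm hQ)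
    have hQex : ¬ ex Q := fun h => hQ (hAP Q h)
    have hA' : (0 : Divisor k K) ≤ A - Finsupp.single Q 1 := by
      intro R'
      rw [Finsupp.sub_apply, Finsupp.single_apply]
      split_ifs with hR
      · subst hR; simp only [Finsupp.coe_zero, Pi.zero_apply]; omega
      · simpa using hA R'
    have hA'P : ∀ Q', ex Q' → (A - Finsupp.single Q 1 : Divisor k K) Q' = 0 := by
      intro Q' hQ'
      have hne : Q ≠ Q' := fun h => hQex (h ▸ hQ')
      rw [Finsupp.sub_apply, Finsupp.single_apply, if_neg hne, hAP Q' hQ', sub_zero]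
    have hdeg' : (A - Finsupp.single Q 1 : Divisor k K).deg ≤ n := by
      rw [ff_deg_sub, ff_deg_single]
      have := ff_deg_pos hK Q
      push_cast at hdeg
      have : (1 : ℤ) ≤ (Q.deg : ℤ) := by exact_mod_cast this
      linarith
    by_cases hEQ : E' Q = 0
    · obtain ⟨hQ', hQ'R, hQ'1, MQ, hQ'L⟩ := hsep Q hQex hEQ
      have hmul : hQ' * z ∈ L ((A - Finsupp.single Q 1) + (N + MQ) • E') := by
        have := ff_mul_mem_L hQ'L hz
        have e : MQ • E' - Finsupp.single Q 1 + (A + N • E') =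
            (A - Finsupp.single Q 1) + (N + MQ) • E' := by
          rw [add_nsmul]; abel
        rwa [e] at this
      obtain ⟨h', hh', hh'1, M, hM⟩ := ih _ hA' hA'P hdeg' (N + MQ) _ hmul
      refine ⟨h' * hQ', Subalgebra.mul_mem _ hh' hQ'R, ?_, M, ?_⟩
      · rw [map_mul, hh'1, hQ'1, one_mul]
      · rwa [mul_assoc]
    · have hEQ1 : (Finsupp.single Q 1 : Divisor k K) ≤ E' := by
        intro R'
        rw [Finsupp.single_apply]
        split_ifs with hR
        · subst hR
          have := hE' Q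
          simp only [Finsupp.coe_zero, Pi.zero_apply] at this
          omega
        · exact hE' R'
      have hz' : z ∈ L ((A - Finsupp.single Q 1) + (N + 1) • E') := by
        refine ff_L_mono ?_ hz
        intro R'
        have h1 := hEQ1 R'
        simp only [Finsupp.add_apply, Finsupp.sub_apply, Finsupp.smul_apply, nsmul_eq_mul]
        push_cast
        linarith
      exact ih _ hA' hA'P hdeg' (N + 1) _ hz'

/-- S12532: functions vanishing to high order at all places over the image point of `P` lie in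
the local ring of a birational projective map at `P`. -/
theorem ff_exists_bound_inLocRing [IsAlgClosed k] (hK : IsFunctionField k K) {n : ℕ}
    (hn : 1 ≤ n) (φ : Fin (n + 1) → K) (hφ : LinearIndependent k φ)
    (hbir : IntermediateField.adjoin k (Set.range fun i => φ i / φ 0) = ⊤) (P : Place k K) :
    ∃ N : ℕ, ∀ z : K,
      (∀ Q : Place k K, SameImage φ P Q → Q.1 z ≤ WithZero.exp (-(N : ℤ))) →
        InLocRing φ P z := by
  classical
  have hφ0 : ∀ i, φ i ≠ 0 := fun i => hφ.ne_zero i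
  obtain ⟨j, hmax⟩ := ff_exists_max_index φ P
  have hj0 : φ j ≠ 0 := hφ0 j
  set x : Fin (n + 1) → K := fun i => φ i / φ j with hx
  have hbirj : IntermediateField.adjoin k (Set.range x) = ⊤ := by
    rw [← top_le_iff, ← hbir, IntermediateField.adjoin_le_iff]
    rintro _ ⟨i, rfl⟩
    have h1 : φ i / φ 0 = x i / x 0 := by
      change φ i / φ 0 = (φ i / φ j) / (φ 0 / φ j)
      field_simp
    change φ i / φ 0 ∈ IntermediateField.adjoin k (Set.range x)
    rw [h1]
    exact div_mem (IntermediateField.subset_adjoin k _ ⟨i, rfl⟩)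
      (IntermediateField.subset_adjoin k _ ⟨0, rfl⟩)
  obtain ⟨i₀, hi₀⟩ := ff_exists_ratio_transcendental hK hn φ hφ j
  obtain ⟨c, hcR, hc0, hcond⟩ := ff_exists_conductor hK x i₀ hi₀ hbirj
  have hfin : {Q : Place k K | SameImage φ P Q}.Finite := ff_finite_fibre hK hn φ hφ P
  refine ⟨hfin.toFinset.sup (fun Q => (Q.ord c).toNat), fun z hz => ?_⟩
  set N := hfin.toFinset.sup (fun Q => (Q.ord c).toNat) with hN
  set E₀ : Divisor k K := ∑ i, ff_poleDiv (x i) with hE₀
  have hE₀0 : 0 ≤ E₀ := Finset.sum_nonneg fun i _ => ff_poleDiv_nonneg (x i)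
  have hE₀zero : ∀ Q : Place k K, E₀ Q = 0 ↔ ∀ i, Q.1 (x i) ≤ 1 :=
    fun Q => ff_sum_poleDiv_eq_zero_iff hK x Q
  have hxP : ∀ i, P.1 (x i) ≤ 1 := by
    intro i
    change P.1 (φ i / φ j) ≤ 1
    rw [map_div₀]
    exact (div_le_one₀ (zero_lt_iff.mpr (ff_val_ne_zero P hj0))).mpr (hmax i)
  have hRint : ∀ r ∈ Algebra.adjoin k (Set.range x), ∀ Q : Place k K,
      (∀ i, Q.1 (x i) ≤ 1) → Q.1 r ≤ 1 := by
    intro r hr Q hQ
    induction hr using Algebra.adjoin_induction with
    | mem r hr => obtain ⟨i, rfl⟩ := hr; exact hQ i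
    | algebraMap c => exact Q.2.1 c
    | add a b _ _ ha hb => exact (Q.1.map_add a b).trans (max_le ha hb)
    | mul a b _ _ ha hb => rw [map_mul]; exact mul_le_one' ha hb
  have hRL : ∀ r ∈ Algebra.adjoin k (Set.range x), ∃ M : ℕ, r ∈ L (M • E₀) := fun r hr =>
    ff_mem_L_nsmul_of_integral_outside hK hE₀0
      (fun Q hQ => hRint r hr Q ((hE₀zero Q).mp hQ))
  have hxR : ∀ i, x i ∈ Algebra.adjoin k (Set.range x) := fun i =>
    Algebra.subset_adjoin ⟨i, rfl⟩
  choose b hb using fun i => ff_exists_const_approx hK P (hxP i)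
  have hsep : ∀ Q : Place k K, ¬ SameImage φ P Q → E₀ Q = 0 →
      ∃ h ∈ Algebra.adjoin k (Set.range x), P.1 h = 1 ∧
        ∃ M : ℕ, h ∈ L (M • E₀ - Finsupp.single Q 1) := by
    intro Q hQns hEQ
    have hxQ : ∀ i, Q.1 (x i) ≤ 1 := (hE₀zero Q).mp hEQ
    have hmaxQ : ∀ i, Q.1 (φ i) ≤ Q.1 (φ j) := by
      intro i
      have := hxQ i
      change Q.1 (φ i / φ j) ≤ 1 at this
      rw [map_div₀] at this
      exact (div_le_one₀ (zero_lt_iff.mpr (ff_val_ne_zero Q hj0))).mp this
    choose b' hb' using fun i => ff_exists_const_approx hK Q (hxQ i)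
    obtain ⟨i, hi⟩ : ∃ i, b i ≠ b' i := by
      by_contra hcon
      push Not at hcon
      exact hQns ⟨j, hj0, hmax, hmaxQ, fun i => ⟨b i, hb i, by rw [hcon i]; exact hb' i⟩⟩
    set w := x i - algebraMap k K (b' i) with hw
    have hwR : w ∈ Algebra.adjoin k (Set.range x) :=
      Subalgebra.sub_mem _ (hxR i) (Subalgebra.algebraMap_mem _ _)
    have hwP : P.1 w = 1 := by
      have h1 : w = (x i - algebraMap k K (b i)) + algebraMap k K (b i - b' i) := by
        rw [hw, map_sub]; ring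
      have h2 : P.1 (algebraMap k K (b i - b' i)) = 1 := ff_val_const P (sub_ne_zero.mpr hi)
      rw [h1, add_comm, Valuation.map_add_eq_of_lt_left P.1 (by rw [h2]; exact hb i), h2]
    obtain ⟨M, hM⟩ := hRL w hwR
    refine ⟨w, hwR, hwP, M, ?_⟩
    rw [ff_mem_L_sub_single_iff]
    refine ⟨hM, ?_⟩
    rw [Finsupp.smul_apply, hEQ, smul_zero, WithZero.exp_zero]
    exact hb' i
  -- the element `z / c`
  set z₁ := z / c with hz₁
  have hA0 : (0 : Divisor k K) ≤ ff_poleDiv z₁ := ff_poleDiv_nonneg z₁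
  have hAex : ∀ Q : Place k K, SameImage φ P Q → (ff_poleDiv z₁ : Divisor k K) Q = 0 := by
    intro Q hQ
    have h1 : Q.1 z₁ ≤ 1 := by
      rw [hz₁, map_div₀]
      refine (div_le_one₀ (zero_lt_iff.mpr (ff_val_ne_zero Q hc0))).mpr ?_
      refine (hz Q hQ).trans ?_
      rw [ff_val_eq_exp_neg_ord Q hc0, WithZero.exp_le_exp]
      have h2 : (Q.ord c).toNat ≤ N :=
        Finset.le_sup (f := fun Q => (Q.ord c).toNat) ((Set.Finite.mem_toFinset hfin).mpr hQ)
      have h3 : Q.ord c ≤ ((Q.ord c).toNat : ℤ) := Int.self_le_toNat _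
      have h4 : ((Q.ord c).toNat : ℤ) ≤ (N : ℤ) := by exact_mod_cast h2
      omega
    rw [ff_poleDiv_apply hK]
    by_cases h0 : z₁ = 0
    · rw [h0]; simp [ff_ord_zero]
    · have := (ff_ord_nonneg_iff Q h0).mpr h1
      omega
  have hz₁L : z₁ ∈ L (ff_poleDiv z₁ + 0 • E₀) := by
    rw [zero_nsmul, add_zero, ff_mem_L_iff]
    exact fun Q => ff_val_le_exp_poleDiv hK z₁ Q
  obtain ⟨h, hh, hh1, M, hM⟩ := ff_clear_poles'' hK hE₀0 _ P (fun Q => SameImage φ P Q) hsep
    (ff_poleDiv z₁ : Divisor k K).deg.toNat _ hA0 hAex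
    (by rw [Int.toNat_of_nonneg (ff_deg_nonneg hA0)]) 0 z₁ hz₁L
  have hint : ∀ Q : Place k K, (∀ i, Q.1 (x i) ≤ 1) → Q.1 (h * z₁) ≤ 1 := by
    intro Q hQ
    have := (ff_mem_L_iff _ _).mp hM Q
    rwa [Finsupp.smul_apply, (hE₀zero Q).mpr hQ, smul_zero, WithZero.exp_zero] at this
  have h1 := hcond _ hint
  have h2 : c * (h * z₁) = h * z := by
    rw [hz₁]
    field_simp
  rw [h2] at h1
  rw [ff_inLocRing_iff φ P j hj0 hmax]
  exact ⟨h * z, h1, h, hh, hh1, mul_comm _ _⟩

end Groth.Agent.Lib.Helper55
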