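import Groth.Agent.Lib.Helper55.FunFld.ProjLocal
import Mathlib.RingTheory.Valuation.LocalSubring
import Mathlib.RingTheory.IntegralClosure.IsIntegral.Basic
import Mathlib.RingTheory.IntegralClosure.IntegrallyClosed

/-!
# Finiteness of the valuation ring over the local ring of a projective map, and the
criterion "one place in the fibre + a local parameter ⇒ nonsingular"
-/

open FunFld Module

namespace Groth.Agent.Lib.Helper55

variable {k K : Type*} [Field k] [Field K] [Algebra k K]

/-- An element lying in every valuation ring containing the subalgebra `S` is integral over `S`. -/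
theorem ff_isIntegral_of_valuationSubring (S : Subalgebra k K) {y : K}
    (h : ∀ V : ValuationSubring K, (∀ z ∈ S, z ∈ V) → y ∈ V) : IsIntegral S y := by
  by_contra hy
  have hy' : y ∉ (integralClosure S K).toSubring := hy
  obtain ⟨V, hV, hyV⟩ := Subring.exists_le_valuationSubring_of_isIntegrallyClosedIn hy'
  refine hyV (h V fun z hz => hV ?_)
  exact (isIntegral_algebraMap (R := S) (A := K) (x := ⟨z, hz⟩) : IsIntegral S _)

/-- The local ring of `k[x]` at `P` does not depend on the choice of the entry of least order. -/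
theorem ff_inLocRing_iff {ι : Type*} (φ : ι → K) (P : Place k K) (j : ι) (hj0 : φ j ≠ 0)
    (hmax : ∀ i, P.1 (φ i) ≤ P.1 (φ j)) (z : K) :
    InLocRing φ P z ↔ z ∈ ff_locRing (Algebra.adjoin k (Set.range fun i => φ i / φ j)) P := by
  constructor
  · rintro ⟨j', hj'0, hmax', u, hu, w, hw, hw1, hzw⟩
    set Oa := ff_locRing (Algebra.adjoin k (Set.range fun i => φ i / φ j)) P with hOa
    have hjj' : P.1 (φ j' / φ j) = 1 := by
      rw [map_div₀, le_antisymm (hmax j') (hmax' j)]
      exact div_self (ff_val_ne_zero P hj0)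
    have hmem : φ j' / φ j ∈ Oa := ff_le_locRing _ P (Algebra.subset_adjoin ⟨j', rfl⟩)
    have hinv : (φ j' / φ j)⁻¹ ∈ Oa := ff_inv_mem_locRing _ P hmem hjj'
    have hle : Algebra.adjoin k (Set.range fun i => φ i / φ j') ≤ Oa := by
      refine Algebra.adjoin_le ?_
      rintro _ ⟨i, rfl⟩
      have : φ i / φ j' = (φ i / φ j) * (φ j' / φ j)⁻¹ := by
        field_simp
      change φ i / φ j' ∈ Oa
      rw [this]
      exact Oa.mul_mem (ff_le_locRing _ P (Algebra.subset_adjoin ⟨i, rfl⟩)) hinv
    have hwinv : w⁻¹ ∈ Oa := ff_inv_mem_locRing _ P (hle hw) hw1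
    have hw0 : w ≠ 0 := by
      intro h0
      rw [h0, map_zero] at hw1
      exact zero_ne_one hw1
    have : z = u * w⁻¹ := by
      rw [← hzw, mul_assoc, mul_inv_cancel₀ hw0, mul_one]
    rw [this]
    exact Oa.mul_mem (hle hu) hwinv
  · rintro ⟨u, hu, w, hw, hw1, hzw⟩
    exact ⟨j, hj0, hmax, u, hu, w, hw, hw1, hzw⟩

theorem ff_single_nonneg (Q : Place k K) : (0 : Divisor k K) ≤ Finsupp.single Q 1 := by
  classical
  intro R'
  rw [Finsupp.single_apply]
  split_ifs <;> simp

/-- Clearing poles outside `supp E' ∪ {P}` by units at `P` taken from a subalgebra `R`. -/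
theorem ff_clear_poles' (hK : IsFunctionField k K) {E' : Divisor k K} (hE' : 0 ≤ E')
    (R : Subalgebra k K) (P : Place k K)
    (hsep : ∀ Q : Place k K, Q ≠ P → E' Q = 0 →
      ∃ h ∈ R, P.1 h = 1 ∧ ∃ M : ℕ, h ∈ L (M • E' - Finsupp.single Q 1)) :
    ∀ (n : ℕ) (A : Divisor k K), 0 ≤ A → A P = 0 → A.deg ≤ n → ∀ (N : ℕ) (z : K),
      z ∈ L (A + N • E') → ∃ h ∈ R, P.1 h = 1 ∧ ∃ M : ℕ, h * z ∈ L (M • E') := by
  classical
  intro n
  induction n with
  | zero =>
    intro A hA hAP hdeg N z hz
    have hA0 : A = 0 := by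
      by_contra hne
      obtain ⟨Q, hQ⟩ : ∃ Q, A Q ≠ 0 := by
        by_contra hcon
        push Not at hcon
        exact hne (Finsupp.ext hcon)
      have hQpos : 0 < A Q := lt_of_le_of_ne (hA Q) (Ne.symm hQ)
      have hA' : (0 : Divisor k K) ≤ A - Finsupp.single Q 1 := by
        intro R'
        rw [Finsupp.sub_apply, Finsupp.single_apply]
        split_ifs with hR
        · subst hR; simp only [Finsupp.coe_zero, Pi.zero_apply]; omega
        · simpa using hA R'
      have h1 := ff_deg_nonneg hA'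
      rw [ff_deg_sub, ff_deg_single] at h1
      have := ff_deg_pos hK Q
      push_cast at hdeg
      nlinarith
    subst hA0
    refine ⟨1, Subalgebra.one_mem _, map_one _, N, ?_⟩
    rwa [one_mul, ← zero_add (N • E')]
  | succ n ih =>
    intro A hA hAP hdeg N z hz
    by_cases hA0 : A = 0
    · subst hA0
      refine ⟨1, Subalgebra.one_mem _, map_one _, N, ?_⟩
      rwa [one_mul, ← zero_add (N • E')]
    obtain ⟨Q, hQ⟩ : ∃ Q, A Q ≠ 0 := by
      by_contra hcon
      push Not at hcon
      exact hA0 (Finsupp.ext hcon)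
    have hQpos : 0 < A Q := lt_of_le_of_ne (hA Q) (Ne.symm hQ)
    have hQP : Q ≠ P := by
      rintro rfl
      exact hQ hAP
    have hA' : (0 : Divisor k K) ≤ A - Finsupp.single Q 1 := by
      intro R'
      rw [Finsupp.sub_apply, Finsupp.single_apply]
      split_ifs with hR
      · subst hR; simp only [Finsupp.coe_zero, Pi.zero_apply]; omega
      · simpa using hA R'
    have hA'P : (A - Finsupp.single Q 1 : Divisor k K) P = 0 := by
      rw [Finsupp.sub_apply, Finsupp.single_apply, if_neg hQP, hAP, sub_zero]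
    have hdeg' : (A - Finsupp.single Q 1 : Divisor k K).deg ≤ n := by
      rw [ff_deg_sub, ff_deg_single]
      have := ff_deg_pos hK Q
      push_cast at hdeg
      have : (1 : ℤ) ≤ (Q.deg : ℤ) := by exact_mod_cast this
      linarith
    by_cases hEQ : E' Q = 0
    · obtain ⟨hQ', hQ'R, hQ'1, MQ, hQ'L⟩ := hsep Q hQP hEQ
      have hmul : hQ' * z ∈ L ((A - Finsupp.single Q 1) + (N + MQ) • E') := by
        have := ff_mul_mem_L hQ'L hz
        have e : MQ • E' - Finsupp.single Q 1 + (A + N • E') =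
            (A - Finsupp.single Q 1) + (N + MQ) • E' := by
          rw [add_nsmul]; abel
        rwa [e] at this
      obtain ⟨h', hh', hh'1, M, hM⟩ := ih _ hA' hA'P hdeg' (N + MQ) _ hmul
      refine ⟨h' * hQ', Subalgebra.mul_mem _ hh' hQ'R, ?_, M, ?_⟩
      · rw [map_mul, hh'1, hQ'1, one_mul]
      · rwa [mul_assoc]
    · have hEQ1 : (Finsupp.single Q 1 : Divisor k K) ≤ E' := by
        intro R'
        rw [Finsupp.single_apply]
        split_ifs with hR
        · subst hR
          have := hE' Q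
          simp only [Finsupp.coe_zero, Pi.zero_apply] at this
          omega
        · exact hE' R'
      have hz' : z ∈ L ((A - Finsupp.single Q 1) + (N + 1) • E') := by
        refine ff_L_mono ?_ hz
        intro R'
        have h1 := hEQ1 R'
        simp only [Finsupp.add_apply, Finsupp.sub_apply, Finsupp.smul_apply, nsmul_eq_mul]
        push_cast
        linarith
      exact ih _ hA' hA'P hdeg' (N + 1) _ hz'

/-- Nakayama: if the valuation ring of `P` is a finitely generated module over the local ring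
`O_a ⊆ O_P` and `O_a` contains a local parameter at `P`, then `O_a = O_P`. -/
theorem ff_nakayama_locRing [IsAlgClosed k] (hK : IsFunctionField k K) (R : Subalgebra k K)
    (P : Place k K) (hR : ∀ z ∈ ff_locRing R P, P.1 z ≤ 1)
    {t : K} (ht : t ∈ ff_locRing R P) (htv : P.1 t = WithZero.exp (-1 : ℤ))
    (N' : Submodule (ff_locRing R P) K) (hFG : N'.FG) (hN' : ∀ y, y ∈ N' ↔ P.1 y ≤ 1)
    {z : K} (hz : P.1 z ≤ 1) : z ∈ ff_locRing R P := by
  classical
  let I : Ideal (ff_locRing R P) :=
    { carrier := {x | P.1 (x : K) < 1}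
      add_mem' := fun {a b} ha hb => lt_of_le_of_lt (P.1.map_add _ _) (max_lt ha hb)
      zero_mem' := by simp
      smul_mem' := fun c x hx => by
        change P.1 ((c : K) * (x : K)) < 1
        rw [map_mul]
        calc P.1 (c : K) * P.1 (x : K) ≤ 1 * P.1 (x : K) := mul_le_mul' (hR _ c.2) le_rfl
          _ = P.1 (x : K) := one_mul _
          _ < 1 := hx }
  have hIJ : I ≤ Ideal.jacobson ⊥ := by
    intro x hx
    rw [Ideal.mem_jacobson_bot]
    intro y
    have hxy : P.1 ((x : K) * (y : K)) < 1 := by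
      rw [map_mul]
      calc P.1 (x : K) * P.1 (y : K) ≤ P.1 (x : K) * 1 := mul_le_mul' le_rfl (hR _ y.2)
        _ = P.1 (x : K) := mul_one _
        _ < 1 := hx
    have hval : P.1 (((x * y + 1 : (ff_locRing R P)) : (ff_locRing R P)) : K) = 1 := by
      have : (((x * y + 1 : (ff_locRing R P)) : (ff_locRing R P)) : K) = 1 + (x : K) * (y : K) := by
        push_cast; ring
      rw [this, Valuation.map_add_eq_of_lt_left P.1 (by rwa [map_one]), map_one]
    have hne : (((x * y + 1 : (ff_locRing R P)) : (ff_locRing R P)) : K) ≠ 0 := by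
      intro h0
      rw [h0, map_zero] at hval
      exact zero_ne_one hval
    rw [isUnit_iff_exists_inv]
    exact ⟨⟨_, ff_inv_mem_locRing R P (x * y + 1).2 hval⟩, Subtype.ext (mul_inv_cancel₀ hne)⟩
  set N : Submodule (ff_locRing R P) K := Submodule.span (ff_locRing R P) {1} with hN
  have ht0 : t ≠ 0 := ff_uniformizer_ne_zero P htv
  have hNN : N' ≤ N ⊔ I • N' := by
    intro y hy
    have hyv : P.1 y ≤ 1 := (hN' y).mp hy
    obtain ⟨c, hc⟩ := ff_exists_const_approx hK P hyv
    have hq : P.1 ((y - algebraMap k K c) / t) ≤ 1 := by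
      rw [map_div₀, htv]
      rw [ff_lt_one_iff] at hc
      exact (div_le_one₀ (zero_lt_iff.mpr WithZero.exp_ne_zero)).mpr hc
    have hdecomp : y = (algebraMap k (ff_locRing R P) c) • (1 : K) +
        (⟨t, ht⟩ : (ff_locRing R P)) • ((y - algebraMap k K c) / t) := by
      change y = algebraMap k K c * 1 + t * ((y - algebraMap k K c) / t)
      field_simp
      ring
    rw [hdecomp]
    refine Submodule.add_mem _ (Submodule.mem_sup_left ?_) (Submodule.mem_sup_right ?_)
    · exact Submodule.smul_mem _ _ (Submodule.subset_span rfl)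
    · refine Submodule.smul_mem_smul ?_ ((hN' _).mpr hq)
      change P.1 t < 1
      rw [htv, ← WithZero.exp_zero, WithZero.exp_lt_exp]
      norm_num
  have hfinal := Submodule.le_of_le_smul_of_le_jacobson_bot hFG hIJ hNN
  have hzN : z ∈ N := hfinal ((hN' z).mpr hz)
  obtain ⟨a, ha⟩ := Submodule.mem_span_singleton.mp hzN
  have : z = (a : K) := by
    rw [← ha]
    change (a : K) * 1 = (a : K)
    rw [mul_one]
  rw [this]
  exact a.2

/-- **Finiteness + Nakayama**: if the local ring `O_a` of `k[x]` at `P` lies in the valuation ring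
of no other place and contains a local parameter at `P`, then `O_a = O_P`. -/
theorem ff_locRing_eq_of_fibre_of_uniformizer [IsAlgClosed k] (hK : IsFunctionField k K)
    {ι : Type*} [Fintype ι] (x : ι → K) (P : Place k K) (hx : ∀ i, P.1 (x i) ≤ 1)
    (i₀ : ι) (hi₀ : Transcendental k (x i₀))
    (H1 : ∀ Q : Place k K,
      (∀ z ∈ ff_locRing (Algebra.adjoin k (Set.range x)) P, Q.1 z ≤ 1) → Q = P)
    (H2 : ∃ t ∈ ff_locRing (Algebra.adjoin k (Set.range x)) P, P.1 t = WithZero.exp (-1 : ℤ))
    {z : K} (hz : P.1 z ≤ 1) : z ∈ ff_locRing (Algebra.adjoin k (Set.range x)) P := by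
  classical
  have hR1 : ∀ r ∈ Algebra.adjoin k (Set.range x), P.1 r ≤ 1 := by
    intro r hr
    induction hr using Algebra.adjoin_induction with
    | mem r hr => obtain ⟨i, rfl⟩ := hr; exact hx i
    | algebraMap c => exact P.2.1 c
    | add a b _ _ ha hb => exact (P.1.map_add a b).trans (max_le ha hb)
    | mul a b _ _ ha hb => rw [map_mul]; exact mul_le_one' ha hb
  have hOa1 : ∀ y ∈ ff_locRing (Algebra.adjoin k (Set.range x)) P, P.1 y ≤ 1 := by
    rintro y ⟨u, hu, w, -, hw1, hyw⟩
    have := hR1 u hu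
    rwa [← hyw, map_mul, hw1, mul_one] at this
  -- the divisor `E'`
  set g := genus k K with hg
  set E₀ : Divisor k K := ∑ i, ff_poleDiv (x i) with hE₀
  set E' : Divisor k K := (2 * g + 1) • E₀ with hE'
  have hE₀0 : 0 ≤ E₀ := Finset.sum_nonneg fun i _ => ff_poleDiv_nonneg (x i)
  have hE'0 : 0 ≤ E' := nsmul_nonneg hE₀0 _
  have hpd_le : ∀ i, (ff_poleDiv (x i) : Divisor k K) ≤ E₀ := fun i =>
    Finset.single_le_sum (f := fun i => (ff_poleDiv (x i) : Divisor k K))
      (fun i _ => ff_poleDiv_nonneg (x i)) (Finset.mem_univ i)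
  have hE₀E' : E₀ ≤ E' := by
    calc E₀ = 1 • E₀ := (one_nsmul _).symm
      _ ≤ (2 * g + 1) • E₀ := nsmul_le_nsmul_left hE₀0 (by omega)
  have hE₀P : E₀ P = 0 := by
    rw [hE₀, Finsupp.finsetSum_apply]
    refine Finset.sum_eq_zero fun i _ => ?_
    rw [ff_poleDiv_apply hK]
    by_cases h0 : x i = 0
    · rw [h0]; simp [ff_ord_zero]
    · have := (ff_ord_nonneg_iff P h0).mpr (hx i)
      omega
  have hE'P : E' P = 0 := by rw [hE', Finsupp.smul_apply, hE₀P, smul_zero]
  have hdegE₀ : 1 ≤ E₀.deg := by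
    have h1 := ff_deg_mono (hpd_le i₀)
    rw [ff_deg_poleDiv hK hi₀] at h1
    have := ff_finite_of_transcendental hK hi₀
    have h2 : 0 < Module.finrank (IntermediateField.adjoin k ({x i₀} : Set K)) K :=
      Module.finrank_pos
    omega
  have hdegE' : 2 * (g : ℤ) + 1 ≤ E'.deg := by
    rw [hE', ff_deg_nsmul]
    push_cast
    nlinarith
  have hxL : ∀ i, x i ∈ L E' := fun i =>
    ff_L_mono ((hpd_le i).trans hE₀E')
      ((ff_mem_L_iff _ _).mpr fun Q => ff_val_le_exp_poleDiv hK (x i) Q)
  have hRL : ∀ r ∈ Algebra.adjoin k (Set.range x), ∃ M : ℕ, r ∈ L (M • E') := by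
    intro r hr
    induction hr using Algebra.adjoin_induction with
    | mem r hr =>
      obtain ⟨i, rfl⟩ := hr
      exact ⟨1, by rw [one_nsmul]; exact hxL i⟩
    | algebraMap c =>
      refine ⟨0, ?_⟩
      rw [zero_nsmul, ff_mem_L_iff]
      intro Q
      simpa using Q.2.1 c
    | add a b _ _ ha hb =>
      obtain ⟨Ma, ha⟩ := ha
      obtain ⟨Mb, hb⟩ := hb
      exact ⟨max Ma Mb, (L _).add_mem
        (ff_L_mono (nsmul_le_nsmul_left hE'0 (le_max_left _ _)) ha)
        (ff_L_mono (nsmul_le_nsmul_left hE'0 (le_max_right _ _)) hb)⟩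
    | mul a b _ _ ha hb =>
      obtain ⟨Ma, ha⟩ := ha
      obtain ⟨Mb, hb⟩ := hb
      exact ⟨Ma + Mb, by rw [add_nsmul]; exact ff_mul_mem_L ha hb⟩
  -- a general element of `L(E')`
  have hbpf : ∀ Q : Place k K, E' Q ≠ 0 → ∃ y ∈ L E', y ∉ L (E' - Finsupp.single Q 1) := by
    intro Q _
    apply ff_exists_mem_not_mem_of_ell_lt hK
    have h1 := ff_ell_eq_of_deg_ge hK E' (by omega)
    have h2 := ff_ell_eq_of_deg_ge hK (E' - Finsupp.single Q 1) (by
      rw [ff_deg_sub, ff_deg_single, ff_deg_eq_one_of_isAlgClosed hK Q]; push_cast; omega)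
    rw [ff_deg_sub, ff_deg_single, ff_deg_eq_one_of_isAlgClosed hK Q] at h2
    push_cast at h2
    omega
  obtain ⟨t, htL, htgen⟩ := ff_exists_general E' hbpf
  obtain ⟨Q₀, hQ₀⟩ : ∃ Q, E' Q ≠ 0 := by
    by_contra hcon
    push Not at hcon
    have : E' = 0 := Finsupp.ext hcon
    rw [this, ff_deg_zero] at hdegE'
    omega
  have ht0 : t ≠ 0 := by
    rintro rfl
    have := htgen Q₀ hQ₀
    rw [map_zero] at this
    exact WithZero.exp_ne_zero this.symm
  -- the finitely generated algebra
  set m₀ : ℕ := 2 * g + 1 with hm₀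
  have hfd := ff_L_finiteDimensional hK (m₀ • E')
  obtain ⟨s, hs⟩ := (Submodule.fg_iff_finiteDimensional (L (m₀ • E'))).mpr hfd
  have hLP : ∀ (m : ℕ) (y : K), y ∈ L (m • E') → P.1 y ≤ 1 := by
    intro m y hy
    have := (ff_mem_L_iff _ _).mp hy P
    rwa [Finsupp.smul_apply, hE'P, smul_zero, WithZero.exp_zero] at this
  have hs1 : ∀ y ∈ (s : Set K), P.1 y ≤ 1 := fun y hy =>
    hLP m₀ y (hs ▸ Submodule.subset_span hy)
  -- integrality
  have hint : ∀ y : K, P.1 y ≤ 1 →
      IsIntegral (ff_locRing (Algebra.adjoin k (Set.range x)) P) y := by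
    intro y hy
    apply ff_isIntegral_of_valuationSubring
    intro V hV
    by_cases hVtop : V = ⊤
    · rw [hVtop]; trivial
    · obtain ⟨Q, hQ⟩ := ff_exists_place_of_valuationSubring hK V
        (fun c => hV _ (Subalgebra.algebraMap_mem _ c)) hVtop
      have hQP : Q = P := H1 Q fun z hz => by
        have := hV z hz
        rw [← hQ] at this
        exact (Valuation.mem_valuationSubring_iff _ _).mp this
      rw [← hQ, hQP]
      exact (Valuation.mem_valuationSubring_iff _ _).mpr hy
  set B := Algebra.adjoin (ff_locRing (Algebra.adjoin k (Set.range x)) P) (s : Set K) with hB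
  have hFG : (Subalgebra.toSubmodule B).FG :=
    fg_adjoin_of_finite s.finite_toSet fun y hy => hint y (hs1 y hy)
  have hBP : ∀ y ∈ B, P.1 y ≤ 1 := by
    intro y hy
    induction hy using Algebra.adjoin_induction with
    | mem y hy => exact hs1 y hy
    | algebraMap a => exact hOa1 _ a.2
    | add a b _ _ ha hb => exact (P.1.map_add a b).trans (max_le ha hb)
    | mul a b _ _ ha hb => rw [map_mul]; exact mul_le_one' ha hb
  have hLm₀ : ∀ y ∈ L (m₀ • E'), y ∈ B := by
    intro y hy
    rw [← hs] at hy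
    induction hy using Submodule.span_induction with
    | mem y hy => exact Algebra.subset_adjoin hy
    | zero => exact Subalgebra.zero_mem _
    | add a b _ _ ha hb => exact Subalgebra.add_mem _ ha hb
    | smul c a _ ha =>
      have := Subalgebra.smul_mem B ha
        (algebraMap k (ff_locRing (Algebra.adjoin k (Set.range x)) P) c)
      rwa [algebraMap_smul] at this
  have hLm : ∀ m, m₀ ≤ m → ∀ y ∈ L (m • E'), y ∈ B := by
    intro m hm
    induction m, hm using Nat.le_induction with
    | base => exact hLm₀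
    | succ m hm ih =>
      intro y hy
      have hF : 2 * (genus k K : ℤ) - 1 ≤ (m • E' - E').deg := by
        rw [ff_deg_sub, ff_deg_nsmul]
        have h1 : (2 * (g : ℤ) + 1 : ℤ) ≤ m := by exact_mod_cast hm
        have h2 : (1 : ℤ) ≤ E'.deg := by omega
        nlinarith [mul_nonneg (sub_nonneg.mpr h1) (sub_nonneg.mpr h2),
          mul_nonneg (Int.natCast_nonneg g) (sub_nonneg.mpr h2)]
      have e : (m + 1) • E' = E' + m • E' := by rw [succ_nsmul, add_comm]
      rw [e, ff_pencil hK hE'0 htL ht0 htgen (m • E') hF] at hy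
      obtain ⟨a, ha, b', ⟨b, hb, rfl⟩, rfl⟩ := Submodule.mem_sup.mp hy
      refine Subalgebra.add_mem _ (ih a ha) ?_
      have htB : t ∈ B := hLm₀ t (ff_L_mono (by
        calc E' = 1 • E' := (one_nsmul _).symm
          _ ≤ m₀ • E' := nsmul_le_nsmul_left hE'0 (by omega)) htL)
      exact Subalgebra.mul_mem _ htB (ih b hb)
  -- pole clearing
  have hsep : ∀ Q : Place k K, Q ≠ P → E' Q = 0 →
      ∃ h ∈ Algebra.adjoin k (Set.range x), P.1 h = 1 ∧
        ∃ M : ℕ, h ∈ L (M • E' - Finsupp.single Q 1) := by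
    intro Q hQP hEQ
    have hRQ : ∀ r ∈ Algebra.adjoin k (Set.range x), Q.1 r ≤ 1 := by
      intro r hr
      obtain ⟨M, hM⟩ := hRL r hr
      have := (ff_mem_L_iff _ _).mp hM Q
      rwa [Finsupp.smul_apply, hEQ, smul_zero, WithZero.exp_zero] at this
    obtain ⟨z₀, hz₀, hz₀Q⟩ : ∃ z₀ ∈ ff_locRing (Algebra.adjoin k (Set.range x)) P,
        1 < Q.1 z₀ := by
      by_contra hcon
      push Not at hcon
      exact hQP (H1 Q hcon)
    obtain ⟨u, hu, w, hw, hw1, hzw⟩ := hz₀
    have hwQ : Q.1 w < 1 := by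
      by_contra hcon
      push Not at hcon
      have h1 : Q.1 u ≤ 1 := hRQ u hu
      rw [← hzw, map_mul] at h1
      have h2 : Q.1 z₀ * 1 ≤ Q.1 z₀ * Q.1 w := mul_le_mul' le_rfl hcon
      rw [mul_one] at h2
      exact absurd (h2.trans h1) (not_le.mpr hz₀Q)
    obtain ⟨M, hM⟩ := hRL w hw
    refine ⟨w, hw, hw1, M, ?_⟩
    rw [ff_mem_L_sub_single_iff]
    refine ⟨hM, ?_⟩
    rwa [Finsupp.smul_apply, hEQ, smul_zero, WithZero.exp_zero]
  have hOP : ∀ y : K, P.1 y ≤ 1 → y ∈ B := by
    intro y hy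
    have hA0 : (0 : Divisor k K) ≤ ff_poleDiv y := ff_poleDiv_nonneg y
    have hAP : (ff_poleDiv y : Divisor k K) P = 0 := by
      rw [ff_poleDiv_apply hK]
      by_cases hy0 : y = 0
      · subst hy0; simp [ff_ord_zero]
      · have := (ff_ord_nonneg_iff P hy0).mpr hy
        omega
    have hyL : y ∈ L (ff_poleDiv y + 0 • E') := by
      rw [zero_nsmul, add_zero, ff_mem_L_iff]
      exact fun Q => ff_val_le_exp_poleDiv hK y Q
    obtain ⟨h, hh, hh1, M, hM⟩ := ff_clear_poles' hK hE'0 _ P hsep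
      (ff_poleDiv y).deg.toNat _ hA0 hAP
      (by rw [Int.toNat_of_nonneg (ff_deg_nonneg hA0)]) 0 y hyL
    have hM' : h * y ∈ L ((max M m₀) • E') :=
      ff_L_mono (nsmul_le_nsmul_left hE'0 (le_max_left _ _)) hM
    have h1 := hLm _ (le_max_right _ _) _ hM'
    have hhOa : h ∈ ff_locRing (Algebra.adjoin k (Set.range x)) P := ff_le_locRing _ P hh
    have hinv : h⁻¹ ∈ ff_locRing (Algebra.adjoin k (Set.range x)) P :=
      ff_inv_mem_locRing _ P hhOa hh1
    have h0 : h ≠ 0 := by
      intro h0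
      rw [h0, map_zero] at hh1
      exact zero_ne_one hh1
    have : y = (⟨h⁻¹, hinv⟩ : ff_locRing (Algebra.adjoin k (Set.range x)) P) • (h * y) := by
      change y = h⁻¹ * (h * y)
      rw [← mul_assoc, inv_mul_cancel₀ h0, one_mul]
    rw [this]
    exact Subalgebra.smul_mem B h1 _
  obtain ⟨tP, htP, htPv⟩ := H2
  exact ff_nakayama_locRing hK _ P hOa1 htP htPv (Subalgebra.toSubmodule B) hFG
    (fun y => ⟨fun hy => hBP y hy, fun hy => hOP y hy⟩) hz

/-- Some ratio `φ i / φ j` of a linearly independent tuple with at least two entries is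
transcendental. -/
theorem ff_exists_ratio_transcendental (hK : IsFunctionField k K) {n : ℕ} (hn : 1 ≤ n)
    (φ : Fin (n + 1) → K) (hφ : LinearIndependent k φ) (j : Fin (n + 1)) :
    ∃ i, Transcendental k (φ i / φ j) := by
  classical
  obtain ⟨i, hi⟩ : ∃ i : Fin (n + 1), i ≠ j := by
    by_cases h0 : j = 0
    · exact ⟨1, by rw [h0]; intro h; have := congrArg Fin.val h; simp at this; omega⟩
    · exact ⟨0, fun h => h0 h.symm⟩
  refine ⟨i, ff_transcendental_of_not_mem_range hK ?_⟩
  rintro ⟨c, hc⟩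
  have hj0 : φ j ≠ 0 := hφ.ne_zero j
  have h1 : φ i = algebraMap k K c * φ j := by
    rw [hc, div_mul_cancel₀ _ hj0]
  have h2 := Fintype.linearIndependent_iff.mp hφ
    (fun l => if l = i then 1 else if l = j then -c else 0) (by
      rw [Finset.sum_eq_add_of_mem i j (Finset.mem_univ _) (Finset.mem_univ _) hi]
      · simp only [if_true, if_neg hi.symm, one_smul]
        rw [h1, Algebra.smul_def, map_neg]; ring
      · intro l _ hl
        rw [if_neg hl.1, if_neg hl.2, zero_smul])
  have := h2 i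
  simp at this

/-- S11065: nonsingular at `P` iff the local ring lies in no other valuation ring and contains a
local parameter. -/
theorem ff_isNonsingularAt_iff_fibre_uniformizer [IsAlgClosed k] (hK : IsFunctionField k K)
    {n : ℕ} (hn : 1 ≤ n) (φ : Fin (n + 1) → K) (hφ : LinearIndependent k φ) (P : Place k K) :
    IsNonsingularAt φ P ↔
      (∀ Q : Place k K, (∀ z : K, InLocRing φ P z → Q.1 z ≤ 1) → Q = P) ∧
        ∃ t : K, InLocRing φ P t ∧ P.1 t = WithZero.exp (-1 : ℤ) := by
  classical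
  constructor
  · intro hns
    refine ⟨fun Q hQ => ?_, ?_⟩
    · have hle : P.O ≤ Q.O := by
        intro z hz
        have h1 : P.1 z ≤ 1 := (Valuation.mem_valuationSubring_iff _ _).mp hz
        exact (Valuation.mem_valuationSubring_iff _ _).mpr (hQ z (hns z h1))
      exact (ff_place_eq_of_O_le hle).symm
    · obtain ⟨t, ht⟩ := ff_exists_uniformizer P
      refine ⟨t, hns t ?_, ht⟩
      rw [ht, ← WithZero.exp_zero, WithZero.exp_le_exp]
      norm_num
  · rintro ⟨H1, t, htL, htv⟩ z hz
    obtain ⟨j, -, hj⟩ := Finset.exists_max_image Finset.univ (fun i => P.1 (φ i))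
      Finset.univ_nonempty
    have hmax : ∀ i, P.1 (φ i) ≤ P.1 (φ j) := fun i => hj i (Finset.mem_univ i)
    have hj0 : φ j ≠ 0 := hφ.ne_zero j
    obtain ⟨i₀, hi₀⟩ := ff_exists_ratio_transcendental hK hn φ hφ j
    have hx : ∀ i, P.1 (φ i / φ j) ≤ 1 := by
      intro i
      rw [map_div₀]
      exact (div_le_one₀ (zero_lt_iff.mpr (ff_val_ne_zero P hj0))).mpr (hmax i)
    rw [ff_inLocRing_iff φ P j hj0 hmax]
    refine ff_locRing_eq_of_fibre_of_uniformizer hK (fun i => φ i / φ j) P hx i₀ hi₀ ?_ ?_ hz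
    · intro Q hQ
      exact H1 Q fun z hz => hQ z ((ff_inLocRing_iff φ P j hj0 hmax z).mp hz)
    · exact ⟨t, (ff_inLocRing_iff φ P j hj0 hmax t).mp htL, htv⟩

end Groth.Agent.Lib.Helper55
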