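import Groth.Agent.Lib.Helper55.FunFld.TraceRes

/-! Local trace formula for residues over a complete field (S12619): general-place versions of the
Tate residue lemmas. -/

set_option autoImplicit false
set_option linter.unusedSectionVars false

open FunFld LocRes Module LaurentSeries
open Groth.Agent.Lib.Helper55.Tate

namespace Groth.Agent.Lib.Helper55

universe u v w

attribute [-instance] HahnSeries.instModule

section general

variable {k : Type u} {K K' : Type v} [Field k] [Field K] [Field K'] [Algebra k K] [Algebra K K']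
  [Algebra k K'] [IsScalarTower k K K']

theorem ffg_tres_sum_left (P : Place k K) (hN : FFNear P) {ρ : K →ₗ[k] K}
    (hρ : LinearMap.IsProj (ff_ball P 0) ρ) {ι : Type*} (s : Finset ι) (c : ι → K) (x : K) :
    ff_tres ρ (∑ i ∈ s, c i) x = ∑ i ∈ s, ff_tres ρ (c i) x := by
  classical
  induction s using Finset.induction_on with
  | empty =>
    rw [Finset.sum_empty, Finset.sum_empty]
    have := ffg_tres_smul_left P hN hρ (0 : k) (0 : K) x
    rwa [zero_smul, zero_mul] at this
  | insert a s ha ih =>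
    rw [Finset.sum_insert ha, Finset.sum_insert ha, ffg_tres_add_left P hN hρ, ih]

variable {M : Type*} [Fintype M] [DecidableEq M] (b : Basis M K K')

theorem tresG_trLat (P : Place k K) (hN : FFNear P) {ρ : K →ₗ[k] K}
    (hρ : LinearMap.IsProj (ff_ball P 0) ρ) (y : K') (x : K) :
    tres (∑ i, trInc (k := k) b i ∘ₗ ρ ∘ₗ trPr b i) (ff_mulK y) (ff_mulK (algebraMap K K' x)) =
      ff_tres ρ (Algebra.trace K K' y) x := by
  have hincA : ∀ i, (ff_ball P 0).map (trInc (k := k) b i) ≤ trLat b P := by
    rintro i _ ⟨a, ha, rfl⟩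
    rw [mem_trLat]
    intro m
    have := LinearMap.congr_fun (trPr_comp_trInc (k := k) b m i) a
    rw [LinearMap.comp_apply] at this
    rw [this]
    split_ifs
    · exact ha
    · exact Submodule.zero_mem _
  have hprA : ∀ i, (trLat b P).map (trPr (k := k) b i) ≤ ff_ball P 0 := by
    rintro i _ ⟨z, hz, rfl⟩
    exact (mem_trLat b P z).mp hz i
  rw [tres_block (trInc b) (trPr b) (trPr_comp_trInc b) (trSum b) (fun _ => ff_ball P 0)
    (trLat b P) hincA hprA (fun _ => ρ) (fun _ => hρ) (fun _ => ff_mulK x)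
    (fun _ => ffg_isE_mulK P hN x) _ (trInc_mulK b x) _ (fun i j => by
      rw [trBlock_mulK]; exact ffg_isE_mulK P hN _)]
  simp only [trBlock_mulK]
  rw [Algebra.trace_eq_matrix_trace b, Matrix.trace, ffg_tres_sum_left P hN hρ]
  rfl

theorem isE_trLatG (P : Place k K) (hN : FFNear P) (y : K') :
    IsE (trLat b P) (ff_mulK (k := k) y) :=
  isE_block (trInc b) (trPr b) (trPr_comp_trInc b) (trSum b) (fun _ => ff_ball P 0)
    (trLat b P) (mem_trLat b P) _ (fun i j => by
      rw [trBlock_mulK]; exact ffg_isE_mulK P hN _)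

end general

section exp

variable {k : Type*} {K : Type*} [Field k] [Field K] [Algebra k K]

theorem ffg_tres_eq_locRes (P : Place k K) (hN : FFNear P) {F : Type*} [Field F]
    [Algebra k F] [FiniteDimensional k F] (φ : K →ₐ[k] F⸨X⸩) (hφ : IsExpansionAt P.1 φ)
    {ρ : K →ₗ[k] K} (hρ : LinearMap.IsProj (ff_ball P 0) ρ) (u v : K) :
    ff_tres ρ u v = locRes φ u v := by
  have key : ff_tres ρ u v = ff_tres (ls_trunc k F) (φ u) (φ v) := by
    unfold ff_tres
    refine tres_excision φ.toLinearMap φ.toRingHom.injective ?_ ?_ hρ (ls_trunc_isProj k F)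
      (ffg_isE_mulK P hN u) (ffg_isE_mulK P hN v)
      (ffg_isE_mulK (lsPlace k F) (ls_near k F) (φ u))
      (ffg_isE_mulK (lsPlace k F) (ls_near k F) (φ v)) ?_ ?_ ?_ ?_
    · ext y
      rw [Submodule.mem_comap, ff_mem_ball, ff_mem_ball, lsPlace_val]
      change _ ↔ Valued.v (φ y) ≤ _
      rw [hφ.1]
    · rw [eq_top_iff]
      intro q _
      obtain ⟨n, hn⟩ : ∃ n : ℕ, Valued.v q ≤ WithZero.exp (n : ℤ) := by
        obtain ⟨m, hm⟩ := ls_exists_val_le F q
        exact ⟨m.toNat, hm.trans (WithZero.exp_le_exp.mpr (Int.self_le_toNat m))⟩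
      obtain ⟨s, hs⟩ := ff_exp_dense P φ hφ n q hn
      have : q = φ.toLinearMap s + (q - φ s) := by
        rw [AlgHom.toLinearMap_apply]; ring
      rw [this]
      refine Submodule.add_mem_sup ⟨s, rfl⟩ ?_
      rw [ff_mem_ball, lsPlace_val, WithZero.exp_zero]
      exact hs
    · intro y
      simp only [ff_mulK_apply]
      ring
    · intro y
      simp only [ff_mulK_apply]
      ring
    · intro y
      simp only [ff_mulK_apply, AlgHom.toLinearMap_apply, map_mul]
    · intro y
      simp only [ff_mulK_apply, AlgHom.toLinearMap_apply, map_mul]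
  rw [key, ls_tres_eq]
  rfl

/-- A place with an expansion over a finite extension of the base field has commensurable
balls. -/
theorem ffNear_of_expansion (P : Place k K) {F : Type*} [Field F] [Algebra k F]
    [FiniteDimensional k F] (φ : K →ₐ[k] F⸨X⸩) (hφ : IsExpansionAt P.1 φ) : FFNear P := by
  obtain ⟨hval, -, t, ht⟩ := hφ
  apply ffNear_of_pred
  intro m
  have ht0 : t ≠ 0 := by
    intro h0
    rw [h0, map_zero] at ht
    exact WithZero.exp_ne_zero ht.symm
  have htm : P.1 (t ^ m) = WithZero.exp (-m) := by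
    rw [map_zpow₀, ht, ← WithZero.exp_zsmul]
    simp
  refine nearLE_of_linearMap (N := F)
    ((ls_coeffL k F 0) ∘ₗ φ.toLinearMap ∘ₗ (ff_mulK (k := k) (t ^ m)) ∘ₗ (ff_ball P m).subtype) ?_
  intro b hb
  simp only [LinearMap.comp_apply, Submodule.subtype_apply, ff_mulK_apply, AlgHom.toLinearMap_apply,
    ls_coeffL_apply] at hb
  have hb1 : Valued.v (φ (t ^ m * (b : K))) ≤ WithZero.exp (-(0 : ℤ)) := by
    rw [hval, map_mul, htm, neg_zero, ← add_neg_cancel m, add_comm, WithZero.exp_add]
    exact mul_le_mul' le_rfl b.2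
  have hb2 : Valued.v (φ (t ^ m * (b : K))) ≤ WithZero.exp (-(1 : ℤ)) := by
    rw [valuation_le_iff_coeff_lt_eq_zero] at hb1 ⊢
    intro n hn
    rcases (show n < 0 ∨ n = 0 by omega) with h | h
    · exact hb1 n h
    · rw [h]; exact hb
  rw [hval, map_mul, htm] at hb2
  rw [ff_mem_ball]
  have htm0 : WithZero.exp (-m) ≠ 0 := WithZero.exp_ne_zero
  calc P.1 (b : K) = WithZero.exp m * (WithZero.exp (-m) * P.1 (b : K)) := by
        rw [← mul_assoc, ← WithZero.exp_add, add_neg_cancel, WithZero.exp_zero, one_mul]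
    _ ≤ WithZero.exp m * WithZero.exp (-1) := mul_le_mul' le_rfl hb2
    _ = WithZero.exp (m - 1) := by rw [← WithZero.exp_add]; rfl

end exp

end Groth.Agent.Lib.Helper55
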