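import Groth.Agent.Lib.Helper55.FunFld.LocTrace1

/-! Local trace formula (S12619): the valuation ring of a finite extension of a complete field is
finitely generated over the valuation ring of the base (successive approximation). -/

set_option autoImplicit false
set_option linter.unusedSectionVars false

open FunFld LocRes Module LaurentSeries
open Groth.Agent.Lib.Helper55.Tate

namespace Groth.Agent.Lib.Helper55

universe u v

attribute [-instance] HahnSeries.instModule

variable {K : Type u} {F E : Type v} [Field K] [Field F] [Field E] [Algebra K F] [Algebra F E]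
  [Algebra K E] [IsScalarTower K F E]

theorem lt_fg (v : Valuation F (WithZero (Multiplicative ℤ))) (Pw : Place K E)
    [v.HasExtension Pw.1] (hNw : FFNear Pw)
    (φ : F →ₐ[K] LaurentSeries K) (hφ : IsExpansionAt v φ) (hφs : Function.Surjective φ) :
    ∃ (d : ℕ) (β : Fin d → E), (∀ j, Pw.1 (β j) ≤ 1) ∧ ∀ z, Pw.1 z ≤ 1 →
      ∃ a : Fin d → F, (∀ j, v (a j) ≤ 1) ∧ z = ∑ j, algebraMap F E (a j) * β j := by
  classical
  obtain ⟨T, hT⟩ := hφs ((PowerSeries.X : PowerSeries K) : LaurentSeries K)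
  have hvT : v T = WithZero.exp (-1) := by
    rw [← hφ.1, hT]
    have := valuation_X_pow K 1
    simpa using this
  have hvw : ∀ a : F, v a ≤ 1 → Pw.1 (algebraMap F E a) ≤ 1 := fun a ha =>
    (Valuation.HasExtension.val_map_le_one_iff v Pw.1 a).mpr ha
  have hwT1 : Pw.1 (algebraMap F E T) < 1 := by
    rw [Valuation.HasExtension.val_map_lt_one_iff v Pw.1, hvT, ← WithZero.exp_zero,
      WithZero.exp_lt_exp]
    norm_num
  have hT0 : T ≠ 0 := by
    intro h0
    rw [h0, map_zero] at hvT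
    exact WithZero.exp_ne_zero hvT.symm
  have hT'0 : algebraMap F E T ≠ 0 := (map_ne_zero _).mpr hT0
  have hwT0 : Pw.1 (algebraMap F E T) ≠ 0 := (Valuation.ne_zero_iff _).mpr hT'0
  obtain ⟨e₀, he₀⟩ : ∃ e₀ : ℤ, Pw.1 (algebraMap F E T) = WithZero.exp (-e₀) :=
    ⟨-WithZero.log (Pw.1 (algebraMap F E T)), by rw [neg_neg, WithZero.exp_log hwT0]⟩
  have hwT1' : Pw.1 (algebraMap F E T) ≤ WithZero.exp (-1) := ff_lt_one_iff.mp hwT1
  -- D1
  obtain ⟨W, hWfd, hW⟩ := hNw 0 (-e₀)
  have hfdW₀ : FiniteDimensional K ↥(W ⊓ ff_ball Pw 0) := Submodule.finiteDimensional_inf_left _ _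
  obtain ⟨d, hd⟩ : ∃ d, d = finrank K ↥(W ⊓ ff_ball Pw 0) := ⟨_, rfl⟩
  let bW : Basis (Fin d) K ↥(W ⊓ ff_ball Pw 0) := (Module.finBasis K _).reindex (finCongr hd.symm)
  have hβ1 : ∀ j, Pw.1 ((bW j : ↥(W ⊓ ff_ball Pw 0)) : E) ≤ 1 := by
    intro j
    have : ((bW j : ↥(W ⊓ ff_ball Pw 0)) : E) ∈ ff_ball Pw 0 := (bW j).2.2
    rwa [ff_mem_ball, WithZero.exp_zero] at this
  have dec : ∀ z, Pw.1 z ≤ 1 → ∃ c : Fin d → K, ∃ r : E, Pw.1 r ≤ 1 ∧
      z = ∑ j, algebraMap K E (c j) * ((bW j : ↥(W ⊓ ff_ball Pw 0)) : E) +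
        algebraMap F E T * r := by
    intro z hz
    have hz0 : z ∈ ff_ball Pw 0 := by rw [ff_mem_ball, WithZero.exp_zero]; exact hz
    obtain ⟨a, ha, ω, hω, hsum⟩ := Submodule.mem_sup.mp (hW hz0)
    have ha0 : a ∈ ff_ball Pw 0 := ff_ball_mono Pw (by
      have : (1 : ℤ) ≤ e₀ := by
        rw [he₀, WithZero.exp_le_exp] at hwT1'
        omega
      omega) ha
    have hω0 : ω ∈ W ⊓ ff_ball Pw 0 := by
      refine ⟨hω, ?_⟩
      have : ω = z - a := by rw [← hsum]; ring
      rw [this]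
      exact Submodule.sub_mem _ hz0 ha0
    refine ⟨fun j => bW.repr ⟨ω, hω0⟩ j, a / algebraMap F E T, ?_, ?_⟩
    · rw [map_div₀, he₀]
      rw [ff_mem_ball] at ha
      exact (div_le_one₀ (zero_lt_iff.mpr WithZero.exp_ne_zero)).mpr ha
    · rw [mul_div_cancel₀ _ hT'0, ← hsum, add_comm]
      congr 1
      have h1 := bW.sum_repr ⟨ω, hω0⟩
      have h2 := congrArg (Submodule.subtype _) h1
      rw [map_sum] at h2
      simp only [Submodule.subtype_apply, Submodule.coe_smul] at h2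
      refine h2.symm.trans ?_
      refine Finset.sum_congr rfl fun j _ => ?_
      rw [Algebra.smul_def]
  choose! cf rf hrf hdec using dec
  refine ⟨d, fun j => ((bW j : ↥(W ⊓ ff_ball Pw 0)) : E), hβ1, ?_⟩
  intro z hz
  -- the sequence
  have hzs : ∀ m : ℕ, Pw.1 (rf^[m] z) ≤ 1 := by
    intro m
    induction m with
    | zero => exact hz
    | succ m ih =>
      rw [Function.iterate_succ_apply']
      exact hrf _ ih
  have hA : ∀ (M : ℕ) (j : Fin d), ∃ a : F, φ a =
      ((PowerSeries.mk fun m => cf (rf^[m + M] z) j : PowerSeries K) : LaurentSeries K) :=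
    fun M j => hφs _
  choose A hAφ using hA
  have hA1 : ∀ M j, v (A M j) ≤ 1 := by
    intro M j
    rw [← hφ.1, hAφ]
    exact (val_le_one_iff_eq_coe K _).mpr ⟨_, rfl⟩
  have hAstep : ∀ M j, A M j = algebraMap K F (cf (rf^[M] z) j) + T * A (M + 1) j := by
    intro M j
    apply φ.toRingHom.injective
    change φ (A M j) = φ (algebraMap K F (cf (rf^[M] z) j) + T * A (M + 1) j)
    rw [map_add, map_mul, hT, hAφ, hAφ, LocRes.map_algebraMap, Algebra.algebraMap_self,
      RingHom.id_apply, ← PowerSeries.coe_C, ← PowerSeries.coe_mul, ← PowerSeries.coe_add]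
    congr 1
    rw [add_comm]
    conv_lhs => rw [PowerSeries.eq_X_mul_shift_add_const
      (PowerSeries.mk fun m => cf (rf^[m + M] z) j)]
    simp only [PowerSeries.coeff_mk, PowerSeries.constantCoeff_mk, zero_add]
    congr 3
    funext p
    rw [add_assoc, add_comm 1 M]
  obtain ⟨δ, hδdef⟩ : ∃ δ : ℕ → E, ∀ M, δ M = rf^[M] z -
      ∑ j, algebraMap F E (A M j) * ((bW j : ↥(W ⊓ ff_ball Pw 0)) : E) := ⟨_, fun _ => rfl⟩
  have hδstep : ∀ M, δ M = algebraMap F E T * δ (M + 1) := by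
    intro M
    rw [hδdef, hδdef, Function.iterate_succ_apply']
    conv_lhs => rw [hdec _ (hzs M)]
    have h1 : ∀ j, algebraMap F E (A M j) * ((bW j : ↥(W ⊓ ff_ball Pw 0)) : E) =
        algebraMap K E (cf (rf^[M] z) j) * ((bW j : ↥(W ⊓ ff_ball Pw 0)) : E) +
        algebraMap F E T * (algebraMap F E (A (M + 1) j) *
          ((bW j : ↥(W ⊓ ff_ball Pw 0)) : E)) := by
      intro j
      rw [hAstep M j, map_add, map_mul, ← IsScalarTower.algebraMap_apply]
      ring
    simp only [h1, Finset.sum_add_distrib, ← Finset.mul_sum]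
    ring
  have hδ1 : ∀ M, Pw.1 (δ M) ≤ 1 := by
    intro M
    rw [hδdef]
    refine Pw.1.map_sub_le (hzs M) ?_
    refine Pw.1.map_sum_le fun j _ => ?_
    rw [map_mul]
    exact mul_le_one' (hvw _ (hA1 M j)) (hβ1 j)
  have hδpow : ∀ M, δ 0 = algebraMap F E T ^ M * δ M := by
    intro M
    induction M with
    | zero => rw [pow_zero, one_mul]
    | succ M ih => rw [ih, hδstep M, pow_succ, mul_assoc]
  have hδ0 : δ 0 = 0 := by
    by_contra hne
    have hw0 : Pw.1 (δ 0) ≠ 0 := (Valuation.ne_zero_iff _).mpr hne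
    obtain ⟨l, hl⟩ : ∃ l : ℤ, Pw.1 (δ 0) = WithZero.exp l :=
      ⟨_, (WithZero.exp_log hw0).symm⟩
    have hbound : ∀ M : ℕ, Pw.1 (δ 0) ≤ WithZero.exp (-(M : ℤ)) := by
      intro M
      rw [hδpow M, map_mul, map_pow]
      calc Pw.1 (algebraMap F E T) ^ M * Pw.1 (δ M) ≤ WithZero.exp (-1) ^ M * 1 :=
            mul_le_mul' (pow_le_pow_left' hwT1' M) (hδ1 M)
        _ = WithZero.exp (-(M : ℤ)) := by
            rw [mul_one, ← WithZero.exp_nsmul, nsmul_eq_mul, mul_neg, mul_one]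
    have := hbound (1 - l).toNat
    rw [hl, WithZero.exp_le_exp] at this
    have h2 := Int.self_le_toNat (1 - l)
    omega
  refine ⟨A 0, hA1 0, ?_⟩
  have := hδdef 0
  rw [hδ0, Function.iterate_zero, id_eq] at this
  exact (sub_eq_zero.mp this.symm)

end Groth.Agent.Lib.Helper55
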