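import Groth.Agent.Lib.Helper55.FunFld.LocTrace2

/-! Local trace formula for residues over a complete field (S12619): assembly. -/

set_option autoImplicit false
set_option linter.unusedSectionVars false

open FunFld LocRes Module LaurentSeries
open Groth.Agent.Lib.Helper55.Tate

namespace Groth.Agent.Lib.Helper55

universe u v

attribute [-instance] HahnSeries.instModule

theorem lt_exists_bound {E : Type*} [Field E] (w : Valuation E (WithZero (Multiplicative ℤ)))
    {ι : Type*} (s : Finset ι) (f : ι → E) : ∃ N : ℕ, ∀ i ∈ s, w (f i) ≤ WithZero.exp (N : ℤ) := by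
  obtain ⟨B, hB⟩ := Finset.exists_le (s.image fun i => w (f i))
  refine ⟨(WithZero.log B).toNat, fun i hi => ?_⟩
  have h1 : w (f i) ≤ B := hB _ (Finset.mem_image_of_mem _ hi)
  refine h1.trans (WithZero.le_exp_log.trans ?_)
  rw [WithZero.exp_le_exp]
  exact Int.self_le_toNat _

theorem lt_trace_formula (K L : Type u) (F E : Type v) [Field K] [Field L]
    [Field F] [Field E] [Algebra K F] [Algebra F E] [Algebra K E] [IsScalarTower K F E]
    [FiniteDimensional F E]
    [Algebra K L] [Algebra L E] [IsScalarTower K L E] [FiniteDimensional K L]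
    (v : Valuation F (WithZero (Multiplicative ℤ))) (w : Valuation E (WithZero (Multiplicative ℤ)))
    [v.HasExtension w]
    (φ : F →ₐ[K] LaurentSeries K) (hφ : LocRes.IsExpansionAt v φ) (hφs : Function.Surjective φ)
    (ψ : E →ₐ[L] LaurentSeries L) (hψ : LocRes.IsExpansionAt w ψ)
    (x : F) (y : E) :
    Algebra.trace K L (LocRes.resExp ψ y (algebraMap F E x)) =
      LocRes.resExp φ (Algebra.trace F E y) x := by
  classical
  -- the place of `F`
  have hv1 : ∀ c : K, v (algebraMap K F c) ≤ 1 := by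
    intro c
    rw [← hφ.1, LocRes.map_algebraMap, ← PowerSeries.coe_C]
    exact (val_le_one_iff_eq_coe K _).mpr ⟨_, rfl⟩
  have hvs : Function.Surjective v := by
    intro γ
    obtain ⟨f, hf⟩ := valuation_surjective K γ
    obtain ⟨a, ha⟩ := hφs f
    exact ⟨a, by rw [← hφ.1, ha, hf]⟩
  obtain ⟨Pv, hPv⟩ : ∃ Pv : Place K F, Pv.1 = v := ⟨⟨v, hv1, hvs⟩, rfl⟩
  -- the place of `E`
  let ψK : E →ₐ[K] LaurentSeries L :=
    { ψ.toRingHom with
      commutes' := fun c => by
        change ψ (algebraMap K E c) = _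
        rw [IsScalarTower.algebraMap_apply K L E, ψ.commutes, ls_algebraMap L L, ls_algebraMap K L,
          Algebra.algebraMap_self, RingHom.id_apply] }
  have hψK : IsExpansionAt w ψK := ⟨hψ.1, hψ.2.1, hψ.2.2⟩
  have hw1 : ∀ c : K, w (algebraMap K E c) ≤ 1 := by
    intro c
    rw [← hψK.1, LocRes.map_algebraMap, ← PowerSeries.coe_C]
    exact (val_le_one_iff_eq_coe L _).mpr ⟨_, rfl⟩
  obtain ⟨t, ht⟩ := hψ.2.2
  have hws : Function.Surjective w := by
    intro γ
    by_cases h0 : γ = 0
    · exact ⟨0, by rw [map_zero, h0]⟩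
    · refine ⟨t ^ (-WithZero.log γ), ?_⟩
      rw [map_zpow₀, ht, ← WithZero.exp_zsmul]
      simp [WithZero.exp_log h0]
  obtain ⟨Pw, hPw⟩ : ∃ Pw : Place K E, Pw.1 = w := ⟨⟨w, hw1, hws⟩, rfl⟩
  subst hPv hPw
  have hNv : FFNear Pv := ffNear_of_expansion Pv φ hφ
  have hNw : FFNear Pw := ffNear_of_expansion Pw ψK hψK
  obtain ⟨d, β, hβ1, hgen⟩ := lt_fg Pv.1 Pw hNw φ hφ hφs
  have hvw : ∀ a : F, Pv.1 a ≤ 1 → Pw.1 (algebraMap F E a) ≤ 1 := fun a ha =>
    (Valuation.HasExtension.val_map_le_one_iff Pv.1 Pw.1 a).mpr ha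
  -- the basis
  let b : Basis (Fin (finrank F E)) F E := Module.finBasis F E
  -- near1
  have near1 : NearLE (trLat b Pv) (ff_ball Pw 0) := by
    obtain ⟨N, hN⟩ := lt_exists_bound Pw.1 Finset.univ (fun i => b i)
    refine (NearLE.of_le ?_).trans (hNw (N : ℤ) 0)
    intro z hz
    rw [mem_trLat] at hz
    rw [ff_mem_ball, ← b.sum_repr z]
    refine Pw.1.map_sum_le fun i _ => ?_
    rw [Algebra.smul_def, map_mul]
    have h1 := hz i
    rw [trPr_apply, ff_mem_ball, WithZero.exp_zero] at h1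
    calc Pw.1 (algebraMap F E (b.repr z i)) * Pw.1 (b i) ≤ 1 * WithZero.exp (N : ℤ) :=
          mul_le_mul' (hvw _ h1) (hN i (Finset.mem_univ i))
      _ = _ := one_mul _
  -- near2
  have near2 : NearLE (ff_ball Pw 0) (trLat b Pv) := by
    obtain ⟨N', hN'⟩ := lt_exists_bound Pv.1 (Finset.univ : Finset (Fin d × Fin (finrank F E)))
      (fun p => b.repr (β p.1) p.2)
    have hle : ff_ball Pw 0 ≤ ⨅ i, (ff_ball Pv (N' : ℤ)).comap (trPr (k := K) b i) := by
      intro z hz
      rw [ff_mem_ball, WithZero.exp_zero] at hz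
      obtain ⟨a, ha1, hza⟩ := hgen z hz
      rw [Submodule.mem_iInf]
      intro i
      rw [Submodule.mem_comap, trPr_apply, ff_mem_ball, hza, map_sum, Finsupp.coe_finsetSum,
        Finset.sum_apply]
      refine Pv.1.map_sum_le fun j _ => ?_
      rw [← Algebra.smul_def, map_smul, Finsupp.smul_apply, smul_eq_mul, map_mul]
      calc Pv.1 (a j) * Pv.1 (b.repr (β j) i) ≤ 1 * WithZero.exp (N' : ℤ) :=
            mul_le_mul' (ha1 j) (hN' (j, i) (Finset.mem_univ _))
        _ = _ := one_mul _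
    refine (NearLE.of_le hle).trans ?_
    obtain ⟨F₀, hF₀fd, hF₀⟩ := hNv (N' : ℤ) 0
    have hfd : ∀ m, FiniteDimensional K (F₀.map (trInc (k := K) b m)) := fun m => inferInstance
    refine ⟨⨆ m, F₀.map (trInc (k := K) b m), inferInstance, ?_⟩
    intro z hz
    rw [Submodule.mem_iInf] at hz
    have hdec : ∀ m, ∃ α ∈ ff_ball Pv 0, ∃ β' ∈ F₀, trPr (k := K) b m z = α + β' := by
      intro m
      obtain ⟨α, hα, β', hβ', h⟩ := Submodule.mem_sup.mp (hF₀ (hz m))
      exact ⟨α, hα, β', hβ', h.symm⟩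
    choose α hα β' hβ' hαβ using hdec
    have hzsum : z = ∑ m, trInc (k := K) b m (α m) + ∑ m, trInc (k := K) b m (β' m) := by
      rw [← Finset.sum_add_distrib]
      have := LinearMap.congr_fun (trSum (k := K) b) z
      rw [LinearMap.sum_apply, LinearMap.id_apply] at this
      conv_lhs => rw [← this]
      refine Finset.sum_congr rfl fun m _ => ?_
      rw [LinearMap.comp_apply, hαβ m, map_add]
    rw [hzsum]
    refine Submodule.add_mem_sup ?_ (Submodule.sum_mem _ fun m _ => ?_)
    · rw [mem_trLat]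
      intro m
      rw [map_sum]
      refine Submodule.sum_mem _ fun m' _ => ?_
      have := LinearMap.congr_fun (trPr_comp_trInc (k := K) b m m') (α m')
      rw [LinearMap.comp_apply] at this
      rw [this]
      split_ifs
      · exact hα m'
      · exact Submodule.zero_mem _
    · exact Submodule.mem_iSup_of_mem m (Submodule.mem_map_of_mem (hβ' m))
  -- projections and the chain
  obtain ⟨ρ, hρ⟩ := ff_exists_proj (k := K) Pv
  obtain ⟨ρw, hρw⟩ := ff_exists_proj (k := K) Pw
  have hπB := isProj_trLat (k := K) b Pv hρ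
  have hEy : IsE (trLat b Pv) (ff_mulK (k := K) y) := isE_trLatG b Pv hNv y
  have hEx : IsE (trLat b Pv) (ff_mulK (k := K) (algebraMap F E x)) :=
    isE_trLatG b Pv hNv (algebraMap F E x)
  have step1 : resExp φ (Algebra.trace F E y) x = ff_tres ρ (Algebra.trace F E y) x := by
    rw [ffg_tres_eq_locRes Pv hNv φ hφ hρ]
    unfold locRes
    rw [Algebra.trace_self_apply]
  have step2 := tresG_trLat (k := K) b Pv hNv hρ y x
  have step3 : tres (∑ i, trInc (k := K) b i ∘ₗ ρ ∘ₗ trPr b i) (ff_mulK y)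
      (ff_mulK (algebraMap F E x)) = tres ρw (ff_mulK y) (ff_mulK (algebraMap F E x)) :=
    tres_congr hπB hρw near1 near2 hEy hEx (fun z => by simp only [ff_mulK_apply]; ring)
  have step4 : ff_tres ρw y (algebraMap F E x) = locRes ψK y (algebraMap F E x) :=
    ffg_tres_eq_locRes Pw hNw ψK hψK hρw y (algebraMap F E x)
  rw [step1, ← step2, step3]
  change _ = ff_tres ρw y (algebraMap F E x)
  rw [step4]
  rfl

end Groth.Agent.Lib.Helper55
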