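import Groth.Agent.Lib.Helper55.FunFld.Weil

/-! The `K`-action on Weil differentials. -/

set_option autoImplicit false

open FunFld Module

namespace Groth.Agent.Lib.Helper55

variable {k K : Type*} [Field k] [Field K] [Algebra k K]

theorem ff_smul_mem_adele (hK : IsFunctionField k K) (x : K) :
    ∀ a ∈ adele k K, x • a ∈ adele k K := by
  intro a ha
  rw [ff_mem_adele_iff] at ha ⊢
  have hx := (ff_mem_adele_iff _).mp (ff_diag_mem_adele hK x)
  refine (hx.union ha).subset ?_
  intro P hP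
  by_contra hcon
  rw [Set.mem_union, not_or] at hcon
  obtain ⟨h1, h2⟩ := hcon
  apply hP
  have h1' : P.1 x ≤ 1 := not_not.mp h1
  have h2' : P.1 (a P) ≤ 1 := not_not.mp h2
  rw [Pi.smul_apply, smul_eq_mul, map_mul]
  exact mul_le_one' h1' h2'

theorem ff_mulW_apply (x : K) (hx : ∀ a ∈ adele k K, x • a ∈ adele k K)
    (ω : Module.Dual k (adele k K)) (a : ↥(adele k K)) :
    mulW x hx ω a = ω ⟨x • (a : Place k K → K), hx _ a.2⟩ := rfl

/-- The `k`-linear map `x ↦ xω`. -/
noncomputable def ff_mulWL (hK : IsFunctionField k K) (ω : Module.Dual k (adele k K)) :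
    K →ₗ[k] Module.Dual k (adele k K) where
  toFun x := mulW x (ff_smul_mem_adele hK x) ω
  map_add' x y := by
    ext a
    rw [LinearMap.add_apply, ff_mulW_apply, ff_mulW_apply, ff_mulW_apply, ← map_add]
    congr 1
    apply Subtype.ext
    simp [add_smul]
  map_smul' c x := by
    ext a
    rw [LinearMap.smul_apply, RingHom.id_apply, ff_mulW_apply, ff_mulW_apply, ← map_smul]
    congr 1
    apply Subtype.ext
    simp [smul_assoc]

theorem ff_mulWL_apply (hK : IsFunctionField k K) (ω : Module.Dual k (adele k K)) (x : K) :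
    ff_mulWL hK ω x = mulW x (ff_smul_mem_adele hK x) ω := rfl

theorem ff_mulW_congr (x : K) (hx hx' : ∀ a ∈ adele k K, x • a ∈ adele k K)
    (ω : Module.Dual k (adele k K)) : mulW x hx ω = mulW x hx' ω := rfl

theorem ff_mulW_mulW (x y : K) (hx : ∀ a ∈ adele k K, x • a ∈ adele k K)
    (hy : ∀ a ∈ adele k K, y • a ∈ adele k K) (hxy : ∀ a ∈ adele k K, (x * y) • a ∈ adele k K)
    (ω : Module.Dual k (adele k K)) :
    mulW x hx (mulW y hy ω) = mulW (x * y) hxy ω := by
  ext a
  rw [ff_mulW_apply, ff_mulW_apply, ff_mulW_apply]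
  congr 1
  apply Subtype.ext
  simp [mul_smul, smul_comm x y]

theorem ff_mulW_one (h1 : ∀ a ∈ adele k K, (1 : K) • a ∈ adele k K)
    (ω : Module.Dual k (adele k K)) : mulW 1 h1 ω = ω := by
  ext a
  rw [ff_mulW_apply]
  congr 1
  apply Subtype.ext
  simp

theorem ff_mulW_inv_mulW (hK : IsFunctionField k K) {x : K} (hx0 : x ≠ 0)
    (hx : ∀ a ∈ adele k K, x • a ∈ adele k K) (ω : Module.Dual k (adele k K)) :
    mulW x⁻¹ (ff_smul_mem_adele hK x⁻¹) (mulW x hx ω) = ω := by
  rw [ff_mulW_mulW x⁻¹ x _ _ (by rw [inv_mul_cancel₀ hx0]; intro a ha; simpa using ha)]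
  have : ∀ (y : K) (hy : y = 1) (hy' : ∀ a ∈ adele k K, y • a ∈ adele k K), mulW y hy' ω = ω := by
    intro y hy hy'
    subst hy
    exact ff_mulW_one _ ω
  exact this _ (inv_mul_cancel₀ hx0) _

theorem ff_mulW_eq_zero_iff (hK : IsFunctionField k K) {x : K}
    (hx : ∀ a ∈ adele k K, x • a ∈ adele k K) {ω : Module.Dual k (adele k K)} (hω : ω ≠ 0) :
    mulW x hx ω = 0 ↔ x = 0 := by
  constructor
  · intro h
    by_contra hx0
    have := ff_mulW_inv_mulW hK hx0 hx ω
    rw [h] at this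
    apply hω
    rw [← this]
    ext a
    rw [ff_mulW_apply]
    rfl
  · rintro rfl
    ext a
    rw [ff_mulW_apply]
    have : (⟨(0 : K) • (a : Place k K → K), hx _ a.2⟩ : ↥(adele k K)) = 0 := by
      apply Subtype.ext
      simp
    rw [this, map_zero]
    rfl

theorem ff_mem_L_neg_div (hK : IsFunctionField k K) (x : K) : x ∈ L (-(FunFld.div k x)) := by
  by_cases hx : x = 0
  · rw [hx]; exact Submodule.zero_mem _
  · rw [ff_mem_L_iff_div hK _ hx, neg_add_cancel]

theorem ff_isDivOf_unique {ω : Module.Dual k (adele k K)} {C C' : Divisor k K}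
    (h : IsDivOf ω C) (h' : IsDivOf ω C') : C = C' :=
  le_antisymm ((h' C).mp ((h C).mpr le_rfl)) ((h C').mp ((h' C').mpr le_rfl))

/-- `[xω] = [x] + [ω]`. -/
theorem ff_isDivOf_mulW (hK : IsFunctionField k K) {x : K} (h0 : x ≠ 0)
    (hx : ∀ a ∈ adele k K, x • a ∈ adele k K) {ω : Module.Dual k (adele k K)}
    {C : Divisor k K} (hω : IsDivOf ω C) : IsDivOf (mulW x hx ω) (C + FunFld.div k x) := by
  intro E
  constructor
  · intro hE
    have h1 := Groth.Agent.S10986.result k K E (-(FunFld.div k x⁻¹)) x⁻¹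
      (ff_mem_L_neg_div hK x⁻¹) (ff_smul_mem_adele hK x⁻¹) _ hE
    rw [ff_mulW_inv_mulW hK h0 hx ω, ff_div_inv hK] at h1
    have h2 := (hω _).mp h1
    have h3 : E - - -FunFld.div k x = E - FunFld.div k x := by rw [neg_neg]
    rw [h3] at h2
    exact sub_le_iff_le_add.mp h2
  · intro hE
    have h1 := Groth.Agent.S10986.result k K C (-(FunFld.div k x)) x
      (ff_mem_L_neg_div hK x) hx ω ((hω C).mpr le_rfl)
    rw [sub_neg_eq_add] at h1
    exact ff_WD_anti hE h1

end Groth.Agent.Lib.Helper55
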