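import Mathlib

/-! Ultrametric estimates for elementary symmetric functions (for S17987). -/

set_option autoImplicit false

namespace Groth.Agent.Lib.Helper55.Ord

open Polynomial

section Ultra

variable {Ω : Type*} [NormedField Ω] [IsUltrametricDist Ω]

lemma norm_sum_lt_one {ι : Type*} (s : Finset ι) (f : ι → Ω) (h : ∀ i ∈ s, ‖f i‖ < 1) :
    ‖∑ i ∈ s, f i‖ < 1 := by
  classical
  induction s using Finset.induction_on with
  | empty => simp
  | insert a s ha ih =>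
    rw [Finset.sum_insert ha]
    exact (IsUltrametricDist.norm_add_le_max _ _).trans_lt
      (max_lt (h a (Finset.mem_insert_self a s))
        (ih fun i hi => h i (Finset.mem_insert_of_mem hi)))

lemma norm_prod_lt_one (T : Finset Ω) (h : ∀ α ∈ T, ‖α‖ ≤ 1) (β : Ω) (hβ : β ∈ T)
    (hβ1 : ‖β‖ < 1) : ‖∏ α ∈ T, α‖ < 1 := by
  classical
  rw [norm_prod, ← Finset.mul_prod_erase T _ hβ]
  have h1 : ∏ x ∈ T.erase β, ‖x‖ ≤ 1 :=
    Finset.prod_le_one (fun _ _ => norm_nonneg _) (fun x hx => h x (Finset.mem_of_mem_erase hx))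
  calc ‖β‖ * ∏ x ∈ T.erase β, ‖x‖ ≤ ‖β‖ * 1 :=
        mul_le_mul_of_nonneg_left h1 (norm_nonneg _)
    _ < 1 := by rw [mul_one]; exact hβ1

theorem norm_esymm_eq_one (S : Finset Ω) (hS : ∀ α ∈ S, ‖α‖ ≤ 1) (d : ℕ)
    (hd : (S.filter (fun α => ‖α‖ = 1)).card = d) :
    ‖∑ T ∈ S.powersetCard d, ∏ α ∈ T, α‖ = 1 := by
  classical
  obtain ⟨U, hU⟩ : ∃ U, U = S.filter (fun α => ‖α‖ = 1) := ⟨_, rfl⟩
  rw [← hU] at hd
  have hUmem : U ∈ S.powersetCard d :=
    Finset.mem_powersetCard.2 ⟨hU ▸ Finset.filter_subset _ _, hd⟩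
  rw [← Finset.add_sum_erase _ _ hUmem]
  have h1 : ‖∏ α ∈ U, α‖ = 1 := by
    rw [norm_prod]
    exact Finset.prod_eq_one (fun α hα => by rw [hU] at hα; exact (Finset.mem_filter.1 hα).2)
  have h2 : ‖∑ T ∈ (S.powersetCard d).erase U, ∏ α ∈ T, α‖ < 1 := by
    apply norm_sum_lt_one
    intro T hT
    obtain ⟨hTU, hT'⟩ := Finset.mem_erase.1 hT
    obtain ⟨hTS, hTc⟩ := Finset.mem_powersetCard.1 hT'
    have hns : ¬ T ⊆ U := fun hsub =>
      hTU (Finset.eq_of_subset_of_card_le hsub (by rw [hd, hTc]))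
    obtain ⟨β, hβT, hβU⟩ := Finset.not_subset.1 hns
    have hβ1 : ‖β‖ < 1 := lt_of_le_of_ne (hS β (hTS hβT))
      (fun h => hβU (by rw [hU]; exact Finset.mem_filter.2 ⟨hTS hβT, h⟩))
    exact norm_prod_lt_one T (fun α hα => hS α (hTS hα)) β hβT hβ1
  have h3 := IsUltrametricDist.norm_add_eq_max_of_norm_ne_norm
    (x := ∏ α ∈ U, α) (y := ∑ T ∈ (S.powersetCard d).erase U, ∏ α ∈ T, α)
    (by rw [h1]; exact (ne_of_lt h2).symm)
  rw [h3, h1, max_eq_left h2.le]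

theorem norm_esymm_lt_one (S : Finset Ω) (hS : ∀ α ∈ S, ‖α‖ ≤ 1) (d : ℕ)
    (hd : (S.filter (fun α => ‖α‖ = 1)).card < d) :
    ‖∑ T ∈ S.powersetCard d, ∏ α ∈ T, α‖ < 1 := by
  classical
  apply norm_sum_lt_one
  intro T hT
  obtain ⟨hTS, hTc⟩ := Finset.mem_powersetCard.1 hT
  have hns : ¬ T ⊆ S.filter (fun α => ‖α‖ = 1) := fun hsub => by
    have := Finset.card_le_card hsub
    omega
  obtain ⟨β, hβT, hβU⟩ := Finset.not_subset.1 hns
  have hβ1 : ‖β‖ < 1 := lt_of_le_of_ne (hS β (hTS hβT))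
    (fun h => hβU (Finset.mem_filter.2 ⟨hTS hβT, h⟩))
  exact norm_prod_lt_one T (fun α hα => hS α (hTS hα)) β hβT hβ1

/-- Roots of monic integer polynomials have norm at most one. -/
theorem norm_le_one_of_monic_root (P : ℤ[X]) (hP : P.Monic) (α : Ω) (h : aeval α P = 0) :
    ‖α‖ ≤ 1 := by
  by_contra hcon
  push Not at hcon
  have hn : P.natDegree ≠ 0 := by
    intro h0
    have : P = 1 := by
      rw [Polynomial.eq_C_of_natDegree_eq_zero h0, ← h0, hP.coeff_natDegree, map_one]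
    rw [this, map_one] at h
    exact one_ne_zero h
  rw [aeval_eq_sum_range, Finset.sum_range_succ, hP.coeff_natDegree, one_smul,
    add_comm, add_eq_zero_iff_eq_neg] at h
  have h1 : ‖∑ k ∈ Finset.range P.natDegree, P.coeff k • α ^ k‖ ≤ ‖α‖ ^ (P.natDegree - 1) := by
    apply IsUltrametricDist.norm_sum_le_of_forall_le_of_nonneg (by positivity)
    intro k hk
    rw [Finset.mem_range] at hk
    rw [zsmul_eq_mul, norm_mul, norm_pow]
    calc ‖(P.coeff k : Ω)‖ * ‖α‖ ^ k ≤ 1 * ‖α‖ ^ (P.natDegree - 1) := by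
          apply mul_le_mul (IsUltrametricDist.norm_intCast_le_one Ω _)
            (pow_le_pow_right₀ hcon.le (by omega)) (by positivity) zero_le_one
      _ = ‖α‖ ^ (P.natDegree - 1) := one_mul _
  have h2 : ‖α ^ P.natDegree‖ = ‖α‖ ^ P.natDegree := norm_pow _ _
  rw [h, norm_neg] at h2
  have h3 : ‖α‖ ^ (P.natDegree - 1) < ‖α‖ ^ P.natDegree :=
    pow_lt_pow_right₀ hcon (by omega)
  linarith

end Ultra

end Groth.Agent.Lib.Helper55.Ord
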