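import Groth.Agent.Lib.Helper55.FunFld.Ord1

/-! Complex-side symmetry of nonreal Weil polynomials (for S17987). -/

set_option autoImplicit false

namespace Groth.Agent.Lib.Helper55.Ord

open Polynomial

/-- The `q`-reversal `x^n P(q/x)` of an integer polynomial. -/
noncomputable def qrev (P : ℤ[X]) (q : ℤ) : ℤ[X] :=
  ∑ k ∈ Finset.range (P.natDegree + 1), C (P.coeff k * q ^ k) * X ^ (P.natDegree - k)

lemma aeval_qrev {F : Type*} [Field F] (P : ℤ[X]) (q : ℤ) (x : F) (hx : x ≠ 0) :
    aeval x (qrev P q) = x ^ P.natDegree * aeval ((q : F) / x) P := by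
  rw [qrev, map_sum, aeval_eq_sum_range, Finset.mul_sum]
  refine Finset.sum_congr rfl fun k hk => ?_
  rw [Finset.mem_range] at hk
  have hk' : k ≤ P.natDegree := by omega
  rw [map_mul, aeval_C, map_pow, aeval_X, zsmul_eq_mul, div_pow, eq_intCast, Int.cast_mul,
    Int.cast_pow]
  have : x ^ P.natDegree = x ^ (P.natDegree - k) * x ^ k := by
    rw [← pow_add]; congr 1; omega
  rw [this]
  field_simp

lemma qrev_natDegree_le (P : ℤ[X]) (q : ℤ) : (qrev P q).natDegree ≤ P.natDegree := by
  rw [qrev]
  apply Polynomial.natDegree_sum_le_of_forall_le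
  intro k _
  exact (natDegree_C_mul_X_pow_le _ _).trans (Nat.sub_le _ _)

lemma qrev_coeff_natDegree (P : ℤ[X]) (q : ℤ) : (qrev P q).coeff P.natDegree = P.coeff 0 := by
  rw [qrev, finsetSum_coeff]
  rw [Finset.sum_eq_single 0]
  · simp
  · intro k hk hk0
    rw [Finset.mem_range] at hk
    rw [coeff_C_mul, coeff_X_pow, if_neg (by omega), mul_zero]
  · intro h; exact absurd (Finset.mem_range.2 (Nat.succ_pos _)) h

lemma qrev_coeff_zero (P : ℤ[X]) (q : ℤ) :
    (qrev P q).coeff 0 = P.leadingCoeff * q ^ P.natDegree := by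
  rw [qrev, finsetSum_coeff]
  rw [Finset.sum_eq_single P.natDegree]
  · rw [coeff_C_mul, Nat.sub_self, pow_zero, coeff_one_zero, mul_one, Polynomial.leadingCoeff]
  · intro k hk hk0
    rw [Finset.mem_range] at hk
    rw [coeff_C_mul, coeff_X_pow, if_neg (by omega), mul_zero]
  · intro h; exact absurd (Finset.mem_range.2 (Nat.lt_succ_self _)) h

/-- An irreducible monic integer polynomial is separable over every field of characteristic 0. -/
theorem sep_map (P : ℤ[X]) (hmon : P.Monic) (hirr : Irreducible P) (F : Type*) [Field F]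
    [CharZero F] : (P.map (Int.castRingHom F)).Separable := by
  have h1 : Irreducible (P.map (algebraMap ℤ ℚ)) :=
    (hmon.irreducible_iff_irreducible_map_fraction_map (K := ℚ)).1 hirr
  have h2 : (P.map (algebraMap ℤ ℚ)).Separable := h1.separable
  have h3 := h2.map (f := algebraMap ℚ F)
  rw [Polynomial.map_map] at h3
  have h4 : (algebraMap ℚ F).comp (algebraMap ℤ ℚ) = Int.castRingHom F := RingHom.ext_int _ _
  rwa [h4] at h3

theorem weil_pairing (P : ℤ[X]) (hmon : P.Monic) (hirr : Irreducible P) (q : ℕ) (hq : 0 < q)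
    (hweil : ∀ z ∈ P.aroots ℂ, ‖z‖ = Real.sqrt (q : ℝ))
    (hnr : ∀ z ∈ P.aroots ℂ, z.im ≠ 0) :
    Even P.natDegree ∧ ∀ {Ω : Type} [Field Ω] [CharZero Ω] (α : Ω), aeval α P = 0 →
      α ≠ 0 ∧ aeval ((q : Ω) / α) P = 0 := by
  classical
  have hP0 : P ≠ 0 := hmon.ne_zero
  obtain ⟨Pc, hPc⟩ : ∃ Pc : ℂ[X], Pc = P.map (Int.castRingHom ℂ) := ⟨_, rfl⟩
  have hsep : Pc.Separable := hPc ▸ sep_map P hmon hirr ℂ
  have hsplit : Pc.Splits := IsAlgClosed.splits Pc
  have hnodup : Pc.roots.Nodup := Polynomial.nodup_roots hsep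
  have hdegc : Pc.natDegree = P.natDegree := by rw [hPc, hmon.natDegree_map]
  have hcard : Multiset.card Pc.roots = P.natDegree := by
    rw [Polynomial.splits_iff_card_roots.1 hsplit, hdegc]
  have haroots : P.aroots ℂ = Pc.roots := by rw [hPc]; rfl
  obtain ⟨s, hs⟩ : ∃ s : Finset ℂ, s = Pc.roots.toFinset := ⟨_, rfl⟩
  have hscard : s.card = P.natDegree := by
    rw [hs, Multiset.toFinset_card_of_nodup hnodup, hcard]
  have hsmem : ∀ z, z ∈ s ↔ z ∈ P.aroots ℂ := by
    intro z; rw [hs, Multiset.mem_toFinset, haroots]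
  have hroot : ∀ z ∈ s, aeval z P = 0 := by
    intro z hz
    exact ((mem_aroots.1 ((hsmem z).1 hz)).2)
  have hconj_root : ∀ z : ℂ, aeval z P = 0 → aeval ((starRingEnd ℂ) z) P = 0 := by
    intro z hz
    have := congrArg (starRingEnd ℂ) hz
    rw [map_zero, aeval_def, Polynomial.hom_eval₂] at this
    rw [aeval_def]
    convert this using 2
    exact RingHom.ext_int _ _
  have hmem_of_root : ∀ z : ℂ, aeval z P = 0 → z ∈ s := by
    intro z hz
    rw [hsmem, mem_aroots]
    exact ⟨hP0, hz⟩
  have hnormsq : ∀ z ∈ s, z * (starRingEnd ℂ) z = (q : ℂ) := by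
    intro z hz
    have h1 := hweil z ((hsmem z).1 hz)
    rw [Complex.mul_conj, Complex.normSq_eq_norm_sq, h1, Real.sq_sqrt (Nat.cast_nonneg q)]
    simp
  have hqC : (q : ℂ) ≠ 0 := by exact_mod_cast hq.ne'
  have hz0 : ∀ z ∈ s, z ≠ 0 := by
    intro z hz h0
    have := hnormsq z hz
    rw [h0, zero_mul] at this
    exact hqC this.symm
  -- evenness
  have heven : Even P.natDegree := by
    have hprod : ∏ _z ∈ s, (-1 : ℤ) = 1 := by
      apply Finset.prod_involution (fun z _ => (starRingEnd ℂ) z)
      · intro z _; norm_num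
      · intro z hz _ hfix
        have him := hnr z ((hsmem z).1 hz)
        have : z.im = 0 := by
          have := congrArg Complex.im hfix
          rw [Complex.conj_im] at this
          linarith
        exact him this
      · intro z hz
        exact hmem_of_root _ (hconj_root z (hroot z hz))
      · intro z _
        exact Complex.conj_conj z
    rw [Finset.prod_const, hscard] at hprod
    exact (neg_one_pow_eq_one_iff_even (by norm_num)).1 hprod
  -- the identity qrev = C a0 * P
  have hD : qrev P q - C (P.coeff 0) * P = 0 := by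
    apply Polynomial.map_injective (Int.castRingHom ℂ) Int.cast_injective
    rw [Polynomial.map_zero]
    apply Polynomial.eq_zero_of_natDegree_lt_card_of_eval_eq_zero' _ s
    · intro z hz
      rw [Polynomial.eval_map]
      change aeval z (qrev P q - C (P.coeff 0) * P) = 0
      rw [map_sub, map_mul, hroot z hz, mul_zero, sub_zero,
        aeval_qrev P q z (hz0 z hz)]
      have : ((q : ℤ) : ℂ) / z = (starRingEnd ℂ) z := by
        rw [div_eq_iff (hz0 z hz), mul_comm, hnormsq z hz]
        simp
      rw [this, hconj_root z (hroot z hz), mul_zero]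
    · rw [hscard]
      refine lt_of_le_of_lt (Polynomial.natDegree_map_le) ?_
      have hle : (qrev P q - C (P.coeff 0) * P).natDegree ≤ P.natDegree := by
        refine (natDegree_sub_le _ _).trans (max_le (qrev_natDegree_le P q) ?_)
        exact (natDegree_C_mul_le _ _)
      rcases Nat.lt_or_ge (qrev P q - C (P.coeff 0) * P).natDegree P.natDegree with h | h
      · exact h
      · have heq : (qrev P q - C (P.coeff 0) * P).natDegree = P.natDegree := le_antisymm hle h
        have hc : (qrev P q - C (P.coeff 0) * P).coeff P.natDegree = 0 := by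
          rw [coeff_sub, qrev_coeff_natDegree, coeff_C_mul, hmon.coeff_natDegree, mul_one, sub_self]
        by_cases hn0 : P.natDegree = 0
        · exfalso
          have : s.card = 0 := by rw [hscard, hn0]
          have hs0 : s = ∅ := Finset.card_eq_zero.1 this
          -- P = 1, impossible for an irreducible
          have hP1 : P = 1 := by
            rw [Polynomial.eq_C_of_natDegree_eq_zero hn0, ← hn0, hmon.coeff_natDegree, map_one]
          exact hirr.not_isUnit (hP1 ▸ isUnit_one)
        · have hlc : (qrev P q - C (P.coeff 0) * P).leadingCoeff = 0 := by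
            rw [Polynomial.leadingCoeff, heq, hc]
          rw [Polynomial.leadingCoeff_eq_zero] at hlc
          rw [hlc, natDegree_zero] at heq
          exact absurd heq.symm hn0
  have hQ : qrev P q = C (P.coeff 0) * P := sub_eq_zero.1 hD
  have ha0 : P.coeff 0 ≠ 0 := by
    intro h0
    have := qrev_coeff_zero P q
    rw [hQ, h0, map_zero, zero_mul, coeff_zero, hmon.leadingCoeff, one_mul] at this
    exact (pow_ne_zero _ (by exact_mod_cast hq.ne')) this.symm
  refine ⟨heven, ?_⟩
  intro Ω _ _ α hα
  have hα0 : α ≠ 0 := by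
    intro h0
    rw [h0, ← Polynomial.coeff_zero_eq_aeval_zero', eq_intCast, Int.cast_eq_zero] at hα
    exact ha0 hα
  refine ⟨hα0, ?_⟩
  have h1 := aeval_qrev P q α hα0
  rw [hQ, map_mul, hα, mul_zero, Int.cast_natCast] at h1
  exact (mul_eq_zero.1 h1.symm).resolve_left (pow_ne_zero _ hα0)

end Groth.Agent.Lib.Helper55.Ord
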