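import Groth.Agent.Lib.Helper55.FunFld.Ord2

/-! Ordinarity criterion (S17987). -/

set_option autoImplicit false

universe u

namespace Groth.Agent.Lib.Helper55.Ord

open Polynomial

theorem ordinary_iff {Ω : Type} [NormedField Ω] [IsUltrametricDist Ω] [CharZero Ω] [IsAlgClosed Ω]
    (p : ℕ) (hpΩ : ∀ a : ℤ, ‖(a : Ω)‖ < 1 ↔ (p : ℤ) ∣ a)
    (P : ℤ[X]) (hmon : P.Monic) (hirr : Irreducible P) (q : ℕ) (hq : 0 < q) (hpq : p ∣ q)
    (heven : Even P.natDegree)
    (hpair : ∀ α : Ω, aeval α P = 0 → α ≠ 0 ∧ aeval ((q : Ω) / α) P = 0) :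
    2 * Multiset.card ((P.aroots Ω).filter (fun z => ‖z‖ = 1)) = P.natDegree ↔
      ¬ (p : ℤ) ∣ P.coeff (P.natDegree / 2) := by
  classical
  obtain ⟨d, hd⟩ := heven
  have hd2 : P.natDegree / 2 = d := by omega
  rw [hd2]
  obtain ⟨Pc, hPc⟩ : ∃ Pc : Polynomial Ω, Pc = P.map (Int.castRingHom Ω) := ⟨_, rfl⟩
  have hsep : Pc.Separable := hPc ▸ sep_map P hmon hirr Ω
  have hsplit : Pc.Splits := IsAlgClosed.splits Pc
  have hnodup : Pc.roots.Nodup := Polynomial.nodup_roots hsep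
  have hmonc : Pc.Monic := hPc ▸ hmon.map _
  have hdegc : Pc.natDegree = P.natDegree := by rw [hPc, hmon.natDegree_map]
  have hcard : Multiset.card Pc.roots = Pc.natDegree := Polynomial.splits_iff_card_roots.1 hsplit
  have haroots : P.aroots Ω = Pc.roots := by rw [hPc]; rfl
  obtain ⟨S, hS⟩ : ∃ S : Finset Ω, S = Pc.roots.toFinset := ⟨_, rfl⟩
  have hSval : S.val = Pc.roots := by rw [hS, Multiset.toFinset_val, Multiset.dedup_eq_self.2 hnodup]
  have hScard : S.card = P.natDegree := by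
    rw [Finset.card_def, hSval, hcard, hdegc]
  have hSroot : ∀ α ∈ S, aeval α P = 0 := by
    intro α hα
    rw [hS, Multiset.mem_toFinset, ← haroots] at hα
    exact (mem_aroots.1 hα).2
  have hSmem : ∀ α : Ω, aeval α P = 0 → α ∈ S := by
    intro α hα
    rw [hS, Multiset.mem_toFinset, ← haroots, mem_aroots]
    exact ⟨hmon.ne_zero, hα⟩
  have hSle : ∀ α ∈ S, ‖α‖ ≤ 1 := fun α hα => norm_le_one_of_monic_root P hmon α (hSroot α hα)
  obtain ⟨U, hU⟩ : ∃ U : Finset Ω, U = S.filter (fun α => ‖α‖ = 1) := ⟨_, rfl⟩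
  have hcount : Multiset.card ((P.aroots Ω).filter (fun z => ‖z‖ = 1)) = U.card := by
    rw [hU, Finset.card_def, Finset.filter_val, hSval, haroots]
  rw [hcount]
  -- norm of q
  have hqnorm : ‖(q : Ω)‖ < 1 := by
    have := (hpΩ (q : ℤ)).2 (by exact_mod_cast hpq)
    rwa [Int.cast_natCast] at this
  have hq0 : (q : Ω) ≠ 0 := by exact_mod_cast hq.ne'
  -- u ≤ d
  have hUle : U.card ≤ (S \ U).card := by
    apply Finset.card_le_card_of_injOn (fun α => (q : Ω) / α)
    · intro α hα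
      have hαU : α ∈ U := hα
      rw [hU, Finset.mem_filter] at hαU
      have h1 := hpair α (hSroot α hαU.1)
      simp only [Finset.coe_sdiff, Set.mem_sdiff, Finset.mem_coe]
      refine ⟨hSmem _ h1.2, ?_⟩
      intro hmem
      rw [hU, Finset.mem_filter, norm_div, hαU.2, div_one] at hmem
      linarith [hmem.2]
    · intro α hα β hβ hαβ
      have hαU : α ∈ U := hα
      have hβU : β ∈ U := hβ
      rw [hU, Finset.mem_filter] at hαU hβU
      have hα0 := (hpair α (hSroot α hαU.1)).1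
      have hβ0 := (hpair β (hSroot β hβU.1)).1
      simp only at hαβ
      field_simp at hαβ
      exact hαβ.symm
  have hUS : U ⊆ S := hU ▸ Finset.filter_subset _ _
  have hsd : (S \ U).card = S.card - U.card := Finset.card_sdiff_of_subset hUS
  have hUled : U.card ≤ d := by
    have := Finset.card_le_card hUS
    omega
  -- the coefficient
  have hcoef : (P.coeff d : Ω) = (-1) ^ d * ∑ T ∈ S.powersetCard d, ∏ α ∈ T, α := by
    have h1 := Polynomial.coeff_eq_esymm_roots_of_card hcard (k := d) (by rw [hdegc]; omega)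
    rw [hmonc.leadingCoeff, one_mul, hdegc, show P.natDegree - d = d by omega] at h1
    rw [hPc, coeff_map, eq_intCast] at h1
    rw [h1, ← hPc, ← hSval]
    congr 1
    have := Finset.esymm_map_val (fun x : Ω => x) S d
    rw [Multiset.map_id'] at this
    exact this
  have hnorm : ‖(P.coeff d : Ω)‖ = ‖∑ T ∈ S.powersetCard d, ∏ α ∈ T, α‖ := by
    rw [hcoef, norm_mul, norm_pow, norm_neg, norm_one, one_pow, one_mul]
  constructor
  · intro h2u hdvd
    have hud : (S.filter (fun α => ‖α‖ = 1)).card = d := by rw [← hU]; omega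
    have h1 := norm_esymm_eq_one S hSle d hud
    have h2 := (hpΩ (P.coeff d)).2 hdvd
    rw [hnorm, h1] at h2
    exact lt_irrefl _ h2
  · intro hndvd
    have hge : ¬ U.card < d := by
      intro hlt
      have h1 := norm_esymm_lt_one S hSle d (by rw [← hU]; exact hlt)
      rw [← hnorm] at h1
      exact hndvd ((hpΩ _).1 h1)
    omega

theorem ordinary_family (p e : ℕ) [Fact p.Prime] (he : 0 < e)
    (ι : Type) [Fintype ι] (K : ι → Type u) [∀ i, Field (K i)] [∀ i, CharZero (K i)] (π : ∀ i, K i)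
    (hint : ∀ i, IsIntegral ℤ (π i))
    (hweil : ∀ i, ∀ z ∈ (minpoly ℤ (π i)).aroots ℂ, ‖z‖ = Real.sqrt ((p : ℝ) ^ e))
    (hnr : ∀ i, ∀ z ∈ (minpoly ℤ (π i)).aroots ℂ, z.im ≠ 0) :
    (∀ i, 2 * Multiset.card (((minpoly ℤ (π i)).aroots (PadicAlgCl p)).filter (fun z => ‖z‖ = 1)) = (minpoly ℤ (π i)).natDegree) ↔
      ¬ ((p : ℤ) ∣ ∏ i, (minpoly ℤ (π i)).coeff ((minpoly ℤ (π i)).natDegree / 2)) := by
  have hp : Nat.Prime p := Fact.out
  have hpΩ : ∀ a : ℤ, ‖(a : PadicAlgCl p)‖ < 1 ↔ (p : ℤ) ∣ a := by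
    intro a
    have : (a : PadicAlgCl p) = algebraMap ℚ_[p] (PadicAlgCl p) (a : ℚ_[p]) :=
      (map_intCast _ a).symm
    rw [this, PadicAlgCl.norm_extends, Padic.norm_intCast_lt_one_iff]
  have hper : ∀ i, (2 * Multiset.card (((minpoly ℤ (π i)).aroots (PadicAlgCl p)).filter
      (fun z => ‖z‖ = 1)) = (minpoly ℤ (π i)).natDegree ↔
      ¬ (p : ℤ) ∣ (minpoly ℤ (π i)).coeff ((minpoly ℤ (π i)).natDegree / 2)) := by
    intro i
    have hq : 0 < p ^ e := pow_pos hp.pos e
    have hweil' : ∀ z ∈ (minpoly ℤ (π i)).aroots ℂ, ‖z‖ = Real.sqrt ((p ^ e : ℕ) : ℝ) := by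
      intro z hz
      rw [hweil i z hz]
      push_cast
      rfl
    obtain ⟨heven, hpair⟩ := weil_pairing (minpoly ℤ (π i)) (minpoly.monic (hint i))
      (minpoly.irreducible (hint i)) (p ^ e) hq hweil' (hnr i)
    exact ordinary_iff p hpΩ _ (minpoly.monic (hint i)) (minpoly.irreducible (hint i)) (p ^ e) hq
      (dvd_pow_self p he.ne') heven (fun α hα => hpair α hα)
  rw [Prime.dvd_finsetProd_iff (Nat.prime_iff_prime_int.1 hp)]
  constructor
  · rintro h ⟨i, _, hi⟩
    exact (hper i).1 (h i) hi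
  · intro h i
    exact (hper i).2 (fun hi => h ⟨i, Finset.mem_univ i, hi⟩)

end Groth.Agent.Lib.Helper55.Ord
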