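import Groth.Prelude.Def_W4c1limliniiiiRamP1
import Mathlib

set_option autoImplicit false
universe u

namespace Groth.Agent.Lib.Helper55.Pencil

open Polynomial W4c1limliniiii

variable {k : Type*} [Field k]

theorem natDegree_comb {F Q : k[X]} {d : ℕ} (hF : F.natDegree = d) (hQ : Q.natDegree < d)
    {α : k} (hα : α ≠ 0) : (C α * F + Q).natDegree = d := by
  have h1 : (C α * F).natDegree = d := by rw [natDegree_C_mul hα, hF]
  rw [natDegree_add_eq_left_of_natDegree_lt (by rw [h1]; exact hQ), h1]

theorem natDegree_C_mul_lt {G : k[X]} {d : ℕ} (hG : G.natDegree < d) (β : k) :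
    (C β * G).natDegree < d :=
  lt_of_le_of_lt (natDegree_C_mul_le _ _) hG

theorem mem_span_pair' {F G s : k[X]} :
    s ∈ Submodule.span k {F, G} ↔ ∃ α β : k, C α * F + C β * G = s := by
  rw [Submodule.mem_span_pair]
  simp only [smul_eq_C_mul]

theorem finrank_span_pair {F G : k[X]} {d : ℕ} (hF : F.natDegree = d) (hG0 : G ≠ 0)
    (hG : G.natDegree < d) : Module.finrank k (Submodule.span k {F, G}) = 2 := by
  have hli : LinearIndependent k ![F, G] := by
    rw [LinearIndependent.pair_iff]
    intro s t hst
    simp only [smul_eq_C_mul] at hst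
    by_cases hs : s = 0
    · subst hs
      simp only [map_zero, zero_mul, zero_add, mul_eq_zero, C_eq_zero] at hst
      exact ⟨rfl, hst.resolve_right hG0⟩
    · exfalso
      have := natDegree_comb hF (natDegree_C_mul_lt hG t) hs
      rw [hst, natDegree_zero] at this
      omega
  have := finrank_span_eq_card hli
  have hr : Set.range ![F, G] = {F, G} := by
    ext x
    simp only [Set.mem_range, Set.mem_insert_iff, Set.mem_singleton_iff]
    constructor
    · rintro ⟨i, rfl⟩
      fin_cases i
      · left; rfl
      · right; rfl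
    · rintro (rfl | rfl)
      · exact ⟨0, rfl⟩
      · exact ⟨1, rfl⟩
  rw [hr] at this
  simpa using this

theorem eq_span_pair {V : Submodule k k[X]} (hfr : Module.finrank k V = 2) {F G : k[X]} {d : ℕ}
    (hFV : F ∈ V) (hGV : G ∈ V) (hF : F.natDegree = d) (hG0 : G ≠ 0) (hG : G.natDegree < d) :
    V = Submodule.span k {F, G} := by
  have hle : Submodule.span k {F, G} ≤ V := Submodule.span_le.mpr (by
    intro x hx
    rcases hx with rfl | rfl
    exacts [hFV, hGV])
  have : FiniteDimensional k V := Module.finite_of_finrank_pos (by rw [hfr]; norm_num)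
  exact (Submodule.eq_of_le_of_finrank_eq hle (by rw [finrank_span_pair hF hG0 hG, hfr])).symm

section Pert
variable (p : ℕ) {d E : ℕ} {F G : k[X]}

/-- the perturbed generator -/
noncomputable def Fc (F G : k[X]) (c : k) : k[X] := F + C c * X ^ p * G

theorem natDegree_pert (hGd : G.natDegree + E = d) (hpE : p < E) (c : k) :
    (C c * X ^ p * G).natDegree < d := by
  calc (C c * X ^ p * G).natDegree ≤ (C c * X ^ p).natDegree + G.natDegree := natDegree_mul_le
    _ ≤ p + G.natDegree := Nat.add_le_add_right (natDegree_C_mul_X_pow_le c p) _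
    _ < d := by omega

theorem natDegree_Fc (hF : F.natDegree = d) (hGd : G.natDegree + E = d) (hpE : p < E) (c : k) :
    (Fc p F G c).natDegree = d := by
  unfold Fc
  rw [natDegree_add_eq_left_of_natDegree_lt (by rw [hF]; exact natDegree_pert p hGd hpE c), hF]

theorem natDegree_comb_Fc (hF : F.natDegree = d) (hGd : G.natDegree + E = d) (hpE : p < E) (c : k)
    {α : k} (hα : α ≠ 0) (β : k) : (C α * Fc p F G c + C β * G).natDegree = d :=
  natDegree_comb (natDegree_Fc p hF hGd hpE c)
    (natDegree_C_mul_lt (by omega) β) hα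

end Pert

end Groth.Agent.Lib.Helper55.Pencil
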