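import Groth.Agent.Lib.Helper55.FunFld.Pencil1

set_option autoImplicit false
set_option linter.unusedSectionVars false
universe u

namespace Groth.Agent.Lib.Helper55.Pencil

open Polynomial W4c1limliniiii

variable {k : Type*} [Field k] {p d E : ℕ} {F G : k[X]}

/-- the perturbed pencil -/
noncomputable def Vc (p : ℕ) (F G : k[X]) (c : k) : Submodule k k[X] :=
  Submodule.span k {Fc p F G c, G}

theorem Fc_mem (c : k) : Fc p F G c ∈ Vc p F G c := Submodule.subset_span (by simp)

theorem G_mem (c : k) : G ∈ Vc p F G c := Submodule.subset_span (by simp)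

theorem isPencil_Vc (hF : F.natDegree = d) (hG0 : G ≠ 0) (hGd : G.natDegree + E = d) (hpE : p < E)
    (hbpf : ∀ a : k, ∃ s ∈ Submodule.span k {F, G}, s.eval a ≠ 0) (c : k) :
    IsPencil d (Vc p F G c) := by
  refine ⟨?_, ?_, ⟨Fc p F G c, Fc_mem c, natDegree_Fc p hF hGd hpE c⟩, ?_⟩
  · rw [Vc, Submodule.span_le]
    intro x hx
    rcases hx with rfl | rfl
    · rw [SetLike.mem_coe, mem_degreeLE]
      exact degree_le_of_natDegree_le (natDegree_Fc p hF hGd hpE c).le
    · rw [SetLike.mem_coe, mem_degreeLE]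
      exact degree_le_of_natDegree_le (by omega)
  · exact finrank_span_pair (natDegree_Fc p hF hGd hpE c) hG0 (by omega)
  · intro a
    obtain ⟨s, hs, hsa⟩ := hbpf a
    by_cases hGa : G.eval a = 0
    · obtain ⟨α, β, rfl⟩ := mem_span_pair'.mp hs
      refine ⟨Fc p F G c, Fc_mem c, ?_⟩
      simp only [Fc, eval_add, eval_mul, eval_C, hGa, mul_zero, add_zero, eval_pow, eval_X] at hsa ⊢
      exact fun h => hsa (by rw [h, mul_zero])
    · exact ⟨G, G_mem c, hGa⟩

section CharP
variable [Fact p.Prime] [CharP k p]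

theorem derivative_X_pow_p : derivative (X ^ p : k[X]) = 0 := by
  rw [derivative_X_pow, CharP.cast_eq_zero k p, map_zero, zero_mul]

theorem wronskian_Fc (c : k) : wronskian (Fc p F G c) G = wronskian F G := by
  simp only [wronskian, Fc, derivative_add, derivative_mul, derivative_C, zero_mul, zero_add,
    derivative_X_pow_p, mul_zero]
  ring

theorem sub_pow_p (a : k) : (X - C a) ^ p = X ^ p - C (a ^ p) := by
  rw [sub_pow_char, ← C_pow]

theorem comb_eq (a c α β : k) : C α * Fc p F G c + C β * G =
    (C α * F + C (β + α * c * a ^ p) * G) + C (α * c) * (X - C a) ^ p * G := by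
  rw [sub_pow_p, Fc]
  simp only [map_add, map_mul, map_pow]
  ring

end CharP

theorem wronskian_ne_zero_of_isSeparable (h : IsSeparable (Submodule.span k {F, G})) :
    wronskian F G ≠ 0 := by
  obtain ⟨A, hA, B, hB, hW⟩ := h
  obtain ⟨α, β, rfl⟩ := mem_span_pair'.mp hA
  obtain ⟨γ, δ, rfl⟩ := mem_span_pair'.mp hB
  intro h0
  apply hW
  have : wronskian (C α * F + C β * G) (C γ * F + C δ * G) =
      C (α * δ - β * γ) * wronskian F G := by
    simp only [wronskian, derivative_add, derivative_mul, derivative_C, zero_mul, zero_add,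
      map_sub, map_mul]
    ring
  rw [this, h0, mul_zero]

theorem hasRamIdxInf_Vc (hF : F.natDegree = d) (hG0 : G ≠ 0) (hGd : G.natDegree + E = d)
    (hpE : p < E) (c : k) : HasRamIdxInf d (Vc p F G c) E := by
  refine ⟨⟨G, G_mem c, hG0, hGd.le⟩, ?_⟩
  intro s hs hs0
  obtain ⟨α, β, rfl⟩ := mem_span_pair'.mp hs
  by_cases hα : α = 0
  · subst hα
    have hβ : β ≠ 0 := by
      rintro rfl
      simp at hs0
    simp only [map_zero, zero_mul, zero_add]
    rw [natDegree_C_mul hβ]
    omega
  · rw [natDegree_comb_Fc p hF hGd hpE c hα β]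
    omega

theorem Vc_injective (hF : F.natDegree = d) (hG0 : G ≠ 0) (hGd : G.natDegree + E = d)
    (hpE : p < E) (hp0 : p ≠ 0) : Function.Injective (Vc p F G) := by
  intro c c' h
  have hmem : Fc p F G c ∈ Vc p F G c' := h ▸ Fc_mem c
  obtain ⟨α, β, hαβ⟩ := mem_span_pair'.mp hmem
  by_cases hα : α = 1
  · subst hα
    have h1 : (C (c' - c) * X ^ p + C β) * G = 0 := by
      unfold Fc at hαβ
      simp only [map_one, one_mul] at hαβ
      rw [map_sub]
      linear_combination hαβ
    have h2 : C (c' - c) * X ^ p + C β = 0 := (mul_eq_zero.mp h1).resolve_right hG0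
    have h3 := congrArg (fun q => coeff q p) h2
    simp only [coeff_add, coeff_C_mul, coeff_X_pow, if_true, mul_one, coeff_C, if_neg hp0,
      add_zero, coeff_zero] at h3
    exact (sub_eq_zero.mp h3).symm
  · exfalso
    have h1 : C (α - 1) * F + (C α * (C c' * X ^ p * G) - C c * X ^ p * G + C β * G) = 0 := by
      unfold Fc at hαβ
      rw [map_sub, map_one]
      linear_combination hαβ
    have hlt : natDegree (C α * (C c' * X ^ p * G) - C c * X ^ p * G + C β * G) < d := by
      refine (natDegree_add_le _ _).trans_lt (max_lt ?_ (natDegree_C_mul_lt (by omega) β))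
      refine (natDegree_sub_le _ _).trans_lt (max_lt ?_ (natDegree_pert p hGd hpE c))
      exact natDegree_C_mul_lt (natDegree_pert p hGd hpE c') α
    have := natDegree_comb hF hlt (sub_ne_zero.mpr hα)
    rw [h1, natDegree_zero] at this
    omega

end Groth.Agent.Lib.Helper55.Pencil
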