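import Groth.Agent.Lib.Helper55.FunFld.Pencil2

set_option autoImplicit false
set_option linter.unusedSectionVars false
universe u

namespace Groth.Agent.Lib.Helper55.Pencil

open Polynomial W4c1limliniiii

variable {k : Type*} [Field k] {p d E : ℕ} {F G : k[X]} [Fact p.Prime] [CharP k p]

theorem hasRamIdx_Vc (hF : F.natDegree = d) (hGd : G.natDegree + E = d)
    (hpE : p < E) {a : k} {e : ℕ} (hram : HasRamIdx (Submodule.span k {F, G}) a e) (he : e < p)
    (c : k) : HasRamIdx (Vc p F G c) a e := by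
  obtain ⟨⟨t, htV, ht0, hte⟩, hmax⟩ := hram
  have hd0 : 0 < d := by omega
  constructor
  · obtain ⟨α, β', rfl⟩ := mem_span_pair'.mp htV
    have hs0 : C α * Fc p F G c + C (β' - α * c * a ^ p) * G ≠ 0 := by
      by_cases hα : α = 0
      · subst hα
        simpa using ht0
      · intro h0
        have := natDegree_comb_Fc p hF hGd hpE c hα (β' - α * c * a ^ p)
        rw [h0, natDegree_zero] at this
        omega
    refine ⟨C α * Fc p F G c + C (β' - α * c * a ^ p) * G, mem_span_pair'.mpr ⟨_, _, rfl⟩, hs0, ?_⟩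
    rw [le_rootMultiplicity_iff hs0, comb_eq a]
    apply dvd_add
    · have := (le_rootMultiplicity_iff ht0).mp hte
      rwa [sub_add_cancel]
    · exact Dvd.dvd.mul_right (Dvd.dvd.mul_left (pow_dvd_pow _ he.le) _) _
  · intro s hs hs0
    obtain ⟨α, β, rfl⟩ := mem_span_pair'.mp hs
    by_contra hlt
    push Not at hlt
    have hdvd := (le_rootMultiplicity_iff hs0).mp (Nat.succ_le_of_lt hlt)
    have htV : C α * F + C (β + α * c * a ^ p) * G ∈ Submodule.span k {F, G} :=
      mem_span_pair'.mpr ⟨_, _, rfl⟩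
    have ht0 : C α * F + C (β + α * c * a ^ p) * G ≠ 0 := by
      by_cases hα : α = 0
      · subst hα
        simpa using hs0
      · intro h0
        have := natDegree_comb hF
          (natDegree_C_mul_lt (show G.natDegree < d by omega) (β + α * c * a ^ p)) hα
        rw [h0, natDegree_zero] at this
        omega
    have h2 : (X - C a) ^ (e + 1) ∣ C α * F + C (β + α * c * a ^ p) * G := by
      have h1 : C α * F + C (β + α * c * a ^ p) * G =
          (C α * Fc p F G c + C β * G) - C (α * c) * (X - C a) ^ p * G := by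
        rw [comb_eq a]
        ring
      rw [h1]
      exact dvd_sub hdvd (Dvd.dvd.mul_right (Dvd.dvd.mul_left (pow_dvd_pow _ he) _) _)
    have h3 := (le_rootMultiplicity_iff ht0).mpr h2
    have h4 := hmax _ htV ht0
    omega

theorem main (k : Type u) [Field k] [IsAlgClosed k] (p : ℕ) [Fact p.Prime] [CharP k p]
    (d n : ℕ) (P : Fin n → k) (e : Fin n → ℕ) (E : ℕ)
    (he : W4c1limliniiii.Admissible p d (Fin.cons E e : Fin (n + 1) → ℕ))
    (hlt : ∀ i, e i < p) (hE : p < E) :
    {V : Submodule k k[X] | V ∈ W4c1limliniiii.ramMaps d P e ∧ W4c1limliniiii.HasRamIdxInf d V E} = ∅ ∨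
      {V : Submodule k k[X] | V ∈ W4c1limliniiii.ramMaps d P e ∧
        W4c1limliniiii.HasRamIdxInf d V E}.Infinite := by
  by_cases hne : {V : Submodule k k[X] | V ∈ W4c1limliniiii.ramMaps d P e ∧
      W4c1limliniiii.HasRamIdxInf d V E} = ∅
  · left; exact hne
  right
  obtain ⟨V, hV⟩ := Set.nonempty_iff_ne_empty.mpr hne
  obtain ⟨⟨hpen, hsep, hram⟩, hinf⟩ := hV
  obtain ⟨hle, hfr, ⟨F, hFV, hFd⟩, hbpf⟩ := hpen
  obtain ⟨⟨G, hGV, hG0, hGd'⟩, hall⟩ := hinf
  have hE2 : 2 ≤ E := (he.1 0).1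
  have hGd : G.natDegree + E = d := le_antisymm hGd' (hall G hGV hG0)
  have hVeq := eq_span_pair hfr hFV hGV hFd hG0 (by omega)
  subst hVeq
  have hp0 : p ≠ 0 := (Fact.out : p.Prime).ne_zero
  apply Set.infinite_of_injective_forall_mem (f := Vc p F G) (Vc_injective hFd hG0 hGd hE hp0)
  intro c
  refine ⟨⟨isPencil_Vc hFd hG0 hGd hE hbpf c, ?_, fun i => hasRamIdx_Vc hFd hGd hE (hram i) (hlt i) c⟩,
    hasRamIdxInf_Vc hFd hG0 hGd hE c⟩
  exact ⟨Fc p F G c, Fc_mem c, G, G_mem c, by
    rw [wronskian_Fc]; exact wronskian_ne_zero_of_isSeparable hsep⟩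

end Groth.Agent.Lib.Helper55.Pencil
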