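import Mathlib

set_option autoImplicit false
universe u v w

namespace Groth.Agent.Lib.Helper55.PicSurj

open CommRing Module TensorProduct

variable {A : Type u} {B : Type v} {Q Q' : Type w} [CommRing A] [CommRing B] [CommRing Q]
  [CommRing Q'] [Algebra A B] [Algebra A Q] [Algebra B Q'] [Algebra A Q'] [IsScalarTower A B Q']

/-- the lifted ideal -/
def liftSub (pr : Q →ₐ[A] Q') (I' : Submodule B Q') : Submodule A Q :=
  1 ⊓ (I'.restrictScalars A).comap pr.toLinearMap

theorem mem_liftSub {pr : Q →ₐ[A] Q'} {I' : Submodule B Q'} {z : Q} :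
    z ∈ liftSub pr I' ↔ (∃ a : A, algebraMap A Q a = z) ∧ pr z ∈ I' := by
  unfold liftSub
  rw [Submodule.mem_inf, Submodule.mem_one, Submodule.mem_comap]
  rfl

theorem algebraMap_mem_liftSub {pr : Q →ₐ[A] Q'} {I' : Submodule B Q'} {a : A}
    (h : algebraMap A Q' a ∈ I') : algebraMap A Q a ∈ liftSub pr I' := by
  rw [mem_liftSub]
  refine ⟨⟨a, rfl⟩, ?_⟩
  rw [AlgHom.commutes]
  exact h

theorem liftSub_mul (hf : Function.Surjective (algebraMap A B)) (pr : Q →ₐ[A] Q')
    (hpr : Function.Surjective pr) (I' J' : Submodule B Q') (hIJ : I' * J' = 1) (hI1 : I' ≤ 1)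
    (i₀ t : A) (h1 : i₀ + t = 1) (hi₀ : algebraMap A Q' i₀ ∈ I')
    (ht : ∀ z, pr z = 0 → algebraMap A Q t * z = 0) :
    liftSub pr I' * (1 / liftSub pr I') = 1 := by
  apply le_antisymm Submodule.mul_one_div_le_one
  rw [Submodule.one_le]
  set I := liftSub pr I' with hI
  have hone : (1 : Q) ∈ 1 / I := by
    rw [Submodule.mem_div_iff_forall_mul_mem]
    intro y hy
    rw [one_mul]
    rw [hI, mem_liftSub] at hy
    exact Submodule.mem_one.mpr hy.1
  have hdecomp : (1 : Q) = algebraMap A Q (i₀ * (i₀ + 2 * t)) + algebraMap A Q t * algebraMap A Q t := by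
    rw [← map_mul, ← map_add, ← map_one (algebraMap A Q)]
    congr 1
    have : (i₀ + t) * (i₀ + t) = 1 := by rw [h1, mul_one]
    rw [← this]; ring
  rw [hdecomp]
  apply Submodule.add_mem
  · have h1 : algebraMap A Q (i₀ * (i₀ + 2 * t)) ∈ I := by
      apply algebraMap_mem_liftSub
      rw [mul_comm, map_mul, ← Algebra.smul_def]
      exact (I'.restrictScalars A).smul_mem _ hi₀
    have := Submodule.mul_mem_mul h1 hone
    rwa [mul_one] at this
  · -- the t² part
    have key : ∀ w ∈ I' * J', ∃ Z : Q, pr Z = w ∧ algebraMap A Q t * Z ∈ I * (1 / I) := by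
      intro w hw
      refine Submodule.mul_induction_on hw ?_ ?_
      · intro y hy u hu
        obtain ⟨b, hb⟩ := Submodule.mem_one.mp (hI1 hy)
        obtain ⟨a, rfl⟩ := hf b
        obtain ⟨su, hsu⟩ := hpr u
        have hz : algebraMap A Q a ∈ I := by
          apply algebraMap_mem_liftSub
          rw [IsScalarTower.algebraMap_apply A B Q', hb]
          exact hy
        refine ⟨algebraMap A Q a * su, ?_, ?_⟩
        · rw [map_mul, AlgHom.commutes, IsScalarTower.algebraMap_apply A B Q', hb, hsu]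
        · rw [mul_left_comm]
          apply Submodule.mul_mem_mul hz
          rw [Submodule.mem_div_iff_forall_mul_mem]
          intro y₂ hy₂
          rw [hI, mem_liftSub] at hy₂
          obtain ⟨⟨a₂, rfl⟩, hy₂'⟩ := hy₂
          have h3 : u * pr (algebraMap A Q a₂) ∈ (1 : Submodule B Q') := by
            rw [← hIJ, mul_comm I' J']
            exact Submodule.mul_mem_mul hu hy₂'
          obtain ⟨b₃, hb₃⟩ := Submodule.mem_one.mp h3
          obtain ⟨c, rfl⟩ := hf b₃
          have h4 : pr (su * algebraMap A Q a₂ - algebraMap A Q c) = 0 := by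
            rw [map_sub, map_mul, hsu, ← hb₃, AlgHom.commutes pr c,
              IsScalarTower.algebraMap_apply A B Q', sub_self]
          have h5 := ht _ h4
          rw [mul_sub, sub_eq_zero] at h5
          rw [mul_assoc, h5, ← map_mul]
          exact Submodule.mem_one.mpr ⟨_, rfl⟩
      · intro w₁ w₂ ih₁ ih₂
        obtain ⟨Z₁, h1, h1'⟩ := ih₁
        obtain ⟨Z₂, h2, h2'⟩ := ih₂
        exact ⟨Z₁ + Z₂, by rw [map_add, h1, h2], by rw [mul_add]; exact Submodule.add_mem _ h1' h2'⟩
    have hw₀ : algebraMap A Q' t ∈ I' * J' := by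
      rw [hIJ, IsScalarTower.algebraMap_apply A B Q']
      exact Submodule.mem_one.mpr ⟨_, rfl⟩
    obtain ⟨Z, hZ, hZ'⟩ := key _ hw₀
    have h6 : pr (Z - algebraMap A Q t) = 0 := by
      rw [map_sub, hZ, AlgHom.commutes, sub_self]
    have h7 := ht _ h6
    rw [mul_sub, sub_eq_zero] at h7
    rwa [h7] at hZ'

end Groth.Agent.Lib.Helper55.PicSurj
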