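import Groth.Agent.Lib.Helper55.FunFld.PicSurj1

set_option autoImplicit false
universe u v w

namespace Groth.Agent.Lib.Helper55.PicSurj

open CommRing Module TensorProduct

variable {A : Type u} {B : Type u} {Q Q' : Type w} [CommRing A] [CommRing B] [CommRing Q]
  [CommRing Q'] [Algebra A B] [Algebra A Q] [Algebra B Q'] [Algebra A Q'] [IsScalarTower A B Q']
  [FaithfulSMul A Q] [FaithfulSMul B Q']

theorem mapAlgebra_unitsToPic
    (hf : Function.Surjective (algebraMap A B)) (pr : Q →ₐ[A] Q')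
    (Iu : (Submodule A Q)ˣ) (I'u : (Submodule B Q')ˣ)
    (hI : (Iu : Submodule A Q) = liftSub pr (I'u : Submodule B Q'))
    (hI1 : (I'u : Submodule B Q') ≤ 1) :
    Pic.mapAlgebra A B (Submodule.unitsToPic A Q Iu) = Submodule.unitsToPic B Q' I'u := by
  rw [Submodule.unitsToPic_apply, Submodule.unitsToPic_apply, Pic.mapAlgebra_apply,
    Pic.mk_eq_mk_iff]
  have hmem : ∀ y : (Iu : Submodule A Q), pr y ∈ (I'u : Submodule B Q') := by
    intro y
    have h2 : (y : Q) ∈ liftSub pr (I'u : Submodule B Q') := hI ▸ y.2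
    rw [mem_liftSub] at h2
    exact h2.2
  let g : (Iu : Submodule A Q) →ₗ[A] (I'u : Submodule B Q') :=
    { toFun := fun y => ⟨pr y, hmem y⟩
      map_add' := fun y z => by ext; simp
      map_smul' := fun a y => by ext; simp }
  let φ : B ⊗[A] (Iu : Submodule A Q) →ₗ[B] (I'u : Submodule B Q') := LinearMap.liftBaseChange B g
  have hφ : Function.Surjective φ := by
    intro i'
    obtain ⟨b, hb⟩ := Submodule.mem_one.mp (hI1 i'.2)
    obtain ⟨a, rfl⟩ := hf b
    have hy : algebraMap A Q a ∈ (Iu : Submodule A Q) := by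
      rw [hI]
      apply algebraMap_mem_liftSub
      rw [IsScalarTower.algebraMap_apply A B Q', hb]
      exact i'.2
    refine ⟨1 ⊗ₜ ⟨algebraMap A Q a, hy⟩, ?_⟩
    ext
    simp only [φ, LinearMap.liftBaseChange_tmul, one_smul]
    change pr (algebraMap A Q a) = _
    rw [AlgHom.commutes, IsScalarTower.algebraMap_apply A B Q', hb]
  have hbij : Function.Bijective φ := Module.Invertible.bijective_of_surjective hφ
  exact ⟨(TensorProduct.AlgebraTensorModule.congr (LinearEquiv.refl B B)
    (Pic.mk.linearEquiv A (Iu : Submodule A Q))) ≪≫ₗ LinearEquiv.ofBijective φ hbij⟩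

theorem pic_surjective [Subsingleton (Pic Q')]
    (hf : Function.Surjective (algebraMap A B)) (pr : Q →ₐ[A] Q') (hpr : Function.Surjective pr)
    (hM : ∀ I' : (Submodule B Q')ˣ, ∃ (x : Q'ˣ) (i₀ t : A), i₀ + t = 1 ∧
      (∀ z, pr z = 0 → algebraMap A Q t * z = 0) ∧
      (Submodule.span B {(x : Q')} * (I' : Submodule B Q') ≤ 1) ∧
      algebraMap A Q' i₀ ∈ Submodule.span B {(x : Q')} * (I' : Submodule B Q')) :
    Function.Surjective (Pic.mapAlgebra A B) := by
  intro M
  have hMr : M ∈ (Submodule.unitsToPic B Q').range := by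
    rw [Submodule.range_unitsToPic, CommRing.relPic_eq_top]; trivial
  obtain ⟨I', rfl⟩ := hMr
  obtain ⟨x, i₀, t, h1, ht, hle, hi₀⟩ := hM I'
  let xs : (Submodule B Q')ˣ := Units.map (Submodule.spanSingleton B).toMonoidHom x
  have hxs : (xs : Submodule B Q') = Submodule.span B {(x : Q')} := rfl
  let I'' : (Submodule B Q')ˣ := xs * I'
  have hI'' : (I'' : Submodule B Q') = Submodule.span B {(x : Q')} * (I' : Submodule B Q') := rfl
  have hunit := liftSub_mul hf pr hpr (I'' : Submodule B Q') ((I''⁻¹ : (Submodule B Q')ˣ) : Submodule B Q')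
    (by rw [← Units.val_mul, mul_inv_cancel, Units.val_one]) (by rw [hI'']; exact hle) i₀ t h1
    (by rw [hI'']; exact hi₀) ht
  let Iu : (Submodule A Q)ˣ := Units.mkOfMulEqOne _ _ hunit
  refine ⟨Submodule.unitsToPic A Q Iu, ?_⟩
  rw [mapAlgebra_unitsToPic hf pr Iu I'' rfl (by rw [hI'']; exact hle)]
  change Submodule.unitsToPic B Q' (xs * I') = _
  rw [map_mul]
  have : Submodule.unitsToPic B Q' xs = 1 := by
    have := Submodule.ker_unitsToPic B Q'
    rw [← MonoidHom.mem_ker, this]
    exact ⟨x, rfl⟩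
  rw [this, one_mul]

end Groth.Agent.Lib.Helper55.PicSurj
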