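import Mathlib

set_option autoImplicit false
universe u v w

namespace Groth.Agent.Lib.Helper55.PicSurj

open CommRing Module TensorProduct

theorem exists_gen_mod (B : Type u) [CommRing B] (M : Type v) [AddCommGroup M] [Module B M]
    [Module.Invertible B M] (I : Ideal B) [Finite (B ⧸ I)] :
    ∃ x : M, ∀ y : M, ∃ b : B, y - b • x ∈ (I • ⊤ : Submodule B M) := by
  have hfree : Module.Free (B ⧸ I) ((B ⧸ I) ⊗[B] M) := inferInstance
  obtain ⟨e⟩ := Module.Invertible.free_iff_linearEquiv.mp hfree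
  have hrep : ∀ m : (B ⧸ I) ⊗[B] M, ∃ y : M, m = (1 : B ⧸ I) ⊗ₜ[B] y := by
    intro m
    induction m using TensorProduct.induction_on with
    | zero => exact ⟨0, by rw [tmul_zero]⟩
    | tmul d y =>
      obtain ⟨b, rfl⟩ := Ideal.Quotient.mk_surjective d
      refine ⟨b • y, ?_⟩
      rw [← TensorProduct.smul_tmul, Algebra.smul_def, mul_one]
      rfl
    | add m₁ m₂ h₁ h₂ =>
      obtain ⟨y₁, rfl⟩ := h₁
      obtain ⟨y₂, rfl⟩ := h₂
      exact ⟨y₁ + y₂, by rw [tmul_add]⟩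
  obtain ⟨x, hx⟩ := hrep (e.symm 1)
  refine ⟨x, fun y => ?_⟩
  obtain ⟨b, hb⟩ := Ideal.Quotient.mk_surjective (e ((1 : B ⧸ I) ⊗ₜ[B] y))
  refine ⟨b, ?_⟩
  have h1 : (1 : B ⧸ I) ⊗ₜ[B] y = (1 : B ⧸ I) ⊗ₜ[B] (b • x) := by
    apply e.injective
    rw [← hb]
    have : (1 : B ⧸ I) ⊗ₜ[B] (b • x) = (Ideal.Quotient.mk I b) • ((1 : B ⧸ I) ⊗ₜ[B] x) := by
      rw [TensorProduct.smul_tmul', smul_eq_mul, mul_one, ← TensorProduct.smul_tmul,
        Algebra.smul_def, mul_one]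
      rfl
    rw [this, map_smul, ← hx, LinearEquiv.apply_symm_apply, smul_eq_mul, mul_one]
  have h2 : (1 : B ⧸ I) ⊗ₜ[B] (y - b • x) = 0 := by rw [tmul_sub, h1, sub_self]
  have h3 := congrArg (quotTensorEquivQuotSMul M I) h2
  rw [← map_one (Ideal.Quotient.mk I), quotTensorEquivQuotSMul_mk_tmul, one_smul, map_zero,
    Submodule.Quotient.mk_eq_zero] at h3
  exact h3

theorem finite_quot_int (B : Type u) [CommRing B] [Module.Finite ℤ B] (n : ℤ) (hn : n ≠ 0) :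
    Finite (B ⧸ Ideal.span {(n : B)}) := by
  have hk : ∀ x : B ⧸ Ideal.span {(n : B)}, n.natAbs • x = 0 := by
    intro x
    obtain ⟨b, rfl⟩ := Ideal.Quotient.mk_surjective x
    rw [← map_nsmul, Ideal.Quotient.eq_zero_iff_mem, nsmul_eq_mul]
    apply Ideal.mul_mem_right
    rw [Ideal.mem_span_singleton]
    have h1 : n ∣ (n.natAbs : ℤ) := Int.dvd_natAbs.mpr dvd_rfl
    have h2 := (Int.castRingHom B).map_dvd h1
    simpa using h2
  let inst : Module (ZMod n.natAbs) (B ⧸ Ideal.span {(n : B)}) := AddCommGroup.zmodModule hk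
  have hne : NeZero n.natAbs := ⟨Int.natAbs_ne_zero.mpr hn⟩
  have hfin : Module.Finite (ZMod n.natAbs) (B ⧸ Ideal.span {(n : B)}) :=
    Module.Finite.of_restrictScalars_finite ℤ _ _
  exact @Module.finite_of_finite (ZMod n.natAbs) (B ⧸ Ideal.span {(n : B)}) _ _ inst _ hfin

end Groth.Agent.Lib.Helper55.PicSurj
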