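import Groth.Agent.Lib.Helper55.FunFld.PicSurj3

set_option autoImplicit false
universe u v w

namespace Groth.Agent.Lib.Helper55.PicSurj

open CommRing Module TensorProduct

theorem moving (B : Type u) (Q' : Type w) [CommRing B] [CommRing Q'] [Algebra B Q']
    [FaithfulSMul B Q'] [Module.Finite ℤ B] (n : ℤ) (hn : 2 ≤ n.natAbs)
    (hU : ∀ x : Q', ¬ IsUnit x → ∃ e : Q', e ≠ 0 ∧ e * x = 0)
    (hT : ∀ (r : ℤ) (e : Q'), r ≠ 0 → r • e = 0 → e = 0)
    (I' : (Submodule B Q')ˣ) :
    ∃ (x : Q'ˣ), Submodule.span B {(x : Q')} * (I' : Submodule B Q') ≤ 1 ∧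
      ∃ y ∈ Submodule.span B {(x : Q')} * (I' : Submodule B Q'), ∃ b : B,
        y + algebraMap B Q' ((n : B) * b) = 1 := by
  have hn0 : n ≠ 0 := by rintro rfl; simp at hn
  have hfinq : Finite (B ⧸ Ideal.span {(n : B)}) := finite_quot_int B n hn0
  set J' : Submodule B Q' := ((I'⁻¹ : (Submodule B Q')ˣ) : Submodule B Q') with hJ'
  have hJI : J' * (I' : Submodule B Q') = 1 := by
    rw [hJ', ← Units.val_mul, inv_mul_cancel, Units.val_one]
  have hIJ : (I' : Submodule B Q') * J' = 1 := by rw [mul_comm, hJI]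
  have hinv : Module.Invertible B J' := inferInstanceAs (Module.Invertible B (I'⁻¹ : (Submodule B Q')ˣ))
  obtain ⟨x, hx⟩ := exists_gen_mod B J' (Ideal.span {(n : B)})
  -- Key (1)
  have key1 : ∀ y ∈ J', ∃ b : B, ∃ w ∈ J', y = b • (x : Q') + (n : B) • w := by
    intro y hy
    obtain ⟨b, hb⟩ := hx ⟨y, hy⟩
    rw [Submodule.ideal_span_singleton_smul, Submodule.mem_smul_pointwise_iff_exists] at hb
    obtain ⟨w, -, hw⟩ := hb
    refine ⟨b, w.1, w.2, ?_⟩
    have := congrArg Subtype.val hw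
    simp only [Submodule.coe_smul, Submodule.coe_sub] at this
    rw [this]; ring
  -- Nakayama over ℤ
  have hr : ∃ r : ℤ, r ≠ 0 ∧ ∀ y ∈ J', ∃ b : B, b • (x : Q') = r • y := by
    let N₀ : Submodule ℤ Q' := (Submodule.span B {(x : Q')}).restrictScalars ℤ
    let N : Submodule ℤ Q' := J'.restrictScalars ℤ
    let Nbar : Submodule ℤ (Q' ⧸ N₀) := N.map N₀.mkQ
    have hfg : Nbar.FG := by
      apply Submodule.FG.map
      have h1 : Module.Finite B J' := inferInstance
      have h2 : Module.Finite ℤ J' := Module.Finite.trans B J'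
      have h3 : Module.Finite ℤ N :=
        Module.Finite.equiv ((Submodule.restrictScalarsEquiv ℤ B Q' J').symm.restrictScalars ℤ)
      exact Module.Finite.iff_fg.mp h3
    have hle : Nbar ≤ Ideal.span {n} • Nbar := by
      rintro _ ⟨y, hy, rfl⟩
      obtain ⟨b, w, hw, rfl⟩ := key1 y hy
      have h0 : N₀.mkQ (b • (x : Q')) = 0 := by
        rw [Submodule.mkQ_apply, Submodule.Quotient.mk_eq_zero]
        exact Submodule.smul_mem (Submodule.span B {(x : Q')}) b (Submodule.mem_span_singleton_self _)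
      have : N₀.mkQ (b • (x : Q') + (n : B) • w) = n • N₀.mkQ w := by
        rw [map_add, h0, zero_add, ← map_zsmul, Int.cast_smul_eq_zsmul]
      rw [this]
      exact Submodule.smul_mem_smul (Ideal.subset_span rfl) ⟨w, hw, rfl⟩
    obtain ⟨r, hr1, hr2⟩ :=
      Submodule.exists_sub_one_mem_and_smul_eq_zero_of_fg_of_le_smul _ Nbar hfg hle
    refine ⟨r, ?_, ?_⟩
    · rintro rfl
      rw [zero_sub, Ideal.mem_span_singleton] at hr1
      have h1 : n.natAbs ∣ 1 := by
        have := Int.natAbs_dvd_natAbs.mpr hr1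
        simpa using this
      have := Nat.le_of_dvd one_pos h1
      omega
    · intro y hy
      have := hr2 (N₀.mkQ y) ⟨y, hy, rfl⟩
      rw [← map_zsmul, Submodule.mkQ_apply, Submodule.Quotient.mk_eq_zero] at this
      exact Submodule.mem_span_singleton.mp this
  obtain ⟨r, hr0, hr⟩ := hr
  have hxunit : IsUnit (x : Q') := by
    by_contra hnu
    obtain ⟨e, he0, hex⟩ := hU _ hnu
    have h1 : ∀ y ∈ J', e * (r • y) = 0 := by
      intro y hy
      obtain ⟨b, hb⟩ := hr y hy
      rw [← hb, mul_smul_comm, hex, smul_zero]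
    have h2 : ∀ w ∈ (I' : Submodule B Q') * J', e * (r • w) = 0 := by
      intro w hw
      refine Submodule.mul_induction_on hw ?_ ?_
      · intro i _ j hj
        rw [← mul_smul_comm, mul_left_comm, h1 j hj, mul_zero]
      · intro a b ha hb
        rw [smul_add, mul_add, ha, hb, add_zero]
    have h3 := h2 1 (by rw [hIJ]; exact Submodule.one_le.mp le_rfl)
    rw [mul_smul_comm, mul_one] at h3
    exact he0 (hT r e hr0 h3)
  refine ⟨hxunit.unit, ?_, ?_⟩
  · rw [IsUnit.unit_spec, ← hJI]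
    exact mul_le_mul' ((Submodule.span_singleton_le_iff_mem _ _).mpr x.2) le_rfl
  · rw [IsUnit.unit_spec]
    have h4 : ∀ w ∈ J' * (I' : Submodule B Q'),
        ∃ y ∈ Submodule.span B {(x : Q')} * (I' : Submodule B Q'),
          ∃ c ∈ (1 : Submodule B Q'), w = y + (n : B) • c := by
      intro w hw
      refine Submodule.mul_induction_on hw ?_ ?_
      · intro j hj i hi
        obtain ⟨b, w', hw', rfl⟩ := key1 j hj
        refine ⟨(b • (x : Q')) * i, Submodule.mul_mem_mul
          (Submodule.smul_mem _ _ (Submodule.mem_span_singleton_self _)) hi, w' * i, ?_, ?_⟩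
        · rw [← hJI]; exact Submodule.mul_mem_mul hw' hi
        · rw [add_mul, smul_mul_assoc, smul_mul_assoc]
      · rintro a b ⟨y₁, hy₁, c₁, hc₁, rfl⟩ ⟨y₂, hy₂, c₂, hc₂, rfl⟩
        refine ⟨y₁ + y₂, Submodule.add_mem _ hy₁ hy₂, c₁ + c₂, Submodule.add_mem _ hc₁ hc₂, ?_⟩
        rw [smul_add]; abel
    obtain ⟨y, hy, c, hc, h5⟩ := h4 1 (by rw [hJI]; exact Submodule.one_le.mp le_rfl)
    obtain ⟨b, rfl⟩ := Submodule.mem_one.mp hc
    refine ⟨y, hy, b, ?_⟩
    rw [h5, map_mul, Algebra.smul_def]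

end Groth.Agent.Lib.Helper55.PicSurj
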