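import Groth.Agent.Lib.Helper55.FunFld.Weil2

/-! Minimal central orders of Weil numbers: the arithmetic input and the main theorem (S17984). -/

set_option autoImplicit false

namespace Groth.Agent.Lib.Helper55.Weil

open MvPolynomial

noncomputable section

universe u

section OneField

variable {L : Type u} [Field L] [CharZero L] (x : L) (c : ℤ)

/-- `F ↦ x`, `V ↦ c / x`. -/
def psi1 : WP →+* L := eval₂Hom (Int.castRingHom L) ![x, (c : L) / x]

lemma psi1_X0 : psi1 x c (X 0) = x := by simp [psi1]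
lemma psi1_X1 : psi1 x c (X 1) = (c : L) / x := by simp [psi1]
lemma psi1_C (a : ℤ) : psi1 x c (C a) = (a : L) := by simp [psi1]

lemma psi1_g0 (hx : x ≠ 0) : psi1 x c (g0 c) = 0 := by
  rw [g0, map_sub, map_mul, psi1_X0, psi1_X1, psi1_C, mul_div_cancel₀ _ hx, sub_self]

lemma psi1_mem_G (hx : x ≠ 0) {y : WP} (hy : y ∈ G c) : psi1 x c y = 0 := by
  obtain ⟨z, rfl⟩ := (mem_G_iff _).1 hy
  rw [map_mul, psi1_g0 x c hx, mul_zero]

lemma psi1_aeval (Gp : Polynomial ℤ) :
    psi1 x c (Polynomial.aeval (X 0 : WP) Gp) = Polynomial.aeval x Gp := by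
  induction Gp using Polynomial.induction_on' with
  | add a b ha hb => rw [map_add, map_add, ha, hb, map_add]
  | monomial n a =>
    rw [← Polynomial.C_mul_X_pow_eq_monomial]
    simp only [map_mul, map_pow, Polynomial.aeval_X, Polynomial.aeval_C, psi1_X0,
      MvPolynomial.algebraMap_eq, psi1_C]
    simp

end OneField

section Family

variable {ι : Type} [Fintype ι] (K : ι → Type u) [∀ i, Field (K i)] [∀ i, CharZero (K i)]
  (π : ∀ i, K i)

lemma psi_apply (c : ℕ) (g : WP) (i : ι) :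
    (MvPolynomial.aeval ![fun i => π i, fun i => ((c : K i)) / π i] :
        MvPolynomial (Fin 2) ℤ →ₐ[ℤ] ((i : ι) → K i)) g i = psi1 (π i) (c : ℤ) g := by
  induction g using MvPolynomial.induction_on with
  | C a => simp [psi1_C]
  | add g1 g2 h1 h2 => rw [map_add, Pi.add_apply, h1, h2, map_add]
  | mul_X g j h =>
    rw [map_mul, Pi.mul_apply, h, map_mul, aeval_X]
    congr 1
    fin_cases j
    · simp [psi1_X0]
    · simp [psi1_X1]

variable {K π}

/-- The product of pairwise distinct minimal polynomials divides any common annihilator. -/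
theorem prod_minpoly_dvd (hint : ∀ i, IsIntegral ℤ (π i))
    (hinj : ∀ i j, minpoly ℤ (π i) = minpoly ℤ (π j) → i = j) (Gp : Polynomial ℤ)
    (hG : ∀ i, Polynomial.aeval (π i) Gp = 0) : ∏ i, minpoly ℤ (π i) ∣ Gp := by
  classical
  have key : ∀ s : Finset ι, ∏ i ∈ s, minpoly ℤ (π i) ∣ Gp := by
    intro s
    induction s using Finset.induction_on with
    | empty => simp
    | insert a s ha ih =>
      rw [Finset.prod_insert ha]
      obtain ⟨r, hr⟩ := ih
      have hpa : Prime (minpoly ℤ (π a)) := minpoly.prime_of_isIntegrallyClosed (hint a)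
      have hdvd : minpoly ℤ (π a) ∣ Gp := minpoly.isIntegrallyClosed_dvd (hint a) (hG a)
      rw [hr] at hdvd
      rcases hpa.dvd_or_dvd hdvd with h1 | h1
      · exfalso
        obtain ⟨j, hj, hdj⟩ := (Prime.dvd_finset_prod_iff hpa _).1 h1
        have hpj : Prime (minpoly ℤ (π j)) := minpoly.prime_of_isIntegrallyClosed (hint j)
        have hass : Associated (minpoly ℤ (π a)) (minpoly ℤ (π j)) :=
          hpa.irreducible.associated_of_dvd hpj.irreducible hdj
        have := Polynomial.eq_of_monic_of_associated (minpoly.monic (hint a))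
          (minpoly.monic (hint j)) hass
        exact ha (hinj a j this ▸ hj)
      · obtain ⟨r', rfl⟩ := h1
        exact ⟨r', by rw [hr]; ring⟩
  exact key Finset.univ

/-- Weil numbers are nonzero. -/
theorem weil_ne_zero (c : ℕ) (hc : 0 < c)
    (hweil : ∀ i, ∀ z ∈ (minpoly ℤ (π i)).aroots ℂ, ‖z‖ = Real.sqrt (c : ℝ)) (i : ι) :
    π i ≠ 0 := by
  intro h0
  have h1 : (0 : ℂ) ∈ (minpoly ℤ (π i)).aroots ℂ := by
    rw [h0]
    have := minpoly.eq_X_sub_C_of_algebraMap_inj (0 : ℤ) (B := K i)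
      (RingHom.injective_int (algebraMap ℤ (K i)))
    rw [map_zero, map_zero, sub_zero] at this
    rw [this]
    simp
  have h2 := hweil i 0 h1
  rw [norm_zero] at h2
  have h3 : (0 : ℝ) < Real.sqrt (c : ℝ) := Real.sqrt_pos.2 (by exact_mod_cast hc)
  linarith

/-- The constant term of the product of the minimal polynomials. -/
theorem coeff_zero_natAbs (c : ℕ) (hint : ∀ i, IsIntegral ℤ (π i))
    (hweil : ∀ i, ∀ z ∈ (minpoly ℤ (π i)).aroots ℂ, ‖z‖ = Real.sqrt (c : ℝ))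
    (D : ℕ) (hD : ∑ i, (minpoly ℤ (π i)).natDegree = 2 * D) :
    ((∏ i, minpoly ℤ (π i)).coeff 0).natAbs = c ^ D := by
  obtain ⟨Pw, hPw⟩ : ∃ Pw, Pw = ∏ i, minpoly ℤ (π i) := ⟨_, rfl⟩
  rw [← hPw]
  have hmon : Pw.Monic := hPw ▸ Polynomial.monic_prod_of_monic _ _ fun i _ => minpoly.monic (hint i)
  have hdeg : Pw.natDegree = 2 * D := by
    rw [hPw, Polynomial.natDegree_prod_of_monic _ _ fun i _ => minpoly.monic (hint i), hD]
  obtain ⟨Pc, hPc⟩ : ∃ Pc, Pc = Pw.map (Int.castRingHom ℂ) := ⟨_, rfl⟩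
  have hmonc : Pc.Monic := hPc ▸ hmon.map _
  have hsplit : Pc.Splits := IsAlgClosed.splits Pc
  have h0 := hsplit.coeff_zero_eq_prod_roots_of_monic hmonc
  have hdegc : Pc.natDegree = 2 * D := by rw [hPc, hmon.natDegree_map, hdeg]
  have hcard : Multiset.card Pc.roots = 2 * D := by
    rw [Polynomial.splits_iff_card_roots.1 hsplit, hdegc]
  have hroots : ∀ z ∈ Pc.roots, ‖z‖ = Real.sqrt (c : ℝ) := by
    intro z hz
    have hz0 : Polynomial.eval z Pc = 0 := (Polynomial.mem_roots'.1 hz).2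
    rw [hPc, hPw, Polynomial.map_prod, Polynomial.eval_prod, Finset.prod_eq_zero_iff] at hz0
    obtain ⟨i, _, hi⟩ := hz0
    apply hweil i z
    rw [Polynomial.mem_aroots]
    refine ⟨minpoly.ne_zero (hint i), ?_⟩
    rw [Polynomial.aeval_def, ← Polynomial.eval_map]
    exact hi
  have hnorm : ‖Pc.roots.prod‖ = Real.sqrt (c : ℝ) ^ (2 * D) := by
    have := map_multiset_prod (normHom : ℂ →*₀ ℝ) Pc.roots
    rw [show (normHom : ℂ →*₀ ℝ) Pc.roots.prod = ‖Pc.roots.prod‖ from rfl] at this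
    have hrep : Pc.roots.map (normHom : ℂ →*₀ ℝ) =
        Multiset.replicate (Multiset.card (Pc.roots.map (normHom : ℂ →*₀ ℝ)))
          (Real.sqrt (c : ℝ)) := by
      rw [Multiset.eq_replicate_card]
      intro x hx
      obtain ⟨z, hz, rfl⟩ := Multiset.mem_map.1 hx
      exact hroots z hz
    rw [this, hrep, Multiset.prod_replicate, Multiset.card_map, hcard]
  have h1 : ‖Pc.coeff 0‖ = (c : ℝ) ^ D := by
    rw [h0, norm_mul, norm_pow, norm_neg, norm_one, one_pow, one_mul, hnorm, pow_mul,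
      Real.sq_sqrt (Nat.cast_nonneg c)]
  rw [hPc, Polynomial.coeff_map, eq_intCast, Complex.norm_intCast] at h1
  have h2 : ((Pw.coeff 0).natAbs : ℝ) = ((c ^ D : ℕ) : ℝ) := by
    rw [Nat.cast_pow, ← h1, Nat.cast_natAbs, Int.cast_abs]
  exact_mod_cast h2

end Family

/-- S17984: the kernel of `ℤ[F,V] → ∏ K_i` is `(FV - q, h)`, a regular sequence. -/
theorem weil_kernel (p e : ℕ) [Fact p.Prime] (he : 0 < e)
    (ι : Type) [Fintype ι] (K : ι → Type u) [∀ i, Field (K i)] [∀ i, CharZero (K i)] (π : ∀ i, K i)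
    (hint : ∀ i, IsIntegral ℤ (π i))
    (hweil : ∀ i, ∀ z ∈ (minpoly ℤ (π i)).aroots ℂ, ‖z‖ = Real.sqrt ((p : ℝ) ^ e))
    (hinj : ∀ i j, minpoly ℤ (π i) = minpoly ℤ (π j) → i = j)
    (D : ℕ) (hD : ∑ i, (minpoly ℤ (π i)).natDegree = 2 * D)
    (h : MvPolynomial (Fin 2) ℤ)
    (hh : X 0 ^ D * h - Polynomial.aeval (X 0 : MvPolynomial (Fin 2) ℤ) (∏ i, minpoly ℤ (π i)) ∈
      Ideal.span ({X 0 * X 1 - C ((p : ℤ) ^ e)} : Set (MvPolynomial (Fin 2) ℤ))) :
    RingHom.ker (MvPolynomial.aeval ![fun i => π i, fun i => ((p : K i) ^ e) / π i] :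
        MvPolynomial (Fin 2) ℤ →ₐ[ℤ] ((i : ι) → K i)) =
        Ideal.span {X 0 * X 1 - C ((p : ℤ) ^ e), h} ∧
      RingTheory.Sequence.IsWeaklyRegular (MvPolynomial (Fin 2) ℤ) [X 0 * X 1 - C ((p : ℤ) ^ e), h] := by
  have hp : p.Prime := Fact.out
  obtain ⟨Q, hQdef⟩ : ∃ Q : ℕ, Q = p ^ e := ⟨_, rfl⟩
  have hQ2 : 2 ≤ Q := by
    rw [hQdef]
    calc 2 ≤ p := hp.two_le
      _ = p ^ 1 := (pow_one p).symm
      _ ≤ p ^ e := Nat.pow_le_pow_right hp.pos he
  have hQz : ((Q : ℕ) : ℤ) = (p : ℤ) ^ e := by rw [hQdef, Nat.cast_pow]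
  have hQr : ((Q : ℕ) : ℝ) = (p : ℝ) ^ e := by rw [hQdef, Nat.cast_pow]
  have hQK : ∀ i, ((Q : ℕ) : K i) = (p : K i) ^ e := fun i => by rw [hQdef, Nat.cast_pow]
  have hqne : ((Q : ℕ) : ℤ) ≠ 0 := by positivity
  rw [← hQr] at hweil
  have hfun : (fun i => ((p : K i) ^ e) / π i) = (fun i => ((Q : ℕ) : K i) / π i) := by
    funext i; rw [hQK]
  rw [hfun, ← hQz]
  rw [← hQz] at hh
  have hg0 : X 0 * X 1 - C ((Q : ℕ) : ℤ) = g0 ((Q : ℕ) : ℤ) := rfl
  rw [hg0] at hh ⊢
  have hhG : X 0 ^ D * h - Polynomial.aeval (X 0 : WP) (∏ i, minpoly ℤ (π i)) ∈ G ((Q : ℕ) : ℤ) := hh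
  have hπ : ∀ i, π i ≠ 0 := weil_ne_zero Q (by omega) hweil
  have hnat := coeff_zero_natAbs Q hint hweil D hD
  obtain ⟨u, hu, hc0⟩ : ∃ u : ℤ, IsUnit u ∧
      (∏ i, minpoly ℤ (π i)).coeff 0 = u * ((Q : ℕ) : ℤ) ^ D := by
    rcases Int.natAbs_eq ((∏ i, minpoly ℤ (π i)).coeff 0) with h1 | h1
    · exact ⟨1, isUnit_one, by rw [h1, hnat, Nat.cast_pow, one_mul]⟩
    · exact ⟨-1, isUnit_one.neg, by rw [h1, hnat, Nat.cast_pow]; ring⟩
  have hreg := chi_h_regular Q hQ2 D _ u hu hc0 h hhG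
  -- the product annihilates each `π i`
  have hPw0 : ∀ i, Polynomial.aeval (π i) (∏ j, minpoly ℤ (π j)) = 0 := by
    intro i
    rw [map_prod]
    exact Finset.prod_eq_zero (Finset.mem_univ i) (minpoly.aeval ℤ (π i))
  have hpsih : ∀ i, psi1 (π i) ((Q : ℕ) : ℤ) h = 0 := by
    intro i
    have := psi1_mem_G (π i) ((Q : ℕ) : ℤ) (hπ i) hhG
    rw [map_sub, map_mul, map_pow, psi1_X0, psi1_aeval, hPw0, sub_zero] at this
    exact (mul_eq_zero.1 this).resolve_left (pow_ne_zero _ (hπ i))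
  refine ⟨?_, ?_⟩
  · apply le_antisymm
    · intro g hg
      rw [RingHom.mem_ker] at hg
      have hgi : ∀ i, psi1 (π i) ((Q : ℕ) : ℤ) g = 0 := by
        intro i
        rw [← psi_apply K π Q g i]
        exact congrFun hg i
      obtain ⟨N, Gp, hN⟩ := clearV ((Q : ℕ) : ℤ) g
      have hGp : ∀ i, Polynomial.aeval (π i) Gp = 0 := by
        intro i
        have := psi1_mem_G (π i) ((Q : ℕ) : ℤ) (hπ i) hN
        rw [map_sub, map_mul, hgi, mul_zero, zero_sub, neg_eq_zero, psi1_aeval] at this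
        exact this
      obtain ⟨S, hS⟩ := prod_minpoly_dvd hint hinj Gp hGp
      have hGJ : G ((Q : ℕ) : ℤ) ≤ Ideal.span {g0 ((Q : ℕ) : ℤ), h} := by
        rw [G]; apply Ideal.span_mono; intro x hx
        rw [Set.mem_singleton_iff] at hx; rw [hx]; simp
      have hmem : X 0 ^ N * g ∈ Ideal.span {g0 ((Q : ℕ) : ℤ), h} := by
        have e : X 0 ^ N * g = (X 0 ^ N * g - Polynomial.aeval (X 0 : WP) Gp) +
            (X 0 ^ D * Polynomial.aeval (X 0 : WP) S) * h -
            Polynomial.aeval (X 0 : WP) S *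
              (X 0 ^ D * h - Polynomial.aeval (X 0 : WP) (∏ i, minpoly ℤ (π i))) := by
          rw [hS, map_mul]; ring
        rw [e]
        exact Ideal.sub_mem _ (Ideal.add_mem _ (hGJ hN)
          (Ideal.mul_mem_left _ _ (Ideal.subset_span (by simp))))
          (Ideal.mul_mem_left _ _ (hGJ hhG))
      exact X0_pow_reg_J Q hqne hreg N hmem
    · rw [Ideal.span_le]
      intro g hg
      rw [Set.mem_insert_iff, Set.mem_singleton_iff] at hg
      rw [SetLike.mem_coe, RingHom.mem_ker]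
      funext i
      rw [psi_apply K π Q g i, Pi.zero_apply]
      rcases hg with rfl | rfl
      · exact psi1_g0 _ _ (hπ i)
      · exact hpsih i
  · rw [RingTheory.Sequence.isWeaklyRegular_cons_iff, RingTheory.Sequence.isWeaklyRegular_singleton_iff]
    have hg0ne : g0 ((Q : ℕ) : ℤ) ≠ 0 := by
      intro h0
      have := phi_X0 ((Q : ℕ) : ℤ)
      have h1 : eps (g0 ((Q : ℕ) : ℤ)) = 0 := by rw [h0, map_zero]
      rw [g0, map_sub, map_mul, eps_X0, zero_mul, zero_sub, eps_C, neg_eq_zero,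
        Polynomial.C_eq_zero] at h1
      exact hqne h1
    refine ⟨?_, ?_⟩
    · rw [isSMulRegular_iff_right_eq_zero_of_smul]
      intro x hx
      rw [smul_eq_mul, mul_eq_zero] at hx
      exact hx.resolve_left hg0ne
    · rw [isSMulRegular_iff_right_eq_zero_of_smul]
      intro x hx
      obtain ⟨x0, rfl⟩ := Submodule.Quotient.mk_surjective _ x
      rw [← Submodule.Quotient.mk_smul, Submodule.Quotient.mk_eq_zero,
        Submodule.mem_smul_pointwise_iff_exists] at hx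
      obtain ⟨b, _, hb⟩ := hx
      rw [Submodule.Quotient.mk_eq_zero, Submodule.mem_smul_pointwise_iff_exists]
      have hphih : phi ((Q : ℕ) : ℤ) h ≠ 0 := by
        intro h0
        have := phi_mem_G _ hhG
        rw [map_sub, map_mul, h0, mul_zero, zero_sub, neg_eq_zero, phi_aeval,
          IsFractionRing.to_map_eq_zero_iff] at this
        have hmon : (∏ i, minpoly ℤ (π i)).Monic :=
          Polynomial.monic_prod_of_monic _ _ fun i _ => minpoly.monic (hint i)
        exact hmon.ne_zero this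
      have hmem : h * x0 ∈ G ((Q : ℕ) : ℤ) :=
        (mem_G_iff _).2 ⟨b, by rw [mul_comm, ← smul_eq_mul, hb, smul_eq_mul]⟩
      obtain ⟨z, hz⟩ := (mem_G_iff _).1 (reg_G_of_phi_ne_zero hqne hphih hmem)
      exact ⟨z, trivial, by rw [smul_eq_mul, mul_comm, hz]⟩

end

end Groth.Agent.Lib.Helper55.Weil
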