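import Groth.Agent.Lib.Helper55.FunFld.PicSurj4
import Groth.Agent.Lib.Helper55.FunFld.Weil3

set_option autoImplicit false
universe u v w

namespace Groth.Agent.Lib.Helper55.PicSurj

open Polynomial IntermediateField

/-- For a Weil `q`-number `π`, `q/π` is again a root of the minimal polynomial of `π`. -/
theorem aeval_div_minpoly {K : Type u} [Field K] [CharZero K] (π : K) (hint : IsIntegral ℤ π)
    (q : ℕ)
    (hweil : ∀ z ∈ (minpoly ℤ π).aroots ℂ, ‖z‖ = Real.sqrt (q : ℝ)) (hπ : π ≠ 0) :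
    Polynomial.aeval ((q : K) / π) (minpoly ℤ π) = 0 := by
  classical
  have hintQ : IsIntegral ℚ π := hint.tower_top
  have halg : Algebra.IsAlgebraic ℚ ℚ⟮π⟯ := isAlgebraic_adjoin_simple hintQ
  let φ : ℚ⟮π⟯ →ₐ[ℚ] ℂ := IsAlgClosed.lift
  let φz : ℚ⟮π⟯ →ₐ[ℤ] ℂ := φ.toRingHom.toIntAlgHom
  let ι : ℚ⟮π⟯ →ₐ[ℤ] K := (algebraMap ℚ⟮π⟯ K).toIntAlgHom
  have hι : Function.Injective ι := (algebraMap ℚ⟮π⟯ K).injective
  have hφ : Function.Injective φz := φ.toRingHom.injective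
  let g : ℚ⟮π⟯ := AdjoinSimple.gen ℚ π
  have hg : ι g = π := AdjoinSimple.algebraMap_gen ℚ π
  have hgne : g ≠ 0 := by
    intro h0; apply hπ; rw [← hg, h0, map_zero]
  have hPg : Polynomial.aeval g (minpoly ℤ π) = 0 := by
    apply hι
    rw [← Polynomial.aeval_algHom_apply, hg, minpoly.aeval, map_zero]
  have hz : Polynomial.aeval (φz g) (minpoly ℤ π) = 0 := by
    rw [Polynomial.aeval_algHom_apply, hPg, map_zero]
  have hzroot : φz g ∈ (minpoly ℤ π).aroots ℂ :=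
    (Polynomial.mem_aroots).2 ⟨minpoly.ne_zero hint, hz⟩
  have hnorm := hweil _ hzroot
  have hzz : φz g * (starRingEnd ℂ) (φz g) = (q : ℂ) := by
    rw [Complex.mul_conj, Complex.normSq_eq_norm_sq, hnorm, Real.sq_sqrt (Nat.cast_nonneg q)]
    push_cast; rfl
  have hzne : φz g ≠ 0 := fun h0 => hgne (hφ (by rw [h0, map_zero]))
  have hconj : Polynomial.aeval ((starRingEnd ℂ) (φz g)) (minpoly ℤ π) = 0 := by
    have := Polynomial.aeval_algHom_apply ((starRingEnd ℂ).toIntAlgHom) (φz g) (minpoly ℤ π)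
    rw [hz, map_zero] at this
    exact this
  have hdiv : φz ((q : ℚ⟮π⟯) / g) = (starRingEnd ℂ) (φz g) := by
    rw [map_div₀, map_natCast, div_eq_iff hzne, mul_comm, hzz]
  have h1 : Polynomial.aeval ((q : ℚ⟮π⟯) / g) (minpoly ℤ π) = 0 := by
    apply hφ
    rw [← Polynomial.aeval_algHom_apply, hdiv, hconj, map_zero]
  have h2 := congrArg ι h1
  rw [← Polynomial.aeval_algHom_apply, map_div₀, map_natCast, hg, map_zero] at h2
  exact h2

/-- Two distinct minimal polynomials over `ℤ` are coprime over `ℚ`. -/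
theorem isCoprime_minpoly_map {K₁ : Type u} {K₂ : Type v} [Field K₁] [Field K₂] [CharZero K₁]
    [CharZero K₂] (x : K₁) (y : K₂) (hx : IsIntegral ℤ x) (hy : IsIntegral ℤ y)
    (hne : minpoly ℤ x ≠ minpoly ℤ y) :
    IsCoprime ((minpoly ℤ x).map (algebraMap ℤ ℚ)) ((minpoly ℤ y).map (algebraMap ℤ ℚ)) := by
  have hix : Irreducible ((minpoly ℤ x).map (algebraMap ℤ ℚ)) := by
    rw [← minpoly.isIntegrallyClosed_eq_field_fractions' ℚ hx]
    exact minpoly.irreducible hx.tower_top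
  have hiy : Irreducible ((minpoly ℤ y).map (algebraMap ℤ ℚ)) := by
    rw [← minpoly.isIntegrallyClosed_eq_field_fractions' ℚ hy]
    exact minpoly.irreducible hy.tower_top
  rw [hix.coprime_iff_not_dvd]
  intro hdvd
  have hass := hix.associated_of_dvd hiy hdvd
  have := Polynomial.eq_of_monic_of_associated ((minpoly.monic hx).map _)
    ((minpoly.monic hy).map _) hass
  exact hne (Polynomial.map_injective _ (RingHom.injective_int (algebraMap ℤ ℚ)) this)

/-- Integral Bezout: coprime over `ℚ` gives an integer combination equal to a nonzero integer. -/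
theorem int_bezout (P₁ P₂ : Polynomial ℤ)
    (h : IsCoprime (P₁.map (algebraMap ℤ ℚ)) (P₂.map (algebraMap ℤ ℚ))) :
    ∃ (U V : Polynomial ℤ) (n : ℤ), n ≠ 0 ∧ U * P₁ + V * P₂ = Polynomial.C n := by
  obtain ⟨u, v, huv⟩ := h
  obtain ⟨bu, hbu⟩ := IsLocalization.integerNormalization_map_to_map (nonZeroDivisors ℤ) u
  obtain ⟨bv, hbv⟩ := IsLocalization.integerNormalization_map_to_map (nonZeroDivisors ℤ) v
  refine ⟨Polynomial.C (bv : ℤ) * IsLocalization.integerNormalization (nonZeroDivisors ℤ) u,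
    Polynomial.C (bu : ℤ) * IsLocalization.integerNormalization (nonZeroDivisors ℤ) v,
    (bu : ℤ) * (bv : ℤ), mul_ne_zero (nonZeroDivisors.ne_zero bu.2) (nonZeroDivisors.ne_zero bv.2),
    ?_⟩
  apply Polynomial.map_injective _ (RingHom.injective_int (algebraMap ℤ ℚ))
  have hbu' : Polynomial.map (algebraMap ℤ ℚ)
      (IsLocalization.integerNormalization (nonZeroDivisors ℤ) u) =
        Polynomial.C (((bu : ℤ) : ℚ)) * u := by
    rw [hbu, ← Polynomial.smul_eq_C_mul]; exact (Int.cast_smul_eq_zsmul ℚ _ _).symm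
  have hbv' : Polynomial.map (algebraMap ℤ ℚ)
      (IsLocalization.integerNormalization (nonZeroDivisors ℤ) v) =
        Polynomial.C (((bv : ℤ) : ℚ)) * v := by
    rw [hbv, ← Polynomial.smul_eq_C_mul]; exact (Int.cast_smul_eq_zsmul ℚ _ _).symm
  rw [Polynomial.map_add, Polynomial.map_mul, Polynomial.map_mul, Polynomial.map_mul,
    Polynomial.map_mul, hbu', hbv', Polynomial.map_C, Polynomial.map_C, Polynomial.map_C,
    map_mul, Polynomial.C_mul]
  simp only [algebraMap_int_eq, eq_intCast] at *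
  linear_combination (Polynomial.C ((bu : ℤ) : ℚ) * Polynomial.C ((bv : ℤ) : ℚ)) * huv

section Family

open MvPolynomial

variable {J : Type} [Fintype J] {K : J → Type u} [∀ j, Field (K j)] [∀ j, CharZero (K j)]
  (ϖ : ∀ j, K j)

lemma psi_aeval_apply (ψ : MvPolynomial (Fin 2) ℤ →ₐ[ℤ] ((j : J) → K j)) (i : Fin 2)
    (P : Polynomial ℤ) (j : J) :
    ψ (Polynomial.aeval (X i : MvPolynomial (Fin 2) ℤ) P) j = Polynomial.aeval (ψ (X i) j) P := by
  rw [← Polynomial.aeval_algHom_apply]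
  exact (Polynomial.aeval_algHom_apply (Pi.evalAlgHom ℤ K j) (ψ (X i)) P).symm

/-- A multiple of the idempotent cutting out a subfamily lies in the image. -/
theorem exists_idem {J' : Type} [Fintype J'] (emb : J' → J)
    (hint : ∀ j, IsIntegral ℤ (ϖ j))
    (hinj : ∀ i j, minpoly ℤ (ϖ i) = minpoly ℤ (ϖ j) → i = j)
    (ψ : MvPolynomial (Fin 2) ℤ →ₐ[ℤ] ((j : J) → K j)) (hψ : ψ (X 0) = ϖ) :
    ∃ (r₀ : MvPolynomial (Fin 2) ℤ) (n : ℤ), 2 ≤ n.natAbs ∧
      (∀ j', ψ r₀ (emb j') = (n : K (emb j'))) ∧ (∀ j, j ∉ Set.range emb → ψ r₀ j = 0) := by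
  classical
  obtain ⟨S, hS⟩ : ∃ S : Finset J, S = Finset.univ.filter (fun j => j ∉ Set.range emb) := ⟨_, rfl⟩
  obtain ⟨P₁, hP₁⟩ : ∃ P₁ : Polynomial ℤ, P₁ = ∏ j ∈ S, minpoly ℤ (ϖ j) := ⟨_, rfl⟩
  obtain ⟨P₂, hP₂⟩ : ∃ P₂ : Polynomial ℤ, P₂ = ∏ j' : J', minpoly ℤ (ϖ (emb j')) := ⟨_, rfl⟩
  have hcop : IsCoprime (P₁.map (algebraMap ℤ ℚ)) (P₂.map (algebraMap ℤ ℚ)) := by
    rw [hP₁, hP₂, Polynomial.map_prod, Polynomial.map_prod]
    apply IsCoprime.prod_left; intro j hj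
    apply IsCoprime.prod_right; intro j' _
    apply isCoprime_minpoly_map _ _ (hint j) (hint (emb j'))
    intro heq
    have := hinj _ _ heq
    rw [hS] at hj
    exact (Finset.mem_filter.1 hj).2 ⟨j', this.symm⟩
  obtain ⟨U, V, n, hn, hUV⟩ := int_bezout P₁ P₂ hcop
  have hroot₁ : ∀ j, j ∉ Set.range emb → Polynomial.aeval (ϖ j) P₁ = 0 := by
    intro j hj
    rw [hP₁, map_prod]
    exact Finset.prod_eq_zero (by rw [hS]; exact Finset.mem_filter.2 ⟨Finset.mem_univ _, hj⟩)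
      (minpoly.aeval ℤ _)
  have hroot₂ : ∀ j', Polynomial.aeval (ϖ (emb j')) P₂ = 0 := by
    intro j'
    rw [hP₂, map_prod]
    exact Finset.prod_eq_zero (Finset.mem_univ j') (minpoly.aeval ℤ _)
  refine ⟨Polynomial.aeval (X 0 : MvPolynomial (Fin 2) ℤ) (Polynomial.C 2 * U * P₁), 2 * n, ?_,
    ?_, ?_⟩
  · rw [Int.natAbs_mul]
    have : 1 ≤ n.natAbs := Int.natAbs_pos.2 hn
    have h2 : (2 : ℤ).natAbs = 2 := rfl
    rw [h2]
    omega
  · intro j'
    rw [psi_aeval_apply, hψ]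
    have h1 : Polynomial.aeval (ϖ (emb j')) (U * P₁ + V * P₂) = (n : K (emb j')) := by
      rw [hUV]; simp
    rw [map_add, map_mul _ V, hroot₂, mul_zero, add_zero] at h1
    rw [mul_assoc, map_mul, h1, Polynomial.aeval_C]
    simp
  · intro j hj
    rw [psi_aeval_apply, hψ, map_mul, hroot₁ j hj, mul_zero]

/-- The minimal central order is a finite `ℤ`-module. -/
theorem finite_quot (q : ℕ) (hint : ∀ j, IsIntegral ℤ (ϖ j))
    (hweil : ∀ j, ∀ z ∈ (minpoly ℤ (ϖ j)).aroots ℂ, ‖z‖ = Real.sqrt (q : ℝ))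
    (hπ : ∀ j, ϖ j ≠ 0)
    (ψ : MvPolynomial (Fin 2) ℤ →ₐ[ℤ] ((j : J) → K j)) (hψ0 : ψ (X 0) = ϖ)
    (hψ1 : ψ (X 1) = fun j => (q : K j) / ϖ j) :
    Module.Finite ℤ (MvPolynomial (Fin 2) ℤ ⧸ RingHom.ker ψ) := by
  classical
  have hX : ∀ i : Fin 2, IsIntegral ℤ (Ideal.Quotient.mk (RingHom.ker ψ) (X i)) := by
    intro i
    refine ⟨∏ j, minpoly ℤ (ϖ j),
      Polynomial.monic_prod_of_monic _ _ (fun j _ => minpoly.monic (hint j)), ?_⟩
    rw [← Polynomial.aeval_def]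
    have h1 : Polynomial.aeval (Ideal.Quotient.mk (RingHom.ker ψ) (X i)) (∏ j, minpoly ℤ (ϖ j)) =
        Ideal.Quotient.mk (RingHom.ker ψ) (Polynomial.aeval (X i) (∏ j, minpoly ℤ (ϖ j))) :=
      Polynomial.aeval_algHom_apply (Ideal.Quotient.mkₐ ℤ (RingHom.ker ψ)) (X i) _
    rw [h1, Ideal.Quotient.eq_zero_iff_mem, RingHom.mem_ker]
    funext j
    rw [Pi.zero_apply, psi_aeval_apply, map_prod]
    apply Finset.prod_eq_zero (Finset.mem_univ j)
    fin_cases i
    · show Polynomial.aeval (ψ (X 0) j) (minpoly ℤ (ϖ j)) = 0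
      rw [hψ0]; exact minpoly.aeval ℤ _
    · show Polynomial.aeval (ψ (X 1) j) (minpoly ℤ (ϖ j)) = 0
      rw [hψ1]; exact aeval_div_minpoly (ϖ j) (hint j) q (hweil j) (hπ j)
  have hintB : Algebra.IsIntegral ℤ (MvPolynomial (Fin 2) ℤ ⧸ RingHom.ker ψ) := by
    constructor
    intro x
    obtain ⟨r, rfl⟩ := Ideal.Quotient.mk_surjective x
    induction r using MvPolynomial.induction_on with
    | C a => exact isIntegral_algebraMap (x := a)
    | add f g hf hg => rw [map_add]; exact hf.add hg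
    | mul_X f i hf => rw [map_mul]; exact hf.mul (hX i)
  exact Algebra.IsIntegral.finite

end Family

end Groth.Agent.Lib.Helper55.PicSurj
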