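import Groth.Agent.Lib.Helper55.FunFld.PicSurj5
import Groth.Agent.Lib.Helper55.FunFld.PicSurj2

set_option autoImplicit false
universe u v w

namespace Groth.Agent.Lib.Helper55.PicSurj

open MvPolynomial CommRing

theorem pi_hU {J' : Type} [Fintype J'] [DecidableEq J'] (L : J' → Type u) [∀ j, Field (L j)]
    (x : (j : J') → L j) (hx : ¬ IsUnit x) : ∃ e : (j : J') → L j, e ≠ 0 ∧ e * x = 0 := by
  rw [Pi.isUnit_iff] at hx
  push Not at hx
  obtain ⟨j, hj⟩ := hx
  rw [isUnit_iff_ne_zero, not_not] at hj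
  refine ⟨Pi.single j 1, ?_, ?_⟩
  · intro h0
    have := congrFun h0 j
    rw [Pi.single_eq_same, Pi.zero_apply] at this
    exact one_ne_zero this
  · funext i
    rw [Pi.mul_apply, Pi.zero_apply]
    by_cases h : i = j
    · subst h; rw [hj, mul_zero]
    · rw [Pi.single_eq_of_ne h, zero_mul]

theorem pi_hT {J' : Type} (L : J' → Type u) [∀ j, Field (L j)] [∀ j, CharZero (L j)]
    (r : ℤ) (e : (j : J') → L j) (hr : r ≠ 0) (h : r • e = 0) : e = 0 := by
  funext j
  have := congrFun h j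
  rw [Pi.smul_apply, zsmul_eq_mul, Pi.zero_apply] at this
  rcases mul_eq_zero.1 this with h | h
  · exact absurd (Int.cast_eq_zero.1 h) hr
  · exact h

theorem main (q : ℕ) (hq : 0 < q) (J J' : Type) [Fintype J] [Fintype J'] (emb : J' → J)
    (hemb : Function.Injective emb)
    (K : J → Type u) [∀ j, Field (K j)] [∀ j, CharZero (K j)] (ϖ : ∀ j, K j)
    (hint : ∀ j, IsIntegral ℤ (ϖ j))
    (hweil : ∀ j, ∀ z ∈ (minpoly ℤ (ϖ j)).aroots ℂ, ‖z‖ = Real.sqrt (q : ℝ))
    (hinj : ∀ i j, minpoly ℤ (ϖ i) = minpoly ℤ (ϖ j) → i = j)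
    (ψw : MvPolynomial (Fin 2) ℤ →ₐ[ℤ] ((j : J) → K j))
    (ψv : MvPolynomial (Fin 2) ℤ →ₐ[ℤ] ((j' : J') → K (emb j')))
    (hw0 : ψw (X 0) = ϖ) (hv0 : ψv (X 0) = fun j' => ϖ (emb j'))
    (hv1 : ψv (X 1) = fun j' => (q : K (emb j')) / ϖ (emb j'))
    (hcomp : ∀ r j', ψw r (emb j') = ψv r j')
    (hle : RingHom.ker ψw ≤ RingHom.ker ψv) :
    Function.Surjective (CommRing.Pic.mapRingHom (Ideal.Quotient.factor hle)) := by
  classical
  have hπ : ∀ j, ϖ j ≠ 0 := Weil.weil_ne_zero q hq hweil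
  have hfinB : Module.Finite ℤ (MvPolynomial (Fin 2) ℤ ⧸ RingHom.ker ψv) :=
    finite_quot (fun j' => ϖ (emb j')) q (fun j' => hint (emb j')) (fun j' => hweil (emb j'))
      (fun j' => hπ (emb j')) ψv hv0 hv1
  obtain ⟨r₀, n, hn2, hr₀1, hr₀2⟩ := exists_idem ϖ emb hint hinj ψw hw0
  let algAB : Algebra (MvPolynomial (Fin 2) ℤ ⧸ RingHom.ker ψw)
      (MvPolynomial (Fin 2) ℤ ⧸ RingHom.ker ψv) := (Ideal.Quotient.factor hle).toAlgebra
  let algAQ : Algebra (MvPolynomial (Fin 2) ℤ ⧸ RingHom.ker ψw) ((j : J) → K j) :=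
    (Ideal.kerLiftAlg ψw).toRingHom.toAlgebra
  let algBQ' : Algebra (MvPolynomial (Fin 2) ℤ ⧸ RingHom.ker ψv) ((j' : J') → K (emb j')) :=
    (Ideal.kerLiftAlg ψv).toRingHom.toAlgebra
  let algAQ' : Algebra (MvPolynomial (Fin 2) ℤ ⧸ RingHom.ker ψw) ((j' : J') → K (emb j')) :=
    ((Ideal.kerLiftAlg ψv).toRingHom.comp (Ideal.Quotient.factor hle)).toAlgebra
  have : IsScalarTower (MvPolynomial (Fin 2) ℤ ⧸ RingHom.ker ψw)
      (MvPolynomial (Fin 2) ℤ ⧸ RingHom.ker ψv) ((j' : J') → K (emb j')) :=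
    IsScalarTower.of_algebraMap_eq (fun x => rfl)
  have : FaithfulSMul (MvPolynomial (Fin 2) ℤ ⧸ RingHom.ker ψw) ((j : J) → K j) :=
    (faithfulSMul_iff_algebraMap_injective _ _).2 (Ideal.kerLiftAlg_injective ψw)
  have : FaithfulSMul (MvPolynomial (Fin 2) ℤ ⧸ RingHom.ker ψv) ((j' : J') → K (emb j')) :=
    (faithfulSMul_iff_algebraMap_injective _ _).2 (Ideal.kerLiftAlg_injective ψv)
  have : Subsingleton (Pic ((j' : J') → K (emb j'))) := inferInstance
  have hfsurj : Function.Surjective (algebraMap (MvPolynomial (Fin 2) ℤ ⧸ RingHom.ker ψw)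
      (MvPolynomial (Fin 2) ℤ ⧸ RingHom.ker ψv)) := Ideal.Quotient.factor_surjective hle
  let pr : ((j : J) → K j) →ₐ[MvPolynomial (Fin 2) ℤ ⧸ RingHom.ker ψw]
      ((j' : J') → K (emb j')) :=
    { toFun := fun z j' => z (emb j')
      map_one' := rfl
      map_mul' := fun _ _ => rfl
      map_zero' := rfl
      map_add' := fun _ _ => rfl
      commutes' := fun a => by
        obtain ⟨r, rfl⟩ := Ideal.Quotient.mk_surjective a
        funext j'
        exact hcomp r j' }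
  have hprs : Function.Surjective pr := by
    intro u
    refine ⟨fun j => if h : ∃ j', emb j' = j then cast (congrArg K h.choose_spec) (u h.choose)
      else 0, ?_⟩
    funext j'
    have key : ∀ (j'' : J') (e : emb j'' = emb j'), cast (congrArg K e) (u j'') = u j' := by
      intro j'' e
      have := hemb e
      subst this
      rfl
    show (if h : ∃ j'', emb j'' = emb j' then cast (congrArg K h.choose_spec) (u h.choose)
      else 0) = u j'
    have hex : ∃ j'', emb j'' = emb j' := ⟨j', rfl⟩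
    rw [dif_pos hex]
    exact key hex.choose hex.choose_spec
  have hmain : Function.Surjective (Pic.mapAlgebra (MvPolynomial (Fin 2) ℤ ⧸ RingHom.ker ψw)
      (MvPolynomial (Fin 2) ℤ ⧸ RingHom.ker ψv)) := by
    apply pic_surjective (Q := (j : J) → K j) (Q' := (j' : J') → K (emb j')) hfsurj pr hprs
    intro I'
    obtain ⟨x, hx1, y, hy, b, hyb⟩ := moving (MvPolynomial (Fin 2) ℤ ⧸ RingHom.ker ψv)
      ((j' : J') → K (emb j')) n hn2 (pi_hU _) (pi_hT _) I'
    obtain ⟨a, rfl⟩ := hfsurj b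
    refine ⟨x, 1 - Ideal.Quotient.mk _ r₀ * a, Ideal.Quotient.mk _ r₀ * a, by ring, ?_, hx1, ?_⟩
    · intro z hz
      funext j
      rw [map_mul, Pi.mul_apply, Pi.mul_apply, Pi.zero_apply]
      by_cases hj : j ∈ Set.range emb
      · obtain ⟨j', rfl⟩ := hj
        have : z (emb j') = 0 := congrFun hz j'
        rw [this, mul_zero]
      · have : algebraMap (MvPolynomial (Fin 2) ℤ ⧸ RingHom.ker ψw) ((j : J) → K j)
            (Ideal.Quotient.mk _ r₀) j = 0 := hr₀2 j hj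
        rw [this, zero_mul, zero_mul]
    · have h1 : algebraMap (MvPolynomial (Fin 2) ℤ ⧸ RingHom.ker ψw) ((j' : J') → K (emb j'))
          (Ideal.Quotient.mk _ r₀) = ((n : ℤ) : (j' : J') → K (emb j')) := by
        funext j'
        rw [Pi.intCast_apply, ← hr₀1 j', hcomp]
        rfl
      have h2 : algebraMap (MvPolynomial (Fin 2) ℤ ⧸ RingHom.ker ψw) ((j' : J') → K (emb j'))
          (1 - Ideal.Quotient.mk _ r₀ * a) = y := by
        rw [map_sub, map_one, map_mul, h1, sub_eq_iff_eq_add, ← hyb, map_mul, map_intCast]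
        rw [IsScalarTower.algebraMap_apply (MvPolynomial (Fin 2) ℤ ⧸ RingHom.ker ψw)
          (MvPolynomial (Fin 2) ℤ ⧸ RingHom.ker ψv) ((j' : J') → K (emb j')) a]
      rw [h2]
      exact hy
  exact hmain

end Groth.Agent.Lib.Helper55.PicSurj
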