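import Groth.Agent.Lib.Helper55.FunFld.Discrete

/-!
# Existence of places, `ord` calculus (helper55 library)
-/

set_option autoImplicit false

namespace Groth.Agent.Lib.Helper55

open FunFld Polynomial

variable {k K : Type*} [Field k] [Field K] [Algebra k K]

theorem ff_val_ne_zero (P : Place k K) {x : K} (hx : x ≠ 0) : P.1 x ≠ 0 :=
  (Valuation.ne_zero_iff _).mpr hx

theorem ff_val_eq_exp_neg_ord (P : Place k K) {x : K} (hx : x ≠ 0) :
    P.1 x = WithZero.exp (-P.ord x) := by
  rw [Place.ord, neg_neg, WithZero.exp_log (ff_val_ne_zero P hx)]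

theorem ff_ord_pos_iff (P : Place k K) {x : K} (hx : x ≠ 0) : 0 < P.ord x ↔ P.1 x < 1 := by
  rw [ff_val_eq_exp_neg_ord P hx, ← WithZero.exp_zero, WithZero.exp_lt_exp]
  omega

theorem ff_ord_neg_iff (P : Place k K) {x : K} (hx : x ≠ 0) : P.ord x < 0 ↔ 1 < P.1 x := by
  rw [ff_val_eq_exp_neg_ord P hx, ← WithZero.exp_zero, WithZero.exp_lt_exp]
  omega

theorem ff_ord_nonneg_iff (P : Place k K) {x : K} (hx : x ≠ 0) : 0 ≤ P.ord x ↔ P.1 x ≤ 1 := by
  rw [ff_val_eq_exp_neg_ord P hx, ← WithZero.exp_zero, WithZero.exp_le_exp]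
  omega

theorem ff_ord_mul (P : Place k K) {x y : K} (hx : x ≠ 0) (hy : y ≠ 0) :
    P.ord (x * y) = P.ord x + P.ord y := by
  simp only [Place.ord, map_mul]
  rw [WithZero.log_mul (ff_val_ne_zero P hx) (ff_val_ne_zero P hy)]
  ring

theorem ff_ord_inv (P : Place k K) (x : K) : P.ord x⁻¹ = -P.ord x := by
  simp only [Place.ord, map_inv₀, WithZero.log_inv]

theorem ff_ord_zero (P : Place k K) : P.ord (0 : K) = 0 := by
  simp [Place.ord]

theorem ff_ord_const (P : Place k K) (c : k) : P.ord (algebraMap k K c) = 0 := by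
  by_cases hc : c = 0
  · rw [hc, map_zero, ff_ord_zero]
  · simp [Place.ord, ff_val_const P hc]

/-- Comparison of a place with the valuation of its valuation ring. -/
theorem ff_val_lt_one_iff_of_O_eq (P : Place k K) {O : ValuationSubring K} (hPO : P.O = O)
    (x : K) : P.1 x < 1 ↔ O.valuation x < 1 := by
  subst hPO
  exact (Valuation.isEquiv_valuation_valuationSubring P.1).lt_one_iff_lt_one

/-- A transcendental element has a zero. -/
theorem ff_exists_zero (hK : IsFunctionField k K) {x : K} (hx : Transcendental k x) :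
    ∃ P : Place k K, P.1 x < 1 := by
  have hx0 : x ≠ 0 := fun h => hx (h ▸ isAlgebraic_zero)
  let A : Subring K := (Algebra.adjoin k ({x} : Set K)).toSubring
  have hxA : x ∈ A := Algebra.self_mem_adjoin_singleton k x
  let I : Ideal A := Ideal.span {(⟨x, hxA⟩ : A)}
  have hI : I ≠ ⊤ := by
    intro htop
    rw [Ideal.eq_top_iff_one, Ideal.mem_span_singleton'] at htop
    obtain ⟨a, ha⟩ := htop
    have haA : (a : K) ∈ Algebra.adjoin k ({x} : Set K) := a.2
    rw [Algebra.adjoin_singleton_eq_range_aeval] at haA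
    obtain ⟨p, hp⟩ := haA
    have h1 : aeval x (p * X - 1) = 0 := by
      have := congrArg Subtype.val ha
      simp only [map_sub, map_mul, aeval_X, map_one]
      rw [sub_eq_zero]
      rw [show (aeval x) p = (a : K) from hp]
      exact this
    have h2 : p * X - 1 = 0 := by
      by_contra hne
      exact hx ⟨_, hne, h1⟩
    have h3 := congrArg (fun q : k[X] => q.coeff 0) h2
    simp at h3
  obtain ⟨B, hAB, hIB⟩ := Ideal.image_subset_nonunits_valuationSubring I hI
  have hxB : x ∈ B.nonunits := hIB ⟨⟨x, hxA⟩, Ideal.mem_span_singleton_self _, rfl⟩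
  have hkB : ∀ c : k, algebraMap k K c ∈ B := fun c =>
    hAB (Subalgebra.algebraMap_mem (Algebra.adjoin k ({x} : Set K)) c)
  have hBtop : B ≠ ⊤ := by
    intro htop
    rw [ValuationSubring.mem_nonunits_iff, htop] at hxB
    have : x⁻¹ ∈ (⊤ : ValuationSubring K) := ValuationSubring.mem_top _
    have h1 := ((⊤ : ValuationSubring K).valuation_le_one_iff x⁻¹).mpr this
    rw [map_inv₀] at h1
    have h2 : ((⊤ : ValuationSubring K).valuation x) ≠ 0 := (Valuation.ne_zero_iff _).mpr hx0
    have h3 : 1 < ((⊤ : ValuationSubring K).valuation x)⁻¹ :=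
      (one_lt_inv₀ (zero_lt_iff.mpr h2)).mpr hxB
    exact absurd h1 (not_le.mpr h3)
  obtain ⟨P, hPO⟩ := ff_exists_place_of_valuationSubring hK B hkB hBtop
  refine ⟨P, ?_⟩
  rw [ff_val_lt_one_iff_of_O_eq P hPO]
  exact (ValuationSubring.mem_nonunits_iff B).mp hxB

theorem ff_transcendental_of_not_mem_range (hK : IsFunctionField k K) {x : K}
    (hx : x ∉ Set.range (algebraMap k K)) : Transcendental k x :=
  fun halg => hx (hK.2 x halg)

/-- A nonconstant element has a zero and a pole. -/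
theorem ff_exists_zero_and_pole (hK : IsFunctionField k K) {x : K}
    (hx : x ∉ Set.range (algebraMap k K)) :
    (∃ P : Place k K, 0 < P.ord x) ∧ ∃ Q : Place k K, Q.ord x < 0 := by
  have hx0 : x ≠ 0 := fun h => hx ⟨0, by rw [h, map_zero]⟩
  have hxinv : x⁻¹ ∉ Set.range (algebraMap k K) := by
    rintro ⟨c, hc⟩
    apply hx
    refine ⟨c⁻¹, ?_⟩
    rw [map_inv₀, hc, inv_inv]
  constructor
  · obtain ⟨P, hP⟩ := ff_exists_zero hK (ff_transcendental_of_not_mem_range hK hx)
    exact ⟨P, (ff_ord_pos_iff P hx0).mpr hP⟩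
  · obtain ⟨Q, hQ⟩ := ff_exists_zero hK (ff_transcendental_of_not_mem_range hK hxinv)
    refine ⟨Q, ?_⟩
    have := (ff_ord_pos_iff Q (inv_ne_zero hx0)).mpr hQ
    rw [ff_ord_inv] at this
    omega

end Groth.Agent.Lib.Helper55
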