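import Groth.Agent.Lib.Helper55.FunFld.ProjLocal
import Groth.Agent.Lib.Helper55.FunFld.LocConductor
import Mathlib.RingTheory.Polynomial.GaussLemma
import Mathlib.FieldTheory.RatFunc.AsPolynomial

/-! The Jacobian criterion for plane curves (S11072). -/

set_option autoImplicit false
set_option linter.unusedSectionVars false

open FunFld Module

namespace Groth.Agent.Lib.Helper55

variable {k K : Type*} [Field k] [Field K] [Algebra k K]

/-- Taylor expansion at `b` with exact remainder. -/
theorem ff_taylor_exact {ι : Type*} [Fintype ι] (b : ι → k) (G : MvPolynomial ι k) :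
    ∃ h : ι → MvPolynomial ι k,
      G = MvPolynomial.C (MvPolynomial.eval b G) +
        ∑ i, (MvPolynomial.X i - MvPolynomial.C (b i)) * h i ∧
      ∀ i, MvPolynomial.eval b (h i) = MvPolynomial.eval b (MvPolynomial.pderiv i G) := by
  classical
  induction G using MvPolynomial.induction_on with
  | C c =>
    refine ⟨fun _ => 0, ?_, fun i => ?_⟩
    · simp
    · simp
  | add p q hp hq =>
    obtain ⟨hp', hp1, hp2⟩ := hp
    obtain ⟨hq', hq1, hq2⟩ := hq
    refine ⟨fun i => hp' i + hq' i, ?_, fun i => ?_⟩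
    · conv_lhs => rw [hp1, hq1]
      simp only [map_add, mul_add, Finset.sum_add_distrib]
      ring
    · simp only [map_add, hp2, hq2]
  | mul_X p j hp =>
    obtain ⟨hp', hp1, hp2⟩ := hp
    refine ⟨fun i => MvPolynomial.C (b j) * hp' i + if i = j then p else 0, ?_, fun i => ?_⟩
    · have h1 : ∑ i, (MvPolynomial.X i - MvPolynomial.C (b i)) *
          (MvPolynomial.C (b j) * hp' i + if i = j then p else 0) =
          MvPolynomial.C (b j) * ∑ i, (MvPolynomial.X i - MvPolynomial.C (b i)) * hp' i +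
            (MvPolynomial.X j - MvPolynomial.C (b j)) * p := by
        simp only [mul_add, Finset.sum_add_distrib, mul_ite, mul_zero, Finset.sum_ite_eq',
          Finset.mem_univ, if_true, Finset.mul_sum]
        congr 1
        refine Finset.sum_congr rfl fun i _ => ?_
        ring
      rw [h1]
      have h2 : ∑ i, (MvPolynomial.X i - MvPolynomial.C (b i)) * hp' i =
          p - MvPolynomial.C (MvPolynomial.eval b p) :=
        eq_sub_of_add_eq' hp1.symm
      rw [h2, map_mul, MvPolynomial.eval_X, map_mul]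
      ring
    · rw [map_add, map_mul, MvPolynomial.eval_C, hp2, MvPolynomial.pderiv_mul,
        MvPolynomial.pderiv_X, map_add, map_mul, map_mul, MvPolynomial.eval_X, Pi.single_apply]
      by_cases h : i = j
      · rw [if_pos h, if_pos h.symm, map_one]; ring
      · rw [if_neg h, if_neg (fun h' => h h'.symm), map_zero]; ring

theorem ff_val_aeval_le_one {ι : Type*} (P : Place k K) (x : ι → K) (hx : ∀ i, P.1 (x i) ≤ 1)
    (G : MvPolynomial ι k) : P.1 (MvPolynomial.aeval x G) ≤ 1 := by
  induction G using MvPolynomial.induction_on with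
  | C c => rw [MvPolynomial.aeval_C]; exact P.2.1 c
  | add p q hp hq => rw [map_add]; exact (P.1.map_add _ _).trans (max_le hp hq)
  | mul_X p i hp => rw [map_mul, MvPolynomial.aeval_X, map_mul]; exact mul_le_one' hp (hx i)

theorem ff_val_aeval_sub_lt_one {ι : Type*} [Fintype ι] (P : Place k K) (x : ι → K) (b : ι → k)
    (hb : ∀ i, P.1 (x i - algebraMap k K (b i)) < 1) (hx : ∀ i, P.1 (x i) ≤ 1)
    (G : MvPolynomial ι k) :
    P.1 (MvPolynomial.aeval x G - algebraMap k K (MvPolynomial.eval b G)) < 1 := by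
  obtain ⟨h, h1, -⟩ := ff_taylor_exact b G
  have h2 := congrArg (MvPolynomial.aeval x) h1
  rw [map_add, MvPolynomial.aeval_C, map_sum] at h2
  rw [h2, add_sub_cancel_left]
  refine P.1.map_sum_lt one_ne_zero fun i _ => ?_
  rw [map_mul, map_sub, MvPolynomial.aeval_X, MvPolynomial.aeval_C, map_mul]
  calc P.1 (x i - algebraMap k K (b i)) * P.1 (MvPolynomial.aeval x (h i))
      ≤ P.1 (x i - algebraMap k K (b i)) * 1 :=
        mul_le_mul' le_rfl (ff_val_aeval_le_one P x hx _)
    _ = P.1 (x i - algebraMap k K (b i)) := mul_one _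
    _ < 1 := hb i

/-- If two coordinates carry the maximal ideal and a partial derivative of a relation does not
vanish, every nonzero polynomial expression is a power of one coordinate times a unit. -/
theorem ff_dvr_decomp {ι : Type*} [Fintype ι] (P : Place k K) (x : ι → K) (b : ι → k)
    (hb : ∀ i, P.1 (x i - algebraMap k K (b i)) < 1) (hx : ∀ i, P.1 (x i) ≤ 1)
    (f : MvPolynomial ι k) (hfx : MvPolynomial.aeval x f = 0) (hfb : MvPolynomial.eval b f = 0)
    (l m : ι) (hlm : l ≠ m) (hrest : ∀ i, i ≠ l → i ≠ m → x i = algebraMap k K (b i))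
    (hl : MvPolynomial.eval b (MvPolynomial.pderiv l f) ≠ 0) (n : ℕ) :
    ∀ G : MvPolynomial ι k, MvPolynomial.aeval x G ≠ 0 →
      WithZero.exp (-(n : ℤ)) ≤ P.1 (MvPolynomial.aeval x G) →
      ∃ (N : ℕ) (U W : MvPolynomial ι k), P.1 (MvPolynomial.aeval x U) = 1 ∧
        P.1 (MvPolynomial.aeval x W) = 1 ∧
        MvPolynomial.aeval x G * MvPolynomial.aeval x W =
          (x m - algebraMap k K (b m)) ^ N * MvPolynomial.aeval x U := by
  classical
  obtain ⟨hf, hf1, hf2⟩ := ff_taylor_exact b f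
  have hsplit : ∀ (G : MvPolynomial ι k) (h : ι → MvPolynomial ι k),
      G = MvPolynomial.C (MvPolynomial.eval b G) +
        ∑ i, (MvPolynomial.X i - MvPolynomial.C (b i)) * h i →
      MvPolynomial.aeval x G = algebraMap k K (MvPolynomial.eval b G) +
        ((x l - algebraMap k K (b l)) * MvPolynomial.aeval x (h l) +
          (x m - algebraMap k K (b m)) * MvPolynomial.aeval x (h m)) := by
    intro G h hG
    have h2 := congrArg (MvPolynomial.aeval x) hG
    rw [map_add, MvPolynomial.aeval_C, map_sum] at h2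
    rw [h2]
    congr 1
    rw [Finset.sum_eq_add l m hlm]
    · simp only [map_mul, map_sub, MvPolynomial.aeval_X, MvPolynomial.aeval_C]
    · intro i _ hi
      rw [map_mul, map_sub, MvPolynomial.aeval_X, MvPolynomial.aeval_C, hrest i hi.1 hi.2,
        sub_self, zero_mul]
    · intro h; exact absurd (Finset.mem_univ l) h
    · intro h; exact absurd (Finset.mem_univ m) h
  have hfrel := hsplit f hf hf1
  rw [hfx, hfb, map_zero, zero_add] at hfrel
  set Bl := MvPolynomial.aeval x (hf l) with hBl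
  set Bm := MvPolynomial.aeval x (hf m) with hBm
  have hBl1 : P.1 Bl = 1 := by
    have h1 := ff_val_aeval_sub_lt_one P x b hb hx (hf l)
    rw [hf2 l] at h1
    exact ff_val_eq_one_of_const_approx P h1 hl
  have hBl0 : Bl ≠ 0 := by
    intro h0; rw [h0, map_zero] at hBl1; exact zero_ne_one hBl1
  induction n with
  | zero =>
    intro G hG0 hGv
    refine ⟨0, G, 1, ?_, by rw [map_one, map_one], by rw [map_one, mul_one, pow_zero, one_mul]⟩
    rw [Nat.cast_zero, neg_zero, WithZero.exp_zero] at hGv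
    exact le_antisymm (ff_val_aeval_le_one P x hx G) hGv
  | succ n ih =>
    intro G hG0 hGv
    by_cases hG1 : P.1 (MvPolynomial.aeval x G) = 1
    · exact ⟨0, G, 1, hG1, by rw [map_one, map_one],
        by rw [map_one, mul_one, pow_zero, one_mul]⟩
    have hGlt : P.1 (MvPolynomial.aeval x G) < 1 :=
      lt_of_le_of_ne (ff_val_aeval_le_one P x hx G) hG1
    have hGb : MvPolynomial.eval b G = 0 :=
      (ff_val_lt_one_iff_const_zero P (ff_val_aeval_sub_lt_one P x b hb hx G)).mp hGlt
    obtain ⟨hG, hGe, -⟩ := ff_taylor_exact b G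
    have hGrel := hsplit G hG hGe
    rw [hGb, map_zero, zero_add] at hGrel
    set Al := MvPolynomial.aeval x (hG l) with hAl
    set Am := MvPolynomial.aeval x (hG m) with hAm
    set sm := x m - algebraMap k K (b m) with hsm
    set sl := x l - algebraMap k K (b l) with hsl
    have hkey : MvPolynomial.aeval x G * Bl = sm * (Am * Bl - Bm * Al) := by
      rw [hGrel]
      linear_combination (-Al) * hfrel
    have hsm0 : sm ≠ 0 := by
      intro h0
      rw [h0, zero_mul] at hkey
      exact (mul_ne_zero hG0 hBl0) hkey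
    set G' := hG m * hf l - hf m * hG l with hG'
    have hG'x : MvPolynomial.aeval x G' = Am * Bl - Bm * Al := by
      rw [hG', map_sub, map_mul, map_mul]
    have hG'0 : MvPolynomial.aeval x G' ≠ 0 := by
      intro h0
      rw [hG'x] at h0
      rw [h0, mul_zero] at hkey
      exact (mul_ne_zero hG0 hBl0) hkey
    have hsmv : P.1 sm ≤ WithZero.exp (-1 : ℤ) := ff_lt_one_iff.mp (hb m)
    have hG'v : WithZero.exp (-(n : ℤ)) ≤ P.1 (MvPolynomial.aeval x G') := by
      have h1 := congrArg P.1 hkey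
      rw [map_mul, map_mul, hBl1, mul_one, ← hG'x] at h1
      by_contra hlt
      push Not at hlt
      rw [ff_lt_exp_iff] at hlt
      have h2 : P.1 (MvPolynomial.aeval x G) ≤ WithZero.exp (-1 : ℤ) * WithZero.exp (-(n : ℤ) - 1) := by
        rw [h1]; exact mul_le_mul' hsmv hlt
      rw [← WithZero.exp_add] at h2
      have h3 := hGv.trans h2
      rw [WithZero.exp_le_exp] at h3
      push_cast at h3
      omega
    obtain ⟨N, U, W, hU, hW, hrel⟩ := ih G' hG'0 hG'v
    refine ⟨N + 1, U, hf l * W, hU, by rw [map_mul, map_mul, ← hBl, hBl1, hW, one_mul], ?_⟩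
    rw [map_mul, ← hBl, ← mul_assoc, hkey, ← hG'x, mul_assoc, hrel, pow_succ]
    ring

/-- A nonvanishing partial derivative makes the local ring the whole valuation ring. -/
theorem ff_mem_locRing_of_partial_ne_zero {ι : Type*} [Fintype ι] (P : Place k K) (x : ι → K)
    (b : ι → k) (hb : ∀ i, P.1 (x i - algebraMap k K (b i)) < 1) (hx : ∀ i, P.1 (x i) ≤ 1)
    (f : MvPolynomial ι k) (hfx : MvPolynomial.aeval x f = 0) (hfb : MvPolynomial.eval b f = 0)
    (l m : ι) (hlm : l ≠ m) (hrest : ∀ i, i ≠ l → i ≠ m → x i = algebraMap k K (b i))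
    (hl : MvPolynomial.eval b (MvPolynomial.pderiv l f) ≠ 0)
    (hfrac : ∀ z : K, ∃ r w : K, r ∈ Algebra.adjoin k (Set.range x) ∧
      w ∈ Algebra.adjoin k (Set.range x) ∧ w ≠ 0 ∧ z * w = r)
    {z : K} (hz : P.1 z ≤ 1) : z ∈ ff_locRing (Algebra.adjoin k (Set.range x)) P := by
  classical
  by_cases hz0 : z = 0
  · rw [hz0]; exact Subalgebra.zero_mem _
  obtain ⟨r₀, w₀, hr₀, hw₀, hw₀0, hzw⟩ := hfrac z
  have hr₀0 : r₀ ≠ 0 := by rw [← hzw]; exact mul_ne_zero hz0 hw₀0
  rw [Algebra.adjoin_range_eq_range_aeval] at hr₀ hw₀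
  obtain ⟨G₁, hG₁⟩ := hr₀
  obtain ⟨G₂, hG₂⟩ := hw₀
  have hG₁' : MvPolynomial.aeval x G₁ = r₀ := hG₁
  have hG₂' : MvPolynomial.aeval x G₂ = w₀ := hG₂
  have hbound : ∀ r : K, r ≠ 0 → ∃ n : ℕ, WithZero.exp (-(n : ℤ)) ≤ P.1 r := by
    intro r hr
    refine ⟨(P.ord r).toNat, ?_⟩
    rw [ff_val_eq_exp_neg_ord P hr, WithZero.exp_le_exp]
    have := Int.self_le_toNat (P.ord r)
    omega
  obtain ⟨n₁, hn₁⟩ := hbound r₀ hr₀0
  obtain ⟨n₂, hn₂⟩ := hbound w₀ hw₀0
  obtain ⟨N₁, U₁, W₁, hU₁, hW₁, h₁⟩ := ff_dvr_decomp P x b hb hx f hfx hfb l m hlm hrest hl n₁ G₁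
    (by rw [hG₁']; exact hr₀0) (by rw [hG₁']; exact hn₁)
  obtain ⟨N₂, U₂, W₂, hU₂, hW₂, h₂⟩ := ff_dvr_decomp P x b hb hx f hfx hfb l m hlm hrest hl n₂ G₂
    (by rw [hG₂']; exact hw₀0) (by rw [hG₂']; exact hn₂)
  rw [hG₁'] at h₁
  rw [hG₂'] at h₂
  set s := x m - algebraMap k K (b m) with hs
  set u₁ := MvPolynomial.aeval x U₁
  set w₁ := MvPolynomial.aeval x W₁
  set u₂ := MvPolynomial.aeval x U₂
  set w₂ := MvPolynomial.aeval x W₂
  have hne : ∀ {t : K}, P.1 t = 1 → t ≠ 0 := by
    intro t ht h0; rw [h0, map_zero] at ht; exact zero_ne_one ht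
  have hsN₁ : s ^ N₁ ≠ 0 := by
    intro h0; rw [h0, zero_mul] at h₁; exact (mul_ne_zero hr₀0 (hne hW₁)) h₁
  have hsN₂ : s ^ N₂ ≠ 0 := by
    intro h0; rw [h0, zero_mul] at h₂; exact (mul_ne_zero hw₀0 (hne hW₂)) h₂
  -- the main relation
  have hmain : z * (s ^ N₂ * (u₂ * w₁)) = s ^ N₁ * (u₁ * w₂) := by
    have : z * (s ^ N₂ * (u₂ * w₁)) = (z * w₀) * w₂ * w₁ := by
      rw [mul_assoc z w₀, h₂]; ring
    rw [this, hzw, mul_right_comm, h₁]; ring
  have hle : N₂ ≤ N₁ := by
    by_contra hlt
    push Not at hlt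
    have hs0 : s ≠ 0 := by
      intro h0
      apply hsN₂
      rw [h0, zero_pow (by omega)]
    have h3 : z * (s ^ (N₂ - N₁) * (u₂ * w₁)) = u₁ * w₂ := by
      have h4 : s ^ N₂ = s ^ N₁ * s ^ (N₂ - N₁) := by
        rw [← pow_add]; congr 1; omega
      rw [h4] at hmain
      apply mul_left_cancel₀ hsN₁
      rw [← hmain]; ring
    have h5 := congrArg P.1 h3
    rw [map_mul, map_mul, map_mul, map_mul, hU₂, hW₁, hU₁, hW₂, mul_one, mul_one, map_pow] at h5
    have h6 : P.1 s ^ (N₂ - N₁) < 1 := pow_lt_one₀ zero_le (hb m) (by omega)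
    have h7 : P.1 z * P.1 s ^ (N₂ - N₁) < 1 := by
      calc P.1 z * P.1 s ^ (N₂ - N₁) ≤ 1 * P.1 s ^ (N₂ - N₁) := mul_le_mul' hz le_rfl
        _ = P.1 s ^ (N₂ - N₁) := one_mul _
        _ < 1 := h6
    rw [h5] at h7
    exact lt_irrefl _ h7
  refine ⟨s ^ (N₁ - N₂) * (u₁ * w₂), ?_, u₂ * w₁, ?_, by rw [map_mul, hU₂, hW₁, one_mul], ?_⟩
  · rw [Algebra.adjoin_range_eq_range_aeval]
    refine ⟨(MvPolynomial.X m - MvPolynomial.C (b m)) ^ (N₁ - N₂) * (U₁ * W₂), ?_⟩
    change MvPolynomial.aeval x _ = _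
    rw [map_mul, map_pow, map_sub, MvPolynomial.aeval_X, MvPolynomial.aeval_C, map_mul]
  · rw [Algebra.adjoin_range_eq_range_aeval]
    exact ⟨U₂ * W₁, by change MvPolynomial.aeval x _ = _; rw [map_mul]⟩
  · have h4 : s ^ N₁ = s ^ N₂ * s ^ (N₁ - N₂) := by
      rw [← pow_add]; congr 1; omega
    rw [h4] at hmain
    apply mul_left_cancel₀ hsN₂
    rw [← mul_assoc, mul_left_comm, ← mul_assoc] at hmain
    linear_combination hmain

section Kernel

open Polynomial

/-- Two homogeneous coordinates with transcendental ratio are algebraically independent, in the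
form: the map `X i ↦ φ i * T` into `K[T]` is injective. -/
theorem ff_aeval_CX_injective (hK : IsFunctionField k K) (ψ : Fin 2 → K) (h1 : ψ 1 ≠ 0)
    (hu : Transcendental k (ψ 0 / ψ 1)) :
    Function.Injective (MvPolynomial.aeval (fun i : Fin 2 => C (ψ i) * (X : K[X])) :
      MvPolynomial (Fin 2) k →ₐ[k] K[X]) := by
  classical
  rw [injective_iff_map_eq_zero]
  intro p hp
  by_contra hp0
  obtain ⟨m₀, hm₀⟩ := MvPolynomial.support_nonempty.mpr hp0
  set d := m₀ 0 + m₀ 1 with hd
  have hcoef : (MvPolynomial.aeval (fun i : Fin 2 => C (ψ i) * (X : K[X])) p).coeff d =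
      ψ 1 ^ d * aeval (ψ 0 / ψ 1)
        (∑ m ∈ p.support with m 0 + m 1 = d, C (p.coeff m) * (X : k[X]) ^ m 0) := by
    rw [MvPolynomial.aeval_def, MvPolynomial.eval₂_eq', finsetSum_coeff, map_sum, Finset.mul_sum,
      Finset.sum_filter]
    refine Finset.sum_congr rfl fun m _ => ?_
    rw [Fin.prod_univ_two, mul_pow, mul_pow, ← C_pow, ← C_pow]
    have h2 : (algebraMap k K[X]) (p.coeff m) * (C (ψ 0 ^ m 0) * X ^ m 0 * (C (ψ 1 ^ m 1) * X ^ m 1)) =
        C (algebraMap k K (p.coeff m) * ψ 0 ^ m 0 * ψ 1 ^ m 1) * X ^ (m 0 + m 1) := by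
      rw [Polynomial.algebraMap_apply, C_mul, C_mul, pow_add]
      ring
    rw [h2, coeff_C_mul_X_pow]
    by_cases hmd : m 0 + m 1 = d
    · rw [if_pos hmd.symm, if_pos hmd, map_mul, aeval_C, map_pow, aeval_X, div_pow, ← hmd, pow_add]
      field_simp
    · rw [if_neg (fun h => hmd h.symm), if_neg hmd]
  rw [hp, coeff_zero] at hcoef
  have hq : (∑ m ∈ p.support with m 0 + m 1 = d, C (p.coeff m) * (X : k[X]) ^ m 0) = 0 := by
    by_contra hq0
    apply hu
    refine ⟨_, hq0, ?_⟩
    rcases mul_eq_zero.mp hcoef.symm with h | h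
    · exact absurd h (pow_ne_zero _ h1)
    · exact h
  have h3 := congrArg (fun q : k[X] => q.coeff (m₀ 0)) hq
  simp only [finsetSum_coeff, coeff_C_mul, coeff_X_pow, coeff_zero, mul_ite, mul_one,
    mul_zero] at h3
  rw [Finset.sum_eq_single m₀] at h3
  · rw [if_pos rfl] at h3
    exact (MvPolynomial.mem_support_iff.mp hm₀) h3
  · intro m hm hne
    rw [Finset.mem_filter] at hm
    rw [if_neg]
    intro h0
    apply hne
    ext i
    fin_cases i
    · exact h0.symm
    · have := hm.2
      simp only [Fin.isValue, Fin.mk_one] at this ⊢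
      omega
  · intro h
    exact absurd (Finset.mem_filter.mpr ⟨hm₀, hd.symm⟩) h

theorem ff_aeval_eq_eval₂_finSuccEquiv (φ : Fin 3 → K) (p : MvPolynomial (Fin 3) k) :
    MvPolynomial.aeval (fun i : Fin 3 => C (φ i) * (X : K[X])) p =
      eval₂ ((MvPolynomial.aeval (fun i : Fin 2 => C (φ i.succ) * (X : K[X])) :
        MvPolynomial (Fin 2) k →ₐ[k] K[X]) : MvPolynomial (Fin 2) k →+* K[X]) (C (φ 0) * X)
        (MvPolynomial.finSuccEquiv k 2 p) := by
  induction p using MvPolynomial.induction_on with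
  | C a =>
    have : MvPolynomial.finSuccEquiv k 2 (MvPolynomial.C a) = C (MvPolynomial.C a) := by
      have := (MvPolynomial.finSuccEquiv k 2).commutes a
      rw [MvPolynomial.algebraMap_eq] at this
      rw [this]; rfl
    rw [this, eval₂_C, MvPolynomial.aeval_C]
    change _ = MvPolynomial.aeval (fun i : Fin 2 => C (φ i.succ) * (X : K[X])) (MvPolynomial.C a)
    rw [MvPolynomial.aeval_C]
  | add p q hp hq => rw [map_add, map_add, eval₂_add, hp, hq]
  | mul_X p i hp =>
    rw [map_mul, map_mul, eval₂_mul, hp, MvPolynomial.aeval_X]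
    congr 1
    refine Fin.cases ?_ (fun j => ?_) i
    · rw [MvPolynomial.finSuccEquiv_X_zero, eval₂_X]
    · rw [MvPolynomial.finSuccEquiv_X_succ, eval₂_C]
      change _ = MvPolynomial.aeval (fun i : Fin 2 => C (φ i.succ) * (X : K[X])) (MvPolynomial.X j)
      rw [MvPolynomial.aeval_X]

/-- The homogeneous ideal of a plane curve is generated by any irreducible element of it. -/
theorem ff_dvd_of_aeval_CX_eq_zero (hK : IsFunctionField k K) (φ : Fin 3 → K) (h2 : φ 2 ≠ 0)
    (hu : Transcendental k (φ 1 / φ 2)) (f H : MvPolynomial (Fin 3) k) (hf : Irreducible f)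
    (hfΨ : MvPolynomial.aeval (fun i : Fin 3 => C (φ i) * (X : K[X])) f = 0)
    (hHΨ : MvPolynomial.aeval (fun i : Fin 3 => C (φ i) * (X : K[X])) H = 0) : f ∣ H := by
  classical
  have hΨAinj : Function.Injective (MvPolynomial.aeval (fun i : Fin 2 => C (φ i.succ) * (X : K[X])) :
      MvPolynomial (Fin 2) k →ₐ[k] K[X]) :=
    ff_aeval_CX_injective hK (fun i : Fin 2 => φ i.succ) h2 hu
  have hjL : Function.Injective (algebraMap K[X] (RatFunc K)) :=
    IsFractionRing.injective K[X] (RatFunc K)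
  obtain ⟨ιA, hιAdef⟩ : ∃ ιA : MvPolynomial (Fin 2) k →+* RatFunc K,
      ιA = (algebraMap K[X] (RatFunc K)).comp
        ((MvPolynomial.aeval (fun i : Fin 2 => C (φ i.succ) * (X : K[X])) :
          MvPolynomial (Fin 2) k →ₐ[k] K[X]) : MvPolynomial (Fin 2) k →+* K[X]) := ⟨_, rfl⟩
  have hιA : Function.Injective ιA := by
    rw [hιAdef]; exact hjL.comp hΨAinj
  obtain ⟨ιF, hιF⟩ : ∃ ιF : FractionRing (MvPolynomial (Fin 2) k) →+* RatFunc K,
      ιF.comp (algebraMap (MvPolynomial (Fin 2) k) (FractionRing (MvPolynomial (Fin 2) k))) = ιA :=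
    ⟨IsFractionRing.lift hιA, RingHom.ext fun a => IsFractionRing.lift_algebraMap hιA a⟩
  obtain ⟨v, hv⟩ : ∃ v : RatFunc K, v = algebraMap K[X] (RatFunc K) (C (φ 0) * X) := ⟨_, rfl⟩
  have hev : ∀ p : MvPolynomial (Fin 3) k,
      eval₂ ιF v ((MvPolynomial.finSuccEquiv k 2 p).map
        (algebraMap (MvPolynomial (Fin 2) k) (FractionRing (MvPolynomial (Fin 2) k)))) =
        algebraMap K[X] (RatFunc K)
          (MvPolynomial.aeval (fun i : Fin 3 => C (φ i) * (X : K[X])) p) := by
    intro p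
    rw [eval₂_map, hιF, ff_aeval_eq_eval₂_finSuccEquiv φ p, Polynomial.hom_eval₂, hιAdef, hv]
  have hirr : Irreducible (MvPolynomial.finSuccEquiv k 2 f) :=
    (MulEquiv.irreducible_iff (MvPolynomial.finSuccEquiv k 2)).mpr hf
  have hdeg : (MvPolynomial.finSuccEquiv k 2 f).natDegree ≠ 0 := by
    intro h0
    have h1 := hev f
    rw [hfΨ, map_zero, eq_C_of_natDegree_eq_zero h0, Polynomial.map_C, eval₂_C] at h1
    have h3 : ιF (algebraMap (MvPolynomial (Fin 2) k) (FractionRing (MvPolynomial (Fin 2) k))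
        ((MvPolynomial.finSuccEquiv k 2 f).coeff 0)) =
        ιA ((MvPolynomial.finSuccEquiv k 2 f).coeff 0) := by
      rw [← hιF]; rfl
    rw [h3] at h1
    have h4 : (MvPolynomial.finSuccEquiv k 2 f).coeff 0 = 0 := by
      apply hιA
      rw [h1, map_zero]
    apply hirr.ne_zero
    rw [eq_C_of_natDegree_eq_zero h0, h4, C_0]
  have hprim : (MvPolynomial.finSuccEquiv k 2 f).IsPrimitive := hirr.isPrimitive hdeg
  have hirrF := (hprim.irreducible_iff_irreducible_map_fraction_map
    (K := FractionRing (MvPolynomial (Fin 2) k))).mp hirr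
  have hdvdF : (MvPolynomial.finSuccEquiv k 2 f).map
      (algebraMap (MvPolynomial (Fin 2) k) (FractionRing (MvPolynomial (Fin 2) k))) ∣
      (MvPolynomial.finSuccEquiv k 2 H).map
        (algebraMap (MvPolynomial (Fin 2) k) (FractionRing (MvPolynomial (Fin 2) k))) := by
    rw [hirrF.dvd_iff_not_isCoprime]
    rintro ⟨α, β, hαβ⟩
    have h1 := congrArg (eval₂ ιF v) hαβ
    rw [eval₂_add, eval₂_mul, eval₂_mul, hev f, hev H, hfΨ, hHΨ, map_zero, mul_zero, mul_zero,
      add_zero, eval₂_one] at h1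
    exact zero_ne_one h1
  have hdvd := hprim.dvd_of_fraction_map_dvd_fraction_map hdvdF
  obtain ⟨q, hq⟩ := hdvd
  refine ⟨(MvPolynomial.finSuccEquiv k 2).symm q, ?_⟩
  apply (MvPolynomial.finSuccEquiv k 2).injective
  rw [map_mul, AlgEquiv.apply_symm_apply, hq]

theorem ff_aeval_CX_of_isHomogeneous {ι : Type*} [Fintype ι] (x : ι → K) (p : MvPolynomial ι k)
    {d : ℕ} (hp : p.IsHomogeneous d) :
    MvPolynomial.aeval (fun i => C (x i) * (X : K[X])) p = C (MvPolynomial.aeval x p) * X ^ d := by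
  have h1 : MvPolynomial.aeval (fun i => C (x i)) p = (C (MvPolynomial.aeval x p) : K[X]) :=
    MvPolynomial.aeval_algebraMap_apply K[X] x p
  rw [← h1, MvPolynomial.aeval_def, MvPolynomial.eval₂_eq', MvPolynomial.aeval_def,
    MvPolynomial.eval₂_eq', Finset.sum_mul]
  refine Finset.sum_congr rfl fun m hm => ?_
  have hd : d = ∑ i, m i := by
    rw [hp.degree_eq_sum_deg_support hm]
    exact Finset.sum_subset (Finset.subset_univ _) (fun i _ hi => by simpa using hi)
  simp_rw [mul_pow]
  rw [Finset.prod_mul_distrib, Finset.prod_pow_eq_pow_sum, ← hd]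
  ring

/-- Homogenization with respect to a coordinate equal to `1`. -/
theorem ff_exists_homogenization {ι : Type*} [Fintype ι] (x : ι → K) (j : ι) (hxj : x j = 1)
    (G : MvPolynomial ι k) :
    ∃ (H B : MvPolynomial ι k) (D : ℕ), G = H + (MvPolynomial.X j - 1) * B ∧
      MvPolynomial.aeval (fun i => C (x i) * (X : K[X])) H =
        C (MvPolynomial.aeval x G) * X ^ D := by
  classical
  set D := G.totalDegree with hD
  set H : MvPolynomial ι k := ∑ d ∈ Finset.range (D + 1),
    MvPolynomial.X j ^ (D - d) * MvPolynomial.homogeneousComponent d G with hH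
  have hG : G = ∑ d ∈ Finset.range (D + 1), MvPolynomial.homogeneousComponent d G :=
    (MvPolynomial.sum_homogeneousComponent G).symm
  have hdvd : ∀ n : ℕ, ∃ q : MvPolynomial ι k,
      (1 : MvPolynomial ι k) - MvPolynomial.X j ^ n = (MvPolynomial.X j - 1) * q := by
    intro n
    obtain ⟨q, hq⟩ := sub_dvd_pow_sub_pow (MvPolynomial.X j : MvPolynomial ι k) 1 n
    refine ⟨-q, ?_⟩
    rw [one_pow] at hq
    rw [mul_neg, ← hq]; ring
  choose q hq using hdvd
  refine ⟨H, ∑ d ∈ Finset.range (D + 1), q (D - d) * MvPolynomial.homogeneousComponent d G, D,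
    ?_, ?_⟩
  · rw [Finset.mul_sum, hH, ← Finset.sum_add_distrib]
    conv_lhs => rw [hG]
    refine Finset.sum_congr rfl fun d _ => ?_
    rw [← mul_assoc, ← hq]; ring
  · rw [hH, map_sum]
    conv_rhs => rw [hG, map_sum, map_sum, Finset.sum_mul]
    refine Finset.sum_congr rfl fun d hd => ?_
    rw [map_mul, map_pow, MvPolynomial.aeval_X, hxj, map_one, one_mul,
      ff_aeval_CX_of_isHomogeneous x _ (MvPolynomial.homogeneousComponent_isHomogeneous d G)]
    have : D - d + d = D := by
      have := Finset.mem_range.mp hd; omega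
    rw [mul_left_comm, ← pow_add, this]

end Kernel

theorem ff_fin3_third : ∀ j l : Fin 3, j ≠ l →
    ∃ m, m ≠ j ∧ m ≠ l ∧ ∀ i, i = j ∨ i = l ∨ i = m := by decide

/-- If all partial derivatives of the irreducible equation vanish at the image point, the plane
map is singular there. -/
theorem ff_singular_of_partials_zero [IsAlgClosed k] (hK : IsFunctionField k K) (x : Fin 3 → K)
    (h2 : x 2 ≠ 0) (hu : Transcendental k (x 1 / x 2))
    (f : MvPolynomial (Fin 3) k) (hf : Irreducible f) {e : ℕ} (hhom : f.IsHomogeneous e)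
    (hfx : MvPolynomial.aeval x f = 0) (P : Place k K) (j : Fin 3) (hxj : x j = 1)
    (hx : ∀ i, P.1 (x i) ≤ 1) (b : Fin 3 → k)
    (hb : ∀ i, P.1 (x i - algebraMap k K (b i)) < 1)
    (hall : ∀ l, MvPolynomial.eval b (MvPolynomial.pderiv l f) = 0)
    (hns : ∀ z : K, P.1 z ≤ 1 → z ∈ ff_locRing (Algebra.adjoin k (Set.range x)) P) : False := by
  classical
  have hbj : b j = 1 := by
    have h1 := hb j
    rw [hxj] at h1
    have h2' : P.1 ((1 : K) - algebraMap k K 1) < 1 := by rw [map_one, sub_self, map_zero]; exact zero_lt_one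
    exact ff_const_approx_unique P h1 h2'
  have hfb : MvPolynomial.eval b f = 0 := by
    have h1 := ff_val_aeval_sub_lt_one P x b hb hx f
    rw [hfx, zero_sub, Valuation.map_neg] at h1
    by_contra hne
    rw [ff_val_const P hne] at h1
    exact lt_irrefl _ h1
  -- a uniformizer among the `s i`
  obtain ⟨π, hπ⟩ := ff_exists_uniformizer P
  have hπ1 : P.1 π ≤ 1 := by
    rw [hπ, ← WithZero.exp_zero, WithZero.exp_le_exp]; norm_num
  obtain ⟨u, hu', w, hw, hw1, hπw⟩ := hns π hπ1
  rw [Algebra.adjoin_range_eq_range_aeval] at hu'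
  obtain ⟨U, hU⟩ := hu'
  have hU' : MvPolynomial.aeval x U = u := hU
  have huv : P.1 u = WithZero.exp (-1 : ℤ) := by rw [← hπw, map_mul, hw1, mul_one, hπ]
  have hUb : MvPolynomial.eval b U = 0 := by
    have h1 := ff_val_aeval_sub_lt_one P x b hb hx U
    rw [hU'] at h1
    refine (ff_val_lt_one_iff_const_zero P h1).mp ?_
    rw [huv, ← WithZero.exp_zero, WithZero.exp_lt_exp]; norm_num
  obtain ⟨hUt, hUe, -⟩ := ff_taylor_exact b U
  have hm : ∃ m, P.1 (x m - algebraMap k K (b m)) = WithZero.exp (-1 : ℤ) := by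
    by_contra hcon
    push Not at hcon
    have hall2 : ∀ i, P.1 (x i - algebraMap k K (b i)) ≤ WithZero.exp (-2 : ℤ) := by
      intro i
      have h1 := ff_lt_one_iff.mp (hb i)
      have h3 : P.1 (x i - algebraMap k K (b i)) < WithZero.exp (-1 : ℤ) :=
        lt_of_le_of_ne h1 (hcon i)
      rw [ff_lt_exp_iff] at h3
      exact h3
    have h4 := congrArg (MvPolynomial.aeval x) hUe
    rw [hU', hUb, map_zero, zero_add, map_sum] at h4
    have h5 : P.1 u ≤ WithZero.exp (-2 : ℤ) := by
      rw [h4]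
      refine P.1.map_sum_le fun i _ => ?_
      rw [map_mul, map_sub, MvPolynomial.aeval_X, MvPolynomial.aeval_C, map_mul]
      calc P.1 (x i - algebraMap k K (b i)) * P.1 (MvPolynomial.aeval x (hUt i))
          ≤ WithZero.exp (-2 : ℤ) * 1 := mul_le_mul' (hall2 i) (ff_val_aeval_le_one P x hx _)
        _ = WithZero.exp (-2 : ℤ) := mul_one _
    rw [huv, WithZero.exp_le_exp] at h5
    omega
  obtain ⟨m, hm⟩ := hm
  have hmj : m ≠ j := by
    rintro rfl
    rw [hxj, hbj, map_one, sub_self, map_zero] at hm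
    exact WithZero.exp_ne_zero hm.symm
  obtain ⟨l, hlj, hlm, hcover⟩ := ff_fin3_third j m (Ne.symm hmj)
  set sm := x m - algebraMap k K (b m) with hsm
  set sl := x l - algebraMap k K (b l) with hsl
  have hsm0 : sm ≠ 0 := by
    intro h0; rw [h0, map_zero] at hm; exact WithZero.exp_ne_zero hm.symm
  have hslv : P.1 sl ≤ WithZero.exp (-1 : ℤ) := ff_lt_one_iff.mp (hb l)
  have hq1 : P.1 (sl / sm) ≤ 1 := by
    rw [map_div₀, hm]
    exact (div_le_one₀ WithZero.exp_pos).mpr hslv
  obtain ⟨c, hc⟩ := ff_exists_const_approx hK P hq1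
  have hr1 : P.1 ((sl - algebraMap k K c * sm) / sm ^ 2) ≤ 1 := by
    have h1 : (sl - algebraMap k K c * sm) / sm ^ 2 = (sl / sm - algebraMap k K c) / sm := by
      field_simp
    rw [h1, map_div₀, hm]
    exact (div_le_one₀ WithZero.exp_pos).mpr (ff_lt_one_iff.mp hc)
  obtain ⟨u₁, hu₁, w₁, hw₁, hw₁1, hrw⟩ := hns _ hr1
  rw [Algebra.adjoin_range_eq_range_aeval] at hu₁ hw₁
  obtain ⟨U₁, hU₁⟩ := hu₁
  obtain ⟨W₁, hW₁⟩ := hw₁
  have hU₁' : MvPolynomial.aeval x U₁ = u₁ := hU₁
  have hW₁' : MvPolynomial.aeval x W₁ = w₁ := hW₁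
  have hW₁b : MvPolynomial.eval b W₁ ≠ 0 := by
    intro h0
    have h1 := ff_val_aeval_sub_lt_one P x b hb hx W₁
    rw [h0, map_zero, sub_zero, hW₁', hw₁1] at h1
    exact lt_irrefl _ h1
  -- the polynomial relation
  set Sl : MvPolynomial (Fin 3) k := MvPolynomial.X l - MvPolynomial.C (b l) with hSl
  set Sm : MvPolynomial (Fin 3) k := MvPolynomial.X m - MvPolynomial.C (b m) with hSm
  set G : MvPolynomial (Fin 3) k := W₁ * (Sl - MvPolynomial.C c * Sm) - Sm ^ 2 * U₁ with hG
  have hGx : MvPolynomial.aeval x G = 0 := by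
    rw [hG, map_sub, map_mul, map_mul, map_sub, map_mul, map_pow, hSl, hSm, map_sub, map_sub,
      MvPolynomial.aeval_X, MvPolynomial.aeval_X, MvPolynomial.aeval_C, MvPolynomial.aeval_C,
      MvPolynomial.aeval_C, hU₁', hW₁', ← hsl, ← hsm, ← hrw]
    field_simp
    ring
  obtain ⟨H, B, D, hGHB, hHΨ⟩ := ff_exists_homogenization x j hxj G
  rw [hGx, map_zero, zero_mul] at hHΨ
  have hfΨ : MvPolynomial.aeval (fun i : Fin 3 => Polynomial.C (x i) * (Polynomial.X : Polynomial K)) f = 0 := by
    rw [ff_aeval_CX_of_isHomogeneous x f hhom, hfx, map_zero, zero_mul]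
  obtain ⟨A, hA⟩ := ff_dvd_of_aeval_CX_eq_zero hK x h2 hu f H hf hfΨ hHΨ
  -- differentiate at `b`
  have hder := congrArg (fun p => MvPolynomial.eval b (MvPolynomial.pderiv l p)) hGHB
  simp only [hA, hG, hSl, hSm, map_add, map_sub, map_mul, map_pow, Derivation.leibniz,
    Derivation.leibniz_pow, MvPolynomial.pderiv_X_self, MvPolynomial.pderiv_C,
    MvPolynomial.pderiv_X_of_ne hlm.symm, MvPolynomial.pderiv_X_of_ne hlj.symm,
    MvPolynomial.pderiv_one, smul_eq_mul,
    MvPolynomial.eval_X, MvPolynomial.eval_C, hall l, hfb, hbj, map_one, map_zero, sub_self,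
    mul_zero, zero_mul, add_zero, zero_add, sub_zero, mul_one, smul_zero, nsmul_eq_mul] at hder
  rw [zero_pow two_ne_zero, zero_mul, sub_zero] at hder
  exact hW₁b hder

/-- S11072: the Jacobian criterion for plane curves. -/
theorem ff_plane_jacobian [IsAlgClosed k] (hK : IsFunctionField k K) (φ : Fin 3 → K)
    (hφ : LinearIndependent k φ)
    (hbir : IntermediateField.adjoin k (Set.range fun i => φ i / φ 0) = ⊤)
    (f : MvPolynomial (Fin 3) k) (hf : Irreducible f) (hhom : f.IsHomogeneous f.totalDegree)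
    (hfφ : MvPolynomial.aeval φ f = 0) (P : Place k K) (j : Fin 3)
    (hj : ∀ i, P.1 (φ i) ≤ P.1 (φ j)) (a : Fin 3 → P.O) (ha : ∀ i, ((a i : P.O) : K) = φ i / φ j) :
    ¬ IsNonsingularAt φ P ↔
      ∀ l : Fin 3, MvPolynomial.aeval (fun i => IsLocalRing.residue P.O (a i))
        (MvPolynomial.pderiv l f) = 0 := by
  classical
  have hφ0 : ∀ i, φ i ≠ 0 := fun i => hφ.ne_zero i
  set x : Fin 3 → K := fun i => φ i / φ j with hx
  have hxj : x j = 1 := div_self (hφ0 j)
  have hx1 : ∀ i, P.1 (x i) ≤ 1 := by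
    intro i
    have := (a i).2
    rw [ha i] at this
    exact (Valuation.mem_valuationSubring_iff _ _).mp this
  choose b hb using fun i => ff_exists_const_approx hK P (hx1 i)
  have hres : ∀ l, IsLocalRing.residue P.O (a l) =
      algebraMap k (IsLocalRing.ResidueField P.O) (b l) := by
    intro l
    have h1 : a l - algebraMap k P.O (b l) ∈ IsLocalRing.maximalIdeal P.O := by
      rw [ff_mem_maximalIdeal_iff]
      have : ((a l - algebraMap k P.O (b l) : P.O) : K) = x l - algebraMap k K (b l) := by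
        rw [hx]; simp only [← ha l]; rfl
      rw [this]
      exact hb l
    have h2 := (IsLocalRing.residue_eq_zero_iff _).mpr h1
    rw [map_sub, sub_eq_zero] at h2
    rw [h2]
    rfl
  have hcb : ∀ g : MvPolynomial (Fin 3) k,
      MvPolynomial.aeval (fun i => IsLocalRing.residue P.O (a i)) g =
        algebraMap k (IsLocalRing.ResidueField P.O) (MvPolynomial.eval b g) := by
    intro g
    have : (fun l => IsLocalRing.residue P.O (a l)) =
        (algebraMap k (IsLocalRing.ResidueField P.O)) ∘ b := funext hres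
    rw [this]
    induction g using MvPolynomial.induction_on with
    | C c => simp
    | add p q hp hq => simp [hp, hq]
    | mul_X p i ih => simp [ih]
  have hiff : (∀ l : Fin 3, MvPolynomial.aeval (fun i => IsLocalRing.residue P.O (a i))
      (MvPolynomial.pderiv l f) = 0) ↔ ∀ l, MvPolynomial.eval b (MvPolynomial.pderiv l f) = 0 := by
    refine forall_congr' fun l => ?_
    rw [hcb, map_eq_zero_iff _ (algebraMap k (IsLocalRing.ResidueField P.O)).injective]
  rw [hiff]
  have hfx : MvPolynomial.aeval x f = 0 := by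
    have := ff_aeval_smul_of_isHomogeneous' f hhom (φ j)⁻¹ φ
    rw [hfφ, mul_zero] at this
    have hxe : x = fun i => (φ j)⁻¹ * φ i := by
      funext i
      rw [inv_mul_eq_div]
    rw [hxe]
    exact this
  have hfb : MvPolynomial.eval b f = 0 := by
    have h1 := ff_val_aeval_sub_lt_one P x b hb hx1 f
    rw [hfx, zero_sub, Valuation.map_neg] at h1
    by_contra hne
    rw [ff_val_const P hne] at h1
    exact lt_irrefl _ h1
  have hbj : b j = 1 := by
    have h1 := hb j
    rw [hxj] at h1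
    have h2' : P.1 ((1 : K) - algebraMap k K 1) < 1 := by
      rw [map_one, sub_self, map_zero]; exact zero_lt_one
    exact ff_const_approx_unique P h1 h2'
  have hlocal : ∀ z, InLocRing φ P z ↔ z ∈ ff_locRing (Algebra.adjoin k (Set.range x)) P :=
    fun z => ff_inLocRing_iff φ P j (hφ0 j) hj z
  have hx2 : x 2 ≠ 0 := div_ne_zero (hφ0 2) (hφ0 j)
  have htr : ∀ i l : Fin 3, i ≠ l → Transcendental k (x i / x l) := by
    intro i l hil
    apply ff_transcendental_of_not_mem_range hK
    rintro ⟨c, hc⟩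
    have h1 : x i / x l = φ i / φ l := div_div_div_cancel_right₀ (hφ0 j) _ _
    rw [h1, eq_div_iff (hφ0 l)] at hc
    have h2 := Fintype.linearIndependent_iff.mp hφ (fun t => if t = i then 1 else if t = l then -c else 0)
      (by
        rw [Finset.sum_eq_add i l hil]
        · simp only [if_true, if_neg hil.symm, Algebra.smul_def]
          rw [map_one, one_mul, map_neg, neg_mul, hc, add_neg_cancel]
        · intro t _ ht
          rw [if_neg ht.1, if_neg ht.2, zero_smul]
        · intro h; exact absurd (Finset.mem_univ i) h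
        · intro h; exact absurd (Finset.mem_univ l) h) i
    simp at h2
  constructor
  · intro hsing
    by_contra hex
    push Not at hex
    obtain ⟨l₀, hl₀⟩ := hex
    apply hsing
    -- find `l ≠ j` with nonzero partial
    have hex2 : ∃ l, l ≠ j ∧ MvPolynomial.eval b (MvPolynomial.pderiv l f) ≠ 0 := by
      by_contra hcon
      push Not at hcon
      have heuler : ∑ i, b i * MvPolynomial.eval b (MvPolynomial.pderiv i f) = 0 := by
        have := congrArg (MvPolynomial.eval b) hhom.sum_X_mul_pderiv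
        rw [map_sum, map_nsmul, hfb, smul_zero] at this
        simpa using this
      rw [Finset.sum_eq_single j (fun i _ hi => by rw [hcon i hi, mul_zero])
        (fun h => absurd (Finset.mem_univ j) h), hbj, one_mul] at heuler
      by_cases hl₀j : l₀ = j
      · rw [hl₀j] at hl₀; exact hl₀ heuler
      · exact hl₀ (hcon l₀ hl₀j)
    obtain ⟨l, hlj, hl⟩ := hex2
    obtain ⟨m, hmj, hml, hcover⟩ := ff_fin3_third j l (Ne.symm hlj)
    have hrest : ∀ i, i ≠ l → i ≠ m → x i = algebraMap k K (b i) := by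
      intro i hil him
      rcases hcover i with h | h | h
      · rw [h, hxj, hbj, map_one]
      · exact absurd h hil
      · exact absurd h him
    have hfrac : ∀ z : K, ∃ r w : K, r ∈ Algebra.adjoin k (Set.range x) ∧
        w ∈ Algebra.adjoin k (Set.range x) ∧ w ≠ 0 ∧ z * w = r := by
      have hbirj : IntermediateField.adjoin k (Set.range x) = ⊤ := by
        rw [← top_le_iff, ← hbir, IntermediateField.adjoin_le_iff]
        rintro _ ⟨i, rfl⟩
        have h1 : φ i / φ 0 = x i / x 0 := (div_div_div_cancel_right₀ (hφ0 j) _ _).symm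
        change φ i / φ 0 ∈ IntermediateField.adjoin k (Set.range x)
        rw [h1]
        exact div_mem (IntermediateField.subset_adjoin k _ ⟨i, rfl⟩)
          (IntermediateField.subset_adjoin k _ ⟨0, rfl⟩)
      intro z
      have : z ∈ IntermediateField.adjoin k (Set.range x) := by rw [hbirj]; trivial
      obtain ⟨r, hr, w, hw, rfl⟩ := IntermediateField.mem_adjoin_iff_div.mp this
      by_cases hw0 : w = 0
      · exact ⟨0, 1, Subalgebra.zero_mem _, Subalgebra.one_mem _, one_ne_zero, by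
          rw [hw0, div_zero, zero_mul]⟩
      · exact ⟨r, w, hr, hw, hw0, div_mul_cancel₀ r hw0⟩
    intro z hz
    rw [hlocal]
    exact ff_mem_locRing_of_partial_ne_zero P x b hb hx1 f hfx hfb l m (Ne.symm hml) hrest hl
      hfrac hz
  · intro hall hns
    refine ff_singular_of_partials_zero hK x hx2 (htr 1 2 (by decide)) f hf hhom hfx P j hxj hx1 b
      hb hall ?_
    intro z hz
    rw [← hlocal]
    exact hns z hz

end Groth.Agent.Lib.Helper55
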