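import Groth.Agent.Lib.Helper55.FunFld.VeryAmple
import Mathlib.Algebra.MvPolynomial.PDeriv
import Mathlib.RingTheory.MvPolynomial.EulerIdentity
import Mathlib.RingTheory.MvPolynomial.Tower

/-!
# Local rings of projective maps: Taylor expansion modulo the square of the maximal ideal
-/

open FunFld Module

namespace Groth.Agent.Lib.Helper55

variable {k K : Type*} [Field k] [Field K] [Algebra k K]

theorem ff_val_mul_le_exp_neg_two (P : Place k K) {a b : K} (ha : P.1 a < 1) (hb : P.1 b < 1) :
    P.1 (a * b) ≤ WithZero.exp (-2 : ℤ) := by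
  rw [ff_lt_one_iff] at ha hb
  rw [map_mul]
  calc P.1 a * P.1 b ≤ WithZero.exp (-1 : ℤ) * WithZero.exp (-1 : ℤ) := mul_le_mul' ha hb
    _ = WithZero.exp (-2 : ℤ) := by rw [← WithZero.exp_add]; norm_num

/-- First-order Taylor expansion of a polynomial in elements `x i ≡ b i mod m_P`, modulo `m_P²`. -/
theorem ff_taylor_mod_sq {ι : Type*} [Fintype ι] (P : Place k K) (x : ι → K)
    (b : ι → k) (hb : ∀ i, P.1 (x i - algebraMap k K (b i)) < 1) (G : MvPolynomial ι k) :
    P.1 (MvPolynomial.aeval x G - algebraMap k K (MvPolynomial.eval b G) -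
      ∑ i, algebraMap k K (MvPolynomial.eval b (MvPolynomial.pderiv i G)) *
        (x i - algebraMap k K (b i))) ≤ WithZero.exp (-2 : ℤ) := by
  classical
  induction G using MvPolynomial.induction_on with
  | C c => simp
  | add p q hp hq =>
    have : MvPolynomial.aeval x (p + q) - algebraMap k K (MvPolynomial.eval b (p + q)) -
        ∑ i, algebraMap k K (MvPolynomial.eval b (MvPolynomial.pderiv i (p + q))) *
          (x i - algebraMap k K (b i)) =
        (MvPolynomial.aeval x p - algebraMap k K (MvPolynomial.eval b p) -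
          ∑ i, algebraMap k K (MvPolynomial.eval b (MvPolynomial.pderiv i p)) *
            (x i - algebraMap k K (b i))) +
        (MvPolynomial.aeval x q - algebraMap k K (MvPolynomial.eval b q) -
          ∑ i, algebraMap k K (MvPolynomial.eval b (MvPolynomial.pderiv i q)) *
            (x i - algebraMap k K (b i))) := by
      simp only [map_add, add_mul, Finset.sum_add_distrib]
      ring
    rw [this]
    exact (P.1.map_add _ _).trans (max_le hp hq)
  | mul_X p i ih =>
    set S := ∑ l, algebraMap k K (MvPolynomial.eval b (MvPolynomial.pderiv l p)) *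
      (x l - algebraMap k K (b l)) with hS
    set e := MvPolynomial.aeval x p - algebraMap k K (MvPolynomial.eval b p) - S with he
    have hder : ∀ l, MvPolynomial.eval b (MvPolynomial.pderiv l (p * MvPolynomial.X i)) =
        MvPolynomial.eval b (MvPolynomial.pderiv l p) * b i +
          (if l = i then MvPolynomial.eval b p else 0) := by
      intro l
      rw [MvPolynomial.pderiv_mul, MvPolynomial.pderiv_X, map_add, map_mul, map_mul,
        MvPolynomial.eval_X, Pi.single_apply]
      by_cases hli : l = i
      · subst hli; simp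
      · rw [if_neg (Ne.symm hli), if_neg hli]; simp
    have hsum : ∑ l, algebraMap k K (MvPolynomial.eval b
        (MvPolynomial.pderiv l (p * MvPolynomial.X i))) * (x l - algebraMap k K (b l)) =
        algebraMap k K (b i) * S +
          algebraMap k K (MvPolynomial.eval b p) * (x i - algebraMap k K (b i)) := by
      simp only [hder, map_add, map_mul, add_mul, Finset.sum_add_distrib]
      congr 1
      · rw [hS, Finset.mul_sum]
        refine Finset.sum_congr rfl fun l _ => ?_
        ring
      · rw [Finset.sum_eq_single i]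
        · simp
        · intro l _ hl; simp [hl]
        · intro h; exact absurd (Finset.mem_univ i) h
    have key : MvPolynomial.aeval x (p * MvPolynomial.X i) -
        algebraMap k K (MvPolynomial.eval b (p * MvPolynomial.X i)) -
        ∑ l, algebraMap k K (MvPolynomial.eval b
          (MvPolynomial.pderiv l (p * MvPolynomial.X i))) * (x l - algebraMap k K (b l)) =
        e * x i + S * (x i - algebraMap k K (b i)) := by
      rw [hsum, he]
      simp only [map_mul, MvPolynomial.aeval_X, MvPolynomial.eval_X]
      ring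
    rw [key]
    have hxi : P.1 (x i) ≤ 1 := ff_val_le_one_of_const_approx P (hb i)
    have hSv : P.1 S < 1 := by
      rw [hS]
      refine lt_of_le_of_lt (P.1.map_sum_le (g := WithZero.exp (-1 : ℤ)) (fun l _ => ?_)) ?_
      · rw [map_mul]
        have h1 := hb l
        rw [ff_lt_one_iff] at h1
        calc P.1 (algebraMap k K _) * P.1 (x l - algebraMap k K (b l))
            ≤ 1 * WithZero.exp (-1 : ℤ) := mul_le_mul' (P.2.1 _) h1
          _ = WithZero.exp (-1 : ℤ) := one_mul _
      · rw [← WithZero.exp_zero, WithZero.exp_lt_exp]; norm_num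
    refine (P.1.map_add _ _).trans (max_le ?_ (ff_val_mul_le_exp_neg_two P hSv (hb i)))
    rw [map_mul]
    calc P.1 e * P.1 (x i) ≤ WithZero.exp (-2 : ℤ) * 1 := mul_le_mul' ih hxi
      _ = WithZero.exp (-2 : ℤ) := mul_one _

/-- Ratios of elements of the span lie in the algebra generated by the ratios of the entries. -/
theorem ff_div_mem_adjoin_of_mem_span {ι : Type*} (φ : ι → K) (f : K) {y : K}
    (hy : y ∈ Submodule.span k (Set.range φ)) :
    y / f ∈ Algebra.adjoin k (Set.range fun i => φ i / f) := by
  induction hy using Submodule.span_induction with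
  | mem y hy =>
    obtain ⟨i, rfl⟩ := hy
    exact Algebra.subset_adjoin ⟨i, rfl⟩
  | zero => rw [zero_div]; exact Subalgebra.zero_mem _
  | add a b _ _ ha hb => rw [add_div]; exact Subalgebra.add_mem _ ha hb
  | smul c a _ ha => rw [smul_div_assoc]; exact Subalgebra.smul_mem _ ha c

theorem ff_span_val_le {ι : Type*} (φ : ι → K) (P : Place k K) {γ : WithZero (Multiplicative ℤ)}
    (h : ∀ i, P.1 (φ i) ≤ γ) {y : K} (hy : y ∈ Submodule.span k (Set.range φ)) : P.1 y ≤ γ := by
  induction hy using Submodule.span_induction with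
  | mem y hy =>
    obtain ⟨i, rfl⟩ := hy
    exact h i
  | zero => simp
  | add a b _ _ ha hb => exact (P.1.map_add a b).trans (max_le ha hb)
  | smul c a _ ha =>
    rw [Algebra.smul_def, map_mul]
    calc P.1 (algebraMap k K c) * P.1 a ≤ 1 * P.1 a := mul_le_mul' (P.2.1 c) le_rfl
      _ = P.1 a := one_mul _
      _ ≤ γ := ha

/-- S11066: a normalized effective projective map has a local parameter in its local ring at `P`
exactly when its span has one. -/
theorem ff_exists_uniformizer_inLocRing_iff [IsAlgClosed k] (hK : IsFunctionField k K) {n : ℕ}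
    (φ : Fin (n + 1) → K) (P : Place k K) (heff : (1 : K) ∈ Submodule.span k (Set.range φ))
    (hnorm : ∀ i, P.1 (φ i) ≤ 1) :
    (∃ t : K, InLocRing φ P t ∧ P.1 t = WithZero.exp (-1 : ℤ)) ↔
      ∃ t ∈ Submodule.span k (Set.range φ), P.1 t = WithZero.exp (-1 : ℤ) := by
  classical
  -- some entry is a unit at `P`
  obtain ⟨j₀, hj₀⟩ : ∃ j, P.1 (φ j) = 1 := by
    by_contra hcon
    push Not at hcon
    have hlt : ∀ i, P.1 (φ i) ≤ WithZero.exp (-1 : ℤ) := fun i =>
      ff_lt_one_iff.mp (lt_of_le_of_ne (hnorm i) (hcon i))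
    have := ff_span_val_le φ P hlt heff
    rw [map_one, ← WithZero.exp_zero, WithZero.exp_le_exp] at this
    omega
  have hunit : ∀ j, (∀ i, P.1 (φ i) ≤ P.1 (φ j)) → P.1 (φ j) = 1 := fun j hj =>
    le_antisymm (hnorm j) (by have := hj j₀; rwa [hj₀] at this)
  have hne : ∀ j, P.1 (φ j) = 1 → φ j ≠ 0 := by
    intro j hj h0
    rw [h0, map_zero] at hj
    exact zero_ne_one hj
  constructor
  · rintro ⟨t, ⟨j, hj0, hmax, u, hu, w, hw, hw1, htw⟩, ht⟩
    have hj1 : P.1 (φ j) = 1 := hunit j hmax
    set x : Fin (n + 1) → K := fun i => φ i / φ j with hx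
    have hx1 : ∀ i, P.1 (x i) ≤ 1 := by
      intro i
      rw [hx, map_div₀, hj1, div_one]
      exact hnorm i
    choose b hb using fun i => ff_exists_const_approx hK P (hx1 i)
    rw [Algebra.adjoin_range_eq_range_aeval] at hu
    obtain ⟨G, hG⟩ := hu
    have hG' : MvPolynomial.aeval x G = u := hG
    have huv : P.1 (MvPolynomial.aeval x G) = WithZero.exp (-1 : ℤ) := by
      rw [hG', ← htw, map_mul, hw1, mul_one, ht]
    by_contra hcon
    push Not at hcon
    -- every `x i - b i` has order at least two
    have hall : ∀ i, P.1 (x i - algebraMap k K (b i)) ≤ WithZero.exp (-2 : ℤ) := by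
      intro i
      by_contra hi
      push Not at hi
      have h1 : P.1 (x i - algebraMap k K (b i)) = WithZero.exp (-1 : ℤ) := by
        refine le_antisymm (ff_lt_one_iff.mp (hb i)) ?_
        by_contra hlt
        push Not at hlt
        rw [ff_lt_exp_iff] at hlt
        exact absurd hlt (not_le.mpr (by simpa using hi))
      refine hcon (φ i - b i • φ j) ?_ ?_
      · exact Submodule.sub_mem _ (Submodule.subset_span ⟨i, rfl⟩)
          (Submodule.smul_mem _ _ (Submodule.subset_span ⟨j, rfl⟩))
      · have : φ i - b i • φ j = (x i - algebraMap k K (b i)) * φ j := by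
          rw [hx, Algebra.smul_def, sub_mul, div_mul_cancel₀ _ hj0]
        rw [this, map_mul, h1, hj1, mul_one]
    have htay := ff_taylor_mod_sq P x b hb G
    have hsum : P.1 (∑ i, algebraMap k K (MvPolynomial.eval b (MvPolynomial.pderiv i G)) *
        (x i - algebraMap k K (b i))) ≤ WithZero.exp (-2 : ℤ) := by
      refine P.1.map_sum_le fun i _ => ?_
      rw [map_mul]
      calc P.1 (algebraMap k K _) * P.1 (x i - algebraMap k K (b i))
          ≤ 1 * WithZero.exp (-2 : ℤ) := mul_le_mul' (P.2.1 _) (hall i)
        _ = WithZero.exp (-2 : ℤ) := one_mul _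
    have h2 : P.1 (MvPolynomial.aeval x G - algebraMap k K (MvPolynomial.eval b G)) ≤
        WithZero.exp (-2 : ℤ) := by
      have := (P.1.map_add _ _).trans (max_le htay hsum)
      rwa [sub_add_cancel] at this
    have hlt1 : P.1 (MvPolynomial.aeval x G - algebraMap k K (MvPolynomial.eval b G)) < 1 :=
      lt_of_le_of_lt h2 (by rw [← WithZero.exp_zero, WithZero.exp_lt_exp]; norm_num)
    have h0 : MvPolynomial.eval b G = 0 := (ff_val_lt_one_iff_const_zero P hlt1).mp (by
      rw [huv, ← WithZero.exp_zero, WithZero.exp_lt_exp]; norm_num)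
    rw [h0, map_zero, sub_zero, huv, WithZero.exp_le_exp] at h2
    omega
  · rintro ⟨t, htS, ht⟩
    have hmax : ∀ i, P.1 (φ i) ≤ P.1 (φ j₀) := fun i => by rw [hj₀]; exact hnorm i
    have hj0 : φ j₀ ≠ 0 := hne j₀ hj₀
    refine ⟨t, ⟨j₀, hj0, hmax, t / φ j₀, ff_div_mem_adjoin_of_mem_span φ (φ j₀) htS,
      1 / φ j₀, ff_div_mem_adjoin_of_mem_span φ (φ j₀) heff, ?_, ?_⟩, ht⟩
    · rw [map_div₀, map_one, hj₀, div_one]
    · rw [mul_one_div]

theorem ff_aeval_smul_of_isHomogeneous' {ι : Type*} [Fintype ι] (g : MvPolynomial ι k) {d : ℕ}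
    (hg : g.IsHomogeneous d) (a : K) (x : ι → K) :
    MvPolynomial.aeval (fun i => a * x i) g = a ^ d * MvPolynomial.aeval x g := by
  rw [MvPolynomial.aeval_def, MvPolynomial.eval₂_eq', MvPolynomial.aeval_def,
    MvPolynomial.eval₂_eq', Finset.mul_sum]
  refine Finset.sum_congr rfl fun m hm => ?_
  have hd : d = ∑ i, m i := by
    rw [hg.degree_eq_sum_deg_support hm]
    exact Finset.sum_subset (Finset.subset_univ _) (fun i _ hi => by simpa using hi)
  simp_rw [mul_pow]
  rw [Finset.prod_mul_distrib, Finset.prod_pow_eq_pow_sum, ← hd]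
  ring

/-- S11074: the linear form with coefficients the partial derivatives of `f` at the image point
of `P` vanishes to order at least two at `P` (Taylor expansion + Euler's identity). -/
theorem ff_tangent_line [IsAlgClosed k] (hK : IsFunctionField k K) {ι : Type*} [Fintype ι]
    (φ : ι → K) (f : MvPolynomial ι k) (hhom : f.IsHomogeneous f.totalDegree)
    (hfφ : MvPolynomial.aeval φ f = 0) (P : Place k K) (j : ι)
    (a : ι → P.O) (ha : ∀ i, ((a i : P.O) : K) = φ i / φ j) (c : ι → k)
    (hc : ∀ i, algebraMap k (IsLocalRing.ResidueField P.O) (c i) =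
      MvPolynomial.aeval (fun l => IsLocalRing.residue P.O (a l)) (MvPolynomial.pderiv i f)) :
    P.1 (∑ i, c i • (φ i / φ j)) ≤ WithZero.exp (-2 : ℤ) := by
  classical
  set x : ι → K := fun i => φ i / φ j with hx
  have hx1 : ∀ i, P.1 (x i) ≤ 1 := by
    intro i
    have := (a i).2
    rw [ha i] at this
    exact (Valuation.mem_valuationSubring_iff _ _).mp this
  choose b hb using fun i => ff_exists_const_approx hK P (hx1 i)
  -- residues of the `a l` are the constants `b l`
  have hres : ∀ l, IsLocalRing.residue P.O (a l) =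
      algebraMap k (IsLocalRing.ResidueField P.O) (b l) := by
    intro l
    have h1 : a l - algebraMap k P.O (b l) ∈ IsLocalRing.maximalIdeal P.O := by
      rw [ff_mem_maximalIdeal_iff]
      have : ((a l - algebraMap k P.O (b l) : P.O) : K) = x l - algebraMap k K (b l) := by
        rw [hx]; simp only [← ha l]; rfl
      rw [this]
      exact hb l
    have h2 := (IsLocalRing.residue_eq_zero_iff _).mpr h1
    rw [map_sub, sub_eq_zero] at h2
    rw [h2]
    rfl
  have hcb : ∀ i, c i = MvPolynomial.eval b (MvPolynomial.pderiv i f) := by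
    intro i
    apply (algebraMap k (IsLocalRing.ResidueField P.O)).injective
    rw [hc i]
    have : (fun l => IsLocalRing.residue P.O (a l)) =
        (algebraMap k (IsLocalRing.ResidueField P.O)) ∘ b := funext hres
    rw [this]
    generalize MvPolynomial.pderiv i f = g
    induction g using MvPolynomial.induction_on with
    | C c => simp
    | add p q hp hq => simp [hp, hq]
    | mul_X p i ih => simp [ih]
  -- `f` vanishes at the ratios
  have hfx : MvPolynomial.aeval x f = 0 := by
    have := ff_aeval_smul_of_isHomogeneous' f hhom (φ j)⁻¹ φ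
    rw [hfφ, mul_zero] at this
    have hxe : x = fun i => (φ j)⁻¹ * φ i := by
      funext i
      rw [inv_mul_eq_div]
    rw [hxe]
    exact this
  have htay := ff_taylor_mod_sq P x b hb f
  rw [hfx, zero_sub] at htay
  set S := ∑ i, algebraMap k K (MvPolynomial.eval b (MvPolynomial.pderiv i f)) *
    (x i - algebraMap k K (b i)) with hS
  have hSv : P.1 S < 1 := by
    rw [hS]
    refine lt_of_le_of_lt (P.1.map_sum_le (g := WithZero.exp (-1 : ℤ)) (fun l _ => ?_)) ?_
    · rw [map_mul]
      have h1 := hb l
      rw [ff_lt_one_iff] at h1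
      calc P.1 (algebraMap k K _) * P.1 (x l - algebraMap k K (b l))
          ≤ 1 * WithZero.exp (-1 : ℤ) := mul_le_mul' (P.2.1 _) h1
        _ = WithZero.exp (-1 : ℤ) := one_mul _
    · rw [← WithZero.exp_zero, WithZero.exp_lt_exp]; norm_num
  have hfb : MvPolynomial.eval b f = 0 := by
    by_contra hne
    have h1 : P.1 (algebraMap k K (MvPolynomial.eval b f)) = 1 := ff_val_const P hne
    have h2 : P.1 (-algebraMap k K (MvPolynomial.eval b f) - S) < 1 :=
      lt_of_le_of_lt htay (by rw [← WithZero.exp_zero, WithZero.exp_lt_exp]; norm_num)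
    have h3 : algebraMap k K (MvPolynomial.eval b f) =
        -(-algebraMap k K (MvPolynomial.eval b f) - S) - S := by ring
    rw [h3] at h1
    have h4 : P.1 (-(-algebraMap k K (MvPolynomial.eval b f) - S) - S) < 1 := by
      refine lt_of_le_of_lt (Valuation.map_sub _ _ _) (max_lt ?_ hSv)
      rwa [Valuation.map_neg]
    rw [h1] at h4
    exact lt_irrefl _ h4
  rw [hfb, map_zero, neg_zero, zero_sub, Valuation.map_neg] at htay
  -- Euler's identity
  have heuler : ∑ i, b i * MvPolynomial.eval b (MvPolynomial.pderiv i f) = 0 := by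
    have := congrArg (MvPolynomial.eval b) hhom.sum_X_mul_pderiv
    rw [map_sum, map_nsmul, hfb, smul_zero] at this
    simpa using this
  have hfinal : ∑ i, c i • (φ i / φ j) = S := by
    have h1 : ∑ i, c i • (φ i / φ j) = S + algebraMap k K
        (∑ i, b i * MvPolynomial.eval b (MvPolynomial.pderiv i f)) := by
      rw [hS, map_sum, ← Finset.sum_add_distrib]
      refine Finset.sum_congr rfl fun i _ => ?_
      rw [hcb i, Algebra.smul_def, map_mul]
      ring
    rw [h1, heuler, map_zero, add_zero]
  rw [hfinal]
  exact htay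

end Groth.Agent.Lib.Helper55
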