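import Mathlib

/-! Factorization of a polynomial satisfying the functional equation
`P(X) = q^g X^{2g} P(1/(qX))` into quadratic factors `(1 - aX)(1 - a'X)`, `a a' = q`. -/

set_option autoImplicit false

open Polynomial

namespace Groth.Agent.Lib.Helper55.QPal

variable (q : ℂ)

/-- `T n P = X^n P(1/(qX))`. -/
noncomputable def T (n : ℕ) (P : ℂ[X]) : ℂ[X] := reflect n (P.comp (C q⁻¹ * X))

variable {q}

theorem natDegree_comp_le' (P : ℂ[X]) : (P.comp (C q⁻¹ * X)).natDegree ≤ P.natDegree := by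
  refine natDegree_comp_le.trans ?_
  have h1 : (C q⁻¹ * X : ℂ[X]).natDegree ≤ 1 := by
    have := natDegree_C_mul_X_pow_le (R := ℂ) q⁻¹ 1
    rwa [pow_one] at this
  calc P.natDegree * (C q⁻¹ * X).natDegree ≤ P.natDegree * 1 := Nat.mul_le_mul_left _ h1
    _ = P.natDegree := mul_one _

theorem T_mul {f g : ℂ[X]} {F G : ℕ} (hf : f.natDegree ≤ F) (hg : g.natDegree ≤ G) :
    T q (F + G) (f * g) = T q F f * T q G g := by
  unfold T
  rw [mul_comp]
  exact reflect_mul _ _ ((natDegree_comp_le' f).trans hf) ((natDegree_comp_le' g).trans hg)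

theorem T_C_mul (c : ℂ) (n : ℕ) (P : ℂ[X]) : T q n (C c * P) = C c * T q n P := by
  unfold T
  rw [mul_comp, C_comp, reflect_C_mul]

theorem T_lin (a : ℂ) : T q 1 (1 - C a * X) = X - C (a * q⁻¹) := by
  unfold T
  have : (1 - C a * X : ℂ[X]).comp (C q⁻¹ * X) = 1 - C (a * q⁻¹) * X ^ 1 := by
    rw [sub_comp, one_comp, mul_comp, C_comp, X_comp, pow_one, C_mul, mul_assoc]
  rw [this, reflect_sub, reflect_one, reflect_C_mul_X_pow, revAt_le le_rfl, Nat.sub_self,
    pow_zero, mul_one, pow_one]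

theorem T_lin' (hq : q ≠ 0) {a : ℂ} (ha : a ≠ 0) :
    T q 1 (1 - C a * X) = C (-(a * q⁻¹)) * (1 - C (q / a) * X) := by
  rw [T_lin, mul_sub, mul_one, ← mul_assoc, ← C_mul]
  have : -(a * q⁻¹) * (q / a) = -1 := by field_simp
  rw [this, C_neg, C_neg, C_1]
  ring

theorem T_eval {n : ℕ} {P : ℂ[X]} (hP : P.natDegree ≤ n) {x : ℂ} (hx : x ≠ 0) :
    (T q n P).eval x = x ^ n * P.eval (q⁻¹ * x⁻¹) := by
  unfold T
  let _ : Invertible x⁻¹ := invertibleOfNonzero (inv_ne_zero hx)
  have h := eval₂_reflect_mul_pow (RingHom.id ℂ) x⁻¹ n (P.comp (C q⁻¹ * X))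
    ((natDegree_comp_le' P).trans hP)
  rw [invOf_eq_inv, inv_inv] at h
  simp only [eval₂_id] at h
  have h2 : (P.comp (C q⁻¹ * X)).eval x⁻¹ = P.eval (q⁻¹ * x⁻¹) := by
    rw [eval_comp, eval_mul, eval_C, eval_X]
  rw [h2] at h
  rw [← h]
  have hx' : x ^ n * x⁻¹ ^ n = 1 := by rw [← mul_pow, mul_inv_cancel₀ hx, one_pow]
  generalize eval x (reflect n (P.comp (C q⁻¹ * X))) = y
  calc y = y * (x ^ n * x⁻¹ ^ n) := by rw [hx', mul_one]
    _ = x ^ n * (y * x⁻¹ ^ n) := by ring

/-- If `b⁻¹` is a root of `F`, then `1 - bX` divides `F`. -/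
theorem exists_factor {F : ℂ[X]} {b : ℂ} (hb : b ≠ 0) (h : F.eval b⁻¹ = 0) :
    ∃ F₂ : ℂ[X], F = (1 - C b * X) * F₂ := by
  obtain ⟨R, hR⟩ := dvd_iff_isRoot.mpr (show F.IsRoot b⁻¹ from h)
  refine ⟨C (-b⁻¹) * R, ?_⟩
  rw [hR, ← mul_assoc]
  congr 1
  rw [sub_mul, one_mul, mul_comm (C b * X), ← mul_assoc, ← C_mul]
  have : -b⁻¹ * b = -1 := by field_simp
  rw [this, C_neg, C_neg, C_1]
  ring

theorem natDegree_lin {b : ℂ} (hb : b ≠ 0) : (1 - C b * X : ℂ[X]).natDegree = 1 := by
  have : (1 - C b * X : ℂ[X]) = C (-b) * X + C 1 := by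
    rw [C_neg, C_1]; ring
  rw [this]
  exact natDegree_linear (neg_ne_zero.mpr hb)

theorem lin_ne_zero (b : ℂ) : (1 - C b * X : ℂ[X]) ≠ 0 := by
  intro h
  have := congrArg (fun p : ℂ[X] => p.coeff 0) h
  simp at this

theorem qpal_factor (hq : q ≠ 0) : ∀ (g : ℕ) (P : ℂ[X]), P.natDegree = 2 * g → P.coeff 0 = 1 →
    C (q ^ g) * T q (2 * g) P = P →
    ∃ a a' : Fin g → ℂ, (∀ j, a j * a' j = q) ∧
      P = ∏ j, ((1 - C (a j) * X) * (1 - C (a' j) * X)) := by
  intro g
  induction g with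
  | zero =>
    intro P hdeg h0 _
    refine ⟨Fin.elim0, Fin.elim0, fun j => j.elim0, ?_⟩
    rw [Finset.univ_eq_empty, Finset.prod_empty, eq_C_of_natDegree_eq_zero hdeg, h0, C_1]
  | succ g ih =>
    intro P hdeg h0 hFE
    have hP0 : P ≠ 0 := by
      intro h; rw [h, coeff_zero] at h0; exact zero_ne_one h0
    -- a root
    have hdeg' : P.degree ≠ 0 := by
      rw [degree_eq_natDegree hP0, hdeg]
      exact_mod_cast (by omega : 2 * (g + 1) ≠ 0)
    obtain ⟨ρ, hρ⟩ := IsAlgClosed.exists_root P hdeg'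
    have hρ0 : ρ ≠ 0 := by
      rintro rfl
      rw [IsRoot.def, ← coeff_zero_eq_eval_zero, h0] at hρ
      exact one_ne_zero hρ
    obtain ⟨a, ha⟩ : ∃ a : ℂ, a = ρ⁻¹ := ⟨_, rfl⟩
    have ha0 : a ≠ 0 := by rw [ha]; exact inv_ne_zero hρ0
    obtain ⟨a', ha'⟩ : ∃ a' : ℂ, a' = q / a := ⟨_, rfl⟩
    have ha'0 : a' ≠ 0 := by rw [ha']; exact div_ne_zero hq ha0
    have haa' : a * a' = q := by rw [ha']; field_simp
    obtain ⟨P₂, hP₂⟩ := exists_factor (F := P) ha0 (by rw [ha, inv_inv]; exact hρ)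
    have hP₂0 : P₂ ≠ 0 := by
      rintro rfl; rw [mul_zero] at hP₂; exact hP0 hP₂
    have hdeg₂ : P₂.natDegree = 2 * g + 1 := by
      have := natDegree_mul (lin_ne_zero a) hP₂0
      rw [← hP₂, hdeg, natDegree_lin ha0] at this
      omega
    -- the functional equation for `P₂`
    have hstar : (1 - C a * X) * P₂ =
        C (-(a * q ^ g)) * ((1 - C a' * X) * T q (2 * g + 1) P₂) := by
      have h1 : T q (2 * (g + 1)) P = T q 1 (1 - C a * X) * T q (2 * g + 1) P₂ := by
        rw [hP₂, show 2 * (g + 1) = 1 + (2 * g + 1) by ring]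
        exact T_mul (natDegree_lin ha0).le hdeg₂.le
      rw [← hP₂]
      conv_lhs => rw [← hFE]
      rw [h1, T_lin' hq ha0, ← ha', ← mul_assoc, ← mul_assoc, ← C_mul, mul_assoc]
      congr 2
      rw [pow_succ]
      field_simp
    -- `1 - a' X` divides `P₂`
    have hroot₂ : P₂.eval a'⁻¹ = 0 := by
      by_cases hne : a = a'
      · -- double root
        have hcancel : P₂ = C (-(a * q ^ g)) * T q (2 * g + 1) P₂ := by
          have := hstar
          rw [← hne, ← mul_assoc, mul_comm (C (-(a * q ^ g))) (1 - C a * X), mul_assoc] at this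
          exact mul_left_cancel₀ (lin_ne_zero a) this
        have hev := congrArg (fun p : ℂ[X] => p.eval a⁻¹) hcancel
        simp only [eval_mul, eval_C] at hev
        rw [T_eval hdeg₂.le (inv_ne_zero ha0), inv_inv] at hev
        have haq : a * a = q := by nth_rewrite 2 [hne]; exact haa'
        have h1 : q⁻¹ * a = a⁻¹ := by
          rw [← haq]; field_simp
        rw [h1] at hev
        have h2 : -(a * q ^ g) * (a⁻¹ ^ (2 * g + 1)) = -1 := by
          rw [← haq, pow_succ, pow_mul, inv_pow, inv_pow]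
          field_simp
        rw [← mul_assoc, h2] at hev
        rw [← hne]
        linear_combination (1 / 2 : ℂ) * hev
      · have hev := congrArg (fun p : ℂ[X] => p.eval a'⁻¹) hstar
        simp only [eval_mul, eval_sub, eval_one, eval_C, eval_X] at hev
        rw [mul_inv_cancel₀ ha'0, sub_self, zero_mul, mul_zero] at hev
        have hne' : 1 - a * a'⁻¹ ≠ 0 := by
          intro h
          apply hne
          field_simp at h
          linear_combination -h
        exact (mul_eq_zero.mp hev).resolve_left hne'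
    obtain ⟨P₃, hP₃⟩ := exists_factor (F := P₂) ha'0 hroot₂
    have hP₃0 : P₃ ≠ 0 := by
      rintro rfl; rw [mul_zero] at hP₃; exact hP₂0 hP₃
    have hdeg₃ : P₃.natDegree = 2 * g := by
      have := natDegree_mul (lin_ne_zero a') hP₃0
      rw [← hP₃, hdeg₂, natDegree_lin ha'0] at this
      omega
    have hc₃ : P₃.coeff 0 = 1 := by
      have := congrArg (fun p : ℂ[X] => p.coeff 0) hP₂
      simp only [mul_coeff_zero, h0] at this
      rw [hP₃] at this
      simp only [mul_coeff_zero, coeff_sub, coeff_one_zero, coeff_X_zero, mul_zero,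
        sub_zero, one_mul] at this
      exact this.symm
    set E : ℂ[X] := (1 - C a * X) * (1 - C a' * X) with hE
    have hE0 : E ≠ 0 := mul_ne_zero (lin_ne_zero a) (lin_ne_zero a')
    have hPE : P = E * P₃ := by rw [hP₂, hP₃, hE, mul_assoc]
    have hTE : T q 2 E = C q⁻¹ * E := by
      rw [hE, show (2 : ℕ) = 1 + 1 from rfl, T_mul (natDegree_lin ha0).le (natDegree_lin ha'0).le,
        T_lin' hq ha0, T_lin' hq ha'0, ← ha']
      have h1 : q / a' = a := by rw [ha']; field_simp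
      rw [h1]
      have h2 : (-(a * q⁻¹)) * (-(a' * q⁻¹)) = q⁻¹ := by
        rw [← haa']; field_simp
      have h2' : (C q⁻¹ : ℂ[X]) = C (-(a * q⁻¹)) * C (-(a' * q⁻¹)) := by rw [← C_mul, h2]
      rw [h2']
      ring
    have hFE₃ : C (q ^ g) * T q (2 * g) P₃ = P₃ := by
      have h1 : T q (2 * (g + 1)) P = T q 2 E * T q (2 * g) P₃ := by
        rw [hPE, show 2 * (g + 1) = 2 + 2 * g by ring]
        refine T_mul ?_ hdeg₃.le
        rw [hE, natDegree_mul (lin_ne_zero a) (lin_ne_zero a'), natDegree_lin ha0,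
          natDegree_lin ha'0]
      have h2 := hFE
      rw [h1, hTE] at h2
      rw [hPE] at h2
      have h3 : E * (C (q ^ g) * T q (2 * g) P₃) = E * P₃ := by
        rw [← h2, pow_succ, C_mul]
        have : (C q * C q⁻¹ : ℂ[X]) = 1 := by rw [← C_mul, mul_inv_cancel₀ hq, C_1]
        calc E * (C (q ^ g) * T q (2 * g) P₃)
            = (C q * C q⁻¹) * (E * (C (q ^ g) * T q (2 * g) P₃)) := by rw [this, one_mul]
          _ = _ := by ring
      exact mul_left_cancel₀ hE0 h3
    obtain ⟨b, b', hbb', hprod⟩ := ih P₃ hdeg₃ hc₃ hFE₃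
    refine ⟨Fin.cons a b, Fin.cons a' b', ?_, ?_⟩
    · intro j
      refine Fin.cases ?_ (fun i => ?_) j
      · simp only [Fin.cons_zero]; exact haa'
      · simp only [Fin.cons_succ]; exact hbb' i
    · rw [Fin.prod_univ_succ]
      simp only [Fin.cons_zero, Fin.cons_succ]
      rw [← hprod, hPE]

theorem qpal_alpha (hq : q ≠ 0) (g : ℕ) (P : ℂ[X]) (hdeg : P.natDegree = 2 * g)
    (h0 : P.coeff 0 = 1) (hFE : C (q ^ g) * T q (2 * g) P = P) :
    ∃ α : Fin (2 * g) → ℂ, P = ∏ i, (1 - C (α i) * X) ∧ ∀ i, α i * α (Fin.rev i) = q := by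
  obtain ⟨a, a', haa', hP⟩ := qpal_factor hq g P hdeg h0 hFE
  refine ⟨fun i => Fin.append a (a' ∘ Fin.rev) (Fin.cast (two_mul g) i), ?_, ?_⟩
  · rw [hP]
    have h1 : ∏ i : Fin (2 * g), (1 - C (Fin.append a (a' ∘ Fin.rev) (Fin.cast (two_mul g) i)) * X) =
        ∏ j : Fin (g + g), (1 - C (Fin.append a (a' ∘ Fin.rev) j) * X) :=
      Fintype.prod_equiv (finCongr (two_mul g)) _ _ (fun i => rfl)
    rw [h1, Fin.prod_univ_add]
    simp only [Fin.append_left, Fin.append_right, Function.comp_apply]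
    rw [Finset.prod_mul_distrib]
    congr 1
    exact (Equiv.prod_comp Fin.revPerm (fun i => (1 - C (a' i) * X : ℂ[X]))).symm
  · intro i
    by_cases hi : (i : ℕ) < g
    · have e1 : Fin.cast (two_mul g) i = Fin.castAdd g ⟨i, hi⟩ := Fin.ext rfl
      have e2 : Fin.cast (two_mul g) (Fin.rev i) = Fin.natAdd g (Fin.rev ⟨i, hi⟩) := by
        apply Fin.ext
        simp only [Fin.val_cast, Fin.val_rev, Fin.val_natAdd]
        omega
      simp only [e1, e2, Fin.append_left, Fin.append_right, Function.comp_apply, Fin.rev_rev]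
      exact haa' _
    · have hi2 := i.2
      have e1 : Fin.cast (two_mul g) i = Fin.natAdd g ⟨i - g, by omega⟩ := by
        apply Fin.ext
        simp only [Fin.val_cast, Fin.val_natAdd]
        omega
      have e2 : Fin.cast (two_mul g) (Fin.rev i) =
          Fin.castAdd g (Fin.rev ⟨i - g, by omega⟩) := by
        apply Fin.ext
        simp only [Fin.val_cast, Fin.val_rev, Fin.val_castAdd]
        omega
      simp only [e1, e2, Fin.append_left, Fin.append_right, Function.comp_apply]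
      rw [mul_comm]
      exact haa' _

end Groth.Agent.Lib.Helper55.QPal
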