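import Mathlib.Analysis.Complex.Basic
import Mathlib.Analysis.SpecialFunctions.Pow.Real
import Mathlib.Algebra.Polynomial.Roots
import Mathlib.Analysis.SpecificLimits.Basic
import Mathlib.Algebra.BigOperators.Field

/-! The analytic step in the proof of the Riemann hypothesis for function fields: bounded power
sums force the numbers to lie in the unit disc. -/

set_option autoImplicit false

open Polynomial

namespace Groth.Agent.Lib.Helper55

/-- If the power sums `∑ βᵢ^j` are bounded for `j ≥ j₀`, then `|βᵢ| ≤ 1`. -/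
theorem rh_norm_le_one {ι : Type*} [Fintype ι] (β : ι → ℂ) (C₀ : ℝ) (j₀ : ℕ)
    (h : ∀ j, j₀ ≤ j → ‖∑ i, β i ^ j‖ ≤ C₀) : ∀ i, ‖β i‖ ≤ 1 := by
  classical
  intro i₀
  by_contra hlt
  push Not at hlt
  set b := β i₀ with hb
  set A : ℂ[X] := ∏ i ∈ Finset.univ.filter (fun i => β i ≠ b), (X - C (β i)) with hA
  have hAb : A.eval b ≠ 0 := by
    rw [hA, eval_prod, Finset.prod_ne_zero_iff]
    intro i hi
    rw [Finset.mem_filter] at hi
    rw [eval_sub, eval_X, eval_C]
    exact sub_ne_zero.2 (Ne.symm hi.2)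
  have hAroot : ∀ i, β i ≠ b → A.eval (β i) = 0 := by
    intro i hi
    rw [hA, eval_prod]
    apply Finset.prod_eq_zero (Finset.mem_filter.2 ⟨Finset.mem_univ i, hi⟩)
    rw [eval_sub, eval_X, eval_C, sub_self]
  set m := (Finset.univ.filter (fun i => β i = b)).card with hm
  have hm1 : 1 ≤ m := Finset.card_pos.2 ⟨i₀, Finset.mem_filter.2 ⟨Finset.mem_univ _, rfl⟩⟩
  have hkey : ∀ j : ℕ, ∑ l ∈ Finset.range (A.natDegree + 1), A.coeff l * ∑ i, β i ^ (j + l) =
      (m : ℂ) * b ^ j * A.eval b := by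
    intro j
    have h1 : ∑ l ∈ Finset.range (A.natDegree + 1), A.coeff l * ∑ i, β i ^ (j + l) =
        ∑ i, β i ^ j * A.eval (β i) := by
      simp_rw [Finset.mul_sum]
      rw [Finset.sum_comm]
      refine Finset.sum_congr rfl fun i _ => ?_
      rw [eval_eq_sum_range, Finset.mul_sum]
      refine Finset.sum_congr rfl fun l _ => ?_
      rw [pow_add]; ring
    rw [h1, ← Finset.sum_filter_add_sum_filter_not Finset.univ (fun i => β i = b)]
    have h2 : ∑ i ∈ Finset.univ.filter (fun i => ¬ β i = b), β i ^ j * A.eval (β i) = 0 := by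
      apply Finset.sum_eq_zero
      intro i hi
      rw [Finset.mem_filter] at hi
      rw [hAroot i hi.2, mul_zero]
    have h3 : ∑ i ∈ Finset.univ.filter (fun i => β i = b), β i ^ j * A.eval (β i) =
        (m : ℂ) * b ^ j * A.eval b := by
      rw [Finset.sum_congr rfl (fun i hi => by rw [(Finset.mem_filter.1 hi).2]),
        Finset.sum_const, nsmul_eq_mul, hm]
      ring
    rw [h2, h3, add_zero]
  set C' : ℝ := ∑ l ∈ Finset.range (A.natDegree + 1), ‖A.coeff l‖ * C₀ with hC'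
  have hbound : ∀ j, j₀ ≤ j → (m : ℝ) * ‖b‖ ^ j * ‖A.eval b‖ ≤ C' := by
    intro j hj
    have h1 := congrArg norm (hkey j)
    rw [norm_mul, norm_mul, norm_pow, Complex.norm_natCast] at h1
    rw [← h1]
    refine (norm_sum_le _ _).trans ?_
    refine Finset.sum_le_sum fun l _ => ?_
    rw [norm_mul]
    exact mul_le_mul_of_nonneg_left (h (j + l) (by omega)) (norm_nonneg _)
  have hpos : 0 < (m : ℝ) * ‖A.eval b‖ := by
    apply mul_pos
    · exact_mod_cast hm1
    · exact norm_pos_iff.2 hAb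
  obtain ⟨j, hj⟩ := pow_unbounded_of_one_lt (C' / ((m : ℝ) * ‖A.eval b‖)) hlt
  have hj' : ‖b‖ ^ j ≤ ‖b‖ ^ (max j j₀) := pow_le_pow_right₀ hlt.le (le_max_left _ _)
  have h1 := hbound (max j j₀) (le_max_right _ _)
  have h2 : C' / ((m : ℝ) * ‖A.eval b‖) < ‖b‖ ^ (max j j₀) := lt_of_lt_of_le hj hj'
  rw [div_lt_iff₀ hpos] at h2
  nlinarith

/-- From two-sided bounds on the power sums along an arithmetic progression to a bound on the
absolute values. -/
theorem rh_roots_le (Q : ℝ) (hQ : 0 < Q) {ι : Type*} [Fintype ι] (α : ι → ℂ) (C : ℝ) (M r₀ : ℕ)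
    (hM : 0 < M) (h : ∀ r, M ∣ r → r₀ ≤ r → ‖∑ i, α i ^ r‖ ≤ C * Q ^ r) : ∀ i, ‖α i‖ ≤ Q := by
  have hQc : (Q : ℂ) ≠ 0 := by exact_mod_cast hQ.ne'
  have hβ := rh_norm_le_one (fun i => α i ^ M / (Q : ℂ) ^ M) C r₀ (by
    intro j hj
    have h1 : ∑ i, (α i ^ M / (Q : ℂ) ^ M) ^ j = (∑ i, α i ^ (M * j)) / (Q : ℂ) ^ (M * j) := by
      rw [Finset.sum_div]
      refine Finset.sum_congr rfl fun i _ => ?_
      rw [div_pow, ← pow_mul, ← pow_mul]
    rw [h1, norm_div, norm_pow, Complex.norm_real, Real.norm_of_nonneg hQ.le,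
      div_le_iff₀ (pow_pos hQ _)]
    apply h (M * j) (Dvd.intro _ rfl)
    calc r₀ ≤ j := hj
      _ ≤ M * j := Nat.le_mul_of_pos_left j hM)
  intro i
  have h1 := hβ i
  rw [norm_div, norm_pow, norm_pow, Complex.norm_real, Real.norm_of_nonneg hQ.le,
    div_le_one (pow_pos hQ _)] at h1
  exact (pow_le_pow_iff_left₀ (norm_nonneg _) hQ.le hM.ne').1 h1

end Groth.Agent.Lib.Helper55
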