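import Groth.Agent.Lib.Helper55.FunFld.RHReduce

/-! The Riemann hypothesis for function fields and the Hasse–Weil bound (S11041, S11042). -/

set_option autoImplicit false
set_option linter.unusedSectionVars false

open FunFld Module

namespace Groth.Agent.Lib.Helper55

variable {k K : Type*} [Field k] [Field K] [Algebra k K]

/-- RH: the reciprocal roots of `L_K` have absolute value `√q`. -/
theorem ff_rh [Finite k] (hK : IsFunctionField k K) :
    ∃ α : Fin (2 * genus k K) → ℂ,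
      PowerSeries.map (Int.castRingHom ℂ) (numerZ k K) =
        ((∏ i, (1 - Polynomial.C (α i) * Polynomial.X) : Polynomial ℂ) : PowerSeries ℂ) ∧
      ∀ i, ‖α i‖ = Real.sqrt (Nat.card k) := by
  obtain ⟨α, -, hα, hpair⟩ := numerZ_roots hK
  refine ⟨α, hα, fun i => ?_⟩
  have hle := ff_rh_le hK α hα
  have hq : (0 : ℝ) < Nat.card k := by
    have : 0 < Nat.card k := Nat.card_pos
    exact_mod_cast this
  have hsq : 0 < Real.sqrt (Nat.card k) := Real.sqrt_pos.2 hq
  have h1 : ‖α i‖ * ‖α (Fin.rev i)‖ = (Nat.card k : ℝ) := by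
    rw [← norm_mul, hpair i]
    exact Complex.norm_natCast _
  have h2 : Real.sqrt (Nat.card k) * Real.sqrt (Nat.card k) = (Nat.card k : ℝ) :=
    Real.mul_self_sqrt hq.le
  apply le_antisymm (hle i)
  by_contra hlt
  push Not at hlt
  have h3 : ‖α i‖ * ‖α (Fin.rev i)‖ < Real.sqrt (Nat.card k) * Real.sqrt (Nat.card k) := by
    calc ‖α i‖ * ‖α (Fin.rev i)‖ ≤ ‖α i‖ * Real.sqrt (Nat.card k) :=
          mul_le_mul_of_nonneg_left (hle _) (norm_nonneg _)
      _ < Real.sqrt (Nat.card k) * Real.sqrt (Nat.card k) := mul_lt_mul_of_pos_right hlt hsq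
  rw [h1, h2] at h3
  exact lt_irrefl _ h3

/-- S11041. -/
theorem ff_rh_root [Finite k] (hK : IsFunctionField k K) (p : Polynomial ℤ)
    (hp : (p : PowerSeries ℤ) = numerZ k K) (z : ℂ)
    (hz : (p.map (Int.castRingHom ℂ)).IsRoot z) :
    ‖z‖ ^ 2 * (Nat.card k : ℝ) = 1 := by
  obtain ⟨α, hα, hn⟩ := ff_rh hK
  have hpoly : p.map (Int.castRingHom ℂ) = ∏ i, (1 - Polynomial.C (α i) * Polynomial.X) := by
    apply Polynomial.coe_injective
    rw [Polynomial.polynomial_map_coe, hp, hα]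
  rw [hpoly, Polynomial.IsRoot, Polynomial.eval_prod, Finset.prod_eq_zero_iff] at hz
  obtain ⟨i, -, hi⟩ := hz
  rw [Polynomial.eval_sub, Polynomial.eval_one, Polynomial.eval_mul, Polynomial.eval_C,
    Polynomial.eval_X, sub_eq_zero] at hi
  have h1 : ‖α i‖ * ‖z‖ = 1 := by rw [← norm_mul, ← hi, norm_one]
  have hq : (0 : ℝ) ≤ Nat.card k := Nat.cast_nonneg _
  have h2 : ‖α i‖ ^ 2 = (Nat.card k : ℝ) := by rw [hn i, Real.sq_sqrt hq]
  rw [← h2, ← mul_pow, mul_comm, h1, one_pow]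

/-- S11042. -/
theorem ff_hasse_weil [Finite k] (hK : IsFunctionField k K) :
    |(Nat.card {P : Place k K // P.deg = 1} : ℝ) - (Nat.card k : ℝ) - 1| ≤
      2 * (genus k K : ℝ) * Real.sqrt (Nat.card k : ℝ) := by
  obtain ⟨α, hα, hn⟩ := ff_rh hK
  have h1 := ffN_eq_of_roots hK α hα one_pos
  rw [ffN_one hK] at h1
  simp only [pow_one] at h1
  have h2 : (((Nat.card {P : Place k K // P.deg = 1} : ℝ) - (Nat.card k : ℝ) - 1 : ℝ) : ℂ) =
      -∑ i, α i := by
    push_cast
    rw [h1]; ring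
  have h3 : |(Nat.card {P : Place k K // P.deg = 1} : ℝ) - (Nat.card k : ℝ) - 1| =
      ‖∑ i, α i‖ := by
    rw [← norm_neg (∑ i, α i), ← h2, Complex.norm_real, Real.norm_eq_abs]
  rw [h3]
  calc ‖∑ i, α i‖ ≤ ∑ i, ‖α i‖ := norm_sum_le _ _
    _ = ∑ _i : Fin (2 * genus k K), Real.sqrt (Nat.card k) :=
        Finset.sum_congr rfl fun i _ => hn i
    _ = 2 * (genus k K : ℝ) * Real.sqrt (Nat.card k : ℝ) := by
        rw [Finset.sum_const, Finset.card_univ, Fintype.card_fin, nsmul_eq_mul]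
        push_cast
        ring

end Groth.Agent.Lib.Helper55
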