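import Groth.Agent.Lib.Helper55.FunFld.GalCount
import Groth.Agent.Lib.Helper55.FunFld.BombieriCE
import Groth.Agent.Lib.Helper55.FunFld.RHAnalytic
import Groth.Agent.Lib.Helper63.FiniteRamified

/-! The Riemann hypothesis for a function field `K` over a finite field admitting a Galois
extension `E ⊇ K` of a rational subfield `F ⊆ K`, with `k` algebraically closed in `E`. -/

set_option autoImplicit false
set_option linter.unusedSectionVars false
set_option linter.style.haveILetI false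

open FunFld Module WithZero IsLocalRing
open Groth.Agent.Lib.Helper63.FunFldExt Groth.Agent.Lib.Helper63.FundIneq
  Groth.Agent.Lib.Helper63.Galois

namespace Groth.Agent.Lib.Helper55

section

variable {k K : Type*} [Field k] [Field K] [Algebra k K]

theorem rh_frobAt_refl_of_dvd [Finite k] (hK : IsFunctionField k K) (P : Place k K) (r : ℕ)
    (h : P.deg ∣ r) : FrobAt (AlgEquiv.refl : K ≃ₐ[k] K) (Nat.card k ^ r) P := by
  classical
  intro z hz
  rw [AlgEquiv.coe_refl, id]
  haveI := ff_finiteDimensional_residueField hK P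
  haveI : Finite (ResidueField P.O) := Module.finite_of_finite k
  letI : Fintype (ResidueField P.O) := Fintype.ofFinite _
  have hcard : Fintype.card (ResidueField P.O) = Nat.card k ^ P.deg := by
    rw [← Nat.card_eq_fintype_card]
    exact Module.natCard_eq_pow_finrank
  obtain ⟨t, ht⟩ := h
  have h1 : (residue P.O ⟨z, hz⟩) ^ (Nat.card k ^ r) = residue P.O ⟨z, hz⟩ := by
    rw [ht, pow_mul, ← hcard]
    exact FiniteField.pow_card_pow t _
  rw [← map_pow, eq_comm, ← sub_eq_zero, ← map_sub, residue_eq_zero_iff,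
    ff_mem_maximalIdeal_iff] at h1
  exact h1

end

section

variable {k F E : Type*} [Field k] [Field F] [Field E] [Algebra k F] [Algebra F E] [Algebra k E]
  [IsScalarTower k F E]

theorem rh_exists_ramified_finset [FiniteDimensional F E] [Algebra.IsSeparable F E]
    (hF : IsFunctionField k F) :
    ∃ R : Finset (Place k F), ∀ P₀ : Place k F, P₀ ∉ R → ∀ Q : Place k E, IsOver Q P₀ →
      IsOverWith Q P₀ 1 := by
  classical
  haveI : Algebra.IsAlgebraic F E := Algebra.IsAlgebraic.of_finite F E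
  have hfin := Groth.Agent.Lib.Helper63.FiniteRamified.finite_ramified (K := F) (K' := E) hF
  have hbelow : ∀ Q : Place k E, ∃ P : Place k F, IsOver Q P := fun Q =>
    exists_isOver_below (K := F) Q
  choose below hbelow' using hbelow
  refine ⟨hfin.toFinset.image below, fun P₀ hP₀ Q hQ => ?_⟩
  obtain ⟨e, he⟩ := hQ
  have hsurj : Function.Surjective (Q.1.comap (algebraMap F E)) := by
    by_contra hns
    apply hP₀
    rw [Finset.mem_image]
    refine ⟨Q, hfin.mem_toFinset.2 hns, ?_⟩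
    exact isOver_unique_below (hbelow' Q) ⟨e, he⟩
  obtain ⟨x, hx⟩ := hsurj (exp (-1))
  rw [Valuation.comap_apply, he] at hx
  have hx0 : P₀.1 x ≠ 0 := by
    intro h0
    rw [h0, zero_pow (isOverWith_ne_zero he)] at hx
    exact exp_ne_zero hx.symm
  obtain ⟨a, ha⟩ : ∃ a, P₀.1 x = exp a := ⟨log (P₀.1 x), (exp_log hx0).symm⟩
  rw [ha, ← exp_nsmul] at hx
  have h1 := exp_injective hx
  rw [nsmul_eq_mul] at h1
  have h2 : (e : ℤ) ∣ 1 := Dvd.intro (-a) (by linarith)
  have h3 : (e : ℤ) = 1 := Int.eq_one_of_dvd_one (Int.natCast_nonneg e) h2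
  have h4 : e = 1 := by exact_mod_cast h3
  rw [← h4]
  exact he

end


section Main

variable {k F K E : Type*} [Field k] [Field F] [Field K] [Field E]
  [Algebra k F] [Algebra k K] [Algebra k E] [Algebra F K] [Algebra K E] [Algebra F E]
  [IsScalarTower k F K] [IsScalarTower k K E] [IsScalarTower k F E] [IsScalarTower F K E]

/-- The Riemann hypothesis (upper bound for the reciprocal roots) in the Galois setting. -/
theorem rh_of_galois [Finite k] [FiniteDimensional F E] [IsGalois F E]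
    (hF : IsFunctionField k F) (hK : IsFunctionField k K) (hE : IsFunctionField k E)
    (hFN : ∀ r, 0 < r → ffN k F r = Nat.card k ^ r + 1)
    {ι : Type*} [Fintype ι] (α : ι → ℂ)
    (hα : PowerSeries.map (Int.castRingHom ℂ) (numerZ k K) =
      ((∏ i, (1 - Polynomial.C (α i) * Polynomial.X) : Polynomial ℂ) : PowerSeries ℂ)) :
    ∀ i, ‖α i‖ ≤ Real.sqrt (Nat.card k) := by
  classical
  have hq : 2 ≤ Nat.card k := Finite.one_lt_card
  obtain ⟨M₁, C₁, r₁, hM₁, hB₁⟩ := ff_bombieri_general hE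
  obtain ⟨M₂, C₂, r₂, hM₂, hB₂⟩ := ff_bombieri_general hK
  obtain ⟨R, hR⟩ := rh_exists_ramified_finset (E := E) hF
  haveI : FiniteDimensional K E := FiniteDimensional.right F K E
  haveI : FiniteDimensional F K := FiniteDimensional.left F K E
  set n := Module.finrank F E with hn
  set h := Module.finrank K E with hh
  have hh1 : 1 ≤ h := Module.finrank_pos
  have hhn : h ≤ n := by
    rw [hn, ← Module.finrank_mul_finrank F K E]
    exact Nat.le_mul_of_pos_left _ Module.finrank_pos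
  set ρ := ∑ P₀ ∈ R, P₀.deg with hρ
  have hqpos : (0 : ℝ) < (Nat.card k : ℝ) := by exact_mod_cast (by omega : 0 < Nat.card k)
  apply rh_roots_le (Real.sqrt (Nat.card k)) (Real.sqrt_pos.2 hqpos) α
    ((C₂ : ℝ) + n * ρ + n * C₁) (2 * M₁ * M₂) (max (max r₁ r₂) 1) (by positivity)
  intro r hMr hr₀
  have hr : 0 < r := by
    have := le_max_right (max r₁ r₂) 1
    omega
  have hr₁ : r₁ ≤ r := (le_max_left r₁ r₂).trans ((le_max_left _ 1).trans hr₀)
  have hr₂ : r₂ ≤ r := (le_max_right r₁ r₂).trans ((le_max_left _ 1).trans hr₀)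
  have hM₁r : M₁ ∣ r := Dvd.dvd.trans ⟨2 * M₂, by ring⟩ hMr
  have hM₂r : M₂ ∣ r := Dvd.dvd.trans ⟨2 * M₁, by ring⟩ hMr
  obtain ⟨s, hs⟩ : 2 ∣ r := Dvd.dvd.trans ⟨M₁ * M₂, by ring⟩ hMr
  have hr2 : r / 2 = s := by rw [hs, Nat.mul_div_cancel_left _ (by norm_num : 0 < 2)]
  have hsqrt : Real.sqrt (Nat.card k) ^ r = ((Nat.card k ^ s : ℕ) : ℝ) := by
    rw [hs, pow_mul, Real.sq_sqrt hqpos.le]
    push_cast
    rfl
  -- the number `N_r`
  have hNα := ffN_eq_of_roots hK α hα hr
  have hsum : ∑ i, α i ^ r =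
      (((1 : ℝ) + (Nat.card k : ℝ) ^ r - (ffN k K r : ℝ) : ℝ) : ℂ) := by
    push_cast
    rw [hNα]; ring
  rw [hsum, Complex.norm_real, Real.norm_eq_abs, hsqrt]
  -- upper bound
  set S₁ : Finset (Place k K) := (ff_finite_places_deg_le hK r).toFinset with hS₁
  have hS₁mem : ∀ P : Place k K, P ∈ S₁ ↔ P.deg ≤ r := by
    intro P; rw [hS₁, Set.Finite.mem_toFinset]; rfl
  have hup : ffN k K r ≤ Nat.card k ^ r + C₂ * Nat.card k ^ s := by
    have := hB₂ r hM₂r hr₂ AlgEquiv.refl (S₁.filter (fun P => P.deg ∣ r)) (fun P hP =>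
      rh_frobAt_refl_of_dvd hK P r (Finset.mem_filter.1 hP).2)
    rw [hr2] at this
    rw [ffN_eq_sum S₁ (fun P hP => (hS₁mem P).2 (Nat.le_of_dvd hr hP)), ← Finset.sum_filter]
    exact this
  -- lower bound
  have hlow := gc_count (E := E) hF hK r hr (Nat.card k ^ r + C₁ * Nat.card k ^ s)
    (fun σ T hT => by
      have := hB₁ r hM₁r hr₁ (σ.restrictScalars k) T hT
      rwa [hr2] at this) R hR
  rw [hFN r hr, ← hn, ← hh, ← hρ] at hlow
  have hup' : (ffN k K r : ℝ) ≤ (Nat.card k : ℝ) ^ r + C₂ * ((Nat.card k ^ s : ℕ) : ℝ) := by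
    exact_mod_cast hup
  have hlow' : (n : ℝ) * ((Nat.card k : ℝ) ^ r + 1) ≤ n * ρ + h * (ffN k K r : ℝ) +
      ((n : ℝ) - h) * ((Nat.card k : ℝ) ^ r + C₁ * ((Nat.card k ^ s : ℕ) : ℝ)) := by
    have := (Nat.cast_le (α := ℝ)).2 hlow
    push_cast [Nat.cast_sub hhn] at this
    push_cast
    linarith
  have hX1 : (1 : ℝ) ≤ ((Nat.card k ^ s : ℕ) : ℝ) := by
    exact_mod_cast Nat.one_le_pow _ _ (by omega)
  set X : ℝ := ((Nat.card k ^ s : ℕ) : ℝ) with hX
  set qr : ℝ := (Nat.card k : ℝ) ^ r with hqr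
  set Nr : ℝ := (ffN k K r : ℝ) with hNr
  have hnR : (0 : ℝ) ≤ n := Nat.cast_nonneg _
  have hρR : (0 : ℝ) ≤ ρ := Nat.cast_nonneg _
  have hC₁R : (0 : ℝ) ≤ C₁ := Nat.cast_nonneg _
  have hC₂R : (0 : ℝ) ≤ C₂ := Nat.cast_nonneg _
  have hhR : (1 : ℝ) ≤ h := by exact_mod_cast hh1
  have hhnR : (h : ℝ) ≤ n := by exact_mod_cast hhn
  rw [abs_le]
  constructor
  · have h1 : (0 : ℝ) ≤ (n * ρ + n * C₁) * X := by positivity
    nlinarith
  · -- h * (1 + qr - Nr) ≤ (n ρ + n C₁) X
    have h1 : (h : ℝ) * (1 + qr - Nr) ≤ ((n : ℝ) * ρ + n * C₁) * X := by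
      have h2 : ((n : ℝ) - h) * (C₁ * X) ≤ n * (C₁ * X) := by
        apply mul_le_mul_of_nonneg_right _ (by positivity)
        linarith
      have h3 : (n : ℝ) * ρ ≤ n * ρ * X := by
        have : (0 : ℝ) ≤ n * ρ := by positivity
        nlinarith
      nlinarith
    by_cases hpos : 1 + qr - Nr ≤ 0
    · have : (0 : ℝ) ≤ ((C₂ : ℝ) + n * ρ + n * C₁) * X := by positivity
      linarith
    · push Not at hpos
      have h4 : 1 + qr - Nr ≤ (h : ℝ) * (1 + qr - Nr) := by nlinarith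
      have h5 : (0 : ℝ) ≤ (C₂ : ℝ) * X := by positivity
      nlinarith

end Main

end Groth.Agent.Lib.Helper55
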