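import Groth.Agent.Lib.Helper55.FunFld.RHGalois
import Groth.Agent.Lib.Helper55.FunFld.ConstZeta
import Groth.Agent.Lib.Helper55.FunFld.AffineRing
import Groth.Agent.Lib.Helper63.ConstField
import Groth.Agent.Lib.Helper63.SepGen
import Groth.Agent.Lib.Helper63.GeometricPerfect

/-! Reduction of the Riemann hypothesis for function fields to the Galois setting. -/

set_option autoImplicit false
set_option linter.unusedSectionVars false
set_option linter.style.haveILetI false

open FunFld Module IntermediateField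
open Groth.Agent.Lib.Helper63.ConstField

namespace Groth.Agent.Lib.Helper55

section Rational

variable {k E : Type*} [Field k] [Field E] [Algebra k E]

/-- In `k(x)` the generator generates. -/
theorem rr_adjoin_gen_eq_top (x : E) :
    (k⟮AdjoinSimple.gen k x⟯ : IntermediateField k k⟮x⟯) = ⊤ := by
  apply IntermediateField.map_injective (k⟮x⟯).val
  rw [adjoin_map, Set.image_singleton, ← AlgHom.fieldRange_eq_map, fieldRange_val]
  rfl

/-- `N_r = q^r + 1` for a rational function field. -/
theorem rr_ffN_rational [Finite k] (hE : IsFunctionField k E) {x : E} (hx : Transcendental k x)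
    (r : ℕ) (hr : 0 < r) : ffN k k⟮x⟯ r = Nat.card k ^ r + 1 := by
  have hF := ff_isFunctionField_adjoin_simple hE hx
  have hgen : Transcendental k (AdjoinSimple.gen k x) := by
    intro halg
    apply hx
    have := halg.algebraMap (A := E)
    rwa [AdjoinSimple.algebraMap_gen] at this
  have hg : genus k k⟮x⟯ = 0 := by
    apply ff_genus_eq_zero_of_finrank_eq_one hF hgen
    rw [rr_adjoin_gen_eq_top, IntermediateField.finrank_top]
  obtain ⟨α, -, hα, -⟩ := numerZ_roots hF
  have h1 := ffN_eq_of_roots hF α hα hr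
  haveI : IsEmpty (Fin (2 * genus k k⟮x⟯)) := by
    rw [hg]; exact Fin.isEmpty'
  rw [Finset.univ_eq_empty, Finset.sum_empty, sub_zero] at h1
  have h2 : ((ffN k k⟮x⟯ r : ℕ) : ℂ) = ((Nat.card k ^ r + 1 : ℕ) : ℂ) := by
    rw [h1]; push_cast; ring
  exact_mod_cast h2

end Rational


section Composite

variable {k K E : Type*} [Field k] [Field K] [Field E] [Algebra k K] [Algebra K E] [Algebra k E]
  [IsScalarTower k K E]

/-- The composite `K k₁ ⊆ E`. -/
def rrK₁ (k₁ : IntermediateField k E) : IntermediateField K E :=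
  IntermediateField.adjoin K (Set.range (algebraMap k₁ E))

noncomputable instance rrAlg (k₁ : IntermediateField k E) : Algebra k₁ (rrK₁ (K := K) k₁) :=
  ((algebraMap k₁ E).codRestrict (rrK₁ (K := K) k₁)
    (fun c => IntermediateField.subset_adjoin _ _ ⟨c, rfl⟩)).toAlgebra

theorem rrAlg_coe (k₁ : IntermediateField k E) (c : k₁) :
    ((algebraMap k₁ (rrK₁ (K := K) k₁) c : rrK₁ (K := K) k₁) : E) = (c : E) := rfl

instance rrTower (k₁ : IntermediateField k E) : IsScalarTower k₁ (rrK₁ (K := K) k₁) E :=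
  IsScalarTower.of_algebraMap_eq (fun _ => rfl)

theorem rr_mem_adjoin_simple (k₁ : IntermediateField k E) {γ : k₁}
    (hγ : (k⟮γ⟯ : IntermediateField k k₁) = ⊤) (c : k₁) : (c : E) ∈ K⟮(γ : E)⟯ := by
  have hc : c ∈ (k⟮γ⟯ : IntermediateField k k₁) := by rw [hγ]; exact IntermediateField.mem_top
  induction hc using IntermediateField.adjoin_induction with
  | mem x hx =>
    rw [Set.mem_singleton_iff] at hx
    rw [hx]
    exact mem_adjoin_simple_self K _
  | algebraMap c' =>
    have : ((algebraMap k k₁ c' : k₁) : E) = algebraMap K E (algebraMap k K c') := by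
      rw [← IsScalarTower.algebraMap_apply]
      rfl
    rw [this]
    exact IntermediateField.algebraMap_mem _ _
  | add x y _ _ hx hy => exact add_mem hx hy
  | inv x _ hx => exact inv_mem hx
  | mul x y _ _ hx hy => exact mul_mem hx hy

theorem rrK₁_eq_adjoin_simple (k₁ : IntermediateField k E) {γ : k₁}
    (hγ : (k⟮γ⟯ : IntermediateField k k₁) = ⊤) : rrK₁ (K := K) k₁ = K⟮(γ : E)⟯ := by
  apply le_antisymm
  · rw [rrK₁, IntermediateField.adjoin_le_iff]
    rintro _ ⟨c, rfl⟩
    exact rr_mem_adjoin_simple k₁ hγ c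
  · rw [rrK₁]
    apply IntermediateField.adjoin.mono
    rw [Set.singleton_subset_iff]
    exact ⟨γ, rfl⟩

theorem rr_finrank [Finite k] (hKc : ∀ y : K, IsAlgebraic k y → y ∈ Set.range (algebraMap k K))
    (k₁ : IntermediateField k E) [FiniteDimensional k k₁] :
    Module.finrank K (rrK₁ (K := K) k₁) = Module.finrank k k₁ := by
  haveI : Algebra.IsSeparable k k₁ := Algebra.IsAlgebraic.isSeparable_of_perfectField
  obtain ⟨γ, hγ⟩ := Field.exists_primitive_element k k₁
  have hint : IsIntegral k γ := Algebra.IsIntegral.isIntegral γ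
  set g := minpoly k γ with hg
  have hgm : g.Monic := minpoly.monic hint
  have hgirr : Irreducible g := minpoly.irreducible hint
  have hirrK : Irreducible (g.map (algebraMap k K)) :=
    Groth.Agent.Lib.Helper63.GeometricPerfect.irreducible_map hKc hgm hgirr
  have hroot : Polynomial.aeval (γ : E) (g.map (algebraMap k K)) = 0 := by
    rw [Polynomial.aeval_map_algebraMap]
    have : Polynomial.aeval (γ : E) g = algebraMap k₁ E (Polynomial.aeval γ g) :=
      Polynomial.aeval_algebraMap_apply E γ g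
    rw [this, hg, minpoly.aeval, map_zero]
  have hmin : g.map (algebraMap k K) = minpoly K (γ : E) :=
    minpoly.eq_of_irreducible_of_monic hirrK hroot (hgm.map _)
  have hintK : IsIntegral K (γ : E) := ⟨g.map (algebraMap k K), hgm.map _, by
    rw [← Polynomial.aeval_def]; exact hroot⟩
  rw [rrK₁_eq_adjoin_simple k₁ hγ, IntermediateField.adjoin.finrank hintK, ← hmin,
    Polynomial.natDegree_map, ← IntermediateField.finrank_top', ← hγ,
    IntermediateField.adjoin.finrank hint]

theorem rr_adjoin_eq_top (k₁ : IntermediateField k E) [Algebra.IsAlgebraic k k₁] :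
    Algebra.adjoin K (Set.range (algebraMap k₁ (rrK₁ (K := K) k₁))) = ⊤ := by
  have halg : ∀ z ∈ Set.range (algebraMap k₁ E), IsAlgebraic K z := by
    rintro _ ⟨c, rfl⟩
    have h1 : IsAlgebraic k c := Algebra.IsAlgebraic.isAlgebraic c
    have h2 : IsAlgebraic k (algebraMap k₁ E c) := h1.algebraMap
    exact h2.tower_top K
  have h1 := IntermediateField.adjoin_toSubalgebra_of_isAlgebraic halg
  rw [eq_top_iff]
  rintro ⟨y, hy⟩ -
  have hy' : y ∈ Algebra.adjoin K (Set.range (algebraMap k₁ E)) := by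
    rw [← h1]; exact hy
  have key : ∀ z (hz : z ∈ Algebra.adjoin K (Set.range (algebraMap k₁ E))),
      (⟨z, by rw [rrK₁, ← IntermediateField.mem_toSubalgebra, h1]; exact hz⟩ :
        rrK₁ (K := K) k₁) ∈
        Algebra.adjoin K (Set.range (algebraMap k₁ (rrK₁ (K := K) k₁))) := by
    intro z hz
    induction hz using Algebra.adjoin_induction with
    | mem x hx =>
      obtain ⟨c, rfl⟩ := hx
      exact Algebra.subset_adjoin ⟨c, rfl⟩
    | algebraMap a => exact Subalgebra.algebraMap_mem _ a
    | add x y _ _ hx hy => exact add_mem hx hy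
    | mul x y _ _ hx hy => exact mul_mem hx hy
  exact key y hy'

/-- `K k₁` is the constant field extension of `K`. -/
theorem rr_isConstExt [Finite k] (hKc : ∀ y : K, IsAlgebraic k y → y ∈ Set.range (algebraMap k K))
    (k₁ : IntermediateField k E) [FiniteDimensional k k₁] :
    IsConstExt k K k₁ (rrK₁ (K := K) k₁) := by
  refine ⟨fun c => ?_, rr_adjoin_eq_top k₁, rr_finrank hKc k₁⟩
  apply Subtype.ext
  change algebraMap K E (algebraMap k K c) = ((algebraMap k k₁ c : k₁) : E)
  rw [← IsScalarTower.algebraMap_apply]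
  rfl

end Composite

end Groth.Agent.Lib.Helper55

namespace Groth.Agent.Lib.Helper55

section LemmaR

variable {k K E : Type*} [Field k] [Field K] [Field E] [Algebra k K] [Algebra K E] [Algebra k E]
  [IsScalarTower k K E]

/-- An intermediate field of a function field containing a transcendental element is a function
field. -/
theorem rr_isFunctionField_of_tower (hE : IsFunctionField k E) {x : K} (hx : Transcendental k x) :
    IsFunctionField k K := by
  have hxE : Transcendental k (algebraMap K E x) :=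
    (transcendental_algebraMap_iff (algebraMap K E).injective).2 hx
  refine ⟨⟨x, hx, ?_⟩, ?_⟩
  · haveI := ff_finite_of_transcendental hE hxE
    apply Module.finite_of_finrank_pos
    have h := finrank_adjoin_map (k := k) (K' := E) x
    have hpos : 0 < Module.finrank k⟮algebraMap K E x⟯ E := Module.finrank_pos
    rw [h] at hpos
    exact Nat.pos_of_mul_pos_right hpos
  · intro y hy
    obtain ⟨c, hc⟩ := hE.2 _ (hy.algebraMap (A := E))
    refine ⟨c, (algebraMap K E).injective ?_⟩
    rw [← IsScalarTower.algebraMap_apply, hc]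

theorem rr_rh_aux [Finite k] (hK : IsFunctionField k K) (k₁ : IntermediateField k E)
    [FiniteDimensional k k₁] (hE₁ : IsFunctionField k₁ E)
    {F₀ : Type*} [Field F₀] [Algebra k F₀] [Algebra F₀ K] [IsScalarTower k F₀ K]
    [Algebra F₀ E] [IsScalarTower F₀ K E] [FiniteDimensional F₀ E] [IsGalois F₀ E]
    (x₀ : F₀) (hgen : (k⟮x₀⟯ : IntermediateField k F₀) = ⊤)
    (hx : Transcendental k (algebraMap F₀ K x₀))
    {ι : Type*} [Fintype ι] (α : ι → ℂ)
    (hα : PowerSeries.map (Int.castRingHom ℂ) (numerZ k K) =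
      ((∏ i, (1 - Polynomial.C (α i) * Polynomial.X) : Polynomial ℂ) : PowerSeries ℂ)) :
    ∀ i, ‖α i‖ ≤ Real.sqrt (Nat.card k) := by
  classical
  haveI : Finite k₁ := Module.finite_of_finite k
  obtain ⟨x₁, hx₁def⟩ : ∃ x₁ : E, x₁ = algebraMap K E (algebraMap F₀ K x₀) := ⟨_, rfl⟩
  have hx₁ : Transcendental k₁ x₁ := by
    rw [← Algebra.IsAlgebraic.transcendental_iff (R := k), hx₁def]
    exact (transcendental_algebraMap_iff (algebraMap K E).injective).2 hx
  have hF₁ : IsFunctionField k₁ k₁⟮x₁⟯ := ff_isFunctionField_adjoin_simple hE₁ hx₁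
  have hFN : ∀ r, 0 < r → ffN k₁ k₁⟮x₁⟯ r = Nat.card k₁ ^ r + 1 := rr_ffN_rational hE₁ hx₁
  have hx₁K : x₁ ∈ rrK₁ (K := K) k₁ := by
    rw [hx₁def]; exact (rrK₁ (K := K) k₁).algebraMap_mem _
  have hle : ∀ y ∈ k₁⟮x₁⟯, y ∈ rrK₁ (K := K) k₁ := by
    intro y hy
    induction hy using IntermediateField.adjoin_induction with
    | mem z hz =>
      rw [Set.mem_singleton_iff] at hz
      rw [hz]; exact hx₁K
    | algebraMap c => exact IntermediateField.subset_adjoin _ _ ⟨c, rfl⟩
    | add a b _ _ ha hb => exact add_mem ha hb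
    | inv a _ ha => exact inv_mem ha
    | mul a b _ _ ha hb => exact mul_mem ha hb
  letI algFK : Algebra k₁⟮x₁⟯ (rrK₁ (K := K) k₁) :=
    ((algebraMap k₁⟮x₁⟯ E).codRestrict (rrK₁ (K := K) k₁) (fun y => hle y y.2)).toAlgebra
  haveI : IsScalarTower k₁ k₁⟮x₁⟯ (rrK₁ (K := K) k₁) :=
    IsScalarTower.of_algebraMap_eq (fun _ => rfl)
  haveI : IsScalarTower k₁⟮x₁⟯ (rrK₁ (K := K) k₁) E :=
    IsScalarTower.of_algebraMap_eq (fun _ => rfl)
  have hle0' : ∀ y ∈ (k⟮x₀⟯ : IntermediateField k F₀), algebraMap F₀ E y ∈ k₁⟮x₁⟯ := by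
    intro y hy
    induction hy using IntermediateField.adjoin_induction with
    | mem z hz =>
      rw [Set.mem_singleton_iff] at hz
      rw [hz, IsScalarTower.algebraMap_apply F₀ K E, ← hx₁def]
      exact mem_adjoin_simple_self k₁ x₁
    | algebraMap c =>
      have : algebraMap F₀ E (algebraMap k F₀ c) = algebraMap k₁ E (algebraMap k k₁ c) := by
        rw [IsScalarTower.algebraMap_apply F₀ K E, ← IsScalarTower.algebraMap_apply k F₀ K,
          ← IsScalarTower.algebraMap_apply k K E]
        rfl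
      rw [this]
      exact IntermediateField.algebraMap_mem _ _
    | add a b _ _ ha hb => rw [map_add]; exact add_mem ha hb
    | inv a _ ha => rw [map_inv₀]; exact inv_mem ha
    | mul a b _ _ ha hb => rw [map_mul]; exact mul_mem ha hb
  have hle0 : ∀ y : F₀, algebraMap F₀ E y ∈ k₁⟮x₁⟯ := fun y =>
    hle0' y (by rw [hgen]; exact IntermediateField.mem_top)
  letI algF0 : Algebra F₀ k₁⟮x₁⟯ :=
    ((algebraMap F₀ E).codRestrict k₁⟮x₁⟯ hle0).toAlgebra
  haveI : IsScalarTower F₀ k₁⟮x₁⟯ E := IsScalarTower.of_algebraMap_eq (fun _ => rfl)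
  haveI : IsGalois k₁⟮x₁⟯ E := IsGalois.tower_top_of_isGalois F₀ k₁⟮x₁⟯ E
  haveI : FiniteDimensional k₁⟮x₁⟯ E := Module.Finite.right F₀ k₁⟮x₁⟯ E
  have hx₁' : Transcendental k₁ (⟨x₁, hx₁K⟩ : rrK₁ (K := K) k₁) := by
    rw [← transcendental_algebraMap_iff (algebraMap (rrK₁ (K := K) k₁) E).injective]
    exact hx₁
  have hK₁ : IsFunctionField k₁ (rrK₁ (K := K) k₁) := rr_isFunctionField_of_tower hE₁ hx₁'
  have hα₁ := constExt_numerZ hK hK₁ (rr_isConstExt hK.2 k₁) α hα
  have key := rh_of_galois (k := k₁) (F := k₁⟮x₁⟯) (K := rrK₁ (K := K) k₁) (E := E)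
    hF₁ hK₁ hE₁ hFN _ hα₁
  intro i
  have h1 := key i
  have hc0 : Module.finrank k k₁ ≠ 0 := Module.finrank_pos.ne'
  have hcard : (Nat.card k₁ : ℝ) = (Nat.card k : ℝ) ^ Module.finrank k k₁ := by
    rw [Module.natCard_eq_pow_finrank (K := k) (V := k₁)]
    push_cast
    rfl
  rw [norm_pow, hcard] at h1
  have h2 : (‖α i‖ ^ Module.finrank k k₁) ^ 2 ≤ (Nat.card k : ℝ) ^ Module.finrank k k₁ := by
    rw [← Real.sqrt_le_sqrt_iff (by positivity), Real.sqrt_sq (by positivity)]
    exact h1
  rw [← pow_mul, mul_comm, pow_mul] at h2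
  have h3 : ‖α i‖ ^ 2 ≤ (Nat.card k : ℝ) :=
    (pow_le_pow_iff_left₀ (by positivity) (by positivity) hc0).1 h2
  exact Real.le_sqrt_of_sq_le h3

end LemmaR

end Groth.Agent.Lib.Helper55

namespace Groth.Agent.Lib.Helper55

section Final

variable {k K : Type*} [Field k] [Field K] [Algebra k K]

theorem rr_rh_aux3 [Finite k] (hK : IsFunctionField k K)
    {F₀ E : Type*} [Field F₀] [Field E] [Algebra k F₀] [Algebra F₀ K] [IsScalarTower k F₀ K]
    [Algebra K E] [Algebra F₀ E] [IsScalarTower F₀ K E] [FiniteDimensional F₀ E] [IsGalois F₀ E]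
    (x₀ : F₀) (hgen : (k⟮x₀⟯ : IntermediateField k F₀) = ⊤)
    (hx : Transcendental k (algebraMap F₀ K x₀))
    {ι : Type*} [Fintype ι] (α : ι → ℂ)
    (hα : PowerSeries.map (Int.castRingHom ℂ) (numerZ k K) =
      ((∏ i, (1 - Polynomial.C (α i) * Polynomial.X) : Polynomial ℂ) : PowerSeries ℂ)) :
    ∀ i, ‖α i‖ ≤ Real.sqrt (Nat.card k) := by
  classical
  letI : Algebra k E := ((algebraMap K E).comp (algebraMap k K)).toAlgebra
  haveI : IsScalarTower k K E := IsScalarTower.of_algebraMap_eq (fun _ => rfl)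
  haveI : FiniteDimensional K E := Module.Finite.right F₀ K E
  haveI := ff_finite_of_transcendental hK hx
  have hE₁ : IsFunctionField (algebraicClosure k E) E :=
    isFunctionField_algebraicClosure k K E hK
  have hx₁ : Transcendental (algebraicClosure k E)
      (algebraMap K E (algebraMap F₀ K x₀)) := by
    rw [← Algebra.IsAlgebraic.transcendental_iff (R := k)]
    exact (transcendental_algebraMap_iff (algebraMap K E).injective).2 hx
  haveI := finiteDimensional_adjoin_map (k := k) (K' := E) (x₀ := algebraMap F₀ K x₀)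
  haveI : FiniteDimensional k (algebraicClosure k E) :=
    (finite_of_finite_adjoin (algebraicClosure k E) hx₁).1
  exact rr_rh_aux hK (algebraicClosure k E) hE₁ x₀ hgen hx α hα

local notation "EE" F₀ => IntermediateField.normalClosure F₀ K (AlgebraicClosure K)

theorem rr_rh_aux2 [Finite k] (hK : IsFunctionField k K)
    {F₀ : Type*} [Field F₀] [Algebra k F₀] [Algebra F₀ K] [IsScalarTower k F₀ K]
    [FiniteDimensional F₀ K] [Algebra.IsSeparable F₀ K]
    (x₀ : F₀) (hgen : (k⟮x₀⟯ : IntermediateField k F₀) = ⊤)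
    (hx : Transcendental k (algebraMap F₀ K x₀))
    {ι : Type*} [Fintype ι] (α : ι → ℂ)
    (hα : PowerSeries.map (Int.castRingHom ℂ) (numerZ k K) =
      ((∏ i, (1 - Polynomial.C (α i) * Polynomial.X) : Polynomial ℂ) : PowerSeries ℂ)) :
    ∀ i, ‖α i‖ ≤ Real.sqrt (Nat.card k) := by
  classical
  haveI : Algebra.IsAlgebraic F₀ K := Algebra.IsAlgebraic.of_finite F₀ K
  haveI : IsAlgClosure F₀ (AlgebraicClosure K) := IsAlgClosure.ofAlgebraic F₀ K (AlgebraicClosure K)
  haveI : Normal F₀ (AlgebraicClosure K) := IsAlgClosure.normal F₀ (AlgebraicClosure K)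
  haveI : Normal F₀ (EE F₀) := normalClosure.normal F₀ K (AlgebraicClosure K)
  haveI : FiniteDimensional F₀ (EE F₀) :=
    normalClosure.is_finiteDimensional F₀ K (AlgebraicClosure K)
  haveI hsepf : ∀ f : K →ₐ[F₀] (AlgebraicClosure K), Algebra.IsSeparable F₀ f.fieldRange :=
    fun f => AlgEquiv.Algebra.isSeparable (AlgHom.equivFieldRange f)
  haveI : Algebra.IsSeparable F₀ (EE F₀) := by
    change Algebra.IsSeparable F₀
      (⨆ f : K →ₐ[F₀] (AlgebraicClosure K), f.fieldRange : IntermediateField F₀ (AlgebraicClosure K))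
    infer_instance
  haveI : IsGalois F₀ (EE F₀) := ⟨⟩
  exact rr_rh_aux3 hK (E := EE F₀) x₀ hgen hx α hα

/-- **The Riemann hypothesis for function fields over finite fields** (upper bound for the
reciprocal roots of the numerator of the zeta function). -/
theorem ff_rh_le [Finite k] (hK : IsFunctionField k K) {ι : Type*} [Fintype ι] (α : ι → ℂ)
    (hα : PowerSeries.map (Int.castRingHom ℂ) (numerZ k K) =
      ((∏ i, (1 - Polynomial.C (α i) * Polynomial.X) : Polynomial ℂ) : PowerSeries ℂ)) :
    ∀ i, ‖α i‖ ≤ Real.sqrt (Nat.card k) := by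
  obtain ⟨x, hx, hsep⟩ := Groth.Agent.Lib.Helper63.SepGen.exists_separating hK
    (Groth.Agent.Lib.Helper63.GeometricPerfect.isGeometric_of_perfectField hK)
  haveI := hsep
  haveI := ff_finite_of_transcendental hK hx
  exact rr_rh_aux2 hK (F₀ := k⟮x⟯) (AdjoinSimple.gen k x) (rr_adjoin_gen_eq_top x)
    (by rw [AdjoinSimple.algebraMap_gen]; exact hx) α hα

end Final

end Groth.Agent.Lib.Helper55
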