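import Groth.Agent.Lib.Helper55.FunFld.TateCanonGen

/-! Regular differentials, `δ(D)`, and the invariant differential in genus one. -/

set_option autoImplicit false

open FunFld Module LocRes

namespace Groth.Agent.Lib.Helper55

variable {k K : Type*} [Field k] [Field K] [Algebra k K]

theorem ff_finrank_span_vDiff_le (hK : IsFunctionField k K) (hg : IsGeometric k K)
    {F : Place k K → Type*} [∀ P, Field (F P)] [∀ P, Algebra k (F P)]
    (φ : ∀ P : Place k K, K →ₐ[k] LaurentSeries (F P))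
    (hφ : ∀ P : Place k K, IsExpansionAt P.1 (φ P))
    (v : K) (hv : KaehlerDifferential.D k K v ≠ 0) (D : Divisor k K) :
    finrank k (Submodule.span k {y : K | ∀ P, vDiff (φ P) y v ≤ WithZero.exp (-(D P))}) =
      finrank k (WD D) := by
  obtain ⟨W, hWc, hW⟩ := ff_exists_canonical_of_expansions hK hg hv φ hφ
  rw [ff_setOf_vDiff_le_eq_L hK hg hv φ hφ hW D, Submodule.span_eq,
    ff_finrank_WD_eq_ell hK hWc D]
  rfl

theorem ff_finrank_regularDifferentials (hK : IsFunctionField k K) (hg : IsGeometric k K)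
    {F : Place k K → Type*} [∀ P, Field (F P)] [∀ P, Algebra k (F P)]
    (φ : ∀ P : Place k K, K →ₐ[k] LaurentSeries (F P))
    (hφ : ∀ P : Place k K, IsExpansionAt P.1 (φ P))
    (x : K) (hx : KaehlerDifferential.D k K x ≠ 0) :
    finrank k (Submodule.span k {y : K | ∀ P, vDiff (φ P) y x ≤ 1}) = genus k K := by
  obtain ⟨W, hWc, hW⟩ := ff_exists_canonical_of_expansions hK hg hx φ hφ
  have h := ff_setOf_vDiff_le_eq_L hK hg hx φ hφ hW 0
  have h' : {y : K | ∀ P, vDiff (φ P) y x ≤ 1} = (L W : Set K) := by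
    rw [← sub_zero W, ← h]
    ext y
    simp
  rw [h', Submodule.span_eq]
  exact (ff_canonical_ell_deg hK hWc).1

theorem ff_genus_one_invariant_differential (hK : IsFunctionField k K) (hg : IsGeometric k K)
    (h1 : genus k K = 1)
    {F : Place k K → Type*} [∀ P, Field (F P)] [∀ P, Algebra k (F P)]
    (φ : ∀ P : Place k K, K →ₐ[k] LaurentSeries (F P))
    (hφ : ∀ P : Place k K, IsExpansionAt P.1 (φ P))
    (v : K) (hv : KaehlerDifferential.D k K v ≠ 0) :
    (∃ u : K, u ≠ 0 ∧ ∀ P, vDiff (φ P) u v = 1) ∧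
      ∀ u u' : K, u ≠ 0 → (∀ P, vDiff (φ P) u v = 1) → (∀ P, vDiff (φ P) u' v = 1) →
        ∃ c : k, u' = c • u := by
  obtain ⟨W, hWc, hW⟩ := ff_exists_canonical_of_expansions hK hg hv φ hφ
  obtain ⟨hell, hdeg⟩ := ff_canonical_ell_deg hK hWc
  rw [h1] at hell hdeg
  have hdeg0 : W.deg = 0 := by rw [hdeg]; norm_num
  constructor
  · obtain ⟨u, hu0, hu⟩ := ff_exists_ne_zero_of_ell_pos (D := W) (by rw [hell]; norm_num)
    refine ⟨u, hu0, fun P => ?_⟩
    have h2 := (ff_mem_L_iff_div hK _ hu0).mp hu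
    have h3 : (0 : Divisor k K) = W + FunFld.div k u := by
      refine ff_eq_of_le_of_deg_eq hK h2 ?_
      rw [ff_deg_zero, ff_deg_add, ff_deg_div hK u, hdeg0, add_zero]
    rw [ff_vDiff_eq_one_iff hK hg hv P (φ P) (hφ P), ← hW P, ff_val_eq_exp_neg_ord P hu0]
    congr 1
    have h4 := DFunLike.congr_fun h3 P
    rw [Finsupp.add_apply, ff_div_apply hK, Finsupp.zero_apply] at h4
    omega
  · intro u u' hu0 hu hu'
    have hval : ∀ P : Place k K, P.1 u' = P.1 u := fun P => by
      rw [(ff_vDiff_eq_one_iff hK hg hv P (φ P) (hφ P) u).mp (hu P),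
        (ff_vDiff_eq_one_iff hK hg hv P (φ P) (hφ P) u').mp (hu' P)]
    have hmem : u' * u⁻¹ ∈ L (0 : Divisor k K) := by
      rw [ff_mem_L_iff]
      intro P
      rw [map_mul, map_inv₀, hval P, Finsupp.zero_apply, WithZero.exp_zero,
        mul_inv_cancel₀ ((Valuation.ne_zero_iff _).mpr hu0)]
    rw [ff_L_zero hK, Submodule.mem_one] at hmem
    obtain ⟨c, hc⟩ := hmem
    refine ⟨c, ?_⟩
    rw [Algebra.smul_def, hc, inv_mul_cancel_right₀ hu0]

end Groth.Agent.Lib.Helper55
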