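import Mathlib

set_option autoImplicit false

namespace Groth.Agent.Lib.Helper55.ResCount

open Polynomial

variable {F : Type*} [Field F]

theorem res21 (f h : F[X]) :
    resultant f h 2 1 = f.coeff 0 * h.coeff 1 ^ 2 - f.coeff 1 * h.coeff 0 * h.coeff 1
      + f.coeff 2 * h.coeff 0 ^ 2 := by
  rw [resultant]
  have : (sylvester f h 2 1) = !![h.coeff 0, 0, f.coeff 0; h.coeff 1, h.coeff 0, f.coeff 1;
      0, h.coeff 1, f.coeff 2] := by
    ext i j
    fin_cases i <;> fin_cases j <;> simp [sylvester, Fin.addCases]
  rw [this, Matrix.det_fin_three]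
  simp
  ring

/-- polynomial with given coefficient vector -/
noncomputable def toPoly (m : ℕ) (v : Fin m → F) : F[X] := ∑ j : Fin m, C (v j) * X ^ (j : ℕ)

theorem toPoly_coeff (m : ℕ) (v : Fin m → F) (k : ℕ) :
    (toPoly m v).coeff k = if h : k < m then v ⟨k, h⟩ else 0 := by
  classical
  rw [toPoly, finsetSum_coeff]
  simp only [coeff_C_mul, coeff_X_pow]
  split_ifs with h
  · rw [Finset.sum_eq_single ⟨k, h⟩]
    · simp
    · intro j _ hj
      have : k ≠ (j : ℕ) := fun e => hj (Fin.ext e.symm)
      simp [this]
    · simp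
  · apply Finset.sum_eq_zero
    intro j _
    have : k ≠ (j : ℕ) := fun e => h (e ▸ j.2)
    simp [this]

theorem toPoly_coeff_fin (m : ℕ) (v : Fin m → F) (j : Fin m) :
    (toPoly m v).coeff (j : ℕ) = v j := by
  rw [toPoly_coeff, dif_pos j.2]

theorem natDegree_toPoly_lt (m : ℕ) (hm : 0 < m) (v : Fin m → F) : (toPoly m v).natDegree < m := by
  have : (toPoly m v).natDegree ≤ m - 1 := by
    rw [natDegree_le_iff_coeff_eq_zero]
    intro k hk
    rw [toPoly_coeff, dif_neg (by omega)]
  omega

theorem toPoly_add (m : ℕ) (v w : Fin m → F) : toPoly m (v + w) = toPoly m v + toPoly m w := by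
  simp [toPoly, add_mul, Finset.sum_add_distrib]

theorem toPoly_zero (m : ℕ) : toPoly m (0 : Fin m → F) = 0 := by
  simp [toPoly]

theorem toPoly_coeffs (m : ℕ) (P : F[X]) (hP : P.natDegree < m) :
    toPoly m (fun j : Fin m => P.coeff j) = P := by
  ext k
  rw [toPoly_coeff]
  split_ifs with h
  · rfl
  · exact (coeff_eq_zero_of_natDegree_lt (by omega)).symm

/-- counting lemma: preimages under a surjective additive map -/
theorem card_preimage {V W : Type*} [AddCommGroup V] [AddCommGroup W] [Fintype V] [Fintype W]
    (φ : V →+ W) (hφ : Function.Surjective φ) (P : W → Prop) [DecidablePred P] :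
    Fintype.card {v : V // P (φ v)} * Fintype.card W =
      Fintype.card {w : W // P w} * Fintype.card V := by
  classical
  choose s hs using hφ
  let e : V ≃ W × φ.ker :=
    { toFun := fun v => (φ v, ⟨v - s (φ v), by simp [AddMonoidHom.mem_ker, hs]⟩)
      invFun := fun x => s x.1 + x.2
      left_inv := fun v => by simp
      right_inv := fun x => by
        obtain ⟨w, ⟨k, hk⟩⟩ := x
        have hk' : φ k = 0 := hk
        ext <;> simp [hs, hk'] }
  let e2 : {v : V // P (φ v)} ≃ {w : W // P w} × φ.ker :=
    { toFun := fun v => (⟨φ v.1, v.2⟩, (e v.1).2)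
      invFun := fun x => ⟨e.symm (x.1.1, x.2), by
        have : φ (e.symm (x.1.1, x.2)) = x.1.1 := by
          have := congrArg Prod.fst (e.apply_symm_apply (x.1.1, x.2))
          exact this
        rw [this]
        exact x.1.2⟩
      left_inv := fun v => by
        apply Subtype.ext
        exact e.symm_apply_apply v.1
      right_inv := fun x => by
        obtain ⟨⟨w, hw⟩, k⟩ := x
        have h1 := e.apply_symm_apply (w, k)
        ext
        · exact congrArg Prod.fst h1
        · exact congrArg (fun z => ((z.2 : φ.ker) : V)) h1 }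
  rw [Fintype.card_congr e2, Fintype.card_congr e, Fintype.card_prod, Fintype.card_prod]
  ring

end Groth.Agent.Lib.Helper55.ResCount
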