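import Groth.Agent.Lib.Helper55.FunFld.ResCnt1

set_option autoImplicit false

namespace Groth.Agent.Lib.Helper55.ResCount

open Polynomial

variable {F : Type*} [Field F]

/-- the quadratic form evaluated "at the point `h`", linear in `a` -/
def Q (a : Fin 3 → F) (h : Fin 2 → F) : F := a 0 * h 1 ^ 2 - a 1 * h 0 * h 1 + a 2 * h 0 ^ 2

theorem toPoly_three (a : Fin 3 → F) :
    toPoly 3 a = C (a 0) + C (a 1) * X + C (a 2) * X ^ 2 := by
  simp [toPoly, Fin.sum_univ_three]

/-- the (0, last) coordinates, a surjective additive map -/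
def endsHom (n : ℕ) : (Fin (n + 1) → F) →+ (Fin 2 → F) where
  toFun v := ![v 0, v (Fin.last n)]
  map_zero' := by ext i; fin_cases i <;> simp
  map_add' v w := by ext i; fin_cases i <;> simp

theorem endsHom_surjective (n : ℕ) (hn : 1 ≤ n) : Function.Surjective (endsHom (F := F) n) := by
  classical
  intro h
  refine ⟨Pi.single 0 (h 0) + Pi.single (Fin.last n) (h 1), ?_⟩
  have h0 : (0 : Fin (n + 1)) ≠ Fin.last n := by
    intro e
    have := congrArg Fin.val e
    simp at this
    omega
  ext i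
  fin_cases i
  · simp [endsHom, h0]
  · simp [endsHom, h0.symm]

theorem exists_phi_C (n : ℕ) (hn : 1 ≤ n) (a : Fin 3 → F) (h2 : a 2 = 0) (h1 : a 1 = 0) :
    ∃ φ : (Fin (n + 1) → F) →+ (Fin 2 → F), Function.Surjective φ ∧
      ∀ v, resultant (toPoly 3 a) (toPoly (n + 1) v) 2 n ≠ 0 ↔ Q a (φ v) ≠ 0 := by
  refine ⟨endsHom n, endsHom_surjective n hn, ?_⟩
  intro v
  have hf : toPoly 3 a = C (a 0) := by rw [toPoly_three, h1, h2]; simp
  rw [hf, resultant_C_left]
  have hc : (toPoly (n + 1) v).coeff n = v (Fin.last n) := toPoly_coeff_fin (n + 1) v (Fin.last n)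
  rw [hc]
  simp only [Q, endsHom, h1, h2, AddMonoidHom.coe_mk, ZeroHom.coe_mk]
  simp
  constructor
  · rintro ⟨hv, ha⟩
    refine ⟨?_, hv⟩
    intro h0
    have := ha h0
    omega
  · rintro ⟨ha, hv⟩
    exact ⟨hv, fun h0 => absurd h0 ha⟩


theorem exists_phi_B (n : ℕ) (hn : 1 ≤ n) (a : Fin 3 → F) (h2 : a 2 = 0) (h1 : a 1 ≠ 0) :
    ∃ φ : (Fin (n + 1) → F) →+ (Fin 2 → F), Function.Surjective φ ∧
      ∀ v, resultant (toPoly 3 a) (toPoly (n + 1) v) 2 n ≠ 0 ↔ Q a (φ v) ≠ 0 := by
  classical
  set r : F := -(a 0) / a 1 with hr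
  let φ : (Fin (n + 1) → F) →+ (Fin 2 → F) :=
    { toFun := fun v => ![(a 0 * v (Fin.last n) - eval r (toPoly (n + 1) v)) / a 1, v (Fin.last n)]
      map_zero' := by
        ext i
        fin_cases i <;> simp [toPoly_zero]
      map_add' := fun v w => by
        ext i
        fin_cases i
        · simp [toPoly_add]
          field_simp
          ring
        · simp }
  have h0 : (0 : Fin (n + 1)) ≠ Fin.last n := by
    intro e
    have := congrArg Fin.val e
    simp at this
    omega
  refine ⟨φ, ?_, ?_⟩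
  · intro h
    refine ⟨Pi.single 0 (a 0 * h 1 - a 1 * h 0 - h 1 * r ^ n) + Pi.single (Fin.last n) (h 1), ?_⟩
    have hev : eval r (toPoly (n + 1)
        (Pi.single 0 (a 0 * h 1 - a 1 * h 0 - h 1 * r ^ n) + Pi.single (Fin.last n) (h 1)))
        = a 0 * h 1 - a 1 * h 0 := by
      rw [toPoly_add, eval_add]
      simp only [toPoly, eval_finsetSum, eval_mul, eval_C, eval_pow, eval_X]
      rw [Finset.sum_eq_single (0 : Fin (n + 1)), Finset.sum_eq_single (Fin.last n)]
      · simp
      · intro j _ hj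
        simp [hj]
      · simp
      · intro j _ hj
        simp [hj]
      · simp
    ext i
    fin_cases i
    · change (a 0 * ((Pi.single 0 (a 0 * h 1 - a 1 * h 0 - h 1 * r ^ n) +
          Pi.single (Fin.last n) (h 1) : Fin (n + 1) → F) (Fin.last n)) - eval r _) / a 1 = h 0
      rw [hev]
      simp [h0.symm]
      field_simp
    · change ((Pi.single 0 (a 0 * h 1 - a 1 * h 0 - h 1 * r ^ n) +
          Pi.single (Fin.last n) (h 1) : Fin (n + 1) → F) (Fin.last n)) = h 1
      simp [h0.symm]
  · intro v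
    set g := toPoly (n + 1) v with hg
    have hgn : g.natDegree ≤ n :=
      Nat.lt_succ_iff.mp (natDegree_toPoly_lt (n + 1) (by omega) v)
    have hf : toPoly 3 a = C (a 1) * (X - C r) := by
      rw [toPoly_three, h2, hr, mul_sub, ← C_mul]
      have : a 1 * (-a 0 / a 1) = -a 0 := by field_simp
      rw [this]
      simp
      ring
    have hfd : (toPoly 3 a).natDegree ≤ 1 := by
      rw [hf]
      refine (natDegree_C_mul_le _ _).trans ?_
      rw [natDegree_X_sub_C]
    have e1 : resultant (toPoly 3 a) g 2 n = (-1) ^ n * g.coeff n * resultant (toPoly 3 a) g 1 n :=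
      resultant_succ_left_deg _ _ _ _ hfd
    have e2 : resultant (toPoly 3 a) g 1 n = a 1 ^ n * eval r g := by
      rw [hf, resultant_C_mul_left]
      have := resultant_X_sub_C_pow_left r g 1 n hgn
      rw [pow_one, pow_one] at this
      rw [this]
    have hc : g.coeff n = v (Fin.last n) := toPoly_coeff_fin (n + 1) v (Fin.last n)
    have hQ : Q a (φ v) = v (Fin.last n) * eval r g := by
      change Q a ![(a 0 * v (Fin.last n) - eval r g) / a 1, v (Fin.last n)] = _
      simp only [Q, h2, Matrix.cons_val_zero, Matrix.cons_val_one]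
      field_simp
      ring
    rw [e1, e2, hc, hQ]
    have hs : ((-1 : F)) ^ n ≠ 0 := pow_ne_zero _ (by simp)
    have ha : a 1 ^ n ≠ 0 := pow_ne_zero _ h1
    constructor
    · intro h
      refine mul_ne_zero ?_ ?_
      · intro hv; apply h; rw [hv]; ring
      · intro hv; apply h; rw [hv]; ring
    · intro h
      have hv := left_ne_zero_of_mul h
      have he := right_ne_zero_of_mul h
      exact mul_ne_zero (mul_ne_zero hs hv) (mul_ne_zero ha he)


theorem exists_phi_A (n : ℕ) (hn : 2 ≤ n) (a : Fin 3 → F) (h2 : a 2 ≠ 0) :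
    ∃ φ : (Fin (n + 1) → F) →+ (Fin 2 → F), Function.Surjective φ ∧
      ∀ v, resultant (toPoly 3 a) (toPoly (n + 1) v) 2 n ≠ 0 ↔ Q a (φ v) ≠ 0 := by
  classical
  set f := toPoly 3 a with hf
  have hc0 : f.coeff 0 = a 0 := toPoly_coeff_fin 3 a 0
  have hc1 : f.coeff 1 = a 1 := toPoly_coeff_fin 3 a 1
  have hc2 : f.coeff 2 = a 2 := toPoly_coeff_fin 3 a 2
  have hfd : f.natDegree ≤ 2 := Nat.lt_succ_iff.mp (natDegree_toPoly_lt 3 (by omega) a)
  have hfd2 : f.natDegree = 2 :=
    le_antisymm hfd (le_natDegree_of_ne_zero (by rw [hc2]; exact h2))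
  have hlc : f.leadingCoeff = a 2 := by rw [leadingCoeff, hfd2, hc2]
  set f₁ := C (a 2)⁻¹ * f with hf₁
  have hmon : f₁.Monic := monic_C_mul_of_mul_leadingCoeff_eq_one (by rw [hlc]; exact inv_mul_cancel₀ h2)
  have hf₁d : f₁.natDegree = 2 := by
    rw [hf₁, natDegree_C_mul (inv_ne_zero h2), hfd2]
  let φ : (Fin (n + 1) → F) →+ (Fin 2 → F) :=
    { toFun := fun v i => ((toPoly (n + 1) v) %ₘ f₁).coeff (i : ℕ)
      map_zero' := by
        ext i
        simp [toPoly_zero]
      map_add' := fun v w => by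
        ext i
        simp [toPoly_add, add_modByMonic] }
  refine ⟨φ, ?_, ?_⟩
  · intro h
    refine ⟨fun j : Fin (n + 1) => (toPoly 2 h).coeff j, ?_⟩
    have hd : (toPoly 2 h).natDegree < 2 := natDegree_toPoly_lt 2 (by omega) h
    have e1 : toPoly (n + 1) (fun j : Fin (n + 1) => (toPoly 2 h).coeff j) = toPoly 2 h :=
      toPoly_coeffs (n + 1) _ (by omega)
    have e2 : (toPoly 2 h) %ₘ f₁ = toPoly 2 h := by
      rw [modByMonic_eq_self_iff hmon]
      refine lt_of_le_of_lt degree_le_natDegree ?_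
      rw [degree_eq_natDegree hmon.ne_zero, hf₁d]
      exact_mod_cast hd
    ext i
    change ((toPoly (n + 1) (fun j : Fin (n + 1) => (toPoly 2 h).coeff j)) %ₘ f₁).coeff (i : ℕ) = h i
    rw [e1, e2, toPoly_coeff_fin]
  · intro v
    set g := toPoly (n + 1) v with hg
    have hgn : g.natDegree ≤ n :=
      Nat.lt_succ_iff.mp (natDegree_toPoly_lt (n + 1) (by omega) v)
    set r := g %ₘ f₁ with hr
    set d := g /ₘ f₁ with hd
    have hdiv : g = r + f * (C (a 2)⁻¹ * d) := by
      have := modByMonic_add_div g (q := f₁)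
      rw [← this, hf₁]
      ring
    have hpd : (C (a 2)⁻¹ * d).natDegree + 2 ≤ n := by
      have h1 : (C (a 2)⁻¹ * d).natDegree ≤ d.natDegree := natDegree_C_mul_le _ _
      have h2' : d.natDegree = g.natDegree - f₁.natDegree := natDegree_divByMonic g hmon
      by_cases hgd : g.natDegree < 2
      · have : d = 0 := by
          rw [hd, divByMonic_eq_zero_iff hmon]
          refine lt_of_le_of_lt degree_le_natDegree ?_
          rw [degree_eq_natDegree hmon.ne_zero, hf₁d]
          exact_mod_cast hgd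
        rw [this]
        simpa using hn
      · omega
    have hrd : r.natDegree ≤ 1 := by
      have : r.natDegree < f₁.natDegree := natDegree_modByMonic_lt g hmon (by
        intro h1
        rw [h1] at hf₁d
        simp at hf₁d)
      omega
    have e1 : resultant f g 2 n = resultant f r 2 n := by
      rw [hdiv]
      exact resultant_add_mul_right _ _ _ _ _ hpd hfd
    have e2 : resultant f r 2 n = f.coeff 2 ^ (n - 1) * resultant f r 2 1 := by
      have := resultant_add_right_deg f r 2 1 (n - 1) hrd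
      rw [show 1 + (n - 1) = n by omega] at this
      exact this
    have hQ : Q a (φ v) = resultant f r 2 1 := by
      rw [res21, hc0, hc1, hc2]
      rfl
    rw [e1, e2, hc2, hQ]
    have ha : a 2 ^ (n - 1) ≠ 0 := pow_ne_zero _ h2
    constructor
    · intro h
      exact right_ne_zero_of_mul h
    · intro h
      exact mul_ne_zero ha h

theorem exists_phi (n : ℕ) (hn : 2 ≤ n) (a : Fin 3 → F) :
    ∃ φ : (Fin (n + 1) → F) →+ (Fin 2 → F), Function.Surjective φ ∧
      ∀ v, resultant (toPoly 3 a) (toPoly (n + 1) v) 2 n ≠ 0 ↔ Q a (φ v) ≠ 0 := by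
  by_cases h2 : a 2 = 0
  · by_cases h1 : a 1 = 0
    · exact exists_phi_C n (by omega) a h2 h1
    · exact exists_phi_B n (by omega) a h2 h1
  · exact exists_phi_A n hn a h2

end Groth.Agent.Lib.Helper55.ResCount
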