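import Groth.Agent.Lib.Helper55.FunFld.ResCnt2

set_option autoImplicit false

namespace Groth.Agent.Lib.Helper55.ResCount

open Polynomial

variable {F : Type*} [Field F] [Fintype F]

theorem ncard_prod_subtype {A B : Type*} [Fintype A] [Fintype B] (P : A × B → Prop) :
    Nat.card {p : A × B // P p} = ∑ a : A, Nat.card {b : B // P (a, b)} := by
  classical
  simp only [Nat.card_eq_fintype_card, Fintype.card_subtype, Finset.card_filter]
  rw [← Finset.univ_product_univ, Finset.sum_product]

theorem ncard_prod_subtype' {A B : Type*} [Fintype A] [Fintype B] (P : A × B → Prop) :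
    Nat.card {p : A × B // P p} = ∑ b : B, Nat.card {a : A // P (a, b)} := by
  classical
  simp only [Nat.card_eq_fintype_card, Fintype.card_subtype, Finset.card_filter]
  rw [← Finset.univ_product_univ, Finset.sum_product_right]

theorem ncard_preimage {V W : Type*} [AddCommGroup V] [AddCommGroup W] [Fintype V] [Fintype W]
    (φ : V →+ W) (hφ : Function.Surjective φ) (P : W → Prop) :
    Nat.card {v : V // P (φ v)} * Fintype.card W =
      Nat.card {w : W // P w} * Fintype.card V := by
  classical
  rw [Nat.card_eq_fintype_card, Nat.card_eq_fintype_card]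
  exact card_preimage φ hφ P

/-- for `h ≠ 0` the linear form `a ↦ Q a h` is nonzero -/
theorem card_Q_ne_zero (h : Fin 2 → F) (hh : h ≠ 0) :
    Nat.card {a : Fin 3 → F // Q a h ≠ 0} * Fintype.card F =
      (Fintype.card F - 1) * Fintype.card F ^ 3 := by
  classical
  let φ : (Fin 3 → F) →+ F :=
    { toFun := fun a => Q a h
      map_zero' := by simp [Q]
      map_add' := fun a b => by simp [Q]; ring }
  have hφ : Function.Surjective φ := by
    intro t
    by_cases h0 : h 0 = 0
    · have h1 : h 1 ≠ 0 := by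
        intro h1
        apply hh
        ext i
        fin_cases i
        · exact h0
        · exact h1
      refine ⟨![t / h 1 ^ 2, 0, 0], ?_⟩
      change Q ![t / h 1 ^ 2, 0, 0] h = t
      simp [Q]
      field_simp
    · refine ⟨![0, 0, t / h 0 ^ 2], ?_⟩
      change Q ![0, 0, t / h 0 ^ 2] h = t
      simp [Q]
      field_simp
  have := ncard_preimage φ hφ (fun x => x ≠ 0)
  have e1 : Nat.card {x : F // x ≠ 0} = Fintype.card F - 1 := by
    rw [Nat.card_eq_fintype_card, Fintype.card_subtype_compl, Fintype.card_subtype_eq]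
  have e2 : Fintype.card (Fin 3 → F) = Fintype.card F ^ 3 := by simp
  rw [e1, e2] at this
  exact this

/-- total number of pairs `(a, h)` with `Q a h ≠ 0` -/
theorem card_Q_total :
    (∑ a : Fin 3 → F, Nat.card {h : Fin 2 → F // Q a h ≠ 0}) * Fintype.card F =
      (Fintype.card F ^ 2 - 1) * ((Fintype.card F - 1) * Fintype.card F ^ 3) := by
  classical
  have e0 : (∑ a : Fin 3 → F, Nat.card {h : Fin 2 → F // Q a h ≠ 0}) =
      ∑ h : Fin 2 → F, Nat.card {a : Fin 3 → F // Q a h ≠ 0} := by
    have h1 := ncard_prod_subtype (fun p : (Fin 3 → F) × (Fin 2 → F) => Q p.1 p.2 ≠ 0)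
    have h2 := ncard_prod_subtype' (fun p : (Fin 3 → F) × (Fin 2 → F) => Q p.1 p.2 ≠ 0)
    exact h1.symm.trans h2
  rw [e0, Finset.sum_mul]
  have e1 : ∀ h : Fin 2 → F, Nat.card {a : Fin 3 → F // Q a h ≠ 0} * Fintype.card F =
      if h = 0 then 0 else (Fintype.card F - 1) * Fintype.card F ^ 3 := by
    intro h
    split_ifs with hh
    · subst hh
      have : IsEmpty {a : Fin 3 → F // Q a (0 : Fin 2 → F) ≠ 0} :=
        ⟨fun x => x.2 (by simp [Q])⟩
      rw [Nat.card_of_isEmpty, zero_mul]
    · exact card_Q_ne_zero h hh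
  rw [Finset.sum_congr rfl (fun h _ => e1 h), Finset.sum_ite, Finset.sum_const_zero, zero_add,
    Finset.sum_const, smul_eq_mul]
  congr 1
  rw [Finset.filter_not, Finset.card_sdiff_of_subset (Finset.subset_univ _), Finset.card_univ]
  have : (Finset.univ.filter fun x : Fin 2 → F => x = 0).card = 1 := by
    rw [Finset.filter_eq']
    simp
  rw [this]
  simp

/-- the main count, in multiplied-out form -/
theorem count_mul (n : ℕ) (hn : 2 ≤ n) :
    Nat.card {p : (Fin 3 → F) × (Fin (n + 1) → F) //
        resultant (toPoly 3 p.1) (toPoly (n + 1) p.2) 2 n ≠ 0} * Fintype.card F ^ 2 *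
        Fintype.card F =
      (Fintype.card F ^ 2 - 1) * ((Fintype.card F - 1) * Fintype.card F ^ 3) *
        Fintype.card F ^ (n + 1) := by
  classical
  rw [ncard_prod_subtype, Finset.sum_mul]
  have e1 : ∀ a : Fin 3 → F,
      Nat.card {v : Fin (n + 1) → F // resultant (toPoly 3 a) (toPoly (n + 1) v) 2 n ≠ 0} *
        Fintype.card F ^ 2 =
      Nat.card {h : Fin 2 → F // Q a h ≠ 0} * Fintype.card F ^ (n + 1) := by
    intro a
    obtain ⟨φ, hφ, hiff⟩ := exists_phi n hn a
    have := ncard_preimage φ hφ (fun h => Q a h ≠ 0)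
    have e2 : Fintype.card (Fin 2 → F) = Fintype.card F ^ 2 := by simp
    have e3 : Fintype.card (Fin (n + 1) → F) = Fintype.card F ^ (n + 1) := by simp
    rw [e2, e3] at this
    rw [← this]
    congr 1
    exact Nat.card_congr (Equiv.subtypeEquivRight hiff)
  rw [Finset.sum_congr rfl (fun a _ => e1 a), ← Finset.sum_mul, mul_right_comm, card_Q_total]

end Groth.Agent.Lib.Helper55.ResCount
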