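import Groth.Agent.Lib.Helper55.FunFld.ResCnt3

set_option autoImplicit false

namespace Groth.Agent.Lib.Helper55.ResCount

open Polynomial

variable {F : Type*} [Field F] [Fintype F]

theorem count_eq (n : ℕ) (hn : 2 ≤ n) :
    Nat.card {p : (Fin 3 → F) × (Fin (n + 1) → F) //
        resultant (toPoly 3 p.1) (toPoly (n + 1) p.2) 2 n ≠ 0} =
      (Fintype.card F ^ 2 - 1) * (Fintype.card F - 1) * Fintype.card F ^ (n + 1) := by
  have h := count_mul (F := F) n hn
  have hq : 0 < Fintype.card F := Fintype.card_pos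
  have hq3 : 0 < Fintype.card F ^ 3 := pow_pos hq 3
  apply Nat.eq_of_mul_eq_mul_right hq3
  calc _ = Nat.card {p : (Fin 3 → F) × (Fin (n + 1) → F) //
        resultant (toPoly 3 p.1) (toPoly (n + 1) p.2) 2 n ≠ 0} * Fintype.card F ^ 2 *
        Fintype.card F := by ring
    _ = _ := h
    _ = _ := by ring

theorem count_final (n : ℕ) (hn : 2 ≤ n) :
    Nat.card {p : (Fin 3 → F) × (Fin (n + 1) → F) //
        resultant (toPoly 3 p.1) (toPoly (n + 1) p.2) 2 n ≠ 0} =
      Fintype.card F ^ (n + 4) - Fintype.card F ^ (n + 3) - Fintype.card F ^ (n + 2)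
        + Fintype.card F ^ (n + 1) := by
  rw [count_eq n hn]
  have hq : 2 ≤ Fintype.card F := by
    have := Fintype.one_lt_card (α := F)
    omega
  obtain ⟨k, hk⟩ := Nat.exists_eq_add_of_le hq
  set q := Fintype.card F with hqdef
  set Y := q ^ (n + 1) with hY
  have e4 : q ^ (n + 4) = Y * q ^ 3 := by rw [hY]; ring
  have e3 : q ^ (n + 3) = Y * q ^ 2 := by rw [hY]; ring
  have e2 : q ^ (n + 2) = Y * q := by rw [hY]; ring
  rw [e4, e3, e2]
  have s1 : q ^ 2 - 1 = k ^ 2 + 4 * k + 3 := by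
    rw [hk]
    have : (2 + k) ^ 2 = k ^ 2 + 4 * k + 3 + 1 := by ring
    rw [this]
    rfl
  have s2 : q - 1 = k + 1 := by omega
  rw [s1, s2]
  have key : (k ^ 2 + 4 * k + 3) * (k + 1) * Y + Y * q ^ 2 + Y * q = Y * q ^ 3 + Y := by
    rw [hk]; ring
  have hle : Y ≤ (k ^ 2 + 4 * k + 3) * (k + 1) * Y := by
    have : 1 ≤ (k ^ 2 + 4 * k + 3) * (k + 1) := Nat.one_le_iff_ne_zero.mpr (by positivity)
    calc Y = 1 * Y := (one_mul Y).symm
      _ ≤ _ := Nat.mul_le_mul_right Y this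
  omega

end Groth.Agent.Lib.Helper55.ResCount
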