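import Groth.Agent.Lib.Helper55.FunFld.ResCnt4

set_option autoImplicit false

namespace Groth.Agent.Lib.Helper55.ResCount

open Polynomial

variable {F : Type*} [Field F] [Fintype F]

theorem toPoly_smul (m : ℕ) (c : F) (v : Fin m → F) : toPoly m (c • v) = C c * toPoly m v := by
  simp [toPoly, Finset.mul_sum, mul_assoc]

/-- the level sets of the resultant over nonzero values all have the same size (`n` odd) -/
theorem card_level (k : ℕ) (c : F) (hc : c ≠ 0) :
    Nat.card {p : (Fin 3 → F) × (Fin (2 * k + 1 + 1) → F) //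
        resultant (toPoly 3 p.1) (toPoly (2 * k + 1 + 1) p.2) 2 (2 * k + 1) = c} =
    Nat.card {p : (Fin 3 → F) × (Fin (2 * k + 1 + 1) → F) //
        resultant (toPoly 3 p.1) (toPoly (2 * k + 1 + 1) p.2) 2 (2 * k + 1) = 1} := by
  have hscale : ∀ (s t : F) (a : Fin 3 → F) (v : Fin (2 * k + 1 + 1) → F),
      resultant (toPoly 3 (s • a)) (toPoly (2 * k + 1 + 1) (t • v)) 2 (2 * k + 1) =
        s ^ (2 * k + 1) * t ^ 2 *
          resultant (toPoly 3 a) (toPoly (2 * k + 1 + 1) v) 2 (2 * k + 1) := by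
    intro s t a v
    rw [toPoly_smul, toPoly_smul, resultant_C_mul_left, resultant_C_mul_right]
    ring
  have hck : c ^ (2 * k + 1) * (c⁻¹ ^ k) ^ 2 = c := by
    rw [← pow_mul, inv_pow, mul_comm k 2, pow_succ, mul_assoc, mul_comm c, ← mul_assoc,
      mul_inv_cancel₀ (pow_ne_zero _ hc), one_mul]
  have hck' : c⁻¹ ^ (2 * k + 1) * (c ^ k) ^ 2 = c⁻¹ := by
    rw [← pow_mul, mul_comm k 2, pow_succ, mul_assoc, mul_comm c⁻¹, ← mul_assoc, inv_pow,
      inv_mul_cancel₀ (pow_ne_zero _ hc), one_mul]
  symm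
  refine Nat.card_congr
    { toFun := fun p => ⟨(c • p.1.1, c⁻¹ ^ k • p.1.2), by
        rw [hscale, p.2, mul_one, hck]⟩
      invFun := fun p => ⟨(c⁻¹ • p.1.1, c ^ k • p.1.2), by
        rw [hscale, p.2, hck', inv_mul_cancel₀ hc]⟩
      left_inv := fun p => by
        apply Subtype.ext
        ext <;> simp <;> field_simp
      right_inv := fun p => by
        apply Subtype.ext
        ext <;> simp <;> field_simp }

theorem count_one (k : ℕ) (hk : 1 ≤ k) :
    Nat.card {p : (Fin 3 → F) × (Fin (2 * k + 1 + 1) → F) //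
        resultant (toPoly 3 p.1) (toPoly (2 * k + 1 + 1) p.2) 2 (2 * k + 1) = 1} =
      Fintype.card F ^ (2 * k + 1 + 3) - Fintype.card F ^ (2 * k + 1 + 1) := by
  classical
  set R : (Fin 3 → F) × (Fin (2 * k + 1 + 1) → F) → F :=
    fun p => resultant (toPoly 3 p.1) (toPoly (2 * k + 1 + 1) p.2) 2 (2 * k + 1) with hR
  have h1 := count_eq (F := F) (2 * k + 1) (by omega)
  change Nat.card {p // R p ≠ 0} = _ at h1
  change Nat.card {p // R p = 1} = _
  -- decompose the nonvanishing locus by the value of the resultant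
  have h2 : Nat.card {p // R p ≠ 0} = (Fintype.card F - 1) * Nat.card {p // R p = 1} := by
    let f : {p // R p ≠ 0} → {c : F // c ≠ 0} := fun p => ⟨R p.1, p.2⟩
    have e := Equiv.sigmaFiberEquiv f
    rw [← Nat.card_congr e, Nat.card_sigma]
    have e3 : ∀ y : {c : F // c ≠ 0}, Nat.card {x : {p // R p ≠ 0} // f x = y} =
        Nat.card {p // R p = 1} := by
      intro y
      rw [← card_level k y.1 y.2]
      refine Nat.card_congr
        { toFun := fun x => ⟨x.1.1, congrArg Subtype.val x.2⟩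
          invFun := fun p => ⟨⟨p.1, by change resultant _ _ _ _ ≠ 0; rw [p.2]; exact y.2⟩, Subtype.ext p.2⟩
          left_inv := fun x => rfl
          right_inv := fun p => rfl }
    rw [Finset.sum_congr rfl (fun y _ => e3 y), Finset.sum_const, smul_eq_mul, Finset.card_univ,
      Fintype.card_subtype_compl, Fintype.card_subtype_eq]
  rw [h2] at h1
  have hq : 2 ≤ Fintype.card F := by
    have := Fintype.one_lt_card (α := F)
    omega
  set q := Fintype.card F
  have hq1 : 0 < q - 1 := by omega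
  have h3 : Nat.card {p // R p = 1} = (q ^ 2 - 1) * q ^ (2 * k + 1 + 1) := by
    apply Nat.eq_of_mul_eq_mul_left hq1
    rw [h1]
    ring
  rw [h3, Nat.sub_mul, one_mul]
  congr 1
  ring

end Groth.Agent.Lib.Helper55.ResCount
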