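import Groth.Agent.Lib.Helper55.FunFld.LDiv

/-! Riemann's theorem: boundedness of `deg D - ℓ(D)`, the genus. -/

set_option autoImplicit false

open FunFld Module

namespace Groth.Agent.Lib.Helper55

variable {k K : Type*} [Field k] [Field K] [Algebra k K]

/-- `ℓ(D + (z)) = ℓ(D)`. -/
theorem ff_ell_add_div (hK : IsFunctionField k K) (D : Divisor k K) {z : K} (hz : z ≠ 0) :
    ell (D + FunFld.div k z) = ell D := by
  let m : ↥(L (D + FunFld.div k z)) →ₗ[k] ↥(L D) :=
    { toFun := fun y => ⟨z * y.1, (ff_mul_mem_L_iff hK D z y.1 hz).mpr y.2⟩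
      map_add' := fun a b => by
        apply Subtype.ext
        simp [mul_add]
      map_smul' := fun c a => by
        apply Subtype.ext
        simp }
  have hinj : Function.Injective m := by
    intro a b hab
    have : z * a.1 = z * b.1 := congrArg Subtype.val hab
    exact Subtype.ext (mul_left_cancel₀ hz this)
  have hsurj : Function.Surjective m := by
    intro y
    have hmem : z⁻¹ * y.1 ∈ L (D + FunFld.div k z) := by
      rw [← ff_mul_mem_L_iff hK D z _ hz, ← mul_assoc, mul_inv_cancel₀ hz, one_mul]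
      exact y.2
    refine ⟨⟨_, hmem⟩, ?_⟩
    apply Subtype.ext
    change z * (z⁻¹ * y.1) = y.1
    rw [← mul_assoc, mul_inv_cancel₀ hz, one_mul]
  exact (LinearEquiv.ofBijective m ⟨hinj, hsurj⟩).finrank_eq

theorem ff_ell_sub_div (hK : IsFunctionField k K) (D : Divisor k K) {z : K} (hz : z ≠ 0) :
    ell (D - FunFld.div k z) = ell D := by
  have := ff_ell_add_div hK D (inv_ne_zero hz)
  rwa [ff_div_inv hK, ← sub_eq_add_neg] at this

/-- `deg D - ℓ(D)` is monotone. -/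
theorem ff_delta_mono (hK : IsFunctionField k K) {D₁ D₂ : Divisor k K} (h : D₁ ≤ D₂) :
    D₁.deg - ell D₁ ≤ D₂.deg - ell D₂ := by
  have := ff_ell_sub_le hK h
  linarith

theorem ff_exists_ne_zero_of_ell_pos {D : Divisor k K} (h : 0 < ell D) :
    ∃ z : K, z ≠ 0 ∧ z ∈ L D := by
  unfold ell at h
  have := Module.nontrivial_of_finrank_pos h
  obtain ⟨z, hz⟩ := exists_ne (0 : ↥(L D))
  exact ⟨z.1, fun h0 => hz (Subtype.ext h0), z.2⟩

/-- `deg D - ℓ(D)` is bounded above. -/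
theorem ff_exists_delta_bound (hK : IsFunctionField k K) :
    ∃ γ : ℤ, ∀ D : Divisor k K, D.deg - ell D ≤ γ := by
  obtain ⟨⟨x, hx, -⟩, -⟩ := id hK
  obtain ⟨C, hC0, hC⟩ := ff_exists_ell_ge hK hx
  have := ff_finite_of_transcendental hK hx
  set n := finrank (IntermediateField.adjoin k ({x} : Set K)) K with hn
  have hn1 : (1 : ℤ) ≤ n := by
    have : 0 < n := Module.finrank_pos
    exact_mod_cast this
  set B : Divisor k K := ff_poleDiv x with hB
  have hB0 : 0 ≤ B := ff_poleDiv_nonneg _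
  have hdegB : B.deg = n := ff_deg_poleDiv hK hx
  have hlB : ∀ l : ℕ, (l • B).deg - ell (l • B) ≤ C.deg - n := by
    intro l
    have h1 := hC l
    have h2 : l • B ≤ l • B + C := le_add_of_nonneg_right hC0
    have h3 := ff_ell_sub_le hK h2
    rw [ff_deg_add] at h3
    rw [ff_deg_nsmul, hdegB]
    linarith
  refine ⟨C.deg - n, fun A => ?_⟩
  set A₁ : Divisor k K := A ⊔ 0 with hA₁
  have hAA₁ : A ≤ A₁ := le_sup_left
  have hA₁0 : 0 ≤ A₁ := le_sup_right
  set l : ℕ := (C.deg - n + A₁.deg + 1).toNat with hl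
  have hl1 : C.deg - n + A₁.deg + 1 ≤ l := Int.self_le_toNat _
  have hl0 : (0 : ℤ) ≤ l := Int.natCast_nonneg _
  -- `ℓ(lB - A₁) > 0`
  have h4 : l • B - A₁ ≤ l • B := sub_le_self _ hA₁0
  have h5 := ff_ell_sub_le hK h4
  rw [ff_deg_sub] at h5
  have h6 := hlB l
  rw [ff_deg_nsmul, hdegB] at h6
  have hln : (l : ℤ) ≤ l * n := by nlinarith
  have hpos : 0 < ell (l • B - A₁) := by
    have : (0 : ℤ) < ell (l • B - A₁) := by linarith
    exact_mod_cast this
  obtain ⟨z, hz0, hz⟩ := ff_exists_ne_zero_of_ell_pos hpos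
  have h7 := (ff_mem_L_iff_div hK _ hz0).mp hz
  have h8 : A₁ - FunFld.div k z ≤ l • B := by
    have : A₁ - FunFld.div k z = l • B - (l • B - A₁ + FunFld.div k z) := by abel
    rw [this]
    exact sub_le_self _ h7
  have h9 := ff_delta_mono hK h8
  rw [ff_ell_sub_div hK _ hz0, ff_deg_sub, ff_deg_div hK] at h9
  have h10 := ff_delta_mono hK hAA₁
  have h11 := hlB l
  linarith

theorem ff_genus_bddAbove (hK : IsFunctionField k K) :
    BddAbove (Set.range fun D : Divisor k K => (D.deg + 1 - (ell D : ℤ)).toNat) := by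
  obtain ⟨γ, hγ⟩ := ff_exists_delta_bound hK
  refine ⟨(γ + 1).toNat, ?_⟩
  rintro _ ⟨D, rfl⟩
  apply Int.toNat_le_toNat
  have := hγ D
  linarith

/-- `deg D + 1 - ℓ(D) ≤ g`. -/
theorem ff_delta_le_genus (hK : IsFunctionField k K) (D : Divisor k K) :
    D.deg + 1 - (ell D : ℤ) ≤ genus k K := by
  have h1 : (D.deg + 1 - (ell D : ℤ)).toNat ≤ genus k K :=
    le_csSup (ff_genus_bddAbove hK) ⟨D, rfl⟩
  have h2 := Int.self_le_toNat (D.deg + 1 - (ell D : ℤ))
  have h3 : ((D.deg + 1 - (ell D : ℤ)).toNat : ℤ) ≤ genus k K := by exact_mod_cast h1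
  linarith

theorem ff_exists_delta_eq_genus (hK : IsFunctionField k K) :
    ∃ A₀ : Divisor k K, A₀.deg + 1 - (ell A₀ : ℤ) = genus k K := by
  have hne : (Set.range fun D : Divisor k K => (D.deg + 1 - (ell D : ℤ)).toNat).Nonempty :=
    ⟨_, ⟨0, rfl⟩⟩
  obtain ⟨A₀, hA₀⟩ := Nat.sSup_mem hne (ff_genus_bddAbove hK)
  have hA₀' : (A₀.deg + 1 - (ell A₀ : ℤ)).toNat = genus k K := hA₀
  by_cases hpos : 0 ≤ A₀.deg + 1 - (ell A₀ : ℤ)
  · refine ⟨A₀, ?_⟩
    rw [← hA₀', Int.toNat_of_nonneg hpos]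
  · push Not at hpos
    refine ⟨0, ?_⟩
    rw [← hA₀', Int.toNat_of_nonpos hpos.le, ff_deg_zero, ff_ell_zero hK]
    simp

/-- Riemann's theorem: `deg D + 1 - ℓ(D) = g` for `deg D` large. -/
theorem ff_riemann (hK : IsFunctionField k K) :
    ∃ N : ℤ, ∀ D : Divisor k K, N ≤ D.deg → D.deg + 1 - (ell D : ℤ) = genus k K := by
  obtain ⟨A₀, hA₀⟩ := ff_exists_delta_eq_genus hK
  refine ⟨A₀.deg + genus k K, fun A hA => ?_⟩
  apply le_antisymm (ff_delta_le_genus hK A)
  have h1 := ff_delta_le_genus hK (A - A₀)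
  rw [ff_deg_sub] at h1
  have hpos : 0 < ell (A - A₀) := by
    have : (0 : ℤ) < ell (A - A₀) := by linarith
    exact_mod_cast this
  obtain ⟨z, hz0, hz⟩ := ff_exists_ne_zero_of_ell_pos hpos
  have h2 := (ff_mem_L_iff_div hK _ hz0).mp hz
  have h3 : A₀ ≤ A + FunFld.div k z := by
    have : A + FunFld.div k z = A₀ + (A - A₀ + FunFld.div k z) := by abel
    rw [this]
    exact le_add_of_nonneg_right h2
  have h4 := ff_delta_mono hK h3
  rw [ff_ell_add_div hK _ hz0, ff_deg_add, ff_deg_div hK] at h4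
  linarith

end Groth.Agent.Lib.Helper55
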