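import Groth.Agent.Lib.Helper55.FunFld.SFPComb
import Groth.Agent.Lib.Helper55.FunFld.HasseSFP
import Groth.Agent.Lib.Helper55.FunFld.HasseSV
import Groth.Agent.Lib.Helper55.FunFld.HasseTors
import Groth.Agent.Lib.Helper55.FunFld.AutFix
import Groth.Agent.Lib.Helper55.FunFld.TateCanonAC
import Groth.Agent.Lib.Helper63.LocalParamSep
import Groth.Agent.Lib.Helper63.GeometricPerfect

/-! The bound `N ≤ 1 + q + (n + q/n) g + 2g²(g-1)/n` for the number of strong fixed points. -/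

set_option autoImplicit false

open FunFld Module LocRes

namespace Groth.Agent.Lib.Helper55

variable {k K : Type*} [Field k] [Field K] [Algebra k K]

theorem ff_exists_ord_eq (hK : IsFunctionField k K) (P : Place k K) (hP : P.deg = 1)
    (a : ℕ) (ha : 2 * genus k K ≤ a) :
    ∃ x ∈ L (Finsupp.single P (a : ℤ) : Divisor k K), x ≠ 0 ∧ P.ord x = -(a : ℤ) := by
  have hdeg : ∀ m : ℤ, Divisor.deg (Finsupp.single P m : Divisor k K) = m := by
    intro m
    rw [ff_deg_single, hP]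
    simp
  have h1 := ff_ell_eq_of_deg_ge hK (Finsupp.single P (a : ℤ)) (by
    rw [hdeg]; have : (2 * (genus k K : ℤ)) ≤ a := by exact_mod_cast ha
    omega)
  have h2 := ff_ell_eq_of_deg_ge hK (Finsupp.single P ((a : ℤ) - 1)) (by
    rw [hdeg]; have : (2 * (genus k K : ℤ)) ≤ a := by exact_mod_cast ha
    omega)
  rw [hdeg] at h1 h2
  have hlt : ell (Finsupp.single P ((a : ℤ) - 1) : Divisor k K) <
      ell (Finsupp.single P (a : ℤ) : Divisor k K) := by
    have : (ell (Finsupp.single P ((a : ℤ) - 1) : Divisor k K) : ℤ) <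
        ell (Finsupp.single P (a : ℤ) : Divisor k K) := by rw [h1, h2]; omega
    exact_mod_cast this
  obtain ⟨x, hx1, hx2⟩ := ff_exists_mem_not_mem_of_ell_lt hK hlt
  exact ⟨x, hx1, fun h => hx2 (h ▸ Submodule.zero_mem _), ff_ord_eq_of_mem_not_mem hx1 hx2⟩

theorem ff_L_single_mono (P : Place k K) {a b : ℤ} (hab : a ≤ b) :
    L (Finsupp.single P a : Divisor k K) ≤ L (Finsupp.single P b) := by
  classical
  intro x hx Q
  refine (hx Q).trans (WithZero.exp_le_exp.mpr ?_)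
  rw [Finsupp.single_apply, Finsupp.single_apply]
  split_ifs
  · exact hab
  · exact le_rfl

theorem ff_sfp_count_bound [IsAlgClosed k] (hK : IsFunctionField k K) (τ : K →ₐ[k] K) (n : ℕ)
    (hn : genus k K < n) :
    {P : Place k K | ∀ x : K, P.1 x < 1 → P.1 (τ x) ≤ WithZero.exp (-2)}.Finite ∧
    (Set.ncard {P : Place k K | ∀ x : K, P.1 x < 1 → P.1 (τ x) ≤ WithZero.exp (-2)} : ℝ) ≤
      1 + Module.finrank τ.fieldRange K +
        (n + (Module.finrank τ.fieldRange K : ℝ) / n) * genus k K +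
        2 * (genus k K : ℝ) ^ 2 * (genus k K - 1) / n := by
  classical
  set S := {P : Place k K | ∀ x : K, P.1 x < 1 → P.1 (τ x) ≤ WithZero.exp (-2)} with hS
  set g := genus k K with hg
  set q := Module.finrank τ.fieldRange K with hq
  have hn0 : (0 : ℝ) < n := by exact_mod_cast (by omega : 0 < n)
  by_cases hne : S.Nonempty
  swap
  · rw [Set.not_nonempty_iff_eq_empty] at hne
    rw [hne]
    refine ⟨Set.finite_empty, ?_⟩
    rw [Set.ncard_empty]
    have h1 : (0 : ℝ) ≤ 2 * (g : ℝ) ^ 2 * ((g : ℝ) - 1) / n := by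
      rcases Nat.eq_zero_or_pos g with h | h
      · rw [h]; simp
      · have : (1 : ℝ) ≤ g := by exact_mod_cast h
        exact div_nonneg (mul_nonneg (by positivity) (by linarith)) hn0.le
    have h2 : (0 : ℝ) ≤ ((n : ℝ) + (q : ℝ) / n) * g := by positivity
    have h3 : (0 : ℝ) ≤ (q : ℝ) := by positivity
    push_cast
    linarith
  obtain ⟨P₀, hP₀⟩ := hne
  have hP₀S : IsStrongFixedPt τ P₀ := hP₀
  have hdeg := ff_deg_eq_one_of_isAlgClosed hK P₀
  obtain ⟨t, ht⟩ := ff_exists_uniformizer P₀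
  have ht0 := ff_uniformizer_ne_zero P₀ ht
  have htlt : P₀.1 t < 1 := by
    rw [ht, ← WithZero.exp_zero, WithZero.exp_lt_exp]; norm_num
  have httr := ff_transcendental_of_val_lt_one hK P₀ ht0 htlt
  have hgeo := Groth.Agent.Lib.Helper63.GeometricPerfect.isGeometric_of_perfectField hK
  have hsepres := ff_isSeparable_residueField_of_perfect hK P₀
  have hsepK := Groth.Agent.Lib.Helper63.LocalParamSep.isSeparable_of_uniformizer hK hgeo P₀ ht
  have hfinK := ff_finite_of_transcendental hK httr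
  obtain ⟨H, hH⟩ := ff_exists_hasseFamily_of_isSeparable httr
  set m : ℕ := n + g with hm
  have hm2g : 2 * g ≤ m := by omega
  obtain ⟨z, hzL, hz0, hzord⟩ := ff_exists_ord_eq hK P₀ hdeg m hm2g
  set D : Divisor k K := Finsupp.single P₀ (m : ℤ) with hD
  have hDdeg : D.deg = m := by rw [hD, ff_deg_single, hdeg]; simp
  have hell : finrank k (L D) = n + 1 := by
    have h1 := ff_ell_eq_of_deg_ge hK D (by rw [hDdeg]; push_cast; omega)
    rw [hDdeg] at h1
    have h2 : (ell D : ℤ) = ((n + 1 : ℕ) : ℤ) := by rw [h1, hm]; push_cast; ring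
    exact_mod_cast h2
  have hLfd := ff_L_finiteDimensional hK D
  let b := Module.finBasisOfFinrankEq k (L D) hell
  set β : Fin (n + 1) → K := fun i => (b i : K) with hβ
  set ψ : Fin (n + 1) → K := fun i => z⁻¹ * β i with hψ
  have hzval : P₀.1 z = WithZero.exp (m : ℤ) := by
    rw [ff_val_eq_exp_neg_ord P₀ hz0, hzord, neg_neg]
  have hβL : ∀ i, β i ∈ L D := fun i => (b i).2
  have hβ0 : ∀ i, β i ≠ 0 := fun i h => b.ne_zero i (Subtype.ext h)
  have hβli : LinearIndependent k β :=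
    b.linearIndependent.map' (L D).subtype (Submodule.ker_subtype _)
  have hψli : LinearIndependent k ψ := by
    have := hβli.map' (ff_mulK (k := k) z⁻¹) (LinearMap.ker_eq_bot.mpr
      (mul_right_injective₀ (inv_ne_zero hz0)))
    exact this
  have hspanβ : Submodule.span k (Set.range β) = L D := by
    have h1 : Set.range β = (L D).subtype '' Set.range b := by
      rw [← Set.range_comp]; rfl
    rw [h1, Submodule.span_image, b.span_eq, Submodule.map_subtype_top]
  have hspanψ : Submodule.span k (Set.range ψ) = (L D).map (ff_mulK (k := k) z⁻¹) := by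
    have h1 : Set.range ψ = ff_mulK (k := k) z⁻¹ '' Set.range β := by
      rw [← Set.range_comp]; rfl
    rw [h1, Submodule.span_image, hspanβ]
  have hmemψ : ∀ x ∈ L D, z⁻¹ * x ∈ Submodule.span k (Set.range ψ) := by
    intro x hx
    rw [hspanψ]
    exact ⟨x, hx, rfl⟩
  have hvalψ : ∀ x ∈ L D, P₀.1 (z⁻¹ * x) ≤ 1 := by
    intro x hx
    have h1 := hx P₀
    rw [hD, Finsupp.single_eq_same] at h1
    rw [map_mul, map_inv₀, hzval]
    calc (WithZero.exp (m : ℤ))⁻¹ * P₀.1 x ≤ (WithZero.exp (m : ℤ))⁻¹ * WithZero.exp (m : ℤ) :=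
          mul_le_mul' le_rfl h1
      _ = 1 := inv_mul_cancel₀ WithZero.exp_ne_zero
  have hψint : ∀ i, P₀.1 (ψ i) ≤ 1 := fun i => hvalψ _ (hβL i)
  have h1mem : (1 : K) ∈ Submodule.span k (Set.range ψ) := by
    have := hmemψ z hzL
    rwa [inv_mul_cancel₀ hz0] at this
  obtain ⟨i₀, hi₀⟩ : ∃ i₀, P₀.1 (ψ i₀) = 1 := by
    by_contra hcon
    push Not at hcon
    obtain ⟨c, hc⟩ := (Submodule.mem_span_range_iff_exists_fun k).mp h1mem
    have hlt : P₀.1 (∑ i, c i • ψ i) < 1 := by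
      refine Valuation.map_sum_lt _ one_ne_zero fun i _ => ?_
      rw [Algebra.smul_def, map_mul]
      calc P₀.1 (algebraMap k K (c i)) * P₀.1 (ψ i) ≤ 1 * P₀.1 (ψ i) :=
            mul_le_mul' (P₀.2.1 _) le_rfl
        _ = P₀.1 (ψ i) := one_mul _
        _ < 1 := lt_of_le_of_ne (hψint i) (hcon i)
    rw [hc, map_one] at hlt
    exact lt_irrefl _ hlt
  -- the degree of the map
  have hdegψ : (mapDiv k ψ).deg ≤ (m : ℤ) := by
    rw [ff_deg_mapDiv_mul hK β hβ0 (inv_ne_zero hz0), ← hDdeg]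
    apply ff_deg_mono
    intro Q
    rw [ff_mapDiv_apply hK, neg_le, Finset.le_inf'_iff]
    intro i _
    have h1 := hβL i Q
    rw [ff_val_eq_exp_neg_ord Q (hβ0 i), WithZero.exp_le_exp] at h1
    omega
  -- `τ ψ` is not proportional to `ψ`
  have hn1 : 0 < n := by omega
  have hτψ : ¬ ∃ y : K, ∀ i, τ (ψ i) = y * ψ i := by
    rintro ⟨y, hy⟩
    have hall : ∀ f ∈ Submodule.span k (Set.range ψ), τ f = y * f := by
      intro f hf
      induction hf using Submodule.span_induction with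
      | mem x hx =>
        obtain ⟨i, rfl⟩ := hx
        exact hy i
      | zero => simp
      | add x x' _ _ hx hx' => rw [map_add, hx, hx', mul_add]
      | smul c x _ hx => rw [map_smul, hx, mul_smul_comm]
    have hy1 : y = 1 := by
      have := hall 1 h1mem
      rw [map_one, mul_one] at this
      exact this.symm
    obtain ⟨x₁, hx₁L, hx₁0, hx₁ord⟩ := ff_exists_ord_eq hK P₀ hdeg (m - 1) (by omega)
    have hx₁D : x₁ ∈ L D := ff_L_single_mono P₀ (by push_cast; omega) hx₁L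
    have hu := hall _ (hmemψ x₁ hx₁D)
    rw [hy1, one_mul] at hu
    have huval : P₀.1 (z⁻¹ * x₁) = WithZero.exp (-1 : ℤ) := by
      rw [map_mul, map_inv₀, hzval, ff_val_eq_exp_neg_ord P₀ hx₁0, hx₁ord, neg_neg,
        ← WithZero.exp_neg, ← WithZero.exp_add]
      congr 1
      have : 1 ≤ m := by omega
      push_cast [Nat.cast_sub this]
      ring
    have h2 := hP₀S (z⁻¹ * x₁) (by
      rw [huval, ← WithZero.exp_zero, WithZero.exp_lt_exp]; norm_num)
    rw [hu, huval, WithZero.exp_le_exp] at h2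
    omega
  -- order sequences
  obtain ⟨J, hJ, -⟩ := ff_exists_isOrders hK ψ hψli τ H hH
  obtain ⟨J', hJ'⟩ := ff_exists_local_orders hK P₀ ht H hH ψ hψli hψint i₀ hi₀
  obtain ⟨hJ'mono, hJ'pos, hJ'ex, hJ'all⟩ := ff_isOrders_hcolAt H hK P₀ ht hH ψ hψint J' hJ'
  have hle := ff_tau_orders_le H hK τ P₀ hP₀S hn1 ψ h1mem hψint ht hH J hJ J' hJ'
  have hJ'le : ∀ l, J' l ≤ n + g := by
    intro l
    obtain ⟨f, hf, hfval⟩ := hJ'ex l
    have hf0 : f ≠ 0 := by
      rintro rfl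
      rw [map_zero] at hfval
      exact WithZero.exp_ne_zero hfval.symm
    have h1 := ff_local_order_le_deg hK ψ P₀ hψint i₀ hi₀ hf hf0
    have h2 : P₀.ord f = (J' l : ℤ) := by
      unfold Place.ord
      rw [hfval, WithZero.log_exp, neg_neg]
    rw [h2] at h1
    have := h1.trans hdegψ
    rw [hm] at this
    exact_mod_cast this
  have hJ'range : ∀ j, 1 ≤ j → j ≤ n - g → j ∈ Set.range J' := by
    intro j hj1 hj2
    refine hJ'all j hj1 ?_
    obtain ⟨x, hxL, hx0, hxord⟩ := ff_exists_ord_eq hK P₀ hdeg (m - j) (by omega)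
    have hxD : x ∈ L D := ff_L_single_mono P₀ (by push_cast; omega) hxL
    refine ⟨z⁻¹ * x, hmemψ x hxD, ?_⟩
    rw [map_mul, map_inv₀, hzval, ff_val_eq_exp_neg_ord P₀ hx0, hxord, neg_neg,
      ← WithZero.exp_neg, ← WithZero.exp_add]
    congr 1
    have : j ≤ m := by omega
    push_cast [Nat.cast_sub this]
    ring
  have hsumJ' := ff_two_mul_sum_orders_le hn J' hJ'mono hJ'pos hJ'le hJ'range
  have hsumJ_low := ff_two_mul_sum_strictMono_ge J hJ.1
  have hsumJJ' : ∑ l, J l + n ≤ ∑ l, J' l := by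
    have h1 : ∑ l : Fin n, (J l + 1) ≤ ∑ l, J' l := by
      refine Finset.sum_le_sum fun l _ => ?_
      have := hle l
      have := hJ'pos ⟨0, hn1⟩
      omega
    rw [Finset.sum_add_distrib, Finset.sum_const, Finset.card_univ, Fintype.card_fin,
      smul_eq_mul, mul_one] at h1
    exact h1
  obtain ⟨hfin, hbound⟩ := ff_strongFixedPt_bound hK τ ψ hψli hτψ t H hH J hJ
  refine ⟨hfin, ?_⟩
  -- arithmetic
  set N : ℕ := Set.ncard S with hN
  set s : ℕ := ∑ l, J l with hs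
  have hsZ : (∑ l, (J l : ℤ)) = (s : ℤ) := by rw [hs]; push_cast; rfl
  rw [hsZ] at hbound
  have hb1 : (n : ℤ) * (N : ℤ) ≤ ((n : ℤ) + q) * (mapDiv k ψ).deg + (2 * (g : ℤ) - 2) * s :=
    hbound
  have hs_up : 2 * (s : ℤ) + 2 * n ≤ (n : ℤ) * (n + 1) + 2 * (g : ℤ) ^ 2 := by
    have : 2 * s + 2 * n ≤ n * (n + 1) + 2 * g ^ 2 := by omega
    exact_mod_cast this
  have hs_low : (n : ℤ) * (n - 1) ≤ 2 * (s : ℤ) := by
    have h1 : (n : ℤ) * (n - 1) = ((n * (n - 1) : ℕ) : ℤ) := by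
      rw [Nat.cast_mul, Nat.cast_sub (by omega : 1 ≤ n)]; simp
    rw [h1]
    exact_mod_cast hsumJ_low
  have hq0 : (0 : ℤ) ≤ (n : ℤ) + q := by positivity
  have hb2 : ((n : ℤ) + q) * (mapDiv k ψ).deg ≤ ((n : ℤ) + q) * ((n : ℤ) + g) := by
    apply mul_le_mul_of_nonneg_left _ hq0
    rw [hm] at hdegψ
    exact_mod_cast hdegψ
  have hb3 : (2 * (g : ℤ) - 2) * s ≤ ((g : ℤ) - 1) * ((n : ℤ) * (n - 1) + 2 * (g : ℤ) ^ 2) := by
    rcases Nat.eq_zero_or_pos g with h0 | hpos
    · rw [h0]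
      push_cast
      nlinarith
    · have : (0 : ℤ) ≤ (g : ℤ) - 1 := by
        have : (1 : ℤ) ≤ g := by exact_mod_cast hpos
        linarith
      nlinarith
  have hZ : (n : ℤ) * (N : ℤ) ≤ ((n : ℤ) + q) * ((n : ℤ) + g) +
      ((g : ℤ) - 1) * ((n : ℤ) * (n - 1) + 2 * (g : ℤ) ^ 2) := by linarith
  have hR : (n : ℝ) * (N : ℝ) ≤ ((n : ℝ) + q) * ((n : ℝ) + g) +
      ((g : ℝ) - 1) * ((n : ℝ) * (n - 1) + 2 * (g : ℝ) ^ 2) := by exact_mod_cast hZ
  have hgoal : (1 + (q : ℝ) + ((n : ℝ) + (q : ℝ) / n) * g + 2 * (g : ℝ) ^ 2 * ((g : ℝ) - 1) / n) =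
      (((n : ℝ) + q) * ((n : ℝ) + g) +
        ((g : ℝ) - 1) * ((n : ℝ) * (n - 1) + 2 * (g : ℝ) ^ 2)) / n := by
    field_simp
    ring
  rw [hgoal, le_div_iff₀ hn0]
  linarith

end Groth.Agent.Lib.Helper55
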