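import Groth.Agent.Lib.Helper55.FunFld.HasseClassical

/-! Combinatorics of order sequences for the strong-fixed-point bound. -/

set_option autoImplicit false

namespace Groth.Agent.Lib.Helper55

theorem ff_orders_initial {n c : ℕ} (J' : Fin n → ℕ) (hmono : StrictMono J')
    (hpos : ∀ l, 1 ≤ J' l) (hrange : ∀ j, 1 ≤ j → j ≤ c → j ∈ Set.range J') :
    ∀ l : Fin n, (l : ℕ) < c → J' l = (l : ℕ) + 1 := by
  have key : ∀ (m : ℕ) (l : Fin n), (l : ℕ) = m → (l : ℕ) < c → J' l = (l : ℕ) + 1 := by
    intro m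
    induction m using Nat.strong_induction_on with
    | _ m ih =>
      intro l hlm hl
      have hn : 0 < n := by have := l.2; omega
      have h1 := ff_strictMono_fin_add_le J' hmono ⟨0, hn⟩ l (by rw [Fin.le_def]; simp)
      have h0 := hpos ⟨0, hn⟩
      simp only at h1
      have hge : (l : ℕ) + 1 ≤ J' l := by omega
      obtain ⟨l', hl'⟩ := hrange ((l : ℕ) + 1) (by omega) (by omega)
      have hll' : l ≤ l' := by
        by_contra hcon
        push Not at hcon
        have hlt : (l' : ℕ) < (l : ℕ) := hcon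
        have := ih (l' : ℕ) (by omega) l' rfl (by omega)
        omega
      have := hmono.monotone hll'
      omega
  intro l hl
  exact key _ l rfl hl

theorem ff_two_mul_sum_orders_le {n g : ℕ} (hgn : g < n) (J' : Fin n → ℕ) (hmono : StrictMono J')
    (hpos : ∀ l, 1 ≤ J' l) (hle : ∀ l, J' l ≤ n + g)
    (hrange : ∀ j, 1 ≤ j → j ≤ n - g → j ∈ Set.range J') :
    2 * ∑ l, J' l ≤ n * (n + 1) + 2 * g ^ 2 := by
  have hinit := ff_orders_initial J' hmono hpos hrange
  have hn : 0 < n := by omega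
  have hbound : ∀ l : Fin n, J' l ≤ (l : ℕ) + 1 + (if (l : ℕ) < n - g then 0 else g) := by
    intro l
    split_ifs with h
    · rw [hinit l h]
    · have h2 := ff_strictMono_fin_add_le J' hmono l ⟨n - 1, by omega⟩ (by
        rw [Fin.le_def]; have := l.2; simp; omega)
      have h3 := hle ⟨n - 1, by omega⟩
      simp only at h2
      have := l.2
      omega
  have h1 : ∑ l, J' l ≤ ∑ l : Fin n, ((l : ℕ) + 1 + (if (l : ℕ) < n - g then 0 else g)) :=
    Finset.sum_le_sum fun l _ => hbound l
  have h2 : ∑ l : Fin n, ((l : ℕ) + 1 + (if (l : ℕ) < n - g then 0 else g)) =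
      ∑ l ∈ Finset.range n, (l + 1 + (if l < n - g then 0 else g)) :=
    Fin.sum_univ_eq_sum_range (fun l => l + 1 + (if l < n - g then 0 else g)) n
  have h3 : ∑ l ∈ Finset.range n, (l + 1 + (if l < n - g then 0 else g)) =
      ∑ l ∈ Finset.range n, (l + 1) + g * g := by
    rw [Finset.sum_add_distrib]
    congr 1
    rw [Finset.range_eq_Ico, ← Finset.sum_Ico_consecutive _ (Nat.zero_le (n - g)) (Nat.sub_le n g)]
    have e1 : ∑ i ∈ Finset.Ico 0 (n - g), (if i < n - g then 0 else g) = 0 := by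
      apply Finset.sum_eq_zero
      intro i hi
      rw [Finset.mem_Ico] at hi
      rw [if_pos hi.2]
    have e2 : ∑ i ∈ Finset.Ico (n - g) n, (if i < n - g then 0 else g) =
        ∑ _i ∈ Finset.Ico (n - g) n, g := by
      apply Finset.sum_congr rfl
      intro i hi
      rw [Finset.mem_Ico] at hi
      rw [if_neg (by omega)]
    rw [e1, e2, Finset.sum_const, Nat.card_Ico, zero_add, smul_eq_mul]
    congr 1
    omega
  have h4 : 2 * ∑ l ∈ Finset.range n, (l + 1) = n * (n + 1) := by
    rw [Finset.sum_add_distrib, Finset.sum_const, Finset.card_range, smul_eq_mul, mul_one,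
      mul_add, mul_comm 2 (∑ i ∈ Finset.range n, i), Finset.sum_range_id_mul_two]
    cases n with
    | zero => omega
    | succ n => simp; ring
  rw [h2, h3] at h1
  calc 2 * ∑ l, J' l ≤ 2 * (∑ l ∈ Finset.range n, (l + 1) + g * g) := by omega
    _ = n * (n + 1) + 2 * g ^ 2 := by rw [mul_add, h4]; ring

theorem ff_two_mul_sum_strictMono_ge {n : ℕ} (J : Fin n → ℕ) (hmono : StrictMono J) :
    n * (n - 1) ≤ 2 * ∑ l, J l := by
  rcases Nat.eq_zero_or_pos n with h0 | hn
  · subst h0; simp
  have hb : ∀ l : Fin n, (l : ℕ) ≤ J l := by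
    intro l
    have h1 := ff_strictMono_fin_add_le J hmono ⟨0, hn⟩ l (by rw [Fin.le_def]; simp)
    simp only at h1
    omega
  have h1 : ∑ l : Fin n, (l : ℕ) ≤ ∑ l, J l := Finset.sum_le_sum fun l _ => hb l
  have h2 : ∑ l : Fin n, (l : ℕ) = ∑ l ∈ Finset.range n, l :=
    Fin.sum_univ_eq_sum_range (fun l => l) n
  have h3 := Finset.sum_range_id_mul_two n
  rw [h2] at h1
  calc n * (n - 1) = (∑ l ∈ Finset.range n, l) * 2 := h3.symm
    _ ≤ 2 * ∑ l, J l := by omega

end Groth.Agent.Lib.Helper55
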