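import Mathlib

set_option autoImplicit false
universe u

namespace Groth.Agent.Lib.Helper55.SchDom

open CategoryTheory Limits AlgebraicGeometry

set_option backward.isDefEq.respectTransparency false in
/-- Two morphisms to a separated target agreeing on a scheme-theoretically dominant subscheme
are equal. -/
theorem ext_of_schDominant {W X Y Z : Scheme.{u}} {f g : X ⟶ Y}
    (s : Y ⟶ Z) [IsSeparated s] (h : f ≫ s = g ≫ s)
    (ι : W ⟶ X) [IsSchemeTheoreticallyDominant ι] (hU : ι ≫ f = ι ≫ g) : f = g := by
  let X' : Over Z := Over.mk (f ≫ s)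
  let Y' : Over Z := Over.mk s
  let U' : Over Z := Over.mk (ι ≫ f ≫ s)
  let f' : X' ⟶ Y' := Over.homMk f
  let g' : X' ⟶ Y' := Over.homMk g
  let ι' : U' ⟶ X' := Over.homMk ι
  have : IsSeparated Y'.hom := ‹_›
  have hc : ι' ≫ f' = ι' ≫ g' := by
    ext1; exact hU
  have e : (equalizer.lift ι' hc).left ≫ (equalizer.ι f' g').left = ι := by
    rw [← Over.comp_left, equalizer.lift_ι]
    rfl
  have hk : (equalizer.ι f' g').left.ker = ⊥ := by
    have := Scheme.Hom.le_ker_comp (equalizer.lift ι' hc).left (equalizer.ι f' g').left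
    rw [e, ι.ker_eq_bot] at this
    exact le_bot_iff.mp this
  have := IsClosedImmersion.isIso_iff_ker_eq_bot.mpr hk
  rw [← cancel_epi (equalizer.ι f' g').left]
  exact congr($(equalizer.condition f' g').left)

end Groth.Agent.Lib.Helper55.SchDom
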