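import Groth.Agent.Lib.Helper55.FunFld.SchDom

set_option autoImplicit false
universe u

namespace Groth.Agent.Lib.Helper55.SchDom

open CategoryTheory Limits AlgebraicGeometry

/-- the generic point of a domain is scheme-theoretically dominant -/
theorem isSchDom_genPt (R K : Type u) [CommRing R] [IsDomain R] [Field K] [Algebra R K]
    [IsFractionRing R K] :
    IsSchemeTheoreticallyDominant (Spec.map (CommRingCat.ofHom (algebraMap R K))) := by
  have hdom : IsDominant (Spec.map (CommRingCat.ofHom (algebraMap R K))) := ⟨by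
    change DenseRange (PrimeSpectrum.comap (algebraMap R K))
    rw [PrimeSpectrum.denseRange_comap_iff_ker_le_nilRadical,
      (RingHom.injective_iff_ker_eq_bot _).mp (IsFractionRing.injective R K)]
    exact bot_le⟩
  exact IsSchemeTheoreticallyDominant.of_isDominant _

/-- A morphism from a scheme `Z` lands in a closed subscheme as soon as it does so on a
scheme-theoretically dominant `j : W ⟶ Z`. -/
theorem exists_lift_of_schDominant {W Z Γ P : Scheme.{u}} (i : Γ ⟶ P) [IsClosedImmersion i]
    (w : Z ⟶ P) (j : W ⟶ Z) [IsSchemeTheoreticallyDominant j] (cK : W ⟶ Γ)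
    (hc : cK ≫ i = j ≫ w) : ∃ c : Z ⟶ Γ, c ≫ i = w := by
  have hk : (pullback.snd i w).ker = ⊥ := by
    have := Scheme.Hom.le_ker_comp (pullback.lift cK j hc) (pullback.snd i w)
    rw [pullback.lift_snd, j.ker_eq_bot] at this
    exact le_bot_iff.mp this
  have : IsIso (pullback.snd i w) := IsClosedImmersion.isIso_iff_ker_eq_bot.mpr hk
  refine ⟨inv (pullback.snd i w) ≫ pullback.fst i w, ?_⟩
  rw [Category.assoc, pullback.condition, IsIso.inv_hom_id_assoc]

end Groth.Agent.Lib.Helper55.SchDom
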