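import Groth.Agent.Lib.Helper55.FunFld.SchDom

set_option autoImplicit false
universe u

namespace Groth.Agent.Lib.Helper55.SchDom

open CategoryTheory Limits AlgebraicGeometry

/-- an open subscheme of a locally Noetherian scheme containing all associated points is
scheme-theoretically dense. -/
theorem isSchDom_of_ass {S : Scheme.{u}} [IsLocallyNoetherian S] (U : S.Opens) [QuasiCompact U.ι]
    (hU : ∀ s : S, IsLocalRing.maximalIdeal (S.presheaf.stalk s) ∈
        associatedPrimes (S.presheaf.stalk s) (S.presheaf.stalk s) → s ∈ U) :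
    IsSchemeTheoreticallyDominant U.ι := by
  constructor
  ext V : 2
  rw [Scheme.Hom.ker_apply]
  change _ = (⊥ : Ideal _)
  rw [eq_bot_iff]
  intro a ha
  rw [RingHom.mem_ker] at ha
  rw [Ideal.mem_bot]
  by_contra hne
  have hN : IsNoetherianRing Γ(S, V.1) := IsLocallyNoetherian.component_noetherian V
  obtain ⟨P, hP, hle⟩ := exists_le_isAssociatedPrime_of_isNoetherianRing Γ(S, V.1) a hne
  have hPp : P.IsPrime := hP.isPrime
  let y : PrimeSpectrum Γ(S, V.1) := ⟨P, hPp⟩
  have hy : V.2.fromSpec y ∈ V.1 := by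
    have := V.2.range_fromSpec
    rw [← SetLike.mem_coe, ← this]
    exact ⟨y, rfl⟩
  let _ := TopCat.Presheaf.algebra_section_stalk S.presheaf ⟨V.2.fromSpec y, hy⟩
  have hloc : IsLocalization.AtPrime (S.presheaf.stalk (V.2.fromSpec y)) P :=
    V.2.isLocalization_stalk' y hy
  have hlm : IsLocalizedModule P.primeCompl
      (Algebra.linearMap Γ(S, V.1) (S.presheaf.stalk (V.2.fromSpec y))) :=
    (isLocalizedModule_iff_isLocalization' P.primeCompl _).mpr hloc
  have hmem : V.2.fromSpec y ∈ U := by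
    apply hU
    apply Module.associatedPrimes.mem_associatedPrimes_of_comap_mem_associatedPrimes_of_isLocalizedModule
      P.primeCompl (Algebra.linearMap Γ(S, V.1) (S.presheaf.stalk (V.2.fromSpec y)))
    have := IsLocalization.AtPrime.under_maximalIdeal (S.presheaf.stalk (V.2.fromSpec y)) P
    rw [Ideal.under_def] at this
    rw [this]
    exact hP
  have hgerm : algebraMap Γ(S, V.1) (S.presheaf.stalk (V.2.fromSpec y)) a = 0 := by
    change S.presheaf.germ V.1 (V.2.fromSpec y) hy a = 0
    rw [Scheme.Opens.ι_app] at ha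
    have hx : V.2.fromSpec y ∈ U.ι ''ᵁ U.ι ⁻¹ᵁ V.1 := by
      refine ⟨⟨V.2.fromSpec y, hmem⟩, ?_, rfl⟩
      exact hy
    rw [← TopCat.Presheaf.germ_res_apply S.presheaf
      (homOfLE (Set.image_preimage_subset _ _) : U.ι ''ᵁ U.ι ⁻¹ᵁ V.1 ⟶ V.1) _ hx a]
    erw [ha, map_zero]
  rw [IsLocalization.map_eq_zero_iff P.primeCompl] at hgerm
  obtain ⟨t, ht⟩ := hgerm
  apply t.2
  apply hle
  rw [Submodule.mem_colon_singleton, Submodule.mem_bot]
  exact ht

end Groth.Agent.Lib.Helper55.SchDom
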