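import Groth.Prelude.Def_SGA7a
import Mathlib

set_option autoImplicit false
universe u

namespace Groth.Agent.Lib.Helper55.Tame

open Polynomial

section U
variable {Ω : Type*} [Field Ω] {Γ : Type*} [LinearOrderedCommGroupWithZero Γ] (v : Valuation Ω Γ)

theorem val_eq_one_of_val_pow_eq_one {x : Ω} {r : ℕ} (hr : 0 < r) (h : v x ^ r = 1) : v x = 1 := by
  rcases lt_trichotomy (v x) 1 with h1 | h1 | h1
  · exact absurd h (pow_lt_one₀ zero_le h1 hr.ne').ne
  · exact h1
  · exact absurd h (one_lt_pow₀ h1 hr.ne').ne'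

/-- a root of unity has valuation one -/
theorem val_eq_one_of_pow_eq_one {ζ : Ω} {r : ℕ} (hr : 0 < r) (h : ζ ^ r = 1) : v ζ = 1 :=
  val_eq_one_of_val_pow_eq_one v hr (by rw [← map_pow, h, map_one])

theorem val_geom_sum_le {x : Ω} (hx : v x ≤ 1) (n : ℕ) : v (∑ i ∈ Finset.range n, x ^ i) ≤ 1 := by
  apply Valuation.map_sum_le
  intro i _
  rw [map_pow]
  exact pow_le_one₀ zero_le hx

/-- distinct roots of unity of order prime to the residue characteristic are not congruent -/
theorem val_sub_one_eq_one {ζ : Ω} {r : ℕ} (hr : 0 < r) (hvr : v (r : Ω) = 1)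
    (h : ζ ^ r = 1) (h1 : ζ ≠ 1) : v (ζ - 1) = 1 := by
  have hζ : v ζ = 1 := val_eq_one_of_pow_eq_one v hr h
  have hle : v (ζ - 1) ≤ 1 := by
    refine (Valuation.map_sub _ _ _).trans ?_
    simp [hζ]
  rcases hle.lt_or_eq with hlt | heq
  · exfalso
    have hsum : ∑ i ∈ Finset.range r, ζ ^ i = 0 := by
      have := geom_sum_mul ζ r
      rw [h, sub_self] at this
      rcases mul_eq_zero.mp this with h2 | h2
      · exact h2
      · exact absurd (sub_eq_zero.mp h2) h1
    have hr' : (r : Ω) = ∑ j ∈ Finset.range r, (1 - ζ ^ j) := by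
      rw [Finset.sum_sub_distrib, hsum]
      simp
    have : v (r : Ω) < 1 := by
      rw [hr']
      apply Valuation.map_sum_lt _ one_ne_zero
      intro j _
      have : (1 : Ω) - ζ ^ j = - ((∑ i ∈ Finset.range j, ζ ^ i) * (ζ - 1)) := by
        rw [geom_sum_mul]; ring
      rw [this, Valuation.map_neg, map_mul]
      calc v (∑ i ∈ Finset.range j, ζ ^ i) * v (ζ - 1) ≤ 1 * v (ζ - 1) :=
            mul_le_mul_left (val_geom_sum_le v hζ.le j) _
        _ < 1 := by rwa [one_mul]
    exact absurd hvr this.ne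
  · exact heq

end U

section T
variable {K Ω : Type*} [Field K] [Field Ω] [Algebra K Ω] [IsGalois K Ω]
  {Γ : Type*} [LinearOrderedCommGroupWithZero Γ] (v : Valuation Ω Γ)

/-- descent of `r`-th roots of units along inertia -/
theorem mem_of_pow_mem (hI : ∀ σ : Ω ≃ₐ[K] Ω, ∀ x, v x ≤ 1 → v (σ x - x) < 1)
    {r : ℕ} (hr : 0 < r) (hvr : v (r : Ω) = 1) (F : IntermediateField K Ω) {t : Ω}
    (ht : v t = 1) (htr : t ^ r ∈ F) : t ∈ F := by
  rw [← InfiniteGalois.fixedField_fixingSubgroup F, IntermediateField.mem_fixedField_iff]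
  intro σ hσ
  have ht0 : t ≠ 0 := by
    rintro rfl
    simp at ht
  have h1 : σ t ^ r = t ^ r := by
    rw [← map_pow]
    exact hσ ⟨t ^ r, htr⟩
  by_contra hne
  have hζ : (σ t / t) ^ r = 1 := by
    rw [div_pow, h1, div_self (pow_ne_zero _ ht0)]
  have hζ1 : σ t / t ≠ 1 := by
    intro h
    exact hne ((div_eq_one_iff_eq ht0).mp h)
  have := val_sub_one_eq_one v hr hvr hζ hζ1
  have h2 : σ t - t = (σ t / t - 1) * t := by
    field_simp
  have h3 := hI σ t ht.le
  rw [h2, map_mul, this, ht, one_mul] at h3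
  exact lt_irrefl _ h3

end T

end Groth.Agent.Lib.Helper55.Tame
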