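import Groth.Agent.Lib.Helper55.FunFld.Tame1

set_option autoImplicit false
set_option linter.unusedSectionVars false
universe u

namespace Groth.Agent.Lib.Helper55.Tame

open Polynomial

section K
variable {R K L : Type*} [CommRing R] [Field K] [Algebra R K]
  [Field L] [Algebra K L] [Algebra R L] [IsScalarTower R K L]
  {Γ : Type*} [LinearOrderedCommGroupWithZero Γ] (v : Valuation L Γ)

theorem val_le_one_of_isIntegral (hv1 : ∀ a : R, v (algebraMap R L a) ≤ 1) {x : L}
    (hx : IsIntegral R x) : v x ≤ 1 := by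
  obtain ⟨p, hp, hpx⟩ := hx
  let f : R →+* v.integer := (algebraMap R L).codRestrict v.integer hv1
  have : IsIntegral v.integer x := by
    refine ⟨p.map f, hp.map f, ?_⟩
    rw [eval₂_map]
    exact hpx
  exact (Valuation.integer.integers v).mem_of_integral this

/-- the ideal of elements of positive valuation in the integral closure -/
def P0 (hv1 : ∀ a : R, v (algebraMap R L a) ≤ 1) : Ideal (integralClosure R L) where
  carrier := {b | v (b : L) < 1}
  add_mem' := fun {a b} ha hb => lt_of_le_of_lt (v.map_add _ _) (max_lt ha hb)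
  zero_mem' := by simp
  smul_mem' := fun c b hb => by
    change v ((c * b : integralClosure R L) : L) < 1
    rw [MulMemClass.coe_mul, map_mul]
    calc v (c : L) * v (b : L) ≤ 1 * v (b : L) :=
          mul_le_mul_left (val_le_one_of_isIntegral v hv1 c.2) _
      _ < 1 := by rw [one_mul]; exact hb

theorem mem_P0 (hv1 : ∀ a : R, v (algebraMap R L a) ≤ 1) (b : integralClosure R L) :
    b ∈ P0 v hv1 ↔ v (b : L) < 1 := Iff.rfl

theorem P0_ne_top (hv1 : ∀ a : R, v (algebraMap R L a) ≤ 1) : P0 v hv1 ≠ ⊤ := by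
  intro h
  have : (1 : integralClosure R L) ∈ P0 v hv1 := h ▸ Submodule.mem_top
  rw [mem_P0] at this
  simp at this

variable [IsIntegrallyClosed R] [IsFractionRing R K] [FiniteDimensional K L] [IsGalois K L]

theorem exists_eq_prod_aut {x : L} (hx : IsIntegral R x) :
    ∃ a : R, algebraMap R L a = ∏ σ : L ≃ₐ[K] L, σ x := by
  have h1 := Algebra.isIntegral_norm K hx
  obtain ⟨a, ha⟩ := IsIntegrallyClosed.isIntegral_iff.mp h1
  refine ⟨a, ?_⟩
  rw [← Algebra.norm_eq_prod_automorphisms, ← ha, ← IsScalarTower.algebraMap_apply]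

theorem exists_eq_sum_aut {x : L} (hx : IsIntegral R x) :
    ∃ a : R, algebraMap R L a = ∑ σ : L ≃ₐ[K] L, σ x := by
  have h1 := Algebra.isIntegral_trace (L := K) hx
  obtain ⟨a, ha⟩ := IsIntegrallyClosed.isIntegral_iff.mp h1
  refine ⟨a, ?_⟩
  rw [← trace_eq_sum_automorphisms, ← ha, ← IsScalarTower.algebraMap_apply]


variable [IsLocalRing R]

theorem le_P0 (hv1 : ∀ a : R, v (algebraMap R L a) ≤ 1)
    (hvm : ∀ a ∈ IsLocalRing.maximalIdeal R, v (algebraMap R L a) < 1)
    (hI : ∀ σ : L ≃ₐ[K] L, ∀ x, v x ≤ 1 → v (σ x - x) < 1)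
    (P : Ideal (integralClosure R L)) [hP : P.IsMaximal] : P ≤ P0 v hv1 := by
  intro b hb
  obtain ⟨a, ha⟩ := exists_eq_prod_aut (K := K) b.2
  have hmem : algebraMap R (integralClosure R L) a ∈ P := by
    have : algebraMap R (integralClosure R L) a =
        ∏ σ : L ≃ₐ[K] L, (⟨σ b, b.2.map σ⟩ : integralClosure R L) := by
      apply Subtype.ext
      rw [Subalgebra.coe_algebraMap, ha]
      simp
    rw [this]
    exact Ideal.prod_mem P (Finset.mem_univ (1 : L ≃ₐ[K] L)) (by simpa using hb)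
  have hmax : (P.comap (algebraMap R (integralClosure R L))).IsMaximal :=
    Ideal.isMaximal_comap_of_isIntegral_of_isMaximal P
  have h2 : P.comap (algebraMap R (integralClosure R L)) = IsLocalRing.maximalIdeal R :=
    IsLocalRing.eq_maximalIdeal hmax
  have ham : a ∈ IsLocalRing.maximalIdeal R := by
    rw [← h2]; exact hmem
  have hva := hvm a ham
  rw [ha, map_prod] at hva
  rw [mem_P0]
  by_contra hb1
  have hall : ∀ σ : L ≃ₐ[K] L, v (σ b) = 1 := by
    intro σ
    have h3 : v (σ b) ≤ 1 := val_le_one_of_isIntegral v hv1 (b.2.map σ)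
    rcases h3.lt_or_eq with h4 | h4
    · exfalso
      apply hb1
      have h5 := hI σ⁻¹ (σ b) h3
      have h6 : (b : L) = (σ⁻¹ (σ b) - σ b) + σ b := by
        simp
      rw [h6]
      exact lt_of_le_of_lt (v.map_add _ _) (max_lt h5 h4)
    · exact h4
  rw [Finset.prod_eq_one (fun σ _ => hall σ)] at hva
  exact lt_irrefl _ hva


theorem exists_sub_mem_P0 (hv1 : ∀ a : R, v (algebraMap R L a) ≤ 1)
    (hI : ∀ σ : L ≃ₐ[K] L, ∀ x, v x ≤ 1 → v (σ x - x) < 1)
    {r : ℕ} (hr : IsUnit (r : R)) (hfr : Module.finrank K L = r) (b : integralClosure R L) :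
    ∃ a : R, b - algebraMap R (integralClosure R L) a ∈ P0 v hv1 := by
  obtain ⟨a', ha'⟩ := exists_eq_sum_aut (K := K) b.2
  obtain ⟨u, hu⟩ := hr
  refine ⟨↑u⁻¹ * a', ?_⟩
  rw [mem_P0]
  have hcard : Fintype.card (L ≃ₐ[K] L) = r := by
    rw [← Nat.card_eq_fintype_card, IsGalois.card_aut_eq_finrank, hfr]
  have hu' : algebraMap R L ↑u = (r : L) := by
    rw [hu, map_natCast]
  have huu : algebraMap R L ↑u⁻¹ * (r : L) = 1 := by
    rw [← hu', ← map_mul]
    simp
  have h1 : ((b - algebraMap R (integralClosure R L) (↑u⁻¹ * a') : integralClosure R L) : L)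
      = - (algebraMap R L ↑u⁻¹ * ∑ σ : L ≃ₐ[K] L, (σ b - b)) := by
    rw [Finset.sum_sub_distrib, ← ha', Finset.sum_const, Finset.card_univ, hcard, nsmul_eq_mul,
      AddSubgroupClass.coe_sub, Subalgebra.coe_algebraMap, map_mul, mul_sub, ← mul_assoc, huu]
    ring
  rw [h1, Valuation.map_neg, map_mul]
  calc v (algebraMap R L ↑u⁻¹) * v (∑ σ : L ≃ₐ[K] L, (σ b - b))
      ≤ 1 * v (∑ σ : L ≃ₐ[K] L, (σ (b : L) - b)) := mul_le_mul_left (hv1 _) _
    _ < 1 := by
      rw [one_mul]
      apply Valuation.map_sum_lt _ one_ne_zero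
      intro σ _
      exact hI σ b (val_le_one_of_isIntegral v hv1 b.2)

end K

end Groth.Agent.Lib.Helper55.Tame
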