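import Groth.Agent.Lib.Helper55.FunFld.Tame2

set_option autoImplicit false
set_option linter.unusedSectionVars false
universe u

namespace Groth.Agent.Lib.Helper55.Tame

open Polynomial

theorem isTorsionFree_RL (R K L : Type*) [CommRing R] [IsDomain R] [Field K] [Algebra R K]
    [IsFractionRing R K] [Field L] [Algebra K L] [Algebra R L] [IsScalarTower R K L] :
    Module.IsTorsionFree R L := by
  rw [Module.isTorsionFree_iff_algebraMap_injective, IsScalarTower.algebraMap_eq R K L]
  exact (algebraMap K L).injective.comp (IsFractionRing.injective R K)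

section K
variable {R K L : Type*} [CommRing R] [IsDomain R] [IsDiscreteValuationRing R] [Field K] [Algebra R K]
  [IsFractionRing R K]
  [Field L] [Algebra K L] [Algebra R L] [IsScalarTower R K L] [FiniteDimensional K L] [IsGalois K L]
  {Γ : Type*} [LinearOrderedCommGroupWithZero Γ] (v : Valuation L Γ)

theorem P0_isMaximal (hv1 : ∀ a : R, v (algebraMap R L a) ≤ 1)
    (hvm : ∀ a ∈ IsLocalRing.maximalIdeal R, v (algebraMap R L a) < 1)
    (hI : ∀ σ : L ≃ₐ[K] L, ∀ x, v x ≤ 1 → v (σ x - x) < 1) : (P0 v hv1).IsMaximal := by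
  obtain ⟨M, hM⟩ := Ideal.exists_maximal (integralClosure R L)
  have := hM.eq_of_le (P0_ne_top v hv1) (le_P0 (K := K) v hv1 hvm hI M)
  rwa [← this]

theorem eq_P0 (hv1 : ∀ a : R, v (algebraMap R L a) ≤ 1)
    (hvm : ∀ a ∈ IsLocalRing.maximalIdeal R, v (algebraMap R L a) < 1)
    (hI : ∀ σ : L ≃ₐ[K] L, ∀ x, v x ≤ 1 → v (σ x - x) < 1)
    (P : Ideal (integralClosure R L)) [hP : P.IsMaximal] : P = P0 v hv1 :=
  hP.eq_of_le (P0_ne_top v hv1) (le_P0 (K := K) v hv1 hvm hI P)


theorem ramificationIdx_P0 (hv1 : ∀ a : R, v (algebraMap R L a) ≤ 1)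
    (hvm : ∀ a ∈ IsLocalRing.maximalIdeal R, v (algebraMap R L a) < 1)
    (hI : ∀ σ : L ≃ₐ[K] L, ∀ x, v x ≤ 1 → v (σ x - x) < 1)
    {r : ℕ} (hr : IsUnit (r : R)) (hfr : Module.finrank K L = r) :
    (P0 v hv1).ramificationIdx R = r := by
  have htf : Module.IsTorsionFree R L := isTorsionFree_RL R K L
  have hfin : Module.Finite R (integralClosure R L) := IsIntegralClosure.finite R K L _
  have hfree : Module.Free R (integralClosure R L) := IsIntegralClosure.module_free R K L _
  have hrank : Module.finrank R (integralClosure R L) = r := by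
    rw [IsIntegralClosure.rank R K L, hfr]
  have hmax := P0_isMaximal (K := K) v hv1 hvm hI
  set m := IsLocalRing.maximalIdeal R with hm
  have hlo : (P0 v hv1).LiesOver m :=
    ⟨(IsLocalRing.eq_maximalIdeal (Ideal.isMaximal_comap_of_isIntegral_of_isMaximal _)).symm⟩
  let _ : Unique (m.primesOver (integralClosure R L)) :=
    { default := ⟨P0 v hv1, hmax.isPrime, hlo⟩
      uniq := fun q => by
        have h1 : q.1.IsPrime := q.2.1
        have h2 : q.1.LiesOver m := q.2.2
        have h3 : q.1.IsMaximal := Ideal.IsMaximal.of_liesOver_isMaximal q.1 m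
        exact Subtype.ext (eq_P0 (K := K) v hv1 hvm hI q.1) }
  have hsum := Ideal.sum_ramification_inertia_eq_finrank m (integralClosure R L)
  rw [Fintype.sum_unique, hrank] at hsum
  have hnt : Nontrivial (integralClosure R L ⧸ P0 v hv1) :=
    Ideal.Quotient.nontrivial_iff.mpr hmax.ne_top
  have hf : (P0 v hv1).inertiaDeg R = 1 := by
    rw [Ideal.inertiaDeg_eq_of_isMaximal m (P0 v hv1)]
    have hsurj : Function.Surjective
        (algebraMap (R ⧸ m) (integralClosure R L ⧸ P0 v hv1)) := by
      intro w
      obtain ⟨b, rfl⟩ := Ideal.Quotient.mk_surjective w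
      obtain ⟨a, ha⟩ := exists_sub_mem_P0 (K := K) v hv1 hI hr hfr b
      refine ⟨Ideal.Quotient.mk m a, ?_⟩
      rw [Ideal.Quotient.algebraMap_mk_of_liesOver, eq_comm, Ideal.Quotient.eq]
      exact ha
    have hinj : Function.Injective
        (algebraMap (R ⧸ m) (integralClosure R L ⧸ P0 v hv1)) :=
      FaithfulSMul.algebraMap_injective _ _
    let e := LinearEquiv.ofBijective
      (Algebra.linearMap (R ⧸ m) (integralClosure R L ⧸ P0 v hv1)) ⟨hinj, hsurj⟩
    rw [← e.finrank_eq, Module.finrank_self]
  change (P0 v hv1).ramificationIdx R * (P0 v hv1).inertiaDeg R = r at hsum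
  rw [hf, mul_one] at hsum
  exact hsum


theorem exists_val_pow_eq (hv1 : ∀ a : R, v (algebraMap R L a) ≤ 1)
    (hvm : ∀ a ∈ IsLocalRing.maximalIdeal R, v (algebraMap R L a) < 1)
    (hI : ∀ σ : L ≃ₐ[K] L, ∀ x, v x ≤ 1 → v (σ x - x) < 1)
    {r : ℕ} (hr : IsUnit (r : R)) (hfr : Module.finrank K L = r) {π : R} (hπ : Irreducible π) :
    ∃ y : L, v y ^ r = v (algebraMap R L π) := by
  have htf : Module.IsTorsionFree R L := isTorsionFree_RL R K L
  have hsep : Algebra.IsSeparable K L := inferInstance
  have hdd : IsDedekindDomain (integralClosure R L) := integralClosure.isDedekindDomain R K L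
  have hmax := P0_isMaximal (K := K) v hv1 hvm hI
  have hloc : IsLocalRing (integralClosure R L) :=
    IsLocalRing.of_unique_max_ideal ⟨P0 v hv1, hmax, fun P hP => eq_P0 (K := K) v hv1 hvm hI P⟩
  have hinjB : Function.Injective (algebraMap R (integralClosure R L)) := by
    intro a b hab
    have h1 : algebraMap R L a = algebraMap R L b := by
      have := congrArg (fun x : integralClosure R L => (x : L)) hab
      simpa using this
    exact (Module.isTorsionFree_iff_algebraMap_injective.mp htf) h1
  have hπB : algebraMap R (integralClosure R L) π ≠ 0 := by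
    intro h
    rw [← map_zero (algebraMap R (integralClosure R L))] at h
    exact hπ.ne_zero (hinjB h)
  have hπm : π ∈ IsLocalRing.maximalIdeal R := by
    rw [IsLocalRing.mem_maximalIdeal]
    exact hπ.not_isUnit
  have hπP : algebraMap R (integralClosure R L) π ∈ P0 v hv1 := by
    rw [mem_P0]
    exact hvm π hπm
  have hnf : ¬ IsField (integralClosure R L) := by
    intro hF
    letI := hF.toField
    have : IsUnit (algebraMap R (integralClosure R L) π) := hπB.isUnit
    exact P0_ne_top v hv1 (Ideal.eq_top_of_isUnit_mem _ hπP this)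
  have hdvr : IsDiscreteValuationRing (integralClosure R L) :=
    ((IsDiscreteValuationRing.TFAE (integralClosure R L) hnf).out 2 0).mp hdd
  obtain ⟨ϖ, hϖ⟩ := IsDiscreteValuationRing.exists_irreducible (integralClosure R L)
  obtain ⟨n, hn⟩ := IsDiscreteValuationRing.associated_pow_irreducible hπB hϖ
  have hP0 : P0 v hv1 = Ideal.span {ϖ} := by
    rw [← hϖ.maximalIdeal_eq]
    exact IsLocalRing.eq_maximalIdeal hmax
  have hlo : (P0 v hv1).LiesOver (IsLocalRing.maximalIdeal R) :=
    ⟨(IsLocalRing.eq_maximalIdeal (Ideal.isMaximal_comap_of_isIntegral_of_isMaximal _)).symm⟩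
  have hmap : Ideal.map (algebraMap R (integralClosure R L)) (IsLocalRing.maximalIdeal R)
      = Ideal.span {ϖ ^ n} := by
    rw [hπ.maximalIdeal_eq, Ideal.map_span, Set.image_singleton]
    exact Ideal.span_singleton_eq_span_singleton.mpr hn
  have hn_r : n = r := by
    have h1 : (IsLocalRing.maximalIdeal R).ramificationIdx' (P0 v hv1) = n := by
      apply Ideal.ramificationIdx'_spec
      · rw [hmap, hP0, Ideal.span_singleton_pow]
      · rw [hmap, hP0, Ideal.span_singleton_pow, Ideal.span_singleton_le_span_singleton,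
          pow_dvd_pow_iff hϖ.ne_zero hϖ.not_isUnit]
        omega
    have hprime : (P0 v hv1).IsPrime := hmax.isPrime
    have htfB : Module.IsTorsionFree R (integralClosure R L) :=
      Module.isTorsionFree_iff_algebraMap_injective.mpr hinjB
    rw [Ideal.ramificationIdx'_eq_ramificationIdx (IsLocalRing.maximalIdeal R) (P0 v hv1)
      (IsDiscreteValuationRing.not_a_field R), ramificationIdx_P0 (K := K) v hv1 hvm hI hr hfr] at h1
    exact h1.symm
  subst hn_r
  refine ⟨(ϖ : L), ?_⟩
  obtain ⟨u, hu⟩ := hn
  have hvu : v ((u : integralClosure R L) : L) = 1 := by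
    have h1 : v ((u : integralClosure R L) : L) ≤ 1 := val_le_one_of_isIntegral v hv1 (u : integralClosure R L).2
    have h2 : v (((u⁻¹ : (integralClosure R L)ˣ) : integralClosure R L) : L) ≤ 1 :=
      val_le_one_of_isIntegral v hv1 ((u⁻¹ : (integralClosure R L)ˣ) : integralClosure R L).2
    have h3 : v ((u : integralClosure R L) : L) * v (((u⁻¹ : (integralClosure R L)ˣ) : integralClosure R L) : L) = 1 := by
      rw [← map_mul, ← MulMemClass.coe_mul, Units.mul_inv]
      simp
    rcases h1.lt_or_eq with h4 | h4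
    · exfalso
      have : v ((u : integralClosure R L) : L) * v (((u⁻¹ : (integralClosure R L)ˣ) : integralClosure R L) : L) < 1 :=
        mul_lt_one_of_lt_of_le h4 h2
      exact absurd h3 this.ne
    · exact h4
  have h5 := congrArg (fun x : integralClosure R L => v (x : L)) hu
  simp only [MulMemClass.coe_mul, map_mul, hvu, mul_one, SubmonoidClass.coe_pow, map_pow,
    Subalgebra.coe_algebraMap] at h5
  exact h5.symm

end K

end Groth.Agent.Lib.Helper55.Tame
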