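import Groth.Agent.Lib.Helper55.FunFld.Tame3

set_option autoImplicit false
set_option linter.unusedSectionVars false
universe u

namespace Groth.Agent.Lib.Helper55.Tame

open Polynomial IntermediateField

section Main
variable {R K Ω : Type u} [CommRing R] [IsDomain R] [IsDiscreteValuationRing R] [Field K]
  [Algebra R K] [IsFractionRing R K] [Field Ω] [Algebra K Ω] [IsSepClosure K Ω] [Algebra R Ω]
  [IsScalarTower R K Ω] (W : ValuationSubring Ω)
  (hv1 : ∀ a : R, W.valuation (algebraMap R Ω a) ≤ 1)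
  (hvm : ∀ a ∈ IsLocalRing.maximalIdeal R, W.valuation (algebraMap R Ω a) < 1)
  (hI : ∀ σ : Ω ≃ₐ[K] Ω, ∀ x, W.valuation x ≤ 1 → W.valuation (σ x - x) < 1)
  {r : ℕ} (hr : 0 < r) (hru : IsUnit (r : R))

include hv1 in
theorem val_unit_eq_one (u : Rˣ) : W.valuation (algebraMap R Ω u) = 1 := by
  have h1 := hv1 u
  have h2 := hv1 ↑u⁻¹
  have h3 : W.valuation (algebraMap R Ω u) * W.valuation (algebraMap R Ω ↑u⁻¹) = 1 := by
    rw [← map_mul, ← map_mul]
    simp
  rcases h1.lt_or_eq with h4 | h4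
  · exfalso
    exact absurd h3 (mul_lt_one_of_lt_of_le h4 h2).ne
  · exact h4

include hv1 hru in
theorem val_natCast_eq_one : W.valuation (r : Ω) = 1 := by
  obtain ⟨u, hu⟩ := hru
  have := val_unit_eq_one W hv1 u
  rwa [hu, map_natCast] at this

include hv1 hI hr hru in
theorem exists_primitiveRoot : ∃ ζ : K, IsPrimitiveRoot ζ r := by
  have hvr := val_natCast_eq_one W hv1 hru
  have hne : NeZero (r : Ω) := ⟨by
    intro h
    rw [h, map_zero] at hvr
    exact zero_ne_one hvr⟩
  have hsc : IsSepClosed Ω := IsSepClosure.sep_closed K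
  obtain ⟨ζ, hζ⟩ := HasEnoughRootsOfUnity.exists_primitiveRoot Ω r
  have hmem : ζ ∈ (⊥ : IntermediateField K Ω) := by
    apply mem_of_pow_mem W.valuation hI hr hvr ⊥ (val_eq_one_of_pow_eq_one _ hr hζ.pow_eq_one)
    rw [hζ.pow_eq_one]
    exact one_mem _
  rw [IntermediateField.mem_bot] at hmem
  obtain ⟨z, rfl⟩ := hmem
  exact ⟨z, hζ.of_map_of_injective (algebraMap K Ω).injective⟩

omit [IsSepClosure K Ω] [Algebra R Ω] [IsScalarTower R K Ω] in
theorem irreducible_X_pow_sub_C (hr : 0 < r) {π : R} (hπ : Irreducible π) :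
    Irreducible (X ^ r - C (algebraMap R K π) : K[X]) := by
  have hmonic : (X ^ r - C π : R[X]).Monic := monic_X_pow_sub_C π hr.ne'
  have h1 : Irreducible (X ^ r - C π : R[X]) := by
    apply irreducible_of_eisenstein_criterion (P := IsLocalRing.maximalIdeal R)
      (IsLocalRing.maximalIdeal.isMaximal R).isPrime
    · rw [hmonic.leadingCoeff]
      exact fun h => (IsLocalRing.maximalIdeal.isMaximal R).ne_top
        ((Ideal.eq_top_iff_one _).mpr h)
    · intro n hn
      rw [degree_X_pow_sub_C hr] at hn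
      have hn' : n < r := by exact_mod_cast hn
      rw [coeff_sub, coeff_X_pow, coeff_C, if_neg hn'.ne, zero_sub]
      split_ifs
      · rw [neg_mem_iff, IsLocalRing.mem_maximalIdeal]; exact hπ.not_isUnit
      · simp
    · rw [degree_X_pow_sub_C hr]
      exact_mod_cast hr
    · rw [coeff_sub, coeff_X_pow, coeff_C, if_neg hr.ne, zero_sub, if_pos rfl, neg_mem_iff,
        hπ.maximalIdeal_eq, Ideal.span_singleton_pow, Ideal.mem_span_singleton]
      intro h
      have : π ^ 2 ∣ π ^ 1 := by simpa using h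
      rw [pow_dvd_pow_iff hπ.ne_zero hπ.not_isUnit] at this
      omega
    · exact hmonic.isPrimitive
  have h2 := (Monic.irreducible_iff_irreducible_map_fraction_map (K := K) hmonic).mp h1
  simpa using h2


omit [IsSepClosure K Ω] in
theorem minpoly_root (hr : 0 < r) {π : R} (hπ : Irreducible π) {ρ : Ω}
    (hρ : ρ ^ r = algebraMap R Ω π) : minpoly K ρ = X ^ r - C (algebraMap R K π) := by
  symm
  apply minpoly.eq_of_irreducible_of_monic (irreducible_X_pow_sub_C hr hπ)
  · simp [hρ, ← IsScalarTower.algebraMap_apply]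
  · exact monic_X_pow_sub_C _ hr.ne'

omit [IsSepClosure K Ω] in
theorem isIntegral_root (hr : 0 < r) {π : R} {ρ : Ω}
    (hρ : ρ ^ r = algebraMap R Ω π) : IsIntegral K ρ := by
  refine ⟨X ^ r - C (algebraMap R K π), monic_X_pow_sub_C _ hr.ne', ?_⟩
  simp [hρ, ← IsScalarTower.algebraMap_apply]

omit [IsSepClosure K Ω] in
theorem finrank_adjoin_root (hr : 0 < r) {π : R} (hπ : Irreducible π) {ρ : Ω}
    (hρ : ρ ^ r = algebraMap R Ω π) : Module.finrank K K⟮ρ⟯ = r := by
  rw [IntermediateField.adjoin.finrank (isIntegral_root hr hρ), minpoly_root hr hπ hρ,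
    natDegree_X_pow_sub_C]

theorem isGalois_adjoin_root (hr : 0 < r) {ζ : K} (hζ : IsPrimitiveRoot ζ r) {π : R} {ρ : Ω}
    (hρ0 : ρ ≠ 0) (hρ : ρ ^ r = algebraMap R Ω π) : IsGalois K K⟮ρ⟯ := by
  have hn : Normal K K⟮ρ⟯ := by
    rw [IntermediateField.normal_iff_forall_map_le']
    intro σ
    rw [IntermediateField.adjoin_map, Set.image_singleton, IntermediateField.adjoin_le_iff,
      Set.singleton_subset_iff]
    have h1 : (σ ρ / ρ) ^ r = 1 := by
      rw [div_pow, ← map_pow, hρ, div_eq_one_iff_eq (by rw [← hρ]; exact pow_ne_zero _ hρ0),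
        IsScalarTower.algebraMap_apply R K Ω]
      exact σ.commutes _
    have : NeZero r := ⟨hr.ne'⟩
    obtain ⟨i, -, hi⟩ := (hζ.map_of_injective (algebraMap K Ω).injective).eq_pow_of_pow_eq_one h1
    have h2 : σ ρ = algebraMap K Ω (ζ ^ i) * ρ := by
      rw [map_pow, hi, div_mul_cancel₀ _ hρ0]
    change σ ρ ∈ K⟮ρ⟯
    rw [h2]
    exact mul_mem (IntermediateField.algebraMap_mem _ _) (IntermediateField.mem_adjoin_simple_self K ρ)
  have hs : Algebra.IsSeparable K K⟮ρ⟯ := Algebra.isSeparable_tower_bot_of_isSeparable K K⟮ρ⟯ Ω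
  exact ⟨⟩

end Main

end Groth.Agent.Lib.Helper55.Tame
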