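import Groth.Agent.Lib.Helper55.FunFld.Tame4

set_option autoImplicit false
set_option linter.unusedSectionVars false
universe u

namespace Groth.Agent.Lib.Helper55.Tame

open Polynomial IntermediateField

section Main
variable {R K Ω : Type u} [CommRing R] [IsDomain R] [IsDiscreteValuationRing R] [Field K]
  [Algebra R K] [IsFractionRing R K] [Field Ω] [Algebra K Ω] [IsSepClosure K Ω] [Algebra R Ω]
  [IsScalarTower R K Ω] (W : ValuationSubring Ω)
  (hv1 : ∀ a : R, W.valuation (algebraMap R Ω a) ≤ 1)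
  (hvm : ∀ a ∈ IsLocalRing.maximalIdeal R, W.valuation (algebraMap R Ω a) < 1)
  (hI : ∀ σ : Ω ≃ₐ[K] Ω, ∀ x, W.valuation x ≤ 1 → W.valuation (σ x - x) < 1)
  {r : ℕ} (hr : 0 < r) (hru : IsUnit (r : R))
  (L : IntermediateField K Ω)

/-- the restriction of the valuation to an intermediate field -/
noncomputable def vL : Valuation L W.ValueGroup := W.valuation.comap (algebraMap L Ω)

omit [IsSepClosure K Ω] in
theorem vL_apply (x : L) : vL W L x = W.valuation (x : Ω) := rfl

include hI in
theorem hIL [FiniteDimensional K L] [IsGalois K L] :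
    ∀ σ : L ≃ₐ[K] L, ∀ x, vL W L x ≤ 1 → vL W L (σ x - x) < 1 := by
  intro σ x hx
  have h1 := hI (σ.liftNormal Ω) (x : Ω) hx
  have h2 : σ.liftNormal Ω (x : Ω) = (σ x : L) := σ.liftNormal_commutes Ω x
  rw [h2] at h1
  exact h1

include hv1 hvm hI hr hru in
theorem exists_root_mem [FiniteDimensional K L] [IsGalois K L] (hfr : Module.finrank K L = r)
    {π : R} (hπ : Irreducible π) : ∃ ρ' ∈ L, ρ' ^ r = algebraMap R Ω π := by
  obtain ⟨y, hy⟩ := exists_val_pow_eq (K := K) (vL W L) (fun a => hv1 a) (fun a ha => hvm a ha)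
    (hIL W hI L) hru hfr hπ
  have hy' : W.valuation (y : Ω) ^ r = W.valuation (algebraMap R Ω π) := hy
  have hinj : Function.Injective (algebraMap R Ω) := by
    rw [IsScalarTower.algebraMap_eq R K Ω]
    exact (algebraMap K Ω).injective.comp (IsFractionRing.injective R K)
  have hπ0 : algebraMap R Ω π ≠ 0 := by
    intro h
    rw [← map_zero (algebraMap R Ω)] at h
    exact hπ.ne_zero (hinj h)
  have hvπ0 : W.valuation (algebraMap R Ω π) ≠ 0 := by
    rwa [Valuation.ne_zero_iff]
  have hy0 : (y : Ω) ≠ 0 := by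
    intro h
    rw [h, map_zero, zero_pow hr.ne'] at hy'
    exact hvπ0 hy'.symm
  have hvr := val_natCast_eq_one W hv1 hru
  have hne : NeZero (r : Ω) := ⟨by
    intro h
    rw [h, map_zero] at hvr
    exact zero_ne_one hvr⟩
  have hsc : IsSepClosed Ω := IsSepClosure.sep_closed K
  obtain ⟨z, hz⟩ := IsSepClosed.exists_pow_nat_eq ((y : Ω) ^ r / algebraMap R Ω π) r
  have hvu : W.valuation ((y : Ω) ^ r / algebraMap R Ω π) = 1 := by
    rw [map_div₀, map_pow, hy', div_self hvπ0]
  have hvz : W.valuation z = 1 :=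
    val_eq_one_of_val_pow_eq_one _ hr (by rw [← map_pow, hz, hvu])
  have hπL : algebraMap R Ω π ∈ L := by
    rw [IsScalarTower.algebraMap_apply R K Ω]
    exact L.algebraMap_mem _
  have huL : (y : Ω) ^ r / algebraMap R Ω π ∈ L := div_mem (pow_mem y.2 r) hπL
  have hzL : z ∈ L := mem_of_pow_mem W.valuation hI hr hvr L hvz (hz ▸ huL)
  have hz0 : z ≠ 0 := by
    intro h
    rw [h, map_zero] at hvz
    exact zero_ne_one hvz
  refine ⟨y / z, div_mem y.2 hzL, ?_⟩
  rw [div_pow, hz]
  field_simp

include hv1 hvm hI hru in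
theorem ramificationIdx_eq [FiniteDimensional K L] [IsGalois K L] (hfr : Module.finrank K L = r)
    (P : Ideal (integralClosure R L)) (hP : P.IsMaximal) : P.ramificationIdx R = r := by
  rw [eq_P0 (K := K) (vL W L) (fun a => hv1 a) (fun a ha => hvm a ha) (hIL W hI L) P]
  exact ramificationIdx_P0 (K := K) (vL W L) (fun a => hv1 a) (fun a ha => hvm a ha)
    (hIL W hI L) hru hfr

include hv1 hvm hI hr hru in
theorem main :
    (∃! L : IntermediateField K Ω, Module.finrank K L = r ∧ IsGalois K L) ∧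
      ∀ L : IntermediateField K Ω, Module.finrank K L = r → IsGalois K L →
        ∀ P : Ideal (integralClosure R L), P.IsMaximal → P.ramificationIdx R = r := by
  have hfd : ∀ L : IntermediateField K Ω, Module.finrank K L = r → FiniteDimensional K L := by
    intro L hL
    exact Module.finite_of_finrank_pos (by rw [hL]; exact hr)
  constructor
  · obtain ⟨π, hπ⟩ := IsDiscreteValuationRing.exists_irreducible R
    obtain ⟨ζ, hζ⟩ := exists_primitiveRoot W hv1 hI hr hru
    have hvr := val_natCast_eq_one W hv1 hru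
    have hne : NeZero (r : Ω) := ⟨by
      intro h
      rw [h, map_zero] at hvr
      exact zero_ne_one hvr⟩
    have hsc : IsSepClosed Ω := IsSepClosure.sep_closed K
    obtain ⟨ρ, hρ⟩ := IsSepClosed.exists_pow_nat_eq (algebraMap R Ω π) r
    have hinj : Function.Injective (algebraMap R Ω) := by
      rw [IsScalarTower.algebraMap_eq R K Ω]
      exact (algebraMap K Ω).injective.comp (IsFractionRing.injective R K)
    have hπ0 : algebraMap R Ω π ≠ 0 := by
      intro h
      rw [← map_zero (algebraMap R Ω)] at h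
      exact hπ.ne_zero (hinj h)
    have hρ0 : ρ ≠ 0 := by
      intro h
      rw [h, zero_pow hr.ne'] at hρ
      exact hπ0 hρ.symm
    refine ⟨K⟮ρ⟯, ⟨finrank_adjoin_root hr hπ hρ, isGalois_adjoin_root hr hζ hρ0 hρ⟩, ?_⟩
    rintro L ⟨hL1, hL2⟩
    have := hfd L hL1
    obtain ⟨ρ', hρ'L, hρ'⟩ := exists_root_mem W hv1 hvm hI hr hru L hL1 hπ
    have hρ'0 : ρ' ≠ 0 := by
      intro h
      rw [h, zero_pow hr.ne'] at hρ'
      exact hπ0 hρ'.symm
    have h1 : (ρ / ρ') ^ r = 1 := by
      rw [div_pow, hρ, hρ', div_self hπ0]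
    have : NeZero r := ⟨hr.ne'⟩
    obtain ⟨i, -, hi⟩ := (hζ.map_of_injective (algebraMap K Ω).injective).eq_pow_of_pow_eq_one h1
    have h2 : ρ = algebraMap K Ω (ζ ^ i) * ρ' := by
      rw [map_pow, hi, div_mul_cancel₀ _ hρ'0]
    have hρL : ρ ∈ L := by
      rw [h2]
      exact mul_mem (L.algebraMap_mem _) hρ'L
    have hle : K⟮ρ⟯ ≤ L := by
      rw [IntermediateField.adjoin_le_iff, Set.singleton_subset_iff]
      exact hρL
    symm
    exact IntermediateField.eq_of_le_of_finrank_eq hle
      ((finrank_adjoin_root hr hπ hρ).trans hL1.symm)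
  · intro L hL1 hL2 P hP
    have := hfd L hL1
    exact ramificationIdx_eq W hv1 hvm hI hru L hL1 P hP

end Main

end Groth.Agent.Lib.Helper55.Tame
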