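import Groth.Agent.Lib.Helper55.FunFld.TateLocal

/-! Tate residues on the adele space: decomposition into local residues and the residue theorem. -/

set_option autoImplicit false

open FunFld Module

namespace Groth.Agent.Lib.Helper55

open Tate

variable {k K : Type*} [Field k] [Field K] [Algebra k K]

theorem ff_mul_mem_adele {a b : Place k K → K} (ha : a ∈ adele k K) (hb : b ∈ adele k K) :
    (fun P => b P * a P) ∈ adele k K := by
  rw [ff_mem_adele_iff] at ha hb ⊢
  refine (hb.union ha).subset ?_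
  intro P hP
  by_contra hcon
  rw [Set.mem_union, not_or, Set.mem_ofPred_eq, Set.mem_ofPred_eq, not_not, not_not] at hcon
  apply hP
  rw [map_mul]
  exact mul_le_one' hcon.1 hcon.2

/-- componentwise multiplication by an adele. -/
noncomputable def ff_adMul (b : adele k K) : adele k K →ₗ[k] adele k K where
  toFun a := ⟨fun P => b.1 P * a.1 P, ff_mul_mem_adele a.2 b.2⟩
  map_add' a a' := by
    apply Subtype.ext; funext P
    simp [mul_add]
  map_smul' c a := by
    apply Subtype.ext; funext P
    simp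

theorem ff_adMul_apply (b a : adele k K) (P : Place k K) :
    (ff_adMul b a).1 P = b.1 P * a.1 P := rfl

theorem ff_adMul_add (b b' : adele k K) : ff_adMul (b + b') = ff_adMul b + ff_adMul b' := by
  ext a P
  simp [ff_adMul_apply, add_mul]

theorem ff_adMul_smul (c : k) (b : adele k K) : ff_adMul (c • b) = c • ff_adMul b := by
  ext a P
  simp [ff_adMul_apply]

/-- the principal adele of `x`. -/
noncomputable def ff_adDiag (hK : IsFunctionField k K) : K →ₗ[k] adele k K :=
  (diag k K).codRestrict (adele k K) (ff_diag_mem_adele hK)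

theorem ff_adDiag_apply (hK : IsFunctionField k K) (x : K) (P : Place k K) :
    (ff_adDiag hK x).1 P = x := rfl

/-- componentwise application of linear maps landing in the valuation rings. -/
noncomputable def ff_adProj (ρ : Place k K → K →ₗ[k] K)
    (hρ : ∀ P, LinearMap.IsProj (ff_ball P 0) (ρ P)) : adele k K →ₗ[k] adele k K where
  toFun a := ⟨fun P => ρ P (a.1 P), by
    rw [ff_mem_adele_iff]
    convert Set.finite_empty
    ext P
    simp only [Set.mem_ofPred_eq, Set.mem_empty_iff_false, iff_false, not_not]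
    have := (hρ P).map_mem (a.1 P)
    rwa [ff_mem_ball, WithZero.exp_zero] at this⟩
  map_add' a a' := by
    apply Subtype.ext; funext P
    simp
  map_smul' c a := by
    apply Subtype.ext; funext P
    simp

theorem ff_adProj_apply (ρ : Place k K → K →ₗ[k] K)
    (hρ : ∀ P, LinearMap.IsProj (ff_ball P 0) (ρ P)) (a : adele k K) (P : Place k K) :
    (ff_adProj ρ hρ a).1 P = ρ P (a.1 P) := rfl

/-- the integral adeles `A(0)`, inside the adele space. -/
def ff_A0 : Submodule k (adele k K) := (AD (0 : Divisor k K)).comap (adele k K).subtype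

theorem ff_mem_A0 (a : adele k K) : a ∈ ff_A0 ↔ ∀ P : Place k K, P.1 (a.1 P) ≤ 1 := by
  change (∀ P : Place k K, P.1 (a.1 P) ≤ WithZero.exp ((0 : Divisor k K) P)) ↔ _
  simp

theorem ff_adProj_isProj (ρ : Place k K → K →ₗ[k] K)
    (hρ : ∀ P, LinearMap.IsProj (ff_ball P 0) (ρ P)) :
    LinearMap.IsProj ff_A0 (ff_adProj ρ hρ) := by
  refine ⟨fun a => ?_, fun a ha => ?_⟩
  · rw [ff_mem_A0]
    intro P
    have := (hρ P).map_mem (a.1 P)
    rwa [ff_mem_ball, WithZero.exp_zero] at this
  · rw [ff_mem_A0] at ha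
    apply Subtype.ext; funext P
    rw [ff_adProj_apply]
    exact (hρ P).map_id _ (by rw [ff_mem_ball, WithZero.exp_zero]; exact ha P)

/-- evaluation at a place. -/
noncomputable def ff_adEv (P : Place k K) : adele k K →ₗ[k] K :=
  LinearMap.proj P ∘ₗ (adele k K).subtype

theorem ff_adEv_apply (P : Place k K) (a : adele k K) : ff_adEv P a = a.1 P := rfl

open Classical in
/-- the adele supported at one place. -/
noncomputable def ff_adSingle (P : Place k K) : K →ₗ[k] adele k K :=
  (LinearMap.single k (fun _ : Place k K => K) P).codRestrict (adele k K) (by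
    intro x
    rw [ff_mem_adele_iff]
    refine (Set.finite_singleton P).subset ?_
    intro Q hQ
    rw [Set.mem_singleton_iff]
    by_contra hne
    apply hQ
    rw [LinearMap.single_apply, Pi.single_apply, if_neg hne, map_zero]
    exact zero_le)

open Classical in
theorem ff_adSingle_apply (P : Place k K) (x : K) (Q : Place k K) :
    (ff_adSingle P x).1 Q = if Q = P then x else 0 := by
  change (Pi.single P x : Place k K → K) Q = _
  rw [Pi.single_apply]

theorem ff_adEv_adSingle (P : Place k K) : ff_adEv P ∘ₗ ff_adSingle P = LinearMap.id := by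
  ext x
  rw [LinearMap.comp_apply, ff_adEv_apply, ff_adSingle_apply, if_pos rfl, LinearMap.id_apply]

theorem ff_isE_adMul (hK : IsFunctionField k K) (b : adele k K) :
    IsE (ff_A0 (k := k) (K := K)) (ff_adMul b) := by
  obtain ⟨E, hE0, hbE⟩ := ff_exists_AD_of_mem_adele b.2
  set AE : Submodule k (adele k K) := (AD E).comap (adele k K).subtype with hAE
  have h1 : (ff_A0).map (ff_adMul b) ≤ AE := by
    rintro _ ⟨a, ha, rfl⟩
    replace ha := (ff_mem_A0 a).mp ha
    intro P
    change P.1 (b.1 P * a.1 P) ≤ _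
    rw [map_mul]
    calc P.1 (b.1 P) * P.1 (a.1 P) ≤ WithZero.exp (E P) * 1 := mul_le_mul' (hbE P) (ha P)
      _ = _ := mul_one _
  refine (NearLE.of_le h1).trans ?_
  obtain ⟨hfd, -⟩ := ff_AD_quot hK 0 E hE0
  let g : ↥AE →ₗ[k] ↥(AD E) :=
    LinearMap.codRestrict (AD E) ((adele k K).subtype ∘ₗ AE.subtype) (fun a => a.2)
  refine nearLE_of_linearMap (((AD (0 : Divisor k K)).comap (AD E).subtype).mkQ ∘ₗ g) ?_
  intro a ha
  rw [LinearMap.comp_apply, Submodule.mkQ_apply, Submodule.Quotient.mk_eq_zero] at ha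
  exact ha

/-- the diagonal copy of `K` in the adele space. -/
noncomputable def ff_adK (hK : IsFunctionField k K) : Submodule k (adele k K) :=
  LinearMap.range (ff_adDiag hK)

theorem ff_adMul_adDiag (hK : IsFunctionField k K) (x y : K) :
    ff_adMul (ff_adDiag hK x) (ff_adDiag hK y) = ff_adDiag hK (x * y) := rfl

theorem ff_adK_stable (hK : IsFunctionField k K) (x : K) :
    (ff_adK hK).map (ff_adMul (ff_adDiag hK x)) ≤ ff_adK hK := by
  rintro _ ⟨_, ⟨y, rfl⟩, rfl⟩
  exact ⟨x * y, (ff_adMul_adDiag hK x y).symm⟩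

theorem ff_fd_A0_inf_adK (hK : IsFunctionField k K) :
    FiniteDimensional k ↥(ff_A0 ⊓ ff_adK hK : Submodule k (adele k K)) := by
  have := ff_L_finiteDimensional hK (0 : Divisor k K)
  have hle : (ff_A0 ⊓ ff_adK hK : Submodule k (adele k K)) ≤
      (L (0 : Divisor k K)).map (ff_adDiag hK) := by
    rintro _ ⟨ha, ⟨y, rfl⟩⟩
    exact ⟨y, ha, rfl⟩
  exact Submodule.finiteDimensional_of_le hle

theorem ff_fd_quot_A0_sup_adK (hK : IsFunctionField k K) :
    FiniteDimensional k (↥(adele k K) ⧸ (ff_A0 ⊔ ff_adK hK : Submodule k (adele k K))) := by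
  obtain ⟨hfd, -⟩ := ff_finrank_adele_quot hK (0 : Divisor k K)
  have hle : ADK (0 : Divisor k K) ≤ (ff_A0 ⊔ ff_adK hK : Submodule k (adele k K)) := by
    intro a ha
    obtain ⟨α, hα, d, ⟨y, rfl⟩, hsum⟩ := Submodule.mem_sup.mp ha
    have hα' : α ∈ adele k K := ff_AD_le_adele 0 hα
    have : a = ⟨α, hα'⟩ + ff_adDiag hK y := Subtype.ext hsum.symm
    rw [this]
    exact Submodule.add_mem_sup hα ⟨y, rfl⟩
  let f : (↥(adele k K) ⧸ ADK (0 : Divisor k K)) →ₗ[k]
      (↥(adele k K) ⧸ (ff_A0 ⊔ ff_adK hK : Submodule k (adele k K))) :=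
    Submodule.mapQ _ _ LinearMap.id (by simpa using hle)
  have hsurj : Function.Surjective f := by
    intro x
    obtain ⟨a, rfl⟩ := Submodule.Quotient.mk_surjective _ x
    exact ⟨Submodule.Quotient.mk a, rfl⟩
  exact Module.Finite.of_surjective f hsurj

/-- The residue theorem, global form: the adelic Tate residue of `x ds` vanishes. -/
theorem ff_global_tres_diag (hK : IsFunctionField k K) (ρ : Place k K → K →ₗ[k] K)
    (hρ : ∀ P, LinearMap.IsProj (ff_ball P 0) (ρ P)) (x s : K) :
    tres (ff_adProj ρ hρ) (ff_adMul (ff_adDiag hK x)) (ff_adMul (ff_adDiag hK s)) = 0 := by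
  have := ff_fd_A0_inf_adK hK
  have := ff_fd_quot_A0_sup_adK hK
  refine tres_eq_zero_of_compl (B := ff_adK hK) (ff_adProj_isProj ρ hρ) (ff_isE_adMul hK _)
    (ff_isE_adMul hK _) ?_ (ff_adK_stable hK x) (ff_adK_stable hK s)
  intro v
  apply Subtype.ext; funext P
  simp only [ff_adMul_apply, ff_adDiag_apply]
  ring

end Groth.Agent.Lib.Helper55
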