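import Groth.Agent.Lib.Helper55.Tate.Residue
import Groth.Agent.Lib.Helper55.FunFld.WeilDim

/-! Tate residues at a place of a function field: local operators on `K`. -/

set_option autoImplicit false

open FunFld Module

namespace Groth.Agent.Lib.Helper55

open Tate

variable {k K : Type*} [Field k] [Field K] [Algebra k K]

theorem nearLE_of_linearMap {V N : Type*} [AddCommGroup V] [Module k V] [AddCommGroup N]
    [Module k N] [FiniteDimensional k N] {A B : Submodule k V} (f : ↥B →ₗ[k] N)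
    (h : ∀ b : ↥B, f b = 0 → (b : V) ∈ A) : NearLE B A := by
  obtain ⟨C, hC⟩ := Submodule.exists_isCompl (LinearMap.ker f)
  have hCfd : FiniteDimensional k C := by
    have hinj : Function.Injective (f ∘ₗ C.subtype) := by
      rw [← LinearMap.ker_eq_bot, LinearMap.ker_eq_bot']
      intro c hc
      have h1 : (c : ↥B) ∈ LinearMap.ker f ⊓ C := ⟨hc, c.2⟩
      rw [hC.inf_eq_bot, Submodule.mem_bot] at h1
      exact Subtype.ext h1
    exact FiniteDimensional.of_injective _ hinj
  refine ⟨C.map B.subtype, inferInstance, ?_⟩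
  intro b hb
  have : (⟨b, hb⟩ : ↥B) ∈ LinearMap.ker f ⊔ C := by rw [hC.sup_eq_top]; trivial
  obtain ⟨y, hy, z, hz, hyz⟩ := Submodule.mem_sup.mp this
  have hb' : b = (y : V) + (z : V) := by
    have := congrArg Subtype.val hyz
    simpa using this.symm
  rw [hb']
  exact Submodule.add_mem_sup (h y hy) ⟨z, hz, rfl⟩

theorem ff_ball_nearLE_pred (hK : IsFunctionField k K) (P : Place k K) (m : ℤ) :
    NearLE (ff_ball P m) (ff_ball P (m - 1)) := by
  obtain ⟨t, ht⟩ := ff_exists_uniformizer P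
  have := ff_finiteDimensional_residueField hK P
  exact nearLE_of_linearMap (ff_localMap P ht m) fun b hb =>
    (ff_localMap_eq_zero_iff P ht m b).mp hb

theorem ff_ball_nearLE (hK : IsFunctionField k K) (P : Place k K) (m n : ℤ) :
    NearLE (ff_ball P m) (ff_ball P n) := by
  by_cases hmn : m ≤ n
  · exact NearLE.of_le (ff_ball_mono P hmn)
  · push Not at hmn
    obtain ⟨d, rfl⟩ : ∃ d : ℕ, m = n + d := ⟨(m - n).toNat, by omega⟩
    clear hmn
    induction d with
    | zero => simpa using NearLE.refl (ff_ball P n)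
    | succ d ih =>
      have h1 := ff_ball_nearLE_pred hK P (n + (d + 1 : ℕ))
      have : n + ((d + 1 : ℕ) : ℤ) - 1 = n + d := by push_cast; ring
      rw [this] at h1
      exact h1.trans ih

/-- multiplication by `x` as a `k`-linear endomorphism of `K`. -/
noncomputable def ff_mulK (x : K) : K →ₗ[k] K := LinearMap.mul k K x

@[simp] theorem ff_mulK_apply (x y : K) : ff_mulK (k := k) x y = x * y := rfl

theorem ff_mulK_add (x y : K) : ff_mulK (k := k) (x + y) = ff_mulK x + ff_mulK y := by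
  ext z; simp [add_mul]

theorem ff_mulK_smul (c : k) (x : K) : ff_mulK (k := k) (c • x) = c • ff_mulK x := by
  ext z; simp

theorem ff_mulK_mul (x y : K) : ff_mulK (k := k) (x * y) = ff_mulK x ∘ₗ ff_mulK y := by
  ext z; simp [mul_assoc]

theorem ff_map_mulK_ball_le (P : Place k K) {x : K} {n : ℤ} (hx : P.1 x ≤ WithZero.exp n)
    (m : ℤ) : (ff_ball P m).map (ff_mulK x) ≤ ff_ball P (n + m) := by
  rintro _ ⟨y, hy, rfl⟩
  rw [ff_mulK_apply, ff_mem_ball, map_mul, WithZero.exp_add]
  exact mul_le_mul' hx hy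

theorem ff_isE_mulK (hK : IsFunctionField k K) (P : Place k K) (x : K) :
    IsE (ff_ball P 0) (ff_mulK (k := k) x) := by
  obtain ⟨n, hn⟩ : ∃ n : ℤ, P.1 x ≤ WithZero.exp n := by
    by_cases h0 : P.1 x = 0
    · exact ⟨0, by rw [h0]; exact zero_le⟩
    · exact ⟨WithZero.log (P.1 x), WithZero.le_exp_log⟩
  exact (NearLE.of_le (ff_map_mulK_ball_le P hn 0)).trans (ff_ball_nearLE hK P _ _)

theorem ff_map_mulK_ball_zero_le (P : Place k K) {x : K} (hx : P.1 x ≤ 1) :
    (ff_ball P 0).map (ff_mulK (k := k) x) ≤ ff_ball P 0 := by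
  have := ff_map_mulK_ball_le P (x := x) (n := 0) (by rwa [WithZero.exp_zero]) 0
  simpa using this

/-- A chosen projection of `K` onto the valuation ring at `P`. -/
theorem ff_exists_proj (P : Place k K) :
    ∃ ρ : K →ₗ[k] K, LinearMap.IsProj (ff_ball P 0) ρ := by
  obtain ⟨C, hC⟩ := Submodule.exists_isCompl (ff_ball P 0)
  exact ⟨(ff_ball P 0).projection C hC,
    ⟨fun v => Submodule.projection_apply_mem hC v,
      fun a ha => Submodule.projection_apply_of_mem_left hC ha⟩⟩

/-- The local Tate residue `res_P(x dy)` relative to a projection `ρ`. -/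
noncomputable def ff_tres (ρ : K →ₗ[k] K) (x y : K) : k :=
  tres ρ (ff_mulK (k := k) x) (ff_mulK y)

section local_props

variable (hK : IsFunctionField k K) (P : Place k K) {ρ : K →ₗ[k] K}
  (hρ : LinearMap.IsProj (ff_ball P 0) ρ)

include hK hρ

theorem ff_tres_add_left (x x' y : K) :
    ff_tres ρ (x + x') y = ff_tres ρ x y + ff_tres ρ x' y := by
  unfold ff_tres
  rw [ff_mulK_add, tres_add_left hρ (ff_isE_mulK hK P x) (ff_isE_mulK hK P x') (ff_isE_mulK hK P y)]

theorem ff_tres_smul_left (c : k) (x y : K) : ff_tres ρ (c • x) y = c * ff_tres ρ x y := by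
  unfold ff_tres
  rw [ff_mulK_smul, tres_smul_left hρ (ff_isE_mulK hK P x) (ff_isE_mulK hK P y)]

theorem ff_tres_add_right (x y y' : K) :
    ff_tres ρ x (y + y') = ff_tres ρ x y + ff_tres ρ x y' := by
  unfold ff_tres
  rw [ff_mulK_add, tres_add_right hρ (ff_isE_mulK hK P x) (ff_isE_mulK hK P y) (ff_isE_mulK hK P y')]

theorem ff_tres_smul_right (c : k) (x y : K) : ff_tres ρ x (c • y) = c * ff_tres ρ x y := by
  unfold ff_tres
  rw [ff_mulK_smul, tres_smul_right hρ (ff_isE_mulK hK P x) (ff_isE_mulK hK P y)]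

theorem ff_tres_mul (x y z : K) :
    ff_tres ρ x (y * z) = ff_tres ρ (x * y) z + ff_tres ρ (x * z) y := by
  unfold ff_tres
  rw [ff_mulK_mul y z, ff_mulK_mul x y, ff_mulK_mul x z]
  exact tres_mul hρ (ff_isE_mulK hK P x) (ff_isE_mulK hK P y) (ff_isE_mulK hK P z)
    (fun v => by simp only [ff_mulK_apply]; ring)

theorem ff_tres_eq_zero_of_le_one {x y : K} (hx : P.1 x ≤ 1) (hy : P.1 y ≤ 1) :
    ff_tres ρ x y = 0 :=
  tres_eq_zero_of_stable hρ (ff_map_mulK_ball_zero_le P hx) (ff_map_mulK_ball_zero_le P hy)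

omit hK in
theorem ff_tres_congr_proj (hK' : IsFunctionField k K) {ρ' : K →ₗ[k] K}
    (hρ' : LinearMap.IsProj (ff_ball P 0) ρ') (x y : K) : ff_tres ρ x y = ff_tres ρ' x y :=
  tres_congr hρ hρ' (NearLE.refl _) (NearLE.refl _) (ff_isE_mulK hK' P x) (ff_isE_mulK hK' P y)
    (fun v => by simp only [ff_mulK_apply]; ring)

end local_props

end Groth.Agent.Lib.Helper55
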