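import Groth.Agent.Lib.Helper55.FunFld.TateLocal

/-! Local Tate residues for a place of an arbitrary field extension `K/k` whose balls are
commensurable (e.g. Laurent series over a finite extension of `k`). -/

set_option autoImplicit false

open FunFld Module

namespace Groth.Agent.Lib.Helper55

open Tate

variable {k K : Type*} [Field k] [Field K] [Algebra k K]

/-- All balls at `P` are commensurable. -/
def FFNear (P : Place k K) : Prop := ∀ m n : ℤ, NearLE (ff_ball P m) (ff_ball P n)

theorem ffNear_of_isFunctionField (hK : IsFunctionField k K) (P : Place k K) : FFNear P :=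
  fun m n => ff_ball_nearLE hK P m n

theorem ffNear_of_pred (P : Place k K)
    (h : ∀ m : ℤ, NearLE (ff_ball P m) (ff_ball P (m - 1))) : FFNear P := by
  intro m n
  by_cases hmn : m ≤ n
  · exact NearLE.of_le (ff_ball_mono P hmn)
  · push Not at hmn
    obtain ⟨d, rfl⟩ : ∃ d : ℕ, m = n + d := ⟨(m - n).toNat, by omega⟩
    clear hmn
    induction d with
    | zero => simpa using NearLE.refl (ff_ball P n)
    | succ d ih =>
      have h1 := h (n + (d + 1 : ℕ))
      have : n + ((d + 1 : ℕ) : ℤ) - 1 = n + d := by push_cast; ring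
      rw [this] at h1
      exact h1.trans ih

theorem ffg_isE_mulK (P : Place k K) (hN : FFNear P) (x : K) :
    IsE (ff_ball P 0) (ff_mulK (k := k) x) := by
  obtain ⟨n, hn⟩ : ∃ n : ℤ, P.1 x ≤ WithZero.exp n := by
    by_cases h0 : P.1 x = 0
    · exact ⟨0, by rw [h0]; exact zero_le⟩
    · exact ⟨WithZero.log (P.1 x), WithZero.le_exp_log⟩
  exact (NearLE.of_le (ff_map_mulK_ball_le P hn 0)).trans (hN _ _)

section local_props

variable (P : Place k K) (hN : FFNear P) {ρ : K →ₗ[k] K}
  (hρ : LinearMap.IsProj (ff_ball P 0) ρ)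

include hN hρ

theorem ffg_tres_add_left (x x' y : K) :
    ff_tres ρ (x + x') y = ff_tres ρ x y + ff_tres ρ x' y := by
  unfold ff_tres
  rw [ff_mulK_add, tres_add_left hρ (ffg_isE_mulK P hN x) (ffg_isE_mulK P hN x') (ffg_isE_mulK P hN y)]

theorem ffg_tres_smul_left (c : k) (x y : K) : ff_tres ρ (c • x) y = c * ff_tres ρ x y := by
  unfold ff_tres
  rw [ff_mulK_smul, tres_smul_left hρ (ffg_isE_mulK P hN x) (ffg_isE_mulK P hN y)]

theorem ffg_tres_add_right (x y y' : K) :
    ff_tres ρ x (y + y') = ff_tres ρ x y + ff_tres ρ x y' := by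
  unfold ff_tres
  rw [ff_mulK_add, tres_add_right hρ (ffg_isE_mulK P hN x) (ffg_isE_mulK P hN y) (ffg_isE_mulK P hN y')]

theorem ffg_tres_smul_right (c : k) (x y : K) : ff_tres ρ x (c • y) = c * ff_tres ρ x y := by
  unfold ff_tres
  rw [ff_mulK_smul, tres_smul_right hρ (ffg_isE_mulK P hN x) (ffg_isE_mulK P hN y)]

theorem ffg_tres_mul (x y z : K) :
    ff_tres ρ x (y * z) = ff_tres ρ (x * y) z + ff_tres ρ (x * z) y := by
  unfold ff_tres
  rw [ff_mulK_mul y z, ff_mulK_mul x y, ff_mulK_mul x z]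
  exact tres_mul hρ (ffg_isE_mulK P hN x) (ffg_isE_mulK P hN y) (ffg_isE_mulK P hN z)
    (fun v => by simp only [ff_mulK_apply]; ring)

theorem ffg_tres_eq_zero_of_le_one {x y : K} (hx : P.1 x ≤ 1) (hy : P.1 y ≤ 1) :
    ff_tres ρ x y = 0 :=
  tres_eq_zero_of_stable hρ (ff_map_mulK_ball_zero_le P hx) (ff_map_mulK_ball_zero_le P hy)

omit hN in
theorem ffg_tres_congr_proj (hN' : FFNear P) {ρ' : K →ₗ[k] K}
    (hρ' : LinearMap.IsProj (ff_ball P 0) ρ') (x y : K) : ff_tres ρ x y = ff_tres ρ' x y :=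
  tres_congr hρ hρ' (NearLE.refl _) (NearLE.refl _) (ffg_isE_mulK P hN' x) (ffg_isE_mulK P hN' y)
    (fun v => by simp only [ff_mulK_apply]; ring)

end local_props

end Groth.Agent.Lib.Helper55
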