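import Groth.Agent.Lib.Helper55.FunFld.TateUnif
import Mathlib.RingTheory.Trace.Basic

/-! The Tate residue of `u dt / t` is the trace of the residue class of `u`. -/

set_option autoImplicit false

open FunFld Module

namespace Groth.Agent.Lib.Helper55

open Tate

variable {k K : Type*} [Field k] [Field K] [Algebra k K]

theorem ff_tres_mul_inv_uniformizer (hK : IsFunctionField k K) (P : Place k K) {ρ : K →ₗ[k] K}
    (hρ : LinearMap.IsProj (ff_ball P 0) ρ) {t : K} (ht : P.1 t = WithZero.exp (-1 : ℤ))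
    (u : P.O) :
    ff_tres ρ ((u : K) * t⁻¹) t =
      Algebra.trace k (IsLocalRing.ResidueField P.O) (IsLocalRing.residue P.O u) := by
  have ht0 := ff_uniformizer_ne_zero P ht
  have hρ' := ff_conjProj_isProj P hρ ht
  set ρ' := ff_conjProj ρ t with hρ'def
  have hfdW := ff_fd_map_id_sub hK P hρ'
  have hfdκ := ff_finiteDimensional_residueField hK P
  have hle : ff_ball P (-1) ≤ ff_ball P 0 := ff_ball_mono P (by norm_num)
  have huA : ∀ a ∈ ff_ball P 0, (u : K) * a ∈ ff_ball P 0 := by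
    intro a ha
    rw [ff_mem_ball, WithZero.exp_zero] at ha ⊢
    rw [map_mul]
    exact (mul_le_mul' u.2 ha).trans_eq (one_mul _)
  set W := (ff_ball P 0).map (LinearMap.id - ρ') with hW
  set θ : K →ₗ[k] K := (ρ - ρ') ∘ₗ ff_mulK (u : K) with hθ
  have hθeq : comm ρ (ff_mulK t) ∘ₗ ff_mulK ((u : K) * t⁻¹) = θ := by
    rw [mul_comm, ff_mulK_mul, ← LinearMap.comp_assoc, ff_comm_comp_inv ρ ht0]
  unfold ff_tres tres
  rw [hθeq]
  have hWA : W ≤ ff_ball P 0 := by
    rintro _ ⟨a, ha, rfl⟩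
    rw [LinearMap.sub_apply, LinearMap.id_apply]
    exact Submodule.sub_mem _ ha (hle (hρ'.map_mem _))
  have hq : ∀ a ∈ ff_ball P 0, (ρ - ρ') a = (LinearMap.id - ρ' : K →ₗ[k] K) a := by
    intro a ha
    rw [LinearMap.sub_apply, LinearMap.sub_apply, hρ.map_id a ha, LinearMap.id_apply]
  have hθW : ∀ a ∈ ff_ball P 0, θ a ∈ W := by
    intro a ha
    change (ρ - ρ') ((u : K) * a) ∈ W
    rw [hq _ (huA a ha)]
    exact ⟨_, huA a ha, rfl⟩
  have hwit : IsTrWitness θ W := by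
    refine ⟨hfdW, fun w hw => hθW w (hWA hw), 2, ?_⟩
    rintro _ ⟨v, rfl⟩
    rw [pow_two, Module.End.mul_apply]
    refine hθW _ ?_
    change (ρ - ρ') _ ∈ ff_ball P 0
    rw [LinearMap.sub_apply]
    exact Submodule.sub_mem _ (hρ.map_mem _) (hle (hρ'.map_mem _))
  rw [fpTr_eq hwit]
  unfold trOn
  -- the isomorphism `W ≃ κ(P)`
  set res := ff_localMap P ht 0 with hres
  have hres_mul : ∀ (a : ff_ball P 0) (h : (u : K) * a.1 ∈ ff_ball P 0),
      res ⟨(u : K) * a.1, h⟩ = IsLocalRing.residue P.O u * res a := by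
    intro a h
    rw [hres, ff_localMap_apply, ff_localMap_apply, ← map_mul]
    congr 1
    apply Subtype.ext
    simp
  have hres_q : ∀ (a : ff_ball P 0) (h : (LinearMap.id - ρ' : K →ₗ[k] K) a.1 ∈ ff_ball P 0),
      res ⟨(LinearMap.id - ρ' : K →ₗ[k] K) a.1, h⟩ = res a := by
    intro a h
    rw [← sub_eq_zero, ← map_sub, hres, ff_localMap_eq_zero_iff]
    change (LinearMap.id - ρ' : K →ₗ[k] K) a.1 - a.1 ∈ _
    rw [LinearMap.sub_apply, LinearMap.id_apply, sub_sub_cancel_left]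
    exact Submodule.neg_mem _ (hρ'.map_mem _)
  let a : W →ₗ[k] IsLocalRing.ResidueField P.O := res ∘ₗ Submodule.inclusion hWA
  have ha_inj : Function.Injective a := by
    rw [← LinearMap.ker_eq_bot, LinearMap.ker_eq_bot']
    rintro ⟨w, hw⟩ h0
    change res ⟨w, hWA hw⟩ = 0 at h0
    rw [hres, ff_localMap_eq_zero_iff] at h0
    change w ∈ ff_ball P (0 - 1) at h0
    obtain ⟨b, hb, rfl⟩ := hw
    apply Subtype.ext
    change (LinearMap.id - ρ' : K →ₗ[k] K) b = 0
    have e : (LinearMap.id - ρ' : K →ₗ[k] K) b = b - ρ' b := rfl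
    rw [e] at h0 ⊢
    have hb' : b ∈ ff_ball P (-1) := by
      have : b = (b - ρ' b) + ρ' b := by ring
      rw [this]
      exact Submodule.add_mem _ h0 (hρ'.map_mem _)
    rw [hρ'.map_id b hb', sub_self]
  have ha_surj : Function.Surjective a := by
    intro c
    obtain ⟨b, rfl⟩ := ff_localMap_surjective P ht 0 c
    have hb : (LinearMap.id - ρ' : K →ₗ[k] K) b.1 ∈ W := ⟨b.1, b.2, rfl⟩
    refine ⟨⟨_, hb⟩, ?_⟩
    exact hres_q b (hWA hb)
  let e : W ≃ₗ[k] IsLocalRing.ResidueField P.O := LinearEquiv.ofBijective a ⟨ha_inj, ha_surj⟩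
  rw [← LinearMap.trace_conj' _ e, Algebra.trace_apply]
  congr 1
  apply LinearMap.ext
  intro c
  obtain ⟨w, rfl⟩ := e.surjective c
  rw [LinearEquiv.conj_apply, LinearMap.comp_apply, LinearMap.comp_apply]
  simp only [LinearEquiv.coe_coe, LinearEquiv.symm_apply_apply]
  obtain ⟨w, hw⟩ := w
  change res ⟨θ w, _⟩ = IsLocalRing.residue P.O u * res ⟨w, hWA hw⟩
  have h1 : θ w = (LinearMap.id - ρ' : K →ₗ[k] K) ((u : K) * w) := hq _ (huA w (hWA hw))
  have h2 := hres_q ⟨(u : K) * w, huA w (hWA hw)⟩ (by rw [← h1]; exact hWA (hθW w (hWA hw)))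
  rw [← hres_mul ⟨w, hWA hw⟩ (huA w (hWA hw)), ← h2]
  congr 1
  exact Subtype.ext h1

theorem ff_exists_tres_ne_zero (hK : IsFunctionField k K) (P : Place k K)
    (hsep : Algebra.IsSeparable k (IsLocalRing.ResidueField P.O)) {ρ : K →ₗ[k] K}
    (hρ : LinearMap.IsProj (ff_ball P 0) ρ) {t : K} (ht : P.1 t = WithZero.exp (-1 : ℤ)) :
    ∃ u : K, P.1 u ≤ 1 ∧ ff_tres ρ (u * t⁻¹) t ≠ 0 := by
  haveI : @Module.Finite k (IsLocalRing.ResidueField P.O) _ _
      (@Algebra.toModule _ _ _ _ (Place.algRes P)) := ff_finiteDimensional_residueField hK P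
  obtain ⟨c, hc⟩ : ∃ c : IsLocalRing.ResidueField P.O,
      Algebra.trace k (IsLocalRing.ResidueField P.O) c ≠ 0 := by
    by_contra h
    push Not at h
    exact Algebra.trace_ne_zero k (IsLocalRing.ResidueField P.O) (LinearMap.ext h)
  obtain ⟨u, rfl⟩ := IsLocalRing.residue_surjective c
  exact ⟨u, u.2, by rw [ff_tres_mul_inv_uniformizer hK P hρ ht u]; exact hc⟩

end Groth.Agent.Lib.Helper55
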