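import Groth.Agent.Lib.Helper55.FunFld.TateAdele

/-! The adelic Tate residue is the sum of the local Tate residues. -/

set_option autoImplicit false

open FunFld Module

namespace Groth.Agent.Lib.Helper55

open Tate

variable {k K : Type*} [Field k] [Field K] [Algebra k K]

/-- the local operator `[ρ_P, s] ∘ b_P` on `K`. -/
noncomputable def ff_locOp (ρ : K →ₗ[k] K) (s x : K) : K →ₗ[k] K :=
  comm ρ (ff_mulK s) ∘ₗ ff_mulK x

theorem ff_tres_eq_fpTr (ρ : K →ₗ[k] K) (s x : K) : ff_tres ρ x s = fpTr (ff_locOp ρ s x) := rfl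

theorem ff_locOp_isE0 (hK : IsFunctionField k K) (P : Place k K) {ρ : K →ₗ[k] K}
    (hρ : LinearMap.IsProj (ff_ball P 0) ρ) (s x : K) : IsE0 (ff_ball P 0) (ff_locOp ρ s x) :=
  isE0_comm_comp hρ (ff_isE_mulK hK P x) (ff_isE_mulK hK P s)

theorem ff_locOp_mem (P : Place k K) {ρ : K →ₗ[k] K}
    (hρ : LinearMap.IsProj (ff_ball P 0) ρ) {s x : K} (hs : P.1 s ≤ 1) (y : K) :
    P.1 (ff_locOp ρ s x y) ≤ 1 := by
  have := comm_comp_mem (f := ff_mulK (k := k) x) hρ (ff_map_mulK_ball_zero_le P hs) y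
  rwa [ff_mem_ball, WithZero.exp_zero] at this

theorem ff_locOp_eq_zero (P : Place k K) {ρ : K →ₗ[k] K}
    (hρ : LinearMap.IsProj (ff_ball P 0) ρ) {s x : K} (hs : P.1 s ≤ 1) (hx : P.1 x ≤ 1) {y : K}
    (hy : P.1 y ≤ 1) : ff_locOp ρ s x y = 0 :=
  comm_comp_eq_zero hρ (ff_map_mulK_ball_zero_le P hx) (ff_map_mulK_ball_zero_le P hs)
    (by rw [ff_mem_ball, WithZero.exp_zero]; exact hy)

theorem ff_map_adSingle_le (P : Place k K) :
    (ff_ball P 0).map (ff_adSingle P) ≤ (ff_A0 : Submodule k (adele k K)) := by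
  classical
  rintro _ ⟨x, hx, rfl⟩
  rw [ff_mem_A0]
  intro Q
  rw [ff_adSingle_apply]
  split_ifs with h
  · subst h
    have := (ff_mem_ball Q 0 x).mp hx
    rwa [WithZero.exp_zero] at this
  · rw [map_zero]; exact zero_le

theorem ff_map_adEv_le (P : Place k K) :
    (ff_A0 : Submodule k (adele k K)).map (ff_adEv P) ≤ ff_ball P 0 := by
  rintro _ ⟨a, ha, rfl⟩
  rw [ff_mem_ball, WithZero.exp_zero, ff_adEv_apply]
  exact (ff_mem_A0 a).mp ha P

/-- the adelic operator `[π, s] ∘ b`, componentwise. -/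
theorem ff_adOp_apply (hK : IsFunctionField k K) (ρ : Place k K → K →ₗ[k] K)
    (hρ : ∀ P, LinearMap.IsProj (ff_ball P 0) (ρ P)) (s : K) (b a : adele k K) (P : Place k K) :
    ((comm (ff_adProj ρ hρ) (ff_adMul (ff_adDiag hK s)) ∘ₗ ff_adMul b) a).1 P =
      ff_locOp (ρ P) s (b.1 P) (a.1 P) := rfl

/-- The adelic Tate residue is the sum of the local ones over any finite set of places outside
of which `s` and `b` are integral. -/
theorem ff_global_tres_eq_sum (hK : IsFunctionField k K) (ρ : Place k K → K →ₗ[k] K)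
    (hρ : ∀ P, LinearMap.IsProj (ff_ball P 0) (ρ P)) (s : K) (b : adele k K)
    (T : Finset (Place k K)) (hT : ∀ P ∉ T, P.1 s ≤ 1 ∧ P.1 (b.1 P) ≤ 1) :
    tres (ff_adProj ρ hρ) (ff_adMul b) (ff_adMul (ff_adDiag hK s)) =
      ∑ P ∈ T, ff_tres (ρ P) (b.1 P) s := by
  classical
  set θ : adele k K →ₗ[k] adele k K :=
    comm (ff_adProj ρ hρ) (ff_adMul (ff_adDiag hK s)) ∘ₗ ff_adMul b with hθ
  set θP : Place k K → (adele k K →ₗ[k] adele k K) := fun P =>
    ff_adSingle P ∘ₗ ff_locOp (ρ P) s (b.1 P) ∘ₗ ff_adEv P with hθP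
  have hE0θ : IsE0 ff_A0 θ :=
    isE0_comm_comp (ff_adProj_isProj ρ hρ) (ff_isE_adMul hK _) (ff_isE_adMul hK _)
  have hE0P : ∀ P, IsE0 ff_A0 (θP P) := by
    intro P
    have hloc := ff_locOp_isE0 hK P (hρ P) s (b.1 P)
    refine ⟨?_, ?_⟩
    · have h1 := (NearLE.map hloc.range_near (ff_adSingle P)).trans
        (NearLE.of_le (ff_map_adSingle_le P))
      refine h1.mono_left ?_
      rintro _ ⟨a, rfl⟩
      exact ⟨_, ⟨_, rfl⟩, rfl⟩
    · have h1 := NearLE.map hloc.map_near (ff_adSingle P)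
      rw [Submodule.map_bot] at h1
      refine h1.mono_left ?_
      rintro _ ⟨a, ha, rfl⟩
      exact ⟨_, ⟨_, ff_map_adEv_le P (Submodule.mem_map_of_mem ha), rfl⟩, rfl⟩
  set θr : adele k K →ₗ[k] adele k K := θ - ∑ P ∈ T, θP P with hθr
  have hE0sum : IsE0 ff_A0 (∑ P ∈ T, θP P) := IsE0.sum T θP fun P _ => hE0P P
  have hE0r : IsE0 ff_A0 θr := hE0θ.sub hE0sum
  have hsum_apply : ∀ (a : adele k K) (Q : Place k K),
      ((∑ P ∈ T, θP P) a).1 Q = if Q ∈ T then ff_locOp (ρ Q) s (b.1 Q) (a.1 Q) else 0 := by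
    intro a Q
    rw [LinearMap.sum_apply]
    have : ((∑ P ∈ T, θP P a : adele k K) : Place k K → K) =
        ∑ P ∈ T, ((θP P a : adele k K) : Place k K → K) := by
      simp
    change ((∑ P ∈ T, θP P a : adele k K) : Place k K → K) Q = _
    rw [this, Finset.sum_apply]
    have h2 : ∀ P ∈ T, ((θP P a : adele k K) : Place k K → K) Q =
        if Q = P then ff_locOp (ρ P) s (b.1 P) (a.1 P) else 0 := by
      intro P _
      exact ff_adSingle_apply P _ Q
    rw [Finset.sum_congr rfl h2]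
    rw [Finset.sum_ite_eq T Q]
  have hr_apply : ∀ (a : adele k K) (Q : Place k K),
      (θr a).1 Q = if Q ∈ T then 0 else ff_locOp (ρ Q) s (b.1 Q) (a.1 Q) := by
    intro a Q
    have : (θr a).1 Q = (θ a).1 Q - ((∑ P ∈ T, θP P) a).1 Q := rfl
    rw [this, hsum_apply, hθ, ff_adOp_apply]
    split_ifs <;> simp
  have hr_sq : θr ^ 2 = 0 := by
    ext a Q
    rw [pow_two, Module.End.mul_apply, hr_apply]
    split_ifs with hQ
    · rfl
    · obtain ⟨hs, hb⟩ := hT Q hQ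
      refine ff_locOp_eq_zero Q (hρ Q) hs hb ?_
      rw [hr_apply, if_neg hQ]
      exact ff_locOp_mem Q (hρ Q) hs _
  have hdecomp : θ = ∑ P ∈ T, θP P + θr := by rw [hθr]; abel
  have hP_tr : ∀ P, fpTr (θP P) = ff_tres (ρ P) (b.1 P) s := by
    intro P
    rw [ff_tres_eq_fpTr]
    have h1 := fpTr_comp_comm (ff_adSingle P) (ff_locOp (ρ P) s (b.1 P) ∘ₗ ff_adEv P)
    rw [LinearMap.comp_assoc, ff_adEv_adSingle, LinearMap.comp_id] at h1
    exact h1
  change fpTr θ = _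
  rw [hdecomp, fpTr_add hE0sum hE0r, fpTr_sum T θP fun P _ => hE0P P,
    fpTr_eq_zero_of_pow_eq_zero hr_sq, add_zero]
  exact Finset.sum_congr rfl fun P _ => hP_tr P

/-- **The residue theorem** (Tate form): the sum of the local Tate residues of `x ds` over any
finite set of places containing the poles of `x` and `s` vanishes. -/
theorem ff_sum_tres_eq_zero (hK : IsFunctionField k K) (ρ : Place k K → K →ₗ[k] K)
    (hρ : ∀ P, LinearMap.IsProj (ff_ball P 0) (ρ P)) (x s : K)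
    (T : Finset (Place k K)) (hT : ∀ P ∉ T, P.1 s ≤ 1 ∧ P.1 x ≤ 1) :
    ∑ P ∈ T, ff_tres (ρ P) x s = 0 := by
  rw [← ff_global_tres_diag hK ρ hρ x s, ff_global_tres_eq_sum hK ρ hρ s (ff_adDiag hK x) T hT]
  rfl

end Groth.Agent.Lib.Helper55
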