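import Mathlib

set_option autoImplicit false

namespace Groth.Agent.Lib.Helper55.Tors

variable {p : ℕ} [hp : Fact p.Prime]

/-- index of `p·N` in a free `ℤ_p`-module `N` of finite rank -/
theorem index_range_smul (N : Type*) [AddCommGroup N] [Module ℤ_[p] N] [Module.Free ℤ_[p] N]
    [Module.Finite ℤ_[p] N] :
    (LinearMap.range ((p : ℤ_[p]) • (LinearMap.id : N →ₗ[ℤ_[p]] N))).toAddSubgroup.index
      = p ^ Module.finrank ℤ_[p] N := by
  classical
  set c := Module.finrank ℤ_[p] N with hc
  let b : Module.Basis (Fin c) ℤ_[p] N := Module.finBasis ℤ_[p] N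
  let π : N →+ (Fin c → ZMod p) :=
    { toFun := fun x i => PadicInt.toZMod (b.repr x i)
      map_zero' := by ext i; simp
      map_add' := fun x y => by ext i; simp }
  have hπ : Function.Surjective π := by
    intro y
    refine ⟨∑ i, ((ZMod.cast (y i) : ℤ_[p])) • b i, ?_⟩
    ext i
    change PadicInt.toZMod (b.repr (∑ j, ((ZMod.cast (y j) : ℤ_[p])) • b j) i) = y i
    rw [map_sum]
    simp only [map_smul, Module.Basis.repr_self, Finsupp.coe_finsetSum, Finset.sum_apply,
      Finsupp.smul_apply, Finsupp.single_apply, smul_eq_mul, mul_ite, mul_one, mul_zero]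
    simp
  have hker : π.ker = (LinearMap.range ((p : ℤ_[p]) • (LinearMap.id : N →ₗ[ℤ_[p]] N))).toAddSubgroup := by
    ext x
    simp only [AddMonoidHom.mem_ker, Submodule.mem_toAddSubgroup, LinearMap.mem_range,
      LinearMap.smul_apply, LinearMap.id_coe, id_eq]
    constructor
    · intro h
      have h' : ∀ i, ∃ a : ℤ_[p], b.repr x i = (p : ℤ_[p]) * a := by
        intro i
        have : PadicInt.toZMod (b.repr x i) = 0 := congrFun h i
        have h2 : b.repr x i ∈ RingHom.ker (PadicInt.toZMod (p := p)) := this
        rw [PadicInt.ker_toZMod, PadicInt.maximalIdeal_eq_span_p, Ideal.mem_span_singleton] at h2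
        exact h2
      choose a ha using h'
      refine ⟨∑ i, a i • b i, ?_⟩
      apply b.repr.injective
      ext i
      rw [map_smul, map_sum]
      simp only [map_smul, Module.Basis.repr_self, Finsupp.smul_apply, Finsupp.coe_finsetSum,
        Finset.sum_apply, Finsupp.single_apply, smul_eq_mul, mul_ite, mul_one, mul_zero]
      simp [ha i]
    · rintro ⟨y, rfl⟩
      ext i
      change PadicInt.toZMod (b.repr ((p : ℤ_[p]) • y) i) = 0
      simp
  rw [← hker, AddSubgroup.index_ker, AddMonoidHom.range_eq_top.mpr hπ]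
  simp


section structure_

variable {M : Type*} [AddCommGroup M] [Module ℤ_[p] M] [Module.Free ℤ_[p] M]
  [Module.Finite ℤ_[p] M]

theorem p_ne_zero' : (p : ℤ_[p]) ≠ 0 := by
  exact_mod_cast hp.out.ne_zero

theorem smul_cancel {a : ℤ_[p]} (ha : a ≠ 0) {x : M} (h : a • x = 0) : x = 0 := by
  rcases smul_eq_zero.mp h with h | h
  · exact absurd h ha
  · exact h

theorem end_smul_cancel {a : ℤ_[p]} (ha : a ≠ 0) {T : Module.End ℤ_[p] M} (h : a • T = 0) :
    T = 0 := by
  ext m
  have : a • T m = 0 := by
    have := congrArg (fun S : Module.End ℤ_[p] M => S m) h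
    simpa using this
  simpa using smul_cancel ha this

/-- Structure of the torsion of `M/fM` when `f` is "`p` times a unit" on a direct summand `eM`
and zero on the complement. -/
theorem torsion_structure (f e g : Module.End ℤ_[p] M) (he : e * e = e) (hef : e * f = f)
    (hfe : f * e = f) (hgf : g * f = (p : ℤ_[p]) • e) (hfg : f * g = (p : ℤ_[p]) • e) :
    LinearMap.ker f = LinearMap.ker e ∧
    (∀ x ∈ Submodule.torsion ℤ_[p] (M ⧸ LinearMap.range f), (p : ℤ_[p]) • x = 0) ∧
    ∀ fN : Module.End ℤ_[p] (LinearMap.range e), (∀ x, ((fN x : LinearMap.range e) : M) = f x) →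
      Nat.card (Submodule.torsion ℤ_[p] (M ⧸ LinearMap.range f)) =
        (LinearMap.range fN).toAddSubgroup.index := by
  have hee : ∀ x, e (e x) = e x := fun x => by
    have := congrArg (fun S : Module.End ℤ_[p] M => S x) he
    simpa using this
  have hef' : ∀ x, e (f x) = f x := fun x => by
    have := congrArg (fun S : Module.End ℤ_[p] M => S x) hef
    simpa using this
  have hfe' : ∀ x, f (e x) = f x := fun x => by
    have := congrArg (fun S : Module.End ℤ_[p] M => S x) hfe
    simpa using this
  have hgf' : ∀ x, g (f x) = (p : ℤ_[p]) • e x := fun x => by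
    have := congrArg (fun S : Module.End ℤ_[p] M => S x) hgf
    simpa using this
  have hfg' : ∀ x, f (g x) = (p : ℤ_[p]) • e x := fun x => by
    have := congrArg (fun S : Module.End ℤ_[p] M => S x) hfg
    simpa using this
  have hker : LinearMap.ker f = LinearMap.ker e := by
    ext x
    simp only [LinearMap.mem_ker]
    constructor
    · intro h
      have : (p : ℤ_[p]) • e x = 0 := by rw [← hgf', h, map_zero]
      exact smul_cancel p_ne_zero' this
    · intro h
      rw [← hfe', h, map_zero]
  -- torsion = image of range e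
  have htors : Submodule.torsion ℤ_[p] (M ⧸ LinearMap.range f) =
      (LinearMap.range e).map (LinearMap.range f).mkQ := by
    ext y
    constructor
    · intro hy
      obtain ⟨x, rfl⟩ := Submodule.mkQ_surjective _ y
      rw [Submodule.mem_torsion_iff] at hy
      obtain ⟨⟨a, ha⟩, hax⟩ := hy
      have ha0 : a ≠ 0 := nonZeroDivisors.ne_zero ha
      have hax' : a • x ∈ LinearMap.range f := by
        rw [← Submodule.Quotient.mk_eq_zero]
        simpa using hax
      obtain ⟨z, hz⟩ := hax'
      have h1 : a • (x - e x) = 0 := by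
        have : e (a • x) = a • x := by rw [← hz, hef']
        rw [map_smul] at this
        rw [smul_sub, this, sub_self]
      have h2 : x - e x = 0 := smul_cancel ha0 h1
      refine ⟨e x, ⟨x, rfl⟩, ?_⟩
      rw [← sub_eq_zero.mp h2]
    · rintro ⟨x, ⟨z, rfl⟩, rfl⟩
      rw [Submodule.mem_torsion_iff]
      refine ⟨⟨(p : ℤ_[p]), mem_nonZeroDivisors_of_ne_zero p_ne_zero'⟩, ?_⟩
      change (p : ℤ_[p]) • (LinearMap.range f).mkQ (e z) = 0
      rw [← map_smul, ← hfg']
      simp
  refine ⟨hker, ?_, ?_⟩
  · intro y hy
    rw [htors] at hy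
    obtain ⟨x, ⟨z, rfl⟩, rfl⟩ := hy
    rw [← map_smul, ← hfg']
    simp
  · intro fN hfN
    let φ : LinearMap.range e →ₗ[ℤ_[p]] (M ⧸ LinearMap.range f) :=
      (LinearMap.range f).mkQ ∘ₗ (LinearMap.range e).subtype
    have hrange : LinearMap.range φ = Submodule.torsion ℤ_[p] (M ⧸ LinearMap.range f) := by
      rw [htors, LinearMap.range_comp, Submodule.range_subtype]
    have hkerφ : LinearMap.ker φ = LinearMap.range fN := by
      ext x
      simp only [LinearMap.mem_ker, LinearMap.mem_range]
      constructor
      · intro h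
        have h' : (x : M) ∈ LinearMap.range f := by
          rw [← Submodule.Quotient.mk_eq_zero]
          exact h
        obtain ⟨z, hz⟩ := h'
        refine ⟨⟨e z, ⟨z, rfl⟩⟩, ?_⟩
        apply Subtype.ext
        rw [hfN]
        simp [hfe', hz]
      · rintro ⟨y, rfl⟩
        change (LinearMap.range f).mkQ ((fN y : LinearMap.range e) : M) = 0
        rw [hfN]
        simp
    have e1 : (LinearMap.range e ⧸ LinearMap.ker φ) ≃ₗ[ℤ_[p]] LinearMap.range φ :=
      φ.quotKerEquivRange
    have : Nat.card (Submodule.torsion ℤ_[p] (M ⧸ LinearMap.range f)) =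
        Nat.card (LinearMap.range e ⧸ LinearMap.range fN) := by
      rw [← hrange, ← hkerφ]
      exact (Nat.card_congr e1.toEquiv).symm
    rw [this]
    rfl

end structure_

end Groth.Agent.Lib.Helper55.Tors
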