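import Groth.Agent.Lib.Helper55.FunFld.Tors1

set_option autoImplicit false

namespace Groth.Agent.Lib.Helper55.Tors

theorem alg3 {C : Type*} [CommRing C] (hC : ∀ x : C, 3 * x = 0 → x = 0) (f B : C)
    (h1 : f ^ 3 + 3 * f ^ 2 + 3 * f = 0) (h2 : f ^ 2 = 3 * B) :
    (-B - f) * (-B - f) = -B - f ∧ (-B - f) * f = f ∧ f * (-B - f) = f ∧
    f * (3 * B + 2 * f) = 3 * (-B - f) ∧ (3 * B + 2 * f) * f = 3 * (-B - f) ∧
    B * (1 - B) = -B - f ∧ B * (-B - f) = (-B - f) * B := by
  have h3 : f * B + 3 * B + f = 0 := hC _ (by linear_combination h1 - (f + 3) * h2)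
  have h4 : B ^ 3 - B ^ 2 + B = 0 :=
    hC _ (by linear_combination (f * (B + 1) - 3 * B) * h3 - (B + 1) ^ 2 * h2)
  have h5 : f - (B ^ 2 - 2 * B) = 0 :=
    hC _ (by linear_combination (B ^ 2 - 2 * B + 3) * h3 - (3 + f) * h4)
  have h5' : f = B ^ 2 - 2 * B := sub_eq_zero.mp h5
  clear h1 h2 h3 h5
  subst h5'
  refine ⟨?_, ?_, ?_, ?_, ?_, ?_, ?_⟩
  · linear_combination (B - 1) * h4
  · linear_combination -(B - 2) * h4
  · linear_combination -(B - 2) * h4
  · linear_combination (2 * B - 3) * h4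
  · linear_combination (2 * B - 3) * h4
  · ring
  · ring


section cases

variable {p : ℕ} [hp : Fact p.Prime]
variable {M : Type*} [AddCommGroup M] [Module ℤ_[p] M] [Module.Free ℤ_[p] M]
  [Module.Finite ℤ_[p] M]

theorem finrank_range_idem (f e : Module.End ℤ_[p] M) (hker : LinearMap.ker f = LinearMap.ker e) :
    Module.finrank ℤ_[p] M - Module.finrank ℤ_[p] (LinearMap.ker f)
      = Module.finrank ℤ_[p] (LinearMap.range e) := by
  have : Module.finrank ℤ_[p] (LinearMap.range e) + Module.finrank ℤ_[p] (LinearMap.ker e)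
      = Module.finrank ℤ_[p] M := by
    rw [← (LinearMap.quotKerEquivRange e).finrank_eq]
    exact Submodule.finrank_quotient_add_finrank _
  rw [hker]
  omega

/-- the case `f = -p e` -/
theorem case_scalar (f B : Module.End ℤ_[p] M) (hB : f = (p : ℤ_[p]) • B) (hBB : B * B = -B) :
    (∀ x ∈ Submodule.torsion ℤ_[p] (M ⧸ LinearMap.range f), (p : ℤ_[p]) • x = 0) ∧
    Nat.card (Submodule.torsion ℤ_[p] (M ⧸ LinearMap.range f)) =
      p ^ (Module.finrank ℤ_[p] M - Module.finrank ℤ_[p] (LinearMap.ker f)) := by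
  have he : (-B) * (-B) = -B := by rw [neg_mul_neg, hBB]
  have hef : (-B) * f = f := by
    rw [hB, mul_smul_comm, neg_mul, hBB, neg_neg]
  have hfe : f * (-B) = f := by
    rw [hB, smul_mul_assoc, mul_neg, hBB, neg_neg]
  have hgf : B * f = (p : ℤ_[p]) • (-B) := by
    rw [hB, mul_smul_comm, hBB]
  have hfg : f * B = (p : ℤ_[p]) • (-B) := by
    rw [hB, smul_mul_assoc, hBB]
  obtain ⟨hker, hkill, hcard⟩ := torsion_structure f (-B) B he hef hfe hgf hfg
  refine ⟨hkill, ?_⟩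
  rw [finrank_range_idem f (-B) hker]
  have hfN : ∀ x : LinearMap.range (-B),
      (((-((p : ℤ_[p]) • (LinearMap.id : LinearMap.range (-B) →ₗ[ℤ_[p]] LinearMap.range (-B)))) x :
        LinearMap.range (-B)) : M) = f x := by
    rintro ⟨x, z, rfl⟩
    have h1 : B (B z) = - B z := by
      have := congrArg (fun S : Module.End ℤ_[p] M => S z) hBB
      simpa using this
    simp [hB, h1]
  rw [hcard _ hfN]
  have h2 : LinearMap.range (-((p : ℤ_[p]) • (LinearMap.id : LinearMap.range (-B) →ₗ[ℤ_[p]] LinearMap.range (-B))))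
      = LinearMap.range ((p : ℤ_[p]) • (LinearMap.id : LinearMap.range (-B) →ₗ[ℤ_[p]] LinearMap.range (-B))) :=
    LinearMap.range_neg _
  rw [h2, index_range_smul]


theorem end_nsmul_cancel {n : ℕ} (hn : (n : ℤ_[p]) ≠ 0) {T : Module.End ℤ_[p] M} (h : n • T = 0) :
    T = 0 := by
  apply end_smul_cancel hn
  rw [Nat.cast_smul_eq_nsmul]
  exact h

open scoped IsMulCommutative in
/-- the algebra for `ℓ = 3`, transported to `End M`. -/
theorem alg3_end (h3 : ((3 : ℕ) : ℤ_[p]) ≠ 0) (f B : Module.End ℤ_[p] M)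
    (h1 : f ^ 3 + 3 * f ^ 2 + 3 * f = 0) (h2 : f ^ 2 = 3 * B) :
    (-B - f) * (-B - f) = -B - f ∧ (-B - f) * f = f ∧ f * (-B - f) = f ∧
    f * (3 * B + 2 * f) = 3 * (-B - f) ∧ (3 * B + 2 * f) * f = 3 * (-B - f) ∧
    B * (1 - B) = -B - f ∧ B * (-B - f) = (-B - f) * B := by
  have hfB : f * B = B * f := by
    have : (3 : ℕ) • (f * B - B * f) = 0 := by
      rw [nsmul_eq_mul]
      push_cast
      calc (3 : Module.End ℤ_[p] M) * (f * B - B * f) = f * (3 * B) - (3 * B) * f := by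
            noncomm_ring
        _ = f * f ^ 2 - f ^ 2 * f := by rw [h2]
        _ = 0 := by noncomm_ring
    exact sub_eq_zero.mp (end_nsmul_cancel h3 this)
  have hcomm : ∀ a ∈ ({f, B} : Set (Module.End ℤ_[p] M)), ∀ b ∈ ({f, B} : Set (Module.End ℤ_[p] M)),
      a * b = b * a := by
    intro a ha b hb
    simp only [Set.mem_insert_iff, Set.mem_singleton_iff] at ha hb
    rcases ha with rfl | rfl <;> rcases hb with rfl | rfl
    · rfl
    · exact hfB
    · exact hfB.symm
    · rfl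
  have hmc := Algebra.isMulCommutative_adjoin ℤ_[p] hcomm
  let f' : Algebra.adjoin ℤ_[p] ({f, B} : Set (Module.End ℤ_[p] M)) :=
    ⟨f, Algebra.subset_adjoin (by simp)⟩
  let B' : Algebra.adjoin ℤ_[p] ({f, B} : Set (Module.End ℤ_[p] M)) :=
    ⟨B, Algebra.subset_adjoin (by simp)⟩
  have c3 : ((3 : Algebra.adjoin ℤ_[p] ({f, B} : Set (Module.End ℤ_[p] M))) : Module.End ℤ_[p] M) = 3 :=
    rfl
  have c2 : ((2 : Algebra.adjoin ℤ_[p] ({f, B} : Set (Module.End ℤ_[p] M))) : Module.End ℤ_[p] M) = 2 :=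
    rfl
  have hC : ∀ x : Algebra.adjoin ℤ_[p] ({f, B} : Set (Module.End ℤ_[p] M)), 3 * x = 0 → x = 0 := by
    intro x hx
    apply Subtype.ext
    have hx' : (3 : Module.End ℤ_[p] M) * (x : Module.End ℤ_[p] M) = 0 := by
      have := congrArg Subtype.val hx
      simpa [c3] using this
    apply end_nsmul_cancel h3 (n := 3)
    rw [nsmul_eq_mul]
    exact_mod_cast hx'
  have h1' : f' ^ 3 + 3 * f' ^ 2 + 3 * f' = 0 := Subtype.ext (by simpa [f', c3] using h1)
  have h2' : f' ^ 2 = 3 * B' := Subtype.ext (by simpa [f', B', c3] using h2)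
  obtain ⟨k1, k2, k3, k4, k5, k6, k7⟩ := alg3 hC f' B' h1' h2'
  refine ⟨?_, ?_, ?_, ?_, ?_, ?_, ?_⟩
  · simpa [f', B'] using congrArg Subtype.val k1
  · simpa [f', B'] using congrArg Subtype.val k2
  · simpa [f', B'] using congrArg Subtype.val k3
  · simpa [f', B', c3, c2] using congrArg Subtype.val k4
  · simpa [f', B', c3, c2] using congrArg Subtype.val k5
  · simpa [f', B'] using congrArg Subtype.val k6
  · simpa [f', B'] using congrArg Subtype.val k7


theorem case_three (hp3 : p = 3) (f B : Module.End ℤ_[p] M)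
    (h1 : f ^ 3 + 3 * f ^ 2 + 3 * f = 0) (h2 : f ^ 2 = (p : ℤ_[p]) • B) :
    (∀ x ∈ Submodule.torsion ℤ_[p] (M ⧸ LinearMap.range f), (p : ℤ_[p]) • x = 0) ∧
    ∃ r : ℕ, r * 2 = Module.finrank ℤ_[p] M - Module.finrank ℤ_[p] (LinearMap.ker f) ∧
      Nat.card (Submodule.torsion ℤ_[p] (M ⧸ LinearMap.range f)) = p ^ r := by
  have h3 : ((3 : ℕ) : ℤ_[p]) ≠ 0 := by
    have := p_ne_zero' (p := p)
    intro h
    apply this
    rw [← h]
    exact_mod_cast congrArg (Nat.cast : ℕ → ℤ_[p]) hp3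
  have hpE : (p : Module.End ℤ_[p] M) = 3 := by
    exact_mod_cast congrArg (Nat.cast : ℕ → Module.End ℤ_[p] M) hp3
  have hsm : ∀ T : Module.End ℤ_[p] M, (p : ℤ_[p]) • T = 3 * T := by
    intro T
    rw [Nat.cast_smul_eq_nsmul, nsmul_eq_mul, hpE]
  have h2' : f ^ 2 = 3 * B := by rw [h2, hsm]
  obtain ⟨he, hef, hfe, hfg, hgf, hB1, hBe⟩ := alg3_end h3 f B h1 h2'
  rw [← hsm (-B - f)] at hfg hgf
  obtain ⟨hker, hkill, hcard⟩ := torsion_structure f (-B - f) (3 * B + 2 * f) he hef hfe hgf hfg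
  refine ⟨hkill, ?_⟩
  rw [finrank_range_idem f (-B - f) hker]
  set e := -B - f with hedef
  have hee : ∀ x, e (e x) = e x := fun x => by
    have := congrArg (fun S : Module.End ℤ_[p] M => S x) he
    simpa using this
  have hef' : ∀ x, e (f x) = f x := fun x => by
    have := congrArg (fun S : Module.End ℤ_[p] M => S x) hef
    simpa using this
  have hBe' : ∀ x, B (e x) = e (B x) := fun x => by
    have := congrArg (fun S : Module.End ℤ_[p] M => S x) hBe
    simpa using this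
  have hB1' : ∀ x, B (x - B x) = e x := fun x => by
    have := congrArg (fun S : Module.End ℤ_[p] M => S x) hB1
    simpa using this
  have hff : ∀ x, f (f x) = (p : ℤ_[p]) • B x := fun x => by
    have := congrArg (fun S : Module.End ℤ_[p] M => S x) h2
    simpa [pow_two] using this
  have hfmem : ∀ x ∈ LinearMap.range e, f x ∈ LinearMap.range e := fun x _ => ⟨f x, hef' x⟩
  have hBmem : ∀ x ∈ LinearMap.range e, B x ∈ LinearMap.range e := by
    rintro x ⟨z, rfl⟩
    exact ⟨B z, (hBe' z).symm⟩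
  let fN : Module.End ℤ_[p] (LinearMap.range e) := f.restrict hfmem
  let BN : Module.End ℤ_[p] (LinearMap.range e) := B.restrict hBmem
  have hfN : ∀ x, ((fN x : LinearMap.range e) : M) = f x := fun x => rfl
  have hBN : ∀ x, ((BN x : LinearMap.range e) : M) = B x := fun x => rfl
  have hfix : ∀ x : LinearMap.range e, e (x : M) = x := by
    rintro ⟨x, z, rfl⟩
    exact hee z
  have hinj : Function.Injective fN := by
    rw [← LinearMap.ker_eq_bot, LinearMap.ker_eq_bot']
    intro x hx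
    have h0 : f (x : M) = 0 := by rw [← hfN, hx]; rfl
    have h1 : (x : M) ∈ LinearMap.ker f := h0
    rw [hker] at h1
    apply Subtype.ext
    rw [← hfix x]
    exact h1
  have hBsurj : Function.Surjective BN := by
    intro y
    have hmem : (y : M) - B y ∈ LinearMap.range e :=
      Submodule.sub_mem _ y.2 (hBmem _ y.2)
    refine ⟨⟨(y : M) - B y, hmem⟩, ?_⟩
    apply Subtype.ext
    rw [hBN]
    change B ((y : M) - B y) = y
    rw [hB1', hfix]
  have hcomp : ∀ x, fN (fN x) = (p : ℤ_[p]) • BN x := by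
    intro x
    apply Subtype.ext
    rw [hfN, hfN]
    change f (f x) = (p : ℤ_[p]) • B x
    exact hff x
  have hrange : LinearMap.range (fN ∘ₗ fN) =
      LinearMap.range ((p : ℤ_[p]) • (LinearMap.id : LinearMap.range e →ₗ[ℤ_[p]] LinearMap.range e)) := by
    ext y
    simp only [LinearMap.mem_range, LinearMap.comp_apply, LinearMap.smul_apply, LinearMap.id_coe,
      id_eq]
    constructor
    · rintro ⟨x, rfl⟩
      exact ⟨BN x, (hcomp x).symm⟩
    · rintro ⟨z, rfl⟩
      obtain ⟨x, rfl⟩ := hBsurj z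
      exact ⟨x, hcomp x⟩
  have hidx : (LinearMap.range (fN ∘ₗ fN)).toAddSubgroup.index =
      (LinearMap.range fN).toAddSubgroup.index * (LinearMap.range fN).toAddSubgroup.index := by
    have := AddSubgroup.index_map (H := (LinearMap.range fN).toAddSubgroup) (f := fN.toAddMonoidHom)
    have hk : fN.toAddMonoidHom.ker = ⊥ := by
      rw [AddMonoidHom.ker_eq_bot_iff]
      exact hinj
    rw [hk, sup_bot_eq] at this
    have hr : fN.toAddMonoidHom.range = (LinearMap.range fN).toAddSubgroup := by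
      ext y
      simp [AddMonoidHom.mem_range, LinearMap.mem_range]
    have hm : ((LinearMap.range fN).toAddSubgroup).map fN.toAddMonoidHom =
        (LinearMap.range (fN ∘ₗ fN)).toAddSubgroup := by
      ext y
      simp only [AddSubgroup.mem_map, Submodule.mem_toAddSubgroup, LinearMap.mem_range,
        LinearMap.toAddMonoidHom_coe, LinearMap.comp_apply]
      constructor
      · rintro ⟨_, ⟨x, rfl⟩, rfl⟩
        exact ⟨x, rfl⟩
      · rintro ⟨x, rfl⟩
        exact ⟨fN x, ⟨x, rfl⟩, rfl⟩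
    rw [hm, hr] at this
    exact this
  rw [hrange, index_range_smul] at hidx
  rw [hcard fN hfN]
  set n0 := (LinearMap.range fN).toAddSubgroup.index with hn0
  set c := Module.finrank ℤ_[p] (LinearMap.range e) with hcdef
  have hdvd : n0 ∣ p ^ c := ⟨n0, hidx⟩
  obtain ⟨r, hr, hn⟩ := (Nat.dvd_prime_pow hp.out).mp hdvd
  refine ⟨r, ?_, hn⟩
  rw [hn, ← pow_add] at hidx
  have := Nat.pow_right_injective hp.out.two_le hidx
  omega


theorem main_two (hp2 : p = 2) (f : Module.End ℤ_[p] M) (hA : (f + 1) ^ 2 = 1)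
    (hcase : (∃ B : Module.End ℤ_[p] M, f = (2 : ℤ_[p]) • B) ∨
      (∃ B : Module.End ℤ_[p] M, f ^ 2 = (4 : ℤ_[p]) • B)) :
    (∀ x ∈ Submodule.torsion ℤ_[p] (M ⧸ LinearMap.range f), (p : ℤ_[p]) • x = 0) ∧
    Nat.card (Submodule.torsion ℤ_[p] (M ⧸ LinearMap.range f)) =
      p ^ (Module.finrank ℤ_[p] M - Module.finrank ℤ_[p] (LinearMap.ker f)) := by
  have hp2' : (p : ℤ_[p]) = 2 := by
    exact_mod_cast congrArg (Nat.cast : ℕ → ℤ_[p]) hp2
  have h2 : (2 : ℤ_[p]) ≠ 0 := by rw [← hp2']; exact p_ne_zero'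
  have h4 : (4 : ℤ_[p]) ≠ 0 := by
    have : (4 : ℤ_[p]) = 2 * 2 := by norm_num
    rw [this]
    exact mul_ne_zero h2 h2
  have hff : f ^ 2 + (2 : ℤ_[p]) • f = 0 := by
    have h : f ^ 2 + (2 : ℤ_[p]) • f = (f + 1) ^ 2 - 1 := by
      rw [ofNat_smul_eq_nsmul]
      noncomm_ring
    rw [h, hA, sub_self]
  -- reduce to the first case
  have key : ∃ B : Module.End ℤ_[p] M, f = (2 : ℤ_[p]) • B := by
    rcases hcase with h | ⟨B, hB⟩
    · exact h
    · refine ⟨-B, ?_⟩
      have : (2 : ℤ_[p]) • (f - (2 : ℤ_[p]) • (-B)) = 0 := by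
        rw [smul_sub, smul_smul, smul_neg, sub_neg_eq_add]
        have e4 : (2 : ℤ_[p]) * 2 = 4 := by norm_num
        rw [e4, ← hB, add_comm]
        exact hff
      exact sub_eq_zero.mp (end_smul_cancel h2 this)
  obtain ⟨B, hB⟩ := key
  have hBB : B * B = -B := by
    have : (4 : ℤ_[p]) • (B * B + B) = 0 := by
      have e4 : (4 : ℤ_[p]) = 2 * 2 := by norm_num
      rw [hB, pow_two, smul_mul_assoc, mul_smul_comm, smul_smul, smul_smul, ← smul_add, ← e4] at hff
      exact hff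
    exact eq_neg_of_add_eq_zero_left (end_smul_cancel h4 this)
  rw [← hp2'] at hB
  exact case_scalar f B hB hBB

theorem main_three (hp3 : p = 3) (f : Module.End ℤ_[p] M) (hA : (f + 1) ^ 3 = 1)
    (hcase : ∃ B : Module.End ℤ_[p] M, f ^ 2 = (3 : ℤ_[p]) • B) :
    (∀ x ∈ Submodule.torsion ℤ_[p] (M ⧸ LinearMap.range f), (p : ℤ_[p]) • x = 0) ∧
    ∃ r : ℕ, r * 2 = Module.finrank ℤ_[p] M - Module.finrank ℤ_[p] (LinearMap.ker f) ∧
      Nat.card (Submodule.torsion ℤ_[p] (M ⧸ LinearMap.range f)) = p ^ r := by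
  have hp3' : (p : ℤ_[p]) = 3 := by
    exact_mod_cast congrArg (Nat.cast : ℕ → ℤ_[p]) hp3
  obtain ⟨B, hB⟩ := hcase
  have h1 : f ^ 3 + 3 * f ^ 2 + 3 * f = 0 := by
    have h : f ^ 3 + 3 * f ^ 2 + 3 * f = (f + 1) ^ 3 - 1 := by noncomm_ring
    rw [h, hA, sub_self]
  rw [← hp3'] at hB
  exact case_three hp3 f B h1 hB

theorem coe_pow_linearEquiv {R : Type*} [CommRing R] {N : Type*} [AddCommGroup N] [Module R N]
    (A : N ≃ₗ[R] N) (n : ℕ) :
    ((A ^ n : N ≃ₗ[R] N) : N →ₗ[R] N) = ((A : N →ₗ[R] N) : Module.End R N) ^ n := by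
  induction n with
  | zero => rfl
  | succ n ih =>
    rw [pow_succ, pow_succ, ← ih]
    rfl

end cases

end Groth.Agent.Lib.Helper55.Tors
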