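import Groth.Agent.Lib.Helper55.FunFld.HasseCanon
import Groth.Agent.Lib.Helper55.FunFld.HasseClassical
import Groth.Agent.Lib.Helper55.FunFld.HasseDeg
import Groth.Agent.Lib.Helper55.FunFld.AlgClosed
import Groth.Agent.Lib.Helper55.FunFld.AutFix
import Groth.Agent.Lib.Helper55.FunFld.SFPComb
import Groth.Agent.Lib.Helper55.FunFld.GenusTwo
import Groth.Agent.Lib.Helper55.FunFld.PlaneGenus

/-! Weierstrass points of the canonical map: local weights, count. -/

namespace Groth.Agent.Lib.Helper55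

open FunFld LocRes

variable {k K : Type*} [Field k] [Field K] [Algebra k K]

/-- The canonical linear system has no base points: the divisor of a basis of `L(C)` is `C`. -/
theorem ff_mapDiv_canonical [IsAlgClosed k] (hK : IsFunctionField k K) (hg : 0 < genus k K)
    (C : Divisor k K) (hC : IsCanonical k K C) {n : ℕ} (φ : Fin (n + 1) → K)
    (hφ : LinearIndependent k φ) (hspan : Submodule.span k (Set.range φ) = L C) :
    mapDiv k φ = C := by
  ext Q
  obtain ⟨j, hj⟩ := ff_exists_max_index φ Q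
  have hφ0 : ∀ i, φ i ≠ 0 := fun i => hφ.ne_zero i
  have h1 := ff_exp_mapDiv hK φ hφ0 Q j hj
  have hPdeg := ff_deg_eq_one_of_isAlgClosed hK Q
  obtain ⟨x, hxC, hxn⟩ := ff_exists_mem_not_mem_of_ell_lt hK
    (ff_ell_sub_single_lt hK hg C (Or.inr hC) Q hPdeg)
  have hxQ : Q.1 x = WithZero.exp (C Q) := by
    refine le_antisymm ((ff_mem_L_iff C x).mp hxC Q) ?_
    by_contra hlt
    push Not at hlt
    exact hxn ((ff_mem_L_sub_single_iff C Q x).mpr ⟨hxC, hlt⟩)
  have h2 : Q.1 x ≤ Q.1 (φ j) := ff_span_val_le φ Q hj (hspan ▸ hxC)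
  have h3 : Q.1 (φ j) ≤ WithZero.exp (C Q) :=
    (ff_mem_L_iff C _).mp (hspan ▸ Submodule.subset_span ⟨j, rfl⟩) Q
  have h4 : WithZero.exp (mapDiv k φ Q) = WithZero.exp (C Q) := by
    rw [h1]
    exact le_antisymm h3 (hxQ ▸ h2)
  exact WithZero.exp_inj.mp h4

/-- Local structure of the Weierstrass divisor of the canonical map at a place `P`: the local
orders are the gaps (shifted by one) and the coefficient is the weight. -/
theorem ff_weier_local [IsAlgClosed k] (hK : IsFunctionField k K) (hg : 1 < genus k K)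
    (hchar : ringChar k = 0 ∨ 2 * genus k K - 2 < ringChar k)
    (C : Divisor k K) (hC : IsCanonical k K C) {n : ℕ} (φ : Fin (n + 1) → K)
    (hφ : LinearIndependent k φ) (hspan : Submodule.span k (Set.range φ) = L C)
    (s : K) (H : K →ₐ[k] PowerSeries K) (hH : IsHasseFamily s H)
    (J : Fin n → ℕ) (hJ : IsOrders K (hcol (AlgHom.id k K) H φ) J)
    (Φ : Place k K → (K →ₐ[k] LaurentSeries k))
    (hΦ : ∀ P : Place k K, IsExpansionAt P.1 (Φ P)) (P : Place k K) :
    J = (fun l : Fin n => 1 + (l : ℕ)) ∧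
    ∃ J' : Fin n → ℕ, StrictMono J' ∧ (∀ l, 1 ≤ J' l) ∧
      (∀ j : ℕ, 1 ≤ j → (j ∈ Set.range J' ↔
        L (Finsupp.single P ((j : ℤ) + 1)) = L (Finsupp.single P (j : ℤ)))) ∧
      wDiv (AlgHom.id k K) H Φ s φ J P = ∑ l, ((J' l : ℤ) - (1 + (l : ℕ) : ℕ)) := by
  classical
  have hg0 : 0 < genus k K := by omega
  have hφ0 : ∀ i, φ i ≠ 0 := fun i => hφ.ne_zero i
  have hmd := ff_mapDiv_canonical hK hg0 C hC φ hφ hspan
  have hdegC := (ff_canonical_ell_deg hK hC).2
  have hcharφ : ringChar k = 0 ∨ (mapDiv k φ).deg < ringChar k := by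
    rcases hchar with h | h
    · exact Or.inl h
    · right
      rw [hmd, hdegC]
      have : ((2 * genus k K - 2 : ℕ) : ℤ) < (ringChar k : ℤ) := by exact_mod_cast h
      omega
  -- the global orders are classical
  have hJcl : J = (fun l : Fin n => 1 + (l : ℕ)) := by
    have h := ff_isOrders_classical hK φ hφ hcharφ (AlgHom.id k K) H hH P 1 (Or.inl ⟨rfl, rfl⟩)
    refine (StrictMono.range_inj hJ.1 h.1).mp ?_
    ext j
    rw [hJ.2 j, h.2 j]
  refine ⟨hJcl, ?_⟩
  obtain ⟨j₀, hj₀⟩ := ff_exists_max_index φ P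
  set y : K := (φ j₀)⁻¹ with hy
  have hy0 : y ≠ 0 := inv_ne_zero (hφ0 j₀)
  set φ' : Fin (n + 1) → K := fun i => y * φ i with hφ'
  have hφ'li : LinearIndependent k φ' :=
    hφ.map' (LinearMap.mulLeft k y)
      (LinearMap.ker_eq_bot.mpr fun a b h => mul_left_cancel₀ hy0 h)
  have hvj : P.1 (φ j₀) ≠ 0 := (Valuation.ne_zero_iff _).mpr (hφ0 j₀)
  have hnorm : ∀ i, P.1 (φ' i) ≤ 1 := by
    intro i
    rw [hφ', map_mul, hy, map_inv₀]
    calc (P.1 (φ j₀))⁻¹ * P.1 (φ i) ≤ (P.1 (φ j₀))⁻¹ * P.1 (φ j₀) := mul_le_mul' le_rfl (hj₀ i)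
      _ = 1 := inv_mul_cancel₀ hvj
  have h1 : φ' j₀ = 1 := inv_mul_cancel₀ (hφ0 j₀)
  have heff : (1 : K) ∈ Submodule.span k (Set.range φ') := Submodule.subset_span ⟨j₀, h1⟩
  obtain ⟨t, ht, hu⟩ := ff_exists_sep_uniformizer H hH P
  obtain ⟨Ht, σ, hHt, -⟩ := ff_exists_hasseFamily_subst H hH.2 t hu
  have hinv := ff_wDiv_invariance hK φ hφ (AlgHom.id k K) s H hH t Ht hHt J hJ 1
    (by rw [Matrix.det_one]; exact one_ne_zero) y hy0 φ' (by
      intro i
      simp only [hφ', Matrix.one_apply, ite_smul, one_smul, zero_smul, Finset.sum_ite_eq,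
        Finset.mem_univ, if_true]) Φ hΦ
  have hJ2 : IsOrders K (hcol (AlgHom.id k K) Ht φ') J := by
    rw [(ff_orders_change_var hK φ' (AlgHom.id k K) H Ht hH hHt).1]
    exact (ff_isOrders_mul (AlgHom.id k K) H hH.2 φ hy0 J).mpr hJ
  obtain ⟨J', hJ'⟩ := ff_exists_local_orders hK P ht Ht hHt φ' hφ'li hnorm j₀ (by rw [h1, map_one])
  obtain ⟨hmono, hpos, hex, -⟩ := ff_isOrders_hcolAt Ht hK P ht hHt φ' hnorm J' hJ'
  refine ⟨J', hmono, hpos, ?_, ?_⟩
  · intro j hj
    rw [hJ'.2 j]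
    exact ff_canonical_orders_gap Ht hK C hC φ hφ hspan P y heff hnorm ht hHt j hj
  · rw [← hinv]
    have hP1 : P.1 (φ' j₀) = 1 := by rw [h1, map_one]
    have hdeg' : (mapDiv k φ').deg = 2 * (genus k K : ℤ) - 2 := by
      rw [hφ', ff_deg_mapDiv_mul hK φ hφ0 hy0, hmd, hdegC]
    have hchar' : ringChar k = 0 ∨ (2 * genus k K - 2) < ringChar k := hchar
    have hJd : ∀ l, J' l ≤ 2 * genus k K - 2 := by
      intro l
      obtain ⟨f, hf, hPf⟩ := hex l
      have hf0 : f ≠ 0 := by
        rintro rfl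
        rw [map_zero] at hPf
        exact WithZero.exp_ne_zero hPf.symm
      have h1 := ff_local_order_le_deg hK φ' P hnorm j₀ hP1 hf hf0
      rw [ff_val_eq_exp_neg_ord P hf0, WithZero.exp_inj] at hPf
      rw [hdeg'] at h1
      omega
    have hdist : ∀ i i', i ≠ i' → (J' i : k) ≠ (J' i' : k) := by
      intro i i' hii'
      rcases lt_or_gt_of_ne (hmono.injective.ne hii') with h | h
      · exact ff_natCast_ne_of_lt_char hchar' h (hJd i')
      · exact (ff_natCast_ne_of_lt_char hchar' h (hJd i)).symm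
    have hc := (ff_wDiv_coeff Ht hK (AlgHom.id k K) P (fun z hz => hz) φ' heff hnorm ht hHt J hJ2
      J' hJ' Φ (hΦ P)).2 (Or.inl rfl)
    have hdet : (binomMat k J' J).det ≠ 0 := by
      rw [hJcl]
      exact ff_binomMat_det_ne_zero_one k J' hdist fun i =>
        ff_natCast_ne_of_lt_char hchar' (hpos i) (hJd i)
    rw [hc.mpr hdet]
    refine Finset.sum_congr rfl fun l _ => ?_
    rw [hJcl]

theorem ff_weier_comb {n : ℕ} (J' : Fin n → ℕ) (hmono : StrictMono J') (gap : ℕ → Prop)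
    (hgap : ∀ j, 1 ≤ j → gap (j + 1) → j ∈ Set.range J')
    (hcount : ∀ l, 1 ≤ l → l ≤ n + 1 → l ≤ Set.ncard {m | 1 ≤ m ∧ m ≤ 2 * l - 1 ∧ gap m})
    (i : Fin n) : J' i ≤ 2 * i + 2 := by
  classical
  by_contra h
  push Not at h
  have hl := hcount (i + 2) (by omega) (by have := i.2; omega)
  have hsub : {m | 1 ≤ m ∧ m ≤ 2 * ((i : ℕ) + 2) - 1 ∧ gap m} ⊆
      ↑(insert 1 ((Finset.Iio i).image fun i' => J' i' + 1)) := by
    rintro m ⟨hm1, hm2, hm3⟩
    rw [Finset.mem_coe, Finset.mem_insert]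
    by_cases hm : m = 1
    · exact Or.inl hm
    · right
      obtain ⟨i', hi'⟩ := hgap (m - 1) (by omega) (by rwa [Nat.sub_add_cancel hm1])
      rw [Finset.mem_image]
      refine ⟨i', ?_, by omega⟩
      rw [Finset.mem_Iio]
      by_contra hge
      push Not at hge
      have := hmono.monotone hge
      omega
  have h1 := Set.ncard_le_ncard hsub (Finset.finite_toSet _)
  rw [Set.ncard_coe_finset] at h1
  have h2 := Finset.card_insert_le 1 ((Finset.Iio i).image fun i' => J' i' + 1)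
  have h3 := Finset.card_image_le (s := Finset.Iio i) (f := fun i' => J' i' + 1)
  rw [Fin.card_Iio] at h3
  omega

theorem ff_two_mul_sum_succ (n : ℕ) : 2 * ∑ l : Fin n, (((1 + (l : ℕ) : ℕ) : ℤ)) = n * (n + 1) := by
  have h2 : ∑ l : Fin n, (((1 + (l : ℕ) : ℕ) : ℤ)) = ∑ l ∈ Finset.range n, ((1 + l : ℕ) : ℤ) :=
    Fin.sum_univ_eq_sum_range (fun l => ((1 + l : ℕ) : ℤ)) n
  rw [h2, ← Nat.cast_sum]
  have h4 : 2 * ∑ l ∈ Finset.range n, (1 + l) = n * (n + 1) := by
    rw [Finset.sum_add_distrib, Finset.sum_const, Finset.card_range, smul_eq_mul, mul_one,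
      mul_add, mul_comm 2 (∑ i ∈ Finset.range n, i), Finset.sum_range_id_mul_two]
    cases n with
    | zero => omega
    | succ n => simp; ring
  exact_mod_cast h4

/-- The coefficient of the Weierstrass divisor of the canonical map at `P`: bounds, the extreme
case and vanishing, in terms of the gap sequence at `P`. -/
theorem ff_weier_point [IsAlgClosed k] (hK : IsFunctionField k K) (hg : 1 < genus k K)
    (hchar : ringChar k = 0 ∨ 2 * genus k K - 2 < ringChar k)
    (C : Divisor k K) (hC : IsCanonical k K C) {n : ℕ} (φ : Fin (n + 1) → K)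
    (hφ : LinearIndependent k φ) (hspan : Submodule.span k (Set.range φ) = L C)
    (s : K) (H : K →ₐ[k] PowerSeries K) (hH : IsHasseFamily s H)
    (J : Fin n → ℕ) (hJ : IsOrders K (hcol (AlgHom.id k K) H φ) J)
    (Φ : Place k K → (K →ₐ[k] LaurentSeries k))
    (hΦ : ∀ P : Place k K, IsExpansionAt P.1 (Φ P)) (P : Place k K) :
    0 ≤ wDiv (AlgHom.id k K) H Φ s φ J P ∧
    2 * wDiv (AlgHom.id k K) H Φ s φ J P ≤ (n : ℤ) * (n + 1) ∧
    (2 * wDiv (AlgHom.id k K) H Φ s φ J P = (n : ℤ) * (n + 1) →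
      L (Finsupp.single P (2 : ℤ)) ≠ L (Finsupp.single P (1 : ℤ))) ∧
    (wDiv (AlgHom.id k K) H Φ s φ J P = 0 ↔ ∀ j : ℕ, 1 ≤ j → j ≤ n →
      L (Finsupp.single P ((j : ℤ) + 1)) = L (Finsupp.single P (j : ℤ))) := by
  classical
  obtain ⟨-, J', hmono, hpos, hgapiff, hW⟩ :=
    ff_weier_local hK hg hchar C hC φ hφ hspan s H hH J hJ Φ hΦ P
  have hPdeg := ff_deg_eq_one_of_isAlgClosed hK P
  have hn1 : n + 1 = genus k K := by
    have h1 := (ff_canonical_ell_deg hK hC).1
    have h2 : ell C = n + 1 := by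
      unfold ell
      rw [← hspan, finrank_span_eq_card hφ]
      simp
    omega
  have hup : ∀ l, J' l ≤ 2 * (l : ℕ) + 2 := by
    refine ff_weier_comb J' hmono (fun m => L (Finsupp.single P (m : ℤ) : Divisor k K) =
      L (Finsupp.single P ((m : ℤ) - 1) : Divisor k K)) ?_ ?_
    · intro j hj hgap
      refine (hgapiff j hj).mpr ?_
      have e1 : ((j + 1 : ℕ) : ℤ) = (j : ℤ) + 1 := by push_cast; ring
      have e2 : ((j + 1 : ℕ) : ℤ) - 1 = (j : ℤ) := by push_cast; ring
      simp only [e1] at hgap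
      rw [hgap]
      congr 2
    · intro l hl1 hl2
      exact ff_gap_le hK P hPdeg l hl1 (by omega)
  have hlow : ∀ l : Fin n, (l : ℕ) + 1 ≤ J' l := by
    intro l
    have hn : 0 < n := by have := l.2; omega
    have h1 := ff_strictMono_fin_add_le J' hmono ⟨0, hn⟩ l (by rw [Fin.le_def]; simp)
    have h2 := hpos ⟨0, hn⟩
    simp only at h1
    omega
  have hterm0 : ∀ l : Fin n, (0 : ℤ) ≤ (J' l : ℤ) - ((1 + (l : ℕ) : ℕ) : ℤ) := by
    intro l
    have := hlow l
    push_cast
    omega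
  have htermle : ∀ l : Fin n, (J' l : ℤ) - ((1 + (l : ℕ) : ℕ) : ℤ) ≤ ((1 + (l : ℕ) : ℕ) : ℤ) := by
    intro l
    have := hup l
    push_cast
    omega
  have hsum := ff_two_mul_sum_succ n
  refine ⟨?_, ?_, ?_, ?_⟩
  · rw [hW]
    exact Finset.sum_nonneg fun l _ => hterm0 l
  · rw [hW, ← hsum]
    have := Finset.sum_le_sum (s := Finset.univ) fun (l : Fin n) _ => htermle l
    omega
  · intro heq
    rw [hW, ← hsum] at heq
    have heq' : ∑ l : Fin n, ((J' l : ℤ) - ((1 + (l : ℕ) : ℕ) : ℤ)) =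
        ∑ l : Fin n, ((1 + (l : ℕ) : ℕ) : ℤ) := by omega
    have hall := (Finset.sum_eq_sum_iff_of_le fun (l : Fin n) _ => htermle l).mp heq'
    have h1 : (1 : ℕ) ∉ Set.range J' := by
      rintro ⟨l, hl⟩
      have := hall l (Finset.mem_univ l)
      push_cast at this
      omega
    intro hL
    apply h1
    refine (hgapiff 1 le_rfl).mpr ?_
    have e1 : ((1 : ℕ) : ℤ) + 1 = 2 := by norm_num
    have e2 : ((1 : ℕ) : ℤ) = 1 := by norm_num
    rw [e1, e2]
    exact hL
  · rw [hW, Finset.sum_eq_zero_iff_of_nonneg fun l _ => hterm0 l]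
    constructor
    · intro h j hj1 hjn
      refine (hgapiff j hj1).mp ⟨⟨j - 1, by omega⟩, ?_⟩
      have := h ⟨j - 1, by omega⟩ (Finset.mem_univ _)
      push_cast at this
      omega
    · intro h l _
      have hinit := ff_orders_initial (c := n) J' hmono hpos
        (fun j hj1 hjn => (hgapiff j hj1).mpr (h j hj1 hjn)) l l.2
      rw [hinit]
      push_cast
      ring

/-- The number of Weierstrass points is at least `2g + 2`, with equality only if all weights
are maximal. -/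
theorem ff_weier_count [IsAlgClosed k] (hK : IsFunctionField k K) (hg : 1 < genus k K)
    (hchar : ringChar k = 0 ∨ 2 * genus k K - 2 < ringChar k)
    (C : Divisor k K) (hC : IsCanonical k K C) {n : ℕ} (φ : Fin (n + 1) → K)
    (hφ : LinearIndependent k φ) (hspan : Submodule.span k (Set.range φ) = L C)
    (s : K) (H : K →ₐ[k] PowerSeries K) (hH : IsHasseFamily s H)
    (J : Fin n → ℕ) (hJ : IsOrders K (hcol (AlgHom.id k K) H φ) J)
    (Φ : Place k K → (K →ₐ[k] LaurentSeries k))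
    (hΦ : ∀ P : Place k K, IsExpansionAt P.1 (Φ P)) :
    {P : Place k K | wDiv (AlgHom.id k K) H Φ s φ J P ≠ 0}.Finite ∧
    2 * genus k K + 2 ≤ Set.ncard {P : Place k K | wDiv (AlgHom.id k K) H Φ s φ J P ≠ 0} ∧
    (Set.ncard {P : Place k K | wDiv (AlgHom.id k K) H Φ s φ J P ≠ 0} = 2 * genus k K + 2 →
      ∀ P : Place k K, wDiv (AlgHom.id k K) H Φ s φ J P ≠ 0 →
        2 * wDiv (AlgHom.id k K) H Φ s φ J P = (n : ℤ) * (n + 1)) := by
  classical
  set W := wDiv (AlgHom.id k K) H Φ s φ J with hWdef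
  have hg0 : 0 < genus k K := by omega
  have hn1 : n + 1 = genus k K := by
    have h1 := (ff_canonical_ell_deg hK hC).1
    have h2 : ell C = n + 1 := by
      unfold ell
      rw [← hspan, finrank_span_eq_card hφ]
      simp
    omega
  have hpt := fun P => ff_weier_point hK hg hchar C hC φ hφ hspan s H hH J hJ Φ hΦ P
  have hJcl := (ff_weier_local hK hg hchar C hC φ hφ hspan s H hH J hJ Φ hΦ
    (Classical.choice (ff_nonempty_place hK))).1
  have hset : {P : Place k K | W P ≠ 0} = ↑W.support := by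
    ext P
    rw [Set.mem_ofPred_eq, Finset.mem_coe, Finsupp.mem_support_iff]
  have hdeg := ff_deg_wDiv hK φ (AlgHom.id k K) s H hH J Φ hΦ
  have hfr : Module.finrank (AlgHom.id k K).fieldRange K = 1 := by
    have : (AlgHom.id k K).fieldRange = ⊤ :=
      AlgHom.fieldRange_eq_top.mpr Function.surjective_id
    rw [this]
    exact IntermediateField.finrank_top
  have hmd := ff_mapDiv_canonical hK hg0 C hC φ hφ hspan
  have hdegC := (ff_canonical_ell_deg hK hC).2
  have hsumJ : 2 * ∑ l, (J l : ℤ) = n * (n + 1) := by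
    rw [hJcl]
    exact ff_two_mul_sum_succ n
  have hdegW : W.deg = ∑ P ∈ W.support, W P * (P.deg : ℤ) := rfl
  have hdegW' : W.deg = ∑ P ∈ W.support, W P := by
    rw [hdegW]
    refine Finset.sum_congr rfl fun P _ => ?_
    rw [ff_deg_eq_one_of_isAlgClosed hK P, Nat.cast_one, mul_one]
  have hg' : (genus k K : ℤ) = n + 1 := by rw [← hn1]; push_cast; ring
  have h2deg : 2 * W.deg = 2 * ((n : ℤ) * (n + 1)) * (n + 2) := by
    rw [hdeg, hfr, hmd, hdegC, hg']
    have : (2 * ((n : ℤ) + 1) - 2) * ∑ l, (J l : ℤ) = n * (2 * ∑ l, (J l : ℤ)) := by ring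
    rw [mul_add, mul_comm 2 ((2 * ((n : ℤ) + 1) - 2) * ∑ l, (J l : ℤ)), this, hsumJ]
    push_cast
    ring
  have hle : 2 * W.deg ≤ (W.support.card : ℤ) * ((n : ℤ) * (n + 1)) := by
    rw [hdegW', Finset.mul_sum]
    calc ∑ P ∈ W.support, 2 * W P ≤ ∑ _P ∈ W.support, ((n : ℤ) * (n + 1)) :=
          Finset.sum_le_sum fun P _ => (hpt P).2.1
      _ = _ := by rw [Finset.sum_const, nsmul_eq_mul]
  have hn0 : 0 < n := by omega
  have hnn : (0 : ℤ) < (n : ℤ) * (n + 1) := by positivity
  refine ⟨hset ▸ W.support.finite_toSet, ?_, ?_⟩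
  · rw [hset, Set.ncard_coe_finset]
    rw [h2deg] at hle
    have h3 : (2 * ((n : ℤ) + 2)) * ((n : ℤ) * (n + 1)) ≤ (W.support.card : ℤ) * ((n : ℤ) * (n + 1)) := by
      linarith
    have h4 := le_of_mul_le_mul_right h3 hnn
    have : (2 * genus k K + 2 : ℤ) ≤ W.support.card := by rw [hg']; linarith
    exact_mod_cast this
  · rw [hset, Set.ncard_coe_finset]
    intro hcard P hP
    have hPs : P ∈ W.support := Finsupp.mem_support_iff.mpr hP
    have hsumeq : ∑ P ∈ W.support, 2 * W P = ∑ _P ∈ W.support, ((n : ℤ) * (n + 1)) := by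
      rw [← Finset.mul_sum, ← hdegW', h2deg, Finset.sum_const, nsmul_eq_mul, hcard]
      rw [← hn1]
      push_cast
      ring
    exact (Finset.sum_eq_sum_iff_of_le fun P _ => (hpt P).2.1).mp hsumeq P hPs

/-- An automorphism fixing `x` fixes `k(x)` pointwise. -/
theorem ff_fix_adjoin (σ : K ≃ₐ[k] K) {x : K} (hx : σ x = x) {z : K}
    (hz : z ∈ IntermediateField.adjoin k ({x} : Set K)) : σ z = z := by
  induction hz using IntermediateField.adjoin_induction with
  | mem y hy => rw [Set.mem_singleton_iff.mp hy]; exact hx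
  | algebraMap c => exact σ.commutes c
  | add a b _ _ ha hb => rw [map_add, ha, hb]
  | inv a _ ha => rw [map_inv₀, ha]
  | mul a b _ _ ha hb => rw [map_mul, ha, hb]

/-- Uniqueness of the `g¹₂` (genus `> 1`): functions with a single double pole all lie in
`k(x)` for one of them. -/
theorem ff_mem_adjoin_of_pole_two [IsAlgClosed k] (hK : IsFunctionField k K)
    (hg : 1 < genus k K) {x y : K} {P₁ P : Place k K}
    (hx : x ∈ L (Finsupp.single P₁ (2 : ℤ) : Divisor k K)) (hxt : Transcendental k x)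
    (hy : y ∈ L (Finsupp.single P (2 : ℤ) : Divisor k K)) :
    y ∈ IntermediateField.adjoin k ({x} : Set K) := by
  classical
  by_contra hyF
  set F := IntermediateField.adjoin k ({x} : Set K) with hF
  set r := genus k K with hr
  have hb : LinearIndependent k
      (fun a : Fin (r + 1) => (IntermediateField.AdjoinSimple.gen k x) ^ (a : ℕ)) :=
    ff_linearIndependent_pow_gen hxt (r + 1)
  have hc : LinearIndependent F ![(1 : K), y] := by
    rw [LinearIndependent.pair_iff]
    intro a b hab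
    by_cases hb0 : b = 0
    · subst hb0
      rw [zero_smul, add_zero, Algebra.smul_def, mul_one] at hab
      have : a = 0 := by
        apply Subtype.ext
        exact hab
      exact ⟨this, rfl⟩
    · exfalso
      apply hyF
      have hbK : (b : K) ≠ 0 := fun h => hb0 (Subtype.ext h)
      have h1 : (a : K) + (b : K) * y = 0 := by
        rw [Algebra.smul_def, Algebra.smul_def, mul_one] at hab
        exact hab
      have h2 : y = ((-a / b : F) : K) := by
        push_cast
        field_simp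
        linear_combination h1
      rw [h2]
      exact (-a / b : F).2
  have hprod := linearIndependent_smul hb hc
  set D : Divisor k K := r • (Finsupp.single P₁ (2 : ℤ)) + Finsupp.single P (2 : ℤ) with hD
  have hs1 : (0 : Divisor k K) ≤ Finsupp.single P₁ (2 : ℤ) := Finsupp.single_nonneg.mpr (by norm_num)
  have hs2 : (0 : Divisor k K) ≤ Finsupp.single P (2 : ℤ) := Finsupp.single_nonneg.mpr (by norm_num)
  have hmem : ∀ p : Fin (r + 1) × Fin 2, x ^ (p.1 : ℕ) * (![(1 : K), y] p.2) ∈ L D := by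
    rintro ⟨a, i⟩
    have h1 : x ^ (a : ℕ) ∈ L (r • (Finsupp.single P₁ (2 : ℤ)) : Divisor k K) :=
      ff_L_mono (nsmul_le_nsmul_left hs1 (by have := a.2; omega)) (ff_pow_mem_L hx a)
    have h2 : ![(1 : K), y] i ∈ L (Finsupp.single P (2 : ℤ) : Divisor k K) := by
      fin_cases i
      · exact (ff_one_mem_L_iff hK _).mpr hs2
      · exact hy
    exact ff_mul_mem_L h1 h2
  let v : Fin (r + 1) × Fin 2 → L D := fun p => ⟨_, hmem p⟩
  have hv : LinearIndependent k v := by
    apply LinearIndependent.of_comp (L D).subtype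
    convert hprod using 1
    funext p
    simp only [Function.comp_apply, Submodule.subtype_apply, v, Algebra.smul_def, map_pow,
      IntermediateField.AdjoinSimple.algebraMap_gen]
  have := ff_L_finiteDimensional hK D
  have hcard := hv.fintype_card_le_finrank
  rw [Fintype.card_prod, Fintype.card_fin, Fintype.card_fin] at hcard
  have hdegD : D.deg = 2 * (r : ℤ) + 2 := by
    rw [hD, ff_deg_add, ff_deg_nsmul, ff_deg_single, ff_deg_single,
      ff_deg_eq_one_of_isAlgClosed hK P₁, ff_deg_eq_one_of_isAlgClosed hK P]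
    push_cast
    ring
  have hell := ff_ell_eq_of_deg_ge hK D (by rw [hdegD]; omega)
  rw [hdegD] at hell
  have : ((r + 1) * 2 : ℤ) ≤ ell D := by exact_mod_cast hcard
  omega

/-- S12618: the dichotomy for Weierstrass points and automorphisms. -/
theorem ff_weier_dichotomy [IsAlgClosed k] (hK : IsFunctionField k K) (hg : 1 < genus k K)
    (hchar : ringChar k = 0 ∨ 2 * genus k K - 2 < ringChar k)
    (C : Divisor k K) (hC : IsCanonical k K C) {n : ℕ} (φ : Fin (n + 1) → K)
    (hφ : LinearIndependent k φ) (hspan : Submodule.span k (Set.range φ) = L C)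
    (s : K) (H : K →ₐ[k] PowerSeries K) (hH : IsHasseFamily s H)
    (J : Fin n → ℕ) (hJ : IsOrders K (hcol (AlgHom.id k K) H φ) J)
    (Φ : Place k K → (K →ₐ[k] LaurentSeries k))
    (hΦ : ∀ P : Place k K, IsExpansionAt P.1 (Φ P)) :
    (2 * genus k K + 2 < Set.ncard {P : Place k K | wDiv (AlgHom.id k K) H Φ s φ J P ≠ 0} ∧
      ∀ σ : K ≃ₐ[k] K, (∀ P : Place k K, wDiv (AlgHom.id k K) H Φ s φ J P ≠ 0 →
        IsFixedPt (σ : K →ₐ[k] K) P) → σ = AlgEquiv.refl) ∨
    (Set.ncard {P : Place k K | wDiv (AlgHom.id k K) H Φ s φ J P ≠ 0} = 2 * genus k K + 2 ∧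
      ∃ x : K, Module.finrank (IntermediateField.adjoin k ({x} : Set K)) K = 2 ∧
        ∀ σ : K ≃ₐ[k] K, (∀ P : Place k K, wDiv (AlgHom.id k K) H Φ s φ J P ≠ 0 →
          IsFixedPt (σ : K →ₐ[k] K) P) ↔ σ x = x) := by
  classical
  obtain ⟨hfin, hge, heq⟩ := ff_weier_count hK hg hchar C hC φ hφ hspan s H hH J hJ Φ hΦ
  set 𝒲 : Set (Place k K) := {P : Place k K | wDiv (AlgHom.id k K) H Φ s φ J P ≠ 0} with h𝒲
  rcases lt_or_eq_of_le hge with hlt | heq'
  · left
    refine ⟨hlt, fun σ hσ => ?_⟩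
    have hsub : 𝒲 ⊆ {P : Place k K | ∀ x : K, P.1 x < 1 → P.1 (σ x) < 1} := fun P hP => hσ P hP
    have h1 := Set.encard_le_encard hsub
    rw [← hfin.cast_ncard_eq] at h1
    have h2 : ((2 * genus k K + 2 : ℕ) : ℕ∞) < (𝒲.ncard : ℕ∞) := by exact_mod_cast hlt
    exact ff_algEquiv_eq_one_of_many_fixed hK σ (lt_of_lt_of_le h2 h1)
  · right
    refine ⟨heq'.symm, ?_⟩
    have hmax := heq heq'.symm
    have hL : ∀ P ∈ 𝒲, L (Finsupp.single P (2 : ℤ) : Divisor k K) ≠
        L (Finsupp.single P ((2 : ℤ) - 1) : Divisor k K) := by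
      intro P hP
      have := (ff_weier_point hK hg hchar C hC φ hφ hspan s H hH J hJ Φ hΦ P).2.2.1 (hmax P hP)
      have e : (2 : ℤ) - 1 = 1 := by norm_num
      rw [e]
      exact this
    have hex : ∀ P ∈ 𝒲, ∃ y ∈ L (Finsupp.single P (2 : ℤ) : Divisor k K), P.ord y = -2 := by
      intro P hP
      obtain ⟨y, hy1, hy2⟩ := ff_exists_of_L_ne (hL P hP)
      exact ⟨y, hy1, ff_ord_eq_of_mem_not_mem hy1 hy2⟩
    have hne : 𝒲.Nonempty := by
      rw [← Set.ncard_pos hfin]
      omega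
    obtain ⟨P₁, hP₁⟩ := hne
    obtain ⟨x, hx1, hordx⟩ := hex P₁ hP₁
    have hxnc : x ∉ Set.range (algebraMap k K) := by
      rintro ⟨c, rfl⟩
      rw [ff_ord_const] at hordx
      omega
    have hxt : Transcendental k x := ff_transcendental_of_not_mem_range hK hxnc
    have hfr : Module.finrank (IntermediateField.adjoin k ({x} : Set K)) K = 2 := by
      have hpd := ff_poleDiv_eq_single_of_mem_L hK (by norm_num) hx1 hordx
      have h3 := ff_deg_poleDiv hK hxt
      rw [hpd, ff_deg_single, ff_deg_eq_one_of_isAlgClosed hK P₁] at h3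
      have : (2 : ℤ) = (Module.finrank (IntermediateField.adjoin k ({x} : Set K)) K : ℤ) := by
        rw [← h3]; norm_num
      exact_mod_cast this.symm
    refine ⟨x, hfr, fun σ => ⟨fun hσ => ?_, fun hσx P hP => ?_⟩⟩
    · set T := hfin.toFinset.erase P₁ with hT
      have hP₁T : P₁ ∈ hfin.toFinset := (Set.Finite.mem_toFinset _).mpr hP₁
      have hTcard : T.card = 2 * genus k K + 1 := by
        rw [hT, Finset.card_erase_of_mem hP₁T, ← Set.ncard_eq_toFinset_card _ hfin, ← heq']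
        omega
      have hTfix : ∀ Q ∈ T, Q ≠ P₁ ∧ ∀ x : K, Q.1 x < 1 → Q.1 (σ x) < 1 := by
        intro Q hQ
        rw [hT, Finset.mem_erase, Set.Finite.mem_toFinset] at hQ
        exact ⟨hQ.1, hσ Q hQ.2⟩
      refine ff_fixes_L_of_many_fixed hK σ P₁ (hσ P₁ hP₁) T hTfix 2 (by omega) ?_
      have e : ((2 : ℕ) : ℤ) = 2 := by norm_num
      rw [e]
      exact hx1
    · obtain ⟨y, hy1, hordy⟩ := hex P hP
      have hyF := ff_mem_adjoin_of_pole_two hK hg hx1 hxt hy1
      have hσy : σ y = y := ff_fix_adjoin σ hσx hyF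
      have hy0 : y ≠ 0 := by
        rintro rfl
        rw [ff_ord_zero] at hordy
        omega
      have hPy : 1 < P.1 y := by
        rw [ff_val_eq_exp_neg_ord P hy0, hordy, ← WithZero.exp_zero, WithZero.exp_lt_exp]
        norm_num
      have hQP : ff_comapPlace σ P = P := by
        by_contra hne
        have h1 := (ff_mem_L_iff _ _).mp hy1 (ff_comapPlace σ P)
        rw [Finsupp.single_apply, if_neg (Ne.symm hne), WithZero.exp_zero, ff_comapPlace_apply,
          hσy] at h1
        exact absurd hPy (not_lt.mpr h1)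
      intro z hz
      have : P.1 (σ z) = P.1 z := by
        rw [← ff_comapPlace_apply, hQP]
      change P.1 (σ z) < 1
      rw [this]
      exact hz

end Groth.Agent.Lib.Helper55
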