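import Groth.Agent.Lib.Helper55.FunFld.Index
import Groth.Agent.S10975
import Groth.Agent.S10986

/-! Weil differentials: the divisor of a differential. -/

set_option autoImplicit false

open FunFld Module

namespace Groth.Agent.Lib.Helper55

variable {k K : Type*} [Field k] [Field K] [Algebra k K]

theorem ff_mem_WD_iff (ω : Module.Dual k (adele k K)) (D : Divisor k K) :
    ω ∈ WD D ↔ ∀ a : ↥(adele k K),
      (a : Place k K → K) ∈ AD D ⊔ LinearMap.range (diag k K) → ω a = 0 := by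
  rw [WD, Submodule.mem_dualAnnihilator]
  rfl

theorem ff_mem_WD_iff' (hK : IsFunctionField k K) (ω : Module.Dual k (adele k K))
    (D : Divisor k K) :
    ω ∈ WD D ↔ (∀ (α : Place k K → K) (hα : α ∈ AD D), ω ⟨α, ff_AD_le_adele D hα⟩ = 0) ∧
      ∀ x : K, ω ⟨diag k K x, ff_diag_mem_adele hK x⟩ = 0 := by
  rw [ff_mem_WD_iff]
  constructor
  · intro h
    exact ⟨fun α hα => h _ (Submodule.mem_sup_left hα),
      fun x => h _ (Submodule.mem_sup_right ⟨x, rfl⟩)⟩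
  · rintro ⟨h1, h2⟩ a ha
    obtain ⟨α, hα, _, ⟨x, rfl⟩, hsum⟩ := Submodule.mem_sup.mp ha
    have : a = ⟨α, ff_AD_le_adele D hα⟩ + ⟨diag k K x, ff_diag_mem_adele hK x⟩ :=
      Subtype.ext hsum.symm
    rw [this, map_add, h1 α hα, h2 x, add_zero]

theorem ff_WD_anti {D E : Divisor k K} (h : D ≤ E) : WD E ≤ (WD D : Submodule k _) := by
  intro ω hω
  rw [ff_mem_WD_iff] at hω ⊢
  intro a ha
  exact hω a (sup_le_sup_right (ff_AD_mono h) _ ha)

theorem ff_WD_sup (hK : IsFunctionField k K) (ω : Module.Dual k (adele k K)) {A B : Divisor k K}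
    (hA : ω ∈ WD A) (hB : ω ∈ WD B) : ω ∈ WD (A ⊔ B) := by
  rw [ff_mem_WD_iff' hK] at hA hB ⊢
  refine ⟨fun α hα => ?_, hA.2⟩
  rw [Groth.Agent.S10975.result] at hα
  obtain ⟨α₁, h1, α₂, h2, hsum⟩ := Submodule.mem_sup.mp hα
  have : (⟨α, ff_AD_le_adele _ (by rw [Groth.Agent.S10975.result]; exact hα)⟩ : ↥(adele k K)) =
      ⟨α₁, ff_AD_le_adele A h1⟩ + ⟨α₂, ff_AD_le_adele B h2⟩ := Subtype.ext hsum.symm
  rw [this, map_add, hA.1 α₁ h1, hB.1 α₂ h2, add_zero]

theorem ff_eq_of_le_of_deg_eq (hK : IsFunctionField k K) {D E : Divisor k K} (h : D ≤ E)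
    (hdeg : D.deg = E.deg) : D = E := by
  have h0 : 0 ≤ E - D := sub_nonneg.mpr h
  have hd : (E - D).deg = 0 := by rw [ff_deg_sub]; linarith
  unfold Divisor.deg at hd
  rw [Finsupp.sum, Finset.sum_eq_zero_iff_of_nonneg
    (fun P _ => mul_nonneg (h0 P) (Int.natCast_nonneg _))] at hd
  have : E - D = 0 := by
    ext P
    by_cases hP : P ∈ (E - D).support
    · have h1 := hd P hP
      have h2 : (P.deg : ℤ) ≠ 0 := by
        have := ff_deg_pos hK P
        exact_mod_cast this.ne'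
      exact (mul_eq_zero.mp h1).resolve_right h2
    · simpa using hP
  exact (sub_eq_zero.mp this).symm

/-- A nonzero Weil differential has a divisor. -/
theorem ff_exists_isDivOf (hK : IsFunctionField k K) (ω : Module.Dual k (adele k K))
    (hω : IsWeil ω) (h0 : ω ≠ 0) : ∃ C : Divisor k K, IsDivOf ω C := by
  obtain ⟨N, hN⟩ := ff_riemann hK
  have hbdd : ∃ b : ℤ, ∀ z : ℤ, (∃ A : Divisor k K, ω ∈ WD A ∧ A.deg = z) → z ≤ b := by
    refine ⟨N, ?_⟩
    rintro z ⟨A, hA, rfl⟩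
    by_contra hlt
    push Not at hlt
    have h1 := hN A hlt.le
    obtain ⟨hfd, hrk⟩ := ff_finrank_WD hK A
    rw [h1, sub_self] at hrk
    have h2 : finrank k (WD A) = 0 := by exact_mod_cast hrk
    have h3 : Subsingleton (WD A) := Module.finrank_zero_iff.mp h2
    have h4 : (⟨ω, hA⟩ : WD A) = 0 := Subsingleton.elim _ _
    exact h0 (congrArg Subtype.val h4)
  have hinh : ∃ z : ℤ, ∃ A : Divisor k K, ω ∈ WD A ∧ A.deg = z := by
    obtain ⟨A, hA⟩ := hω
    exact ⟨_, A, hA, rfl⟩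
  obtain ⟨d, ⟨W, hW, hWd⟩, hmax⟩ := Int.exists_greatest_of_bdd hbdd hinh
  refine ⟨W, fun E => ⟨fun hE => ?_, fun hE => ff_WD_anti hE hW⟩⟩
  have h1 := ff_WD_sup hK ω hW hE
  have h2 : (W ⊔ E).deg ≤ d := hmax _ ⟨_, h1, rfl⟩
  have h3 : W.deg ≤ (W ⊔ E).deg := ff_deg_mono le_sup_left
  have h4 : W = W ⊔ E := ff_eq_of_le_of_deg_eq hK le_sup_left (by linarith)
  rw [h4]
  exact le_sup_right

theorem ff_ell_mono (hK : IsFunctionField k K) {D₁ D₂ : Divisor k K} (h : D₁ ≤ D₂) :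
    ell D₁ ≤ ell D₂ := by
  rw [ff_ell_eq_add hK h]
  exact Nat.le_add_right _ _

theorem ff_one_le_ell (hK : IsFunctionField k K) {D : Divisor k K} (h : 0 ≤ D) : 1 ≤ ell D := by
  rw [← ff_ell_zero hK]
  exact ff_ell_mono hK h

/-- An effective divisor of degree `< g` is special. -/
theorem ff_exists_WD_ne_zero (hK : IsFunctionField k K) (D : Divisor k K) (hD : 0 ≤ D)
    (hdeg : D.deg < genus k K) : ∃ ω : Module.Dual k (adele k K), ω ≠ 0 ∧ ω ∈ WD D := by
  obtain ⟨hfd, hrk⟩ := ff_finrank_WD hK D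
  have h1 : (1 : ℤ) ≤ ell D := by exact_mod_cast ff_one_le_ell hK hD
  have h2 : 0 < finrank k (WD D) := by
    have : (0 : ℤ) < finrank k (WD D) := by rw [hrk]; linarith
    exact_mod_cast this
  have := Module.nontrivial_of_finrank_pos h2
  obtain ⟨ω, hω⟩ := exists_ne (0 : ↥(WD D))
  exact ⟨ω.1, fun h => hω (Subtype.ext h), ω.2⟩

end Groth.Agent.Lib.Helper55
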