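import Mathlib

/-! Minimal central orders of Weil numbers: algebra in `ℤ[F,V]/(FV-q)` (S17984, S18003). -/

set_option autoImplicit false

namespace Groth.Agent.Lib.Helper55.Weil

open MvPolynomial

noncomputable section

/-- The polynomial ring `ℤ[F, V]`. -/
abbrev WP := MvPolynomial (Fin 2) ℤ

variable (q : ℤ)

/-- `FV - q`. -/
def g0 : WP := X 0 * X 1 - C q

/-- The ideal `(FV - q)`. -/
def G : Ideal WP := Ideal.span {g0 q}

lemma g0_mem : g0 q ∈ G q := Ideal.subset_span rfl

lemma mem_G_iff {y : WP} : y ∈ G q ↔ ∃ z, z * g0 q = y := Ideal.mem_span_singleton'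

/-- Clearing `V`: `F^N g ≡ Gp(F)` modulo `FV - q`. -/
theorem clearV (g : WP) : ∃ (N : ℕ) (Gp : Polynomial ℤ),
    X 0 ^ N * g - Polynomial.aeval (X 0 : WP) Gp ∈ G q := by
  induction g using MvPolynomial.induction_on with
  | C a =>
    refine ⟨0, Polynomial.C a, ?_⟩
    simp [MvPolynomial.algebraMap_eq]
  | add g1 g2 h1 h2 =>
    obtain ⟨N1, G1, h1⟩ := h1
    obtain ⟨N2, G2, h2⟩ := h2
    refine ⟨N1 + N2, Polynomial.X ^ N2 * G1 + Polynomial.X ^ N1 * G2, ?_⟩
    have e : X 0 ^ (N1 + N2) * (g1 + g2) -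
        Polynomial.aeval (X 0 : WP) (Polynomial.X ^ N2 * G1 + Polynomial.X ^ N1 * G2) =
        X 0 ^ N2 * (X 0 ^ N1 * g1 - Polynomial.aeval (X 0 : WP) G1) +
        X 0 ^ N1 * (X 0 ^ N2 * g2 - Polynomial.aeval (X 0 : WP) G2) := by
      simp only [map_add, map_mul, map_pow, Polynomial.aeval_X]
      ring
    rw [e]
    exact Ideal.add_mem _ (Ideal.mul_mem_left _ _ h1) (Ideal.mul_mem_left _ _ h2)
  | mul_X g i h =>
    obtain ⟨N, Gp, h⟩ := h
    fin_cases i
    · refine ⟨N, Polynomial.X * Gp, ?_⟩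
      have e : X 0 ^ N * (g * X 0) - Polynomial.aeval (X 0 : WP) (Polynomial.X * Gp) =
          X 0 * (X 0 ^ N * g - Polynomial.aeval (X 0 : WP) Gp) := by
        simp only [map_mul, Polynomial.aeval_X]
        ring
      simp only [Fin.zero_eta] at *
      rw [e]
      exact Ideal.mul_mem_left _ _ h
    · refine ⟨N + 1, Polynomial.C q * Gp, ?_⟩
      have e : X 0 ^ (N + 1) * (g * X 1) - Polynomial.aeval (X 0 : WP) (Polynomial.C q * Gp) =
          X 0 * X 1 * (X 0 ^ N * g - Polynomial.aeval (X 0 : WP) Gp) +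
          Polynomial.aeval (X 0 : WP) Gp * g0 q := by
        simp only [map_mul, Polynomial.aeval_C, MvPolynomial.algebraMap_eq, g0]
        ring
      simp only [Fin.mk_one] at *
      rw [e]
      exact Ideal.add_mem _ (Ideal.mul_mem_left _ _ h) (Ideal.mul_mem_left _ _ (g0_mem q))

/-- Normal forms: every `g` is `a(F) + V b(V)` modulo `FV - q`. -/
theorem normalForm (g : WP) : ∃ a b : Polynomial ℤ,
    g - (Polynomial.aeval (X 0 : WP) a + X 1 * Polynomial.aeval (X 1 : WP) b) ∈ G q := by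
  induction g using MvPolynomial.induction_on with
  | C c =>
    refine ⟨Polynomial.C c, 0, ?_⟩
    simp [MvPolynomial.algebraMap_eq]
  | add g1 g2 h1 h2 =>
    obtain ⟨a1, b1, h1⟩ := h1
    obtain ⟨a2, b2, h2⟩ := h2
    refine ⟨a1 + a2, b1 + b2, ?_⟩
    have e : g1 + g2 - (Polynomial.aeval (X 0 : WP) (a1 + a2) +
        X 1 * Polynomial.aeval (X 1 : WP) (b1 + b2)) =
        (g1 - (Polynomial.aeval (X 0 : WP) a1 + X 1 * Polynomial.aeval (X 1 : WP) b1)) +
        (g2 - (Polynomial.aeval (X 0 : WP) a2 + X 1 * Polynomial.aeval (X 1 : WP) b2)) := by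
      simp only [map_add]
      ring
    rw [e]
    exact Ideal.add_mem _ h1 h2
  | mul_X g i h =>
    obtain ⟨a, b, h⟩ := h
    have hb : Polynomial.aeval (X 1 : WP) b =
        C (b.coeff 0) + X 1 * Polynomial.aeval (X 1 : WP) b.divX := by
      conv_lhs => rw [← Polynomial.divX_mul_X_add b]
      simp only [map_add, map_mul, Polynomial.aeval_X, Polynomial.aeval_C,
        MvPolynomial.algebraMap_eq]
      ring
    have ha : Polynomial.aeval (X 0 : WP) a =
        C (a.coeff 0) + X 0 * Polynomial.aeval (X 0 : WP) a.divX := by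
      conv_lhs => rw [← Polynomial.divX_mul_X_add a]
      simp only [map_add, map_mul, Polynomial.aeval_X, Polynomial.aeval_C,
        MvPolynomial.algebraMap_eq]
      ring
    fin_cases i
    · refine ⟨Polynomial.X * a + Polynomial.C (q * b.coeff 0), Polynomial.C q * b.divX, ?_⟩
      have e : g * X 0 - (Polynomial.aeval (X 0 : WP)
          (Polynomial.X * a + Polynomial.C (q * b.coeff 0)) +
          X 1 * Polynomial.aeval (X 1 : WP) (Polynomial.C q * b.divX)) =
          X 0 * (g - (Polynomial.aeval (X 0 : WP) a + X 1 * Polynomial.aeval (X 1 : WP) b)) +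
          Polynomial.aeval (X 1 : WP) b * g0 q := by
        simp only [map_add, map_mul, Polynomial.aeval_X, Polynomial.aeval_C,
          MvPolynomial.algebraMap_eq, g0]
        rw [hb]
        ring
      simp only [Fin.zero_eta] at *
      rw [e]
      exact Ideal.add_mem _ (Ideal.mul_mem_left _ _ h) (Ideal.mul_mem_left _ _ (g0_mem q))
    · refine ⟨Polynomial.C q * a.divX, Polynomial.C (a.coeff 0) + Polynomial.X * b, ?_⟩
      have e : g * X 1 - (Polynomial.aeval (X 0 : WP) (Polynomial.C q * a.divX) +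
          X 1 * Polynomial.aeval (X 1 : WP) (Polynomial.C (a.coeff 0) + Polynomial.X * b)) =
          X 1 * (g - (Polynomial.aeval (X 0 : WP) a + X 1 * Polynomial.aeval (X 1 : WP) b)) +
          Polynomial.aeval (X 0 : WP) a.divX * g0 q := by
        simp only [map_add, map_mul, Polynomial.aeval_X, Polynomial.aeval_C,
          MvPolynomial.algebraMap_eq, g0]
        rw [ha]
        ring
      simp only [Fin.mk_one] at *
      rw [e]
      exact Ideal.add_mem _ (Ideal.mul_mem_left _ _ h) (Ideal.mul_mem_left _ _ (g0_mem q))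

/-- Splitting off the `F`-divisible part. -/
theorem splitF (y : WP) : ∃ (y1 : WP) (y0 : Polynomial ℤ),
    y = X 0 * y1 + Polynomial.aeval (X 1 : WP) y0 := by
  induction y using MvPolynomial.induction_on with
  | C c => exact ⟨0, Polynomial.C c, by simp [MvPolynomial.algebraMap_eq]⟩
  | add g1 g2 h1 h2 =>
    obtain ⟨a1, b1, h1⟩ := h1
    obtain ⟨a2, b2, h2⟩ := h2
    refine ⟨a1 + a2, b1 + b2, ?_⟩
    rw [h1, h2, map_add]; ring
  | mul_X g i h =>
    obtain ⟨a, b, h⟩ := h
    fin_cases i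
    · refine ⟨g, 0, ?_⟩
      simp only [Fin.zero_eta, map_zero, add_zero]; ring
    · refine ⟨a * X 1, b * Polynomial.X, ?_⟩
      simp only [Fin.mk_one, map_mul, Polynomial.aeval_X]
      rw [h]; ring

/-- The field of fractions of `ℤ[X]`. -/
abbrev WK := FractionRing (Polynomial ℤ)

/-- The image of `X` in the fraction field. -/
def xK : WK := algebraMap (Polynomial ℤ) WK Polynomial.X

lemma xK_ne_zero : xK ≠ 0 := by
  unfold xK
  rw [Ne, IsFractionRing.to_map_eq_zero_iff]
  exact Polynomial.X_ne_zero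

/-- `F ↦ X`, `V ↦ q / X`. -/
def phi : WP →+* WK :=
  eval₂Hom (algebraMap ℤ WK) ![xK, algebraMap ℤ WK q / xK]

lemma phi_X0 : phi q (X 0) = xK := by simp [phi]
lemma phi_X1 : phi q (X 1) = algebraMap ℤ WK q / xK := by simp [phi]
lemma phi_C (c : ℤ) : phi q (C c) = algebraMap ℤ WK c := by simp [phi]

lemma phi_g0 : phi q (g0 q) = 0 := by
  rw [g0, map_sub, map_mul, phi_X0, phi_X1, phi_C, mul_div_cancel₀ _ xK_ne_zero, sub_self]

lemma phi_mem_G {y : WP} (hy : y ∈ G q) : phi q y = 0 := by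
  obtain ⟨z, rfl⟩ := (mem_G_iff q).1 hy
  rw [map_mul, phi_g0, mul_zero]

lemma phi_aeval (Gp : Polynomial ℤ) :
    phi q (Polynomial.aeval (X 0 : WP) Gp) = algebraMap (Polynomial ℤ) WK Gp := by
  induction Gp using Polynomial.induction_on' with
  | add a b ha hb => rw [map_add, map_add, ha, hb, map_add]
  | monomial n c =>
    rw [← Polynomial.C_mul_X_pow_eq_monomial]
    simp only [map_mul, map_pow, Polynomial.aeval_X, Polynomial.aeval_C, phi_X0,
      MvPolynomial.algebraMap_eq, phi_C]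
    rw [xK, IsScalarTower.algebraMap_apply ℤ (Polynomial ℤ) WK]
    rfl

/-- Uniqueness: a polynomial in `F` lying in `(FV - q)` vanishes. -/
theorem eq_zero_of_aeval_mem_G {Gp : Polynomial ℤ}
    (h : Polynomial.aeval (X 0 : WP) Gp ∈ G q) : Gp = 0 := by
  have := phi_mem_G q h
  rw [phi_aeval] at this
  exact (IsFractionRing.to_map_eq_zero_iff).1 this

/-- Setting `F = 0`. -/
def eps : WP →+* Polynomial ℤ := eval₂Hom Polynomial.C ![0, Polynomial.X]

lemma eps_X0 : eps (X 0) = 0 := by simp [eps]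
lemma eps_X1 : eps (X 1) = Polynomial.X := by simp [eps]
lemma eps_C (c : ℤ) : eps (C c) = Polynomial.C c := by simp [eps]

lemma eps_aeval (y0 : Polynomial ℤ) : eps (Polynomial.aeval (X 1 : WP) y0) = y0 := by
  induction y0 using Polynomial.induction_on' with
  | add a b ha hb => rw [map_add, map_add, ha, hb]
  | monomial n c =>
    rw [← Polynomial.C_mul_X_pow_eq_monomial]
    simp only [map_mul, map_pow, Polynomial.aeval_X, Polynomial.aeval_C, eps_X1,
      MvPolynomial.algebraMap_eq, eps_C]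

lemma X0_dvd_of_eps_eq_zero {y : WP} (h : eps y = 0) : ∃ y1, y = X 0 * y1 := by
  obtain ⟨y1, y0, rfl⟩ := splitF y
  rw [map_add, map_mul, eps_X0, zero_mul, zero_add, eps_aeval] at h
  exact ⟨y1, by rw [h, map_zero, add_zero]⟩

variable {q}

/-- `F` is a non-zero-divisor modulo `FV - q`. -/
theorem X0_reg_G (hq : q ≠ 0) {y : WP} (h : X 0 * y ∈ G q) : y ∈ G q := by
  obtain ⟨z, hz⟩ := (mem_G_iff q).1 h
  have := congrArg eps hz
  rw [map_mul, map_mul, eps_X0, zero_mul, g0, map_sub, map_mul, eps_X0, zero_mul, zero_sub,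
    eps_C, mul_neg, neg_eq_zero, mul_eq_zero] at this
  rcases this with h0 | h0
  · obtain ⟨z1, rfl⟩ := X0_dvd_of_eps_eq_zero h0
    have h2 : X 0 * (z1 * g0 q) = X 0 * y := by rw [← hz]; ring
    have := mul_left_cancel₀ (X_ne_zero (0 : Fin 2)) h2
    exact (mem_G_iff q).2 ⟨z1, this⟩
  · exact absurd (Polynomial.C_eq_zero.1 h0) hq

theorem X0_pow_reg_G (hq : q ≠ 0) (N : ℕ) {y : WP} (h : X 0 ^ N * y ∈ G q) : y ∈ G q := by
  induction N with
  | zero => simpa using h
  | succ n ih =>
    apply ih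
    apply X0_reg_G hq
    rw [← mul_assoc, ← pow_succ']
    exact h

/-- The kernel of `phi` is `(FV - q)`. -/
theorem mem_G_of_phi_eq_zero (hq : q ≠ 0) {g : WP} (h : phi q g = 0) : g ∈ G q := by
  obtain ⟨N, Gp, hN⟩ := clearV q g
  have h1 := phi_mem_G q hN
  rw [map_sub, map_mul, h, mul_zero, zero_sub, neg_eq_zero, phi_aeval] at h1
  have h2 : Gp = 0 := (IsFractionRing.to_map_eq_zero_iff).1 h1
  rw [h2, map_zero, sub_zero] at hN
  exact X0_pow_reg_G hq N hN

/-- Elements with nonzero image under `phi` are non-zero-divisors modulo `FV - q`. -/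
theorem reg_G_of_phi_ne_zero (hq : q ≠ 0) {u y : WP} (hu : phi q u ≠ 0) (h : u * y ∈ G q) :
    y ∈ G q := by
  apply mem_G_of_phi_eq_zero hq
  have := phi_mem_G q h
  rw [map_mul, mul_eq_zero] at this
  exact this.resolve_left hu

end

end Groth.Agent.Lib.Helper55.Weil
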