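import Groth.Agent.Lib.Helper55.FunFld.Weil1

/-! Minimal central orders of Weil numbers: reduction mod `(F, q)` and the shape of `h`. -/

set_option autoImplicit false

namespace Groth.Agent.Lib.Helper55.Weil

open MvPolynomial

noncomputable section

variable (Q : ℕ)

/-- Reduction modulo `(F, Q)`: `F ↦ 0`, `V ↦ X`. -/
def chi : WP →+* Polynomial (ZMod Q) :=
  eval₂Hom (Polynomial.C.comp (Int.castRingHom (ZMod Q))) ![0, Polynomial.X]

lemma chi_X0 : chi Q (X 0) = 0 := by simp [chi]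
lemma chi_X1 : chi Q (X 1) = Polynomial.X := by simp [chi]
lemma chi_C (c : ℤ) : chi Q (C c) = Polynomial.C (c : ZMod Q) := by simp [chi]

lemma chi_g0 : chi Q (g0 (Q : ℤ)) = 0 := by
  rw [g0, map_sub, map_mul, chi_X0, zero_mul, chi_C]
  simp

lemma chi_mem_G {y : WP} (hy : y ∈ G (Q : ℤ)) : chi Q y = 0 := by
  obtain ⟨z, rfl⟩ := (mem_G_iff _).1 hy
  rw [map_mul, chi_g0, mul_zero]

lemma chi_aeval1 (y0 : Polynomial ℤ) :
    chi Q (Polynomial.aeval (X 1 : WP) y0) = y0.map (Int.castRingHom (ZMod Q)) := by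
  induction y0 using Polynomial.induction_on' with
  | add a b ha hb => rw [map_add, map_add, ha, hb, Polynomial.map_add]
  | monomial n c =>
    rw [← Polynomial.C_mul_X_pow_eq_monomial]
    simp only [map_mul, map_pow, Polynomial.aeval_X, Polynomial.aeval_C, chi_X1,
      MvPolynomial.algebraMap_eq, chi_C, Polynomial.map_mul, Polynomial.map_pow,
      Polynomial.map_X, Polynomial.map_C]
    simp

lemma chi_aeval0 (a : Polynomial ℤ) :
    chi Q (Polynomial.aeval (X 0 : WP) a) = Polynomial.C ((a.coeff 0 : ℤ) : ZMod Q) := by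
  conv_lhs => rw [← Polynomial.divX_mul_X_add a]
  simp only [map_add, map_mul, Polynomial.aeval_X, Polynomial.aeval_C, chi_X0,
    MvPolynomial.algebraMap_eq, chi_C, mul_zero, zero_add]

/-- The kernel of `chi` is contained in `(F, FV - Q)`. -/
theorem mem_of_chi_eq_zero {y : WP} (h : chi Q y = 0) :
    y ∈ Ideal.span {(X 0 : WP), g0 (Q : ℤ)} := by
  obtain ⟨y1, y0, rfl⟩ := splitF y
  rw [map_add, map_mul, chi_X0, zero_mul, zero_add, chi_aeval1] at h
  have hdvd : Polynomial.C (Q : ℤ) ∣ y0 := by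
    rw [Polynomial.C_dvd_iff_dvd_coeff]
    intro n
    have := congrArg (fun f => Polynomial.coeff f n) h
    simp only [Polynomial.coeff_map, eq_intCast, Polynomial.coeff_zero] at this
    exact (ZMod.intCast_zmod_eq_zero_iff_dvd _ _).1 this
  obtain ⟨r, rfl⟩ := hdvd
  rw [Ideal.mem_span_pair]
  refine ⟨y1 + X 1 * Polynomial.aeval (X 1 : WP) r, - Polynomial.aeval (X 1 : WP) r, ?_⟩
  simp only [map_mul, Polynomial.aeval_C, MvPolynomial.algebraMap_eq, g0]
  ring

/-- `F^N V^(j+1) ≡ q^(j+1) F^(N-1-j)` modulo `FV - q`. -/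
lemma mono_mem_G (q : ℤ) (N j : ℕ) (hj : j < N) :
    X 0 ^ N * (X 1 : WP) ^ (j + 1) - C (q ^ (j + 1)) * X 0 ^ (N - 1 - j) ∈ G q := by
  obtain ⟨k, rfl⟩ : ∃ k, N = k + (j + 1) := ⟨N - 1 - j, by omega⟩
  have hk : k + (j + 1) - 1 - j = k := by omega
  rw [hk]
  obtain ⟨w, hw⟩ : g0 q ∣ (X 0 * X 1) ^ (j + 1) - (C q) ^ (j + 1) := sub_dvd_pow_sub_pow _ _ _
  have e : X 0 ^ (k + (j + 1)) * (X 1 : WP) ^ (j + 1) - C (q ^ (j + 1)) * X 0 ^ k =
      X 0 ^ k * ((X 0 * X 1) ^ (j + 1) - (C q) ^ (j + 1)) := by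
    rw [map_pow]; ring
  rw [e, hw]
  exact Ideal.mul_mem_left _ _ (Ideal.mul_mem_right _ _ (g0_mem q))

/-- The polynomial `B_N(b)` with `F^N V b(V) ≡ B_N(b)(F)`. -/
def BN (q : ℤ) (b : Polynomial ℤ) (N : ℕ) : Polynomial ℤ :=
  ∑ j ∈ Finset.range N, Polynomial.C (q ^ (j + 1) * b.coeff j) * Polynomial.X ^ (N - 1 - j)

lemma BN_mem (q : ℤ) (b : Polynomial ℤ) (N : ℕ) (hN : b.natDegree < N) :
    X 0 ^ N * (X 1 * Polynomial.aeval (X 1 : WP) b) -
      Polynomial.aeval (X 0 : WP) (BN q b N) ∈ G q := by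
  have e : X 0 ^ N * (X 1 * Polynomial.aeval (X 1 : WP) b) -
      Polynomial.aeval (X 0 : WP) (BN q b N) =
      ∑ j ∈ Finset.range N, C (b.coeff j) *
        (X 0 ^ N * (X 1 : WP) ^ (j + 1) - C (q ^ (j + 1)) * X 0 ^ (N - 1 - j)) := by
    rw [Polynomial.aeval_eq_sum_range' hN, BN, map_sum, Finset.mul_sum, Finset.mul_sum,
      ← Finset.sum_sub_distrib]
    refine Finset.sum_congr rfl fun j _ => ?_
    simp only [map_mul, map_pow, Polynomial.aeval_C, Polynomial.aeval_X,
      MvPolynomial.algebraMap_eq, MvPolynomial.smul_eq_C_mul]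
    ring
  rw [e]
  exact Ideal.sum_mem _ fun j hj =>
    Ideal.mul_mem_left _ _ (mono_mem_G q N j (Finset.mem_range.1 hj))

lemma BN_coeff (q : ℤ) (b : Polynomial ℤ) (N j : ℕ) (hj : j < N) :
    (BN q b N).coeff (N - 1 - j) = q ^ (j + 1) * b.coeff j := by
  rw [BN, Polynomial.finset_sum_coeff]
  rw [Finset.sum_eq_single j]
  · rw [Polynomial.coeff_C_mul_X_pow, if_pos rfl]
  · intro j' hj' hne
    rw [Polynomial.coeff_C_mul_X_pow, if_neg]
    have := Finset.mem_range.1 hj'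
    omega
  · intro h; exact absurd (Finset.mem_range.2 hj) h

lemma BN_coeff_of_le (q : ℤ) (b : Polynomial ℤ) (N k : ℕ) (hk : N ≤ k) :
    (BN q b N).coeff k = 0 := by
  rw [BN, Polynomial.finset_sum_coeff]
  refine Finset.sum_eq_zero fun j hj => ?_
  rw [Polynomial.coeff_C_mul_X_pow, if_neg]
  have := Finset.mem_range.1 hj
  omega

/-- The shape of `h`: its reduction mod `(F, Q)` is a non-zero-divisor. -/
theorem chi_h_regular (hQ : 2 ≤ Q) (D : ℕ) (Pw : Polynomial ℤ) (u : ℤ) (hu : IsUnit u)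
    (hc0 : Pw.coeff 0 = u * (Q : ℤ) ^ D) (h : WP)
    (hh : X 0 ^ D * h - Polynomial.aeval (X 0 : WP) Pw ∈ G (Q : ℤ)) :
    ∀ y, chi Q h * y = 0 → y = 0 := by
  have hq : (Q : ℤ) ≠ 0 := by positivity
  obtain ⟨a, b, hab⟩ := normalForm (Q : ℤ) h
  obtain ⟨N, hNdef⟩ : ∃ N, N = b.natDegree + 1 + D := ⟨_, rfl⟩
  have hNb : b.natDegree < N := by omega
  have hB := BN_mem (Q : ℤ) b N hNb
  have hE : Polynomial.aeval (X 0 : WP) (Polynomial.X ^ (N + D) * a +
      Polynomial.X ^ D * BN (Q : ℤ) b N - Polynomial.X ^ N * Pw) ∈ G (Q : ℤ) := by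
    have e : Polynomial.aeval (X 0 : WP) (Polynomial.X ^ (N + D) * a +
        Polynomial.X ^ D * BN (Q : ℤ) b N - Polynomial.X ^ N * Pw) =
        X 0 ^ N * (X 0 ^ D * h - Polynomial.aeval (X 0 : WP) Pw) -
        X 0 ^ (N + D) * (h - (Polynomial.aeval (X 0 : WP) a +
          X 1 * Polynomial.aeval (X 1 : WP) b)) -
        X 0 ^ D * (X 0 ^ N * (X 1 * Polynomial.aeval (X 1 : WP) b) -
          Polynomial.aeval (X 0 : WP) (BN (Q : ℤ) b N)) := by
      simp only [map_add, map_sub, map_mul, map_pow, Polynomial.aeval_X]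
      ring
    rw [e]
    exact Ideal.sub_mem _ (Ideal.sub_mem _ (Ideal.mul_mem_left _ _ hh)
      (Ideal.mul_mem_left _ _ hab)) (Ideal.mul_mem_left _ _ hB)
  have hEq := eq_zero_of_aeval_mem_G (Q : ℤ) hE
  -- coefficient extraction
  have hcoef : ∀ k, (if N + D ≤ k then a.coeff (k - (N + D)) else 0) +
      (if D ≤ k then (BN (Q : ℤ) b N).coeff (k - D) else 0) =
      (if N ≤ k then Pw.coeff (k - N) else 0) := by
    intro k
    have := congrArg (fun f => Polynomial.coeff f k) hEq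
    simp only [Polynomial.coeff_sub, Polynomial.coeff_add, Polynomial.coeff_X_pow_mul',
      Polynomial.coeff_zero] at this
    linarith
  have c1 : ∀ m, D ≤ m → b.coeff m = 0 := by
    intro m hm
    by_cases hmb : b.natDegree < m
    · exact Polynomial.coeff_eq_zero_of_natDegree_lt hmb
    · push Not at hmb
      have hmN : m < N := by omega
      have := hcoef (D + (N - 1 - m))
      rw [if_neg (by omega), if_pos (by omega), if_neg (by omega), Nat.add_sub_cancel_left,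
        BN_coeff _ _ _ _ hmN, zero_add] at this
      rcases mul_eq_zero.1 this with h0 | h0
      · exact absurd (pow_eq_zero_iff (by omega) |>.1 h0) hq
      · exact h0
  have c2 : 1 ≤ D → b.coeff (D - 1) = u := by
    intro hD
    have hDN : D - 1 < N := by omega
    have := hcoef N
    rw [if_neg (by omega), if_pos (by omega), if_pos le_rfl, Nat.sub_self, zero_add,
      show N - D = N - 1 - (D - 1) by omega, BN_coeff _ _ _ _ hDN, hc0,
      show D - 1 + 1 = D by omega, mul_comm] at this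
    exact mul_right_cancel₀ (pow_ne_zero D hq) this
  have c3 : D = 0 → a.coeff 0 = u := by
    intro hD
    subst hD
    have := hcoef N
    rw [if_pos (by omega), if_pos (by omega), if_pos le_rfl, Nat.sub_self, Nat.sub_zero,
      BN_coeff_of_le _ _ _ _ le_rfl, hc0, pow_zero, mul_one, add_zero,
      show N - (N + 0) = 0 by omega] at this
    exact this
  -- the reduction of `h`
  have hchi : chi Q h = Polynomial.C ((a.coeff 0 : ℤ) : ZMod Q) +
      Polynomial.X * b.map (Int.castRingHom (ZMod Q)) := by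
    have := chi_mem_G Q hab
    rw [map_sub, sub_eq_zero] at this
    rw [this, map_add, map_mul, chi_X1, chi_aeval0, chi_aeval1]
  have hQ1 : Fact (1 < Q) := ⟨by omega⟩
  have hcD : (chi Q h).coeff D = ((u : ℤ) : ZMod Q) := by
    rw [hchi, Polynomial.coeff_add, Polynomial.coeff_C]
    rcases Nat.eq_zero_or_pos D with hD | hD
    · subst hD
      rw [if_pos rfl, Polynomial.mul_coeff_zero, Polynomial.coeff_X_zero, zero_mul, add_zero,
        c3 rfl]
    · obtain ⟨D', rfl⟩ : ∃ D', D = D' + 1 := ⟨D - 1, by omega⟩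
      rw [if_neg (by omega), zero_add, Polynomial.coeff_X_mul, Polynomial.coeff_map,
        eq_intCast]
      have := c2 (by omega)
      rw [Nat.add_sub_cancel] at this
      rw [this]
  have hcm : ∀ m, D < m → (chi Q h).coeff m = 0 := by
    intro m hm
    obtain ⟨m', rfl⟩ : ∃ m', m = m' + 1 := ⟨m - 1, by omega⟩
    rw [hchi, Polynomial.coeff_add, Polynomial.coeff_C, if_neg (by omega), zero_add,
      Polynomial.coeff_X_mul, Polynomial.coeff_map, c1 m' (by omega), map_zero]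
  have huu : ((u : ℤ) : ZMod Q) * ((u : ℤ) : ZMod Q) = 1 := by
    rcases Int.isUnit_iff.1 hu with rfl | rfl <;> simp
  have hune : ((u : ℤ) : ZMod Q) ≠ 0 := by
    intro h0
    rw [h0, mul_zero] at huu
    exact zero_ne_one huu
  have hdeg : (chi Q h).natDegree = D :=
    Polynomial.natDegree_eq_of_le_of_coeff_ne_zero
      (Polynomial.natDegree_le_iff_coeff_eq_zero.2 fun m hm => hcm m hm) (by rw [hcD]; exact hune)
  have hmonic : (Polynomial.C ((u : ℤ) : ZMod Q) * chi Q h).Monic := by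
    apply Polynomial.monic_C_mul_of_mul_leadingCoeff_eq_one
    rw [Polynomial.leadingCoeff, hdeg, hcD, huu]
  intro y hy
  have : Polynomial.C ((u : ℤ) : ZMod Q) * chi Q h * y = 0 := by rw [mul_assoc, hy, mul_zero]
  exact (hmonic.mul_right_eq_zero_iff).1 this

/-- `F` is a non-zero-divisor modulo `(FV - q, h)`. -/
theorem X0_reg_J (hQ : (Q : ℤ) ≠ 0) {h : WP} (hreg : ∀ y, chi Q h * y = 0 → y = 0) {y : WP}
    (hy : X 0 * y ∈ Ideal.span {g0 (Q : ℤ), h}) : y ∈ Ideal.span {g0 (Q : ℤ), h} := by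
  obtain ⟨α, β, e⟩ := Ideal.mem_span_pair.1 hy
  have h1 := congrArg (chi Q) e
  rw [map_add, map_mul, map_mul, map_mul, chi_g0, mul_zero, zero_add, chi_X0, zero_mul,
    mul_comm] at h1
  have h2 := mem_of_chi_eq_zero Q (hreg _ h1)
  obtain ⟨γ, δ, e2⟩ := Ideal.mem_span_pair.1 h2
  have h3 : X 0 * (y - γ * h) ∈ G (Q : ℤ) := by
    refine (mem_G_iff _).2 ⟨α + δ * h, ?_⟩
    rw [mul_sub, ← e, ← e2]; ring
  have h4 := X0_reg_G hQ h3
  have hGJ : G (Q : ℤ) ≤ Ideal.span {g0 (Q : ℤ), h} := by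
    rw [G]; apply Ideal.span_mono; intro x hx; rw [Set.mem_singleton_iff] at hx; rw [hx]; simp
  have : y = (y - γ * h) + γ * h := by ring
  rw [this]
  exact Ideal.add_mem _ (hGJ h4) (Ideal.mul_mem_left _ _ (Ideal.subset_span (by simp)))

theorem X0_pow_reg_J (hQ : (Q : ℤ) ≠ 0) {h : WP} (hreg : ∀ y, chi Q h * y = 0 → y = 0)
    (N : ℕ) {y : WP} (hy : X 0 ^ N * y ∈ Ideal.span {g0 (Q : ℤ), h}) :
    y ∈ Ideal.span {g0 (Q : ℤ), h} := by
  induction N with
  | zero => simpa using hy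
  | succ n ih =>
    apply ih
    apply X0_reg_J Q hQ hreg
    rw [← mul_assoc, ← pow_succ']
    exact hy

end

end Groth.Agent.Lib.Helper55.Weil
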