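import Groth.Agent.Lib.Helper55.FunFld.Weil3

/-! Minimal central orders of Weil numbers: module structures on lattices (S18003). -/

set_option autoImplicit false

namespace Groth.Agent.Lib.Helper55.Weil

open MvPolynomial
open scoped IsMulCommutative

noncomputable section

universe u

variable {ι : Type} [Fintype ι] {K : ι → Type u} [∀ i, Field (K i)] [∀ i, CharZero (K i)]
  {π : ∀ i, K i}

/-- A right inverse up to `q` of an endomorphism of a lattice is also a left inverse. -/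
theorem comm_of_comp_eq_smul {T : Type} [AddCommGroup T] [Module.Finite ℤ T] [Module.Free ℤ T]
    (q : ℤ) (hq : q ≠ 0) (FT VT : T →ₗ[ℤ] T) (hV : FT ∘ₗ VT = q • LinearMap.id) :
    Function.Injective FT ∧ VT ∘ₗ FT = q • LinearMap.id := by
  have hdet : LinearMap.det FT ≠ 0 := by
    intro h0
    have := congrArg LinearMap.det hV
    rw [LinearMap.det_comp, h0, zero_mul, LinearMap.det_smul, LinearMap.det_id, mul_one] at this
    exact pow_ne_zero _ hq this.symm
  have hinj : Function.Injective FT := by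
    rw [← LinearMap.ker_eq_bot]
    by_contra hne
    exact hdet (LinearMap.det_eq_zero_iff_ker_ne_bot.2 hne)
  refine ⟨hinj, ?_⟩
  apply LinearMap.ext
  intro t
  apply hinj
  have := LinearMap.congr_fun hV (FT t)
  simp only [LinearMap.comp_apply, LinearMap.smul_apply, LinearMap.id_apply] at this ⊢
  rw [this, map_zsmul]

theorem weil_module_aux (ψ : WP →ₐ[ℤ] ((i : ι) → K i)) (Q : ℕ) (hQ : 0 < Q)
    (hψ : ∀ g i, ψ g i = psi1 (π i) (Q : ℤ) g)
    (hint : ∀ i, IsIntegral ℤ (π i)) (hπ : ∀ i, π i ≠ 0)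
    (hinj : ∀ i j, minpoly ℤ (π i) = minpoly ℤ (π j) → i = j)
    (T : Type) [AddCommGroup T] [Module.Finite ℤ T] [Module.Free ℤ T] (FT : T →ₗ[ℤ] T) :
    (∃ _ : Module ψ.range T,
        ∀ t : T, (⟨ψ (X 0), AlgHom.mem_range_self _ _⟩ : ψ.range) • t = FT t) ↔
      (Polynomial.aeval FT (∏ i, minpoly ℤ (π i)) = 0 ∧
        ∃ VT : T →ₗ[ℤ] T, FT ∘ₗ VT = (Q : ℤ) • LinearMap.id) := by
  have hqne : ((Q : ℕ) : ℤ) ≠ 0 := by positivity
  have hPw0 : ∀ i, Polynomial.aeval (π i) (∏ j, minpoly ℤ (π j)) = 0 := by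
    intro i
    rw [map_prod]
    exact Finset.prod_eq_zero (Finset.mem_univ i) (minpoly.aeval ℤ (π i))
  have hψg0 : ψ (g0 (Q : ℤ)) = 0 := by
    funext i
    rw [hψ, Pi.zero_apply]
    exact psi1_g0 _ _ (hπ i)
  constructor
  · rintro ⟨inst, hF⟩
    obtain ⟨Fc, hFc⟩ : ∃ Fc : ψ.range, Fc = ⟨ψ (X 0), AlgHom.mem_range_self _ _⟩ := ⟨_, rfl⟩
    obtain ⟨Vc, hVc⟩ : ∃ Vc : ψ.range, Vc = ⟨ψ (X 1), AlgHom.mem_range_self _ _⟩ := ⟨_, rfl⟩
    rw [← hFc] at hF
    have hpow : ∀ (n : ℕ) (t : T), (Fc ^ n) • t = (FT ^ n) t := by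
      intro n
      induction n with
      | zero => intro t; simp
      | succ n ih =>
        intro t
        rw [pow_succ, mul_smul, hF, ih, pow_succ, Module.End.mul_apply]
    have hpoly : ∀ (Gp : Polynomial ℤ) (t : T),
        (Polynomial.aeval FT Gp) t = (Polynomial.aeval Fc Gp) • t := by
      intro Gp
      induction Gp using Polynomial.induction_on' with
      | add a b ha hb =>
        intro t
        rw [map_add, map_add, LinearMap.add_apply, ha, hb, add_smul]
      | monomial n c =>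
        intro t
        rw [← Polynomial.C_mul_X_pow_eq_monomial]
        simp only [map_mul, map_pow, Polynomial.aeval_X, Polynomial.aeval_C]
        rw [Module.End.mul_apply, ← hpow, mul_smul]
        simp only [algebraMap_int_eq, eq_intCast]
        rw [Int.cast_smul_eq_zsmul]
        simp
    refine ⟨?_, ?_⟩
    · apply LinearMap.ext
      intro t
      rw [hpoly, LinearMap.zero_apply]
      have : Polynomial.aeval Fc (∏ i, minpoly ℤ (π i)) = 0 := by
        apply Subtype.ext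
        rw [Polynomial.aeval_subalgebra_coe, hFc]
        change Polynomial.aeval (ψ (X 0)) _ = 0
        rw [Polynomial.aeval_algHom_apply]
        funext i
        rw [hψ, psi1_aeval, hPw0, Pi.zero_apply]
      rw [this, zero_smul]
    · refine ⟨(DistribMulAction.toAddMonoidHom T Vc).toIntLinearMap, ?_⟩
      apply LinearMap.ext
      intro t
      simp only [LinearMap.comp_apply, AddMonoidHom.coe_toIntLinearMap,
        DistribMulAction.toAddMonoidHom_apply, LinearMap.smul_apply, LinearMap.id_apply]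
      rw [← hF, ← mul_smul]
      have : Fc * Vc = ((Q : ℤ) : ψ.range) := by
        apply Subtype.ext
        rw [hFc, hVc]
        change ψ (X 0) * ψ (X 1) = (((Q : ℤ) : ψ.range) : (i : ι) → K i)
        have h1 : ψ (X 0) * ψ (X 1) - ψ (C (Q : ℤ)) = 0 := by
          rw [← map_mul, ← map_sub]; exact hψg0
        rw [sub_eq_zero] at h1
        rw [h1]
        simp
      rw [this, Int.cast_smul_eq_zsmul]
  · rintro ⟨hP, VT, hV⟩
    obtain ⟨hFinj, hV'⟩ := comm_of_comp_eq_smul (Q : ℤ) hqne FT VT hV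
    have hcommFV : FT * VT = VT * FT := by
      rw [Module.End.mul_eq_comp, Module.End.mul_eq_comp, hV, hV']
    have hcomm : ∀ a ∈ ({FT, VT} : Set (Module.End ℤ T)), ∀ b ∈ ({FT, VT} : Set (Module.End ℤ T)),
        a * b = b * a := by
      intro a ha b hb
      rcases ha with rfl | rfl <;> rcases hb with rfl | rfl
      · rfl
      · exact hcommFV
      · exact hcommFV.symm
      · rfl
    have hmc := Algebra.isMulCommutative_adjoin ℤ hcomm
    obtain ⟨Fa, hFa⟩ : ∃ Fa : Algebra.adjoin ℤ ({FT, VT} : Set (Module.End ℤ T)), (Fa : Module.End ℤ T) = FT :=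
      ⟨⟨FT, Algebra.subset_adjoin (by simp)⟩, rfl⟩
    obtain ⟨Va, hVa⟩ : ∃ Va : Algebra.adjoin ℤ ({FT, VT} : Set (Module.End ℤ T)), (Va : Module.End ℤ T) = VT :=
      ⟨⟨VT, Algebra.subset_adjoin (by simp)⟩, rfl⟩
    obtain ⟨Φ, hΦ⟩ : ∃ Φ : WP →ₐ[ℤ] Module.End ℤ T, Φ = (Algebra.adjoin ℤ ({FT, VT} : Set (Module.End ℤ T))).val.comp
        (MvPolynomial.aeval ![Fa, Va]) := ⟨_, rfl⟩
    have hΦ0 : Φ (X 0) = FT := by rw [hΦ]; simp [hFa]
    have hΦ1 : Φ (X 1) = VT := by rw [hΦ]; simp [hVa]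
    have hΦg0 : Φ (g0 (Q : ℤ)) = 0 := by
      rw [g0, map_sub, map_mul, hΦ0, hΦ1, Module.End.mul_eq_comp, hV]
      rw [← MvPolynomial.algebraMap_eq, AlgHom.commutes]
      apply LinearMap.ext
      intro t
      simp
    have hker : RingHom.ker (ψ.rangeRestrict : WP →+* ψ.range) ≤ RingHom.ker (Φ : WP →+* Module.End ℤ T) := by
      intro g hg
      rw [RingHom.mem_ker] at hg ⊢
      have hg0 : ψ g = 0 := by
        have := congrArg Subtype.val hg
        simpa using this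
      obtain ⟨N, Gp, hN⟩ := clearV (Q : ℤ) g
      obtain ⟨z, hz⟩ := (mem_G_iff _).1 hN
      have hGp : ∀ i, Polynomial.aeval (π i) Gp = 0 := by
        intro i
        have := psi1_mem_G (π i) ((Q : ℕ) : ℤ) (hπ i) hN
        rw [map_sub, map_mul, ← hψ g i, hg0, Pi.zero_apply, mul_zero, zero_sub, neg_eq_zero,
          psi1_aeval] at this
        exact this
      obtain ⟨S, hS⟩ := prod_minpoly_dvd hint hinj Gp hGp
      have h1 := congrArg Φ hz
      rw [map_mul, hΦg0, mul_zero, map_sub, map_mul, map_pow, hΦ0,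
        ← Polynomial.aeval_algHom_apply, hΦ0, hS, map_mul, hP, zero_mul, sub_zero] at h1
      apply LinearMap.ext
      intro t
      have h2 := LinearMap.congr_fun h1.symm t
      rw [Module.End.mul_apply, LinearMap.zero_apply] at h2
      have hpinj : Function.Injective (FT ^ N) := by
        rw [Module.End.coe_pow]
        exact hFinj.iterate N
      rw [LinearMap.zero_apply]
      apply hpinj
      rw [map_zero]
      exact h2
    obtain ⟨f, hf⟩ : ∃ f : ψ.range →+* Module.End ℤ T, ∀ g, f (ψ.rangeRestrict g) = Φ g := by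
      refine ⟨RingHom.liftOfSurjective (ψ.rangeRestrict : WP →+* ψ.range)
        ψ.rangeRestrict_surjective ⟨(Φ : WP →+* Module.End ℤ T), hker⟩, fun g => ?_⟩
      exact RingHom.liftOfSurjective_comp_apply (ψ.rangeRestrict : WP →+* ψ.range)
        ψ.rangeRestrict_surjective ⟨(Φ : WP →+* Module.End ℤ T), hker⟩ g
    refine ⟨Module.compHom T f, fun t => ?_⟩
    have : (⟨ψ (X 0), AlgHom.mem_range_self _ _⟩ : ψ.range) = ψ.rangeRestrict (X 0) := rfl
    rw [this]
    change f (ψ.rangeRestrict (X 0)) t = FT t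
    rw [hf, hΦ0]

/-- S18003. -/
theorem weil_module (p e : ℕ) [Fact p.Prime] (he : 0 < e)
    (ι : Type) [Fintype ι] (K : ι → Type u) [∀ i, Field (K i)] [∀ i, CharZero (K i)] (π : ∀ i, K i)
    (hint : ∀ i, IsIntegral ℤ (π i))
    (hweil : ∀ i, ∀ z ∈ (minpoly ℤ (π i)).aroots ℂ, ‖z‖ = Real.sqrt ((p : ℝ) ^ e))
    (hinj : ∀ i j, minpoly ℤ (π i) = minpoly ℤ (π j) → i = j)
    (T : Type) [AddCommGroup T] [Module.Finite ℤ T] [Module.Free ℤ T] (FT : T →ₗ[ℤ] T) :
    (∃ _ : Module (MvPolynomial.aeval ![fun i => π i, fun i => ((p : K i) ^ e) / π i] :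
        MvPolynomial (Fin 2) ℤ →ₐ[ℤ] ((i : ι) → K i)).range T,
        ∀ t : T, (⟨(MvPolynomial.aeval ![fun i => π i, fun i => ((p : K i) ^ e) / π i] :
        MvPolynomial (Fin 2) ℤ →ₐ[ℤ] ((i : ι) → K i)) (X 0), AlgHom.mem_range_self _ _⟩ : (MvPolynomial.aeval ![fun i => π i, fun i => ((p : K i) ^ e) / π i] :
        MvPolynomial (Fin 2) ℤ →ₐ[ℤ] ((i : ι) → K i)).range) • t = FT t) ↔
      (Polynomial.aeval FT (∏ i, minpoly ℤ (π i)) = 0 ∧
        ∃ VT : T →ₗ[ℤ] T, FT ∘ₗ VT = ((p : ℤ) ^ e) • LinearMap.id) := by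
  have hp : p.Prime := Fact.out
  obtain ⟨Q, hQdef⟩ : ∃ Q : ℕ, Q = p ^ e := ⟨_, rfl⟩
  have hQpos : 0 < Q := by rw [hQdef]; exact pow_pos hp.pos e
  have hQz : ((Q : ℕ) : ℤ) = (p : ℤ) ^ e := by rw [hQdef, Nat.cast_pow]
  have hQr : ((Q : ℕ) : ℝ) = (p : ℝ) ^ e := by rw [hQdef, Nat.cast_pow]
  have hQK : ∀ i, ((Q : ℕ) : K i) = (p : K i) ^ e := fun i => by rw [hQdef, Nat.cast_pow]
  rw [← hQr] at hweil
  have hπ : ∀ i, π i ≠ 0 := weil_ne_zero Q hQpos hweil
  have hfun : (fun i => ((p : K i) ^ e) / π i) = (fun i => ((Q : ℕ) : K i) / π i) := by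
    funext i; rw [hQK]
  have hψ : ∀ g i, (MvPolynomial.aeval ![fun i => π i, fun i => ((p : K i) ^ e) / π i] :
      MvPolynomial (Fin 2) ℤ →ₐ[ℤ] ((i : ι) → K i)) g i = psi1 (π i) (Q : ℤ) g := by
    intro g i
    rw [hfun]
    exact psi_apply K π Q g i
  rw [← hQz]
  exact weil_module_aux _ Q hQpos hψ hint hπ hinj T FT

end

end Groth.Agent.Lib.Helper55.Weil
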