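import Groth.Agent.Lib.Helper55.FunFld.ConstFin

/-! Coefficients of the zeta numerator over a finite field: rationality, `L(1) = h`,
functional equation (S11036, S11038, S11039). -/

set_option autoImplicit false
set_option linter.unusedSectionVars false
set_option linter.style.haveILetI false

open FunFld Module Polynomial

namespace Groth.Agent.Lib.Helper55

universe u v

variable {k : Type u} {K : Type v} [Field k] [Field K] [Algebra k K]

theorem ff_deg_zsmul (z : ℤ) (D : Divisor k K) : (z • D).deg = z * D.deg := by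
  rw [← ff_degHom_apply, map_zsmul, ff_degHom_apply, smul_eq_mul]

theorem ff_eq_zero_of_nonneg_of_deg_eq_zero (hK : IsFunctionField k K) {D : Divisor k K}
    (h0 : 0 ≤ D) (hdeg : D.deg = 0) : D = 0 := by
  classical
  by_contra hne
  obtain ⟨P, hP⟩ : ∃ P, D P ≠ 0 := by
    by_contra hcon
    push Not at hcon
    exact hne (Finsupp.ext hcon)
  have hP1 : 1 ≤ D P := by
    have := h0 P
    change (0 : ℤ) ≤ D P at this
    omega
  have hle : (Finsupp.single P 1 : Divisor k K) ≤ D := by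
    intro R
    by_cases hR : R = P
    · subst hR; rw [Finsupp.single_eq_same]; exact hP1
    · rw [Finsupp.single_eq_of_ne hR]; exact h0 R
  have := ff_deg_mono hle
  rw [ff_deg_single, one_mul, hdeg] at this
  have := ff_deg_pos hK P
  omega

theorem ff_effDivCount_zero (hK : IsFunctionField k K) : effDivCount k K 0 = 1 := by
  unfold effDivCount
  rw [Nat.card_eq_one_iff_unique]
  refine ⟨⟨fun a b => Subtype.ext ?_⟩, ⟨⟨0, le_refl _, by rw [ff_deg_zero]; rfl⟩⟩⟩
  rw [ff_eq_zero_of_nonneg_of_deg_eq_zero hK a.2.1 (by rw [a.2.2]; rfl),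
    ff_eq_zero_of_nonneg_of_deg_eq_zero hK b.2.1 (by rw [b.2.2]; rfl)]

/-- The degree zero class group. -/
abbrev Pic0 (k : Type u) (K : Type v) [Field k] [Field K] [Algebra k K] : Type v :=
  (degHom k K).ker ⧸ (prinDivs k K).addSubgroupOf (degHom k K).ker

section Fin

variable [Finite k] [Fintype (Pic0 k K)]

/-- `B(n) = ∑_c q^{ℓ(n D₁ + c)}`. -/
noncomputable def zB (D₁ : Divisor k K) (n : ℤ) : ℕ :=
  ∑ c : Pic0 k K, Nat.card k ^ ell (n • D₁ + (Quotient.out c).1)

/-- The number of effective divisors of degree `n`, for all integers `n`. -/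
noncomputable def zA (k : Type u) (K : Type v) [Field k] [Field K] [Algebra k K] (n : ℤ) : ℤ :=
  if 0 ≤ n then (effDivCount k K n.toNat : ℤ) else 0

theorem ff_ker_deg (b : (degHom k K).ker) : b.1.deg = 0 := by
  rw [← ff_degHom_apply]; exact b.2

theorem zB_of_neg (hK : IsFunctionField k K) {D₁ : Divisor k K} (hD₁ : D₁.deg = 1) {n : ℤ}
    (hn : n < 0) : zB D₁ n = Fintype.card (Pic0 k K) := by
  unfold zB
  rw [Finset.sum_congr rfl (fun c _ => by
    rw [ff_ell_eq_zero_of_deg_neg hK (by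
      rw [ff_deg_add, ff_deg_zsmul, hD₁, ff_ker_deg]; omega), pow_zero]),
    Finset.sum_const, Finset.card_univ, smul_eq_mul, mul_one]

theorem zB_natCast (hK : IsFunctionField k K) {D₁ : Divisor k K} (hD₁ : D₁.deg = 1) (n : ℕ) :
    (Nat.card k - 1) * effDivCount k K n + Fintype.card (Pic0 k K) = zB D₁ (n : ℤ) := by
  classical
  have hD₀ : (n • D₁).deg = (n : ℤ) := by rw [ff_deg_nsmul, hD₁, mul_one]
  have hfinE : Finite {D : Divisor k K // 0 ≤ D ∧ D.deg = (n : ℤ)} :=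
    (ff_finite_effDiv hK n).to_subtype
  have hsig := Nat.card_congr (Equiv.sigmaFiberEquiv (ff_theta (n • D₁) n hD₀))
  rw [Nat.card_sigma] at hsig
  have hfib : ∀ c : Pic0 k K, (Nat.card k - 1) * Nat.card {D // ff_theta (n • D₁) n hD₀ D = c} + 1 =
      Nat.card k ^ ell ((n : ℤ) • D₁ + (Quotient.out c).1) := by
    intro c
    have hc : (QuotientAddGroup.mk (Quotient.out c) : Pic0 k K) = c := QuotientAddGroup.out_eq' c
    have := ff_card_theta_fiber hK (n • D₁) n hD₀ (Quotient.out c)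
    rw [hc] at this
    rw [this, natCast_zsmul]
    have hq : 1 ≤ Nat.card k := Nat.card_pos
    have := Nat.one_le_pow (ell (n • D₁ + (Quotient.out c).1)) _ hq
    omega
  unfold zB effDivCount
  rw [← hsig, Finset.mul_sum, ← Finset.sum_congr rfl (fun c _ => hfib c), Finset.sum_add_distrib,
    Finset.sum_const, Finset.card_univ, smul_eq_mul, mul_one]

theorem zA_eq (hK : IsFunctionField k K) {D₁ : Divisor k K} (hD₁ : D₁.deg = 1) (n : ℤ) :
    ((Nat.card k : ℤ) - 1) * zA k K n = (zB D₁ n : ℤ) - Fintype.card (Pic0 k K) := by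
  unfold zA
  split_ifs with h
  · have := zB_natCast hK hD₁ n.toNat
    rw [Int.toNat_of_nonneg h] at this
    rw [← this]
    have hq : 1 ≤ Nat.card k := Nat.card_pos
    push_cast [Nat.cast_sub hq]
    ring
  · rw [zB_of_neg hK hD₁ (by omega)]; ring

theorem zB_symm (hK : IsFunctionField k K) {D₁ : Divisor k K} (hD₁ : D₁.deg = 1) (n : ℤ) :
    (zB D₁ n : ℚ) = (Nat.card k : ℚ) ^ (n + 1 - (genus k K : ℤ)) *
      (zB D₁ (2 * (genus k K : ℤ) - 2 - n) : ℚ) := by
  classical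
  obtain ⟨W, hW⟩ := ff_exists_canonical hK
  obtain ⟨-, hWdeg⟩ := ff_canonical_ell_deg hK hW
  set g : ℤ := (genus k K : ℤ) with hg
  have hq0 : (Nat.card k : ℚ) ≠ 0 := by
    have : 0 < Nat.card k := Nat.card_pos
    exact_mod_cast this.ne'
  let w₀rep : (degHom k K).ker := ⟨W - (2 * g - 2) • D₁, by
    rw [AddMonoidHom.mem_ker, ff_degHom_apply, ff_deg_sub, ff_deg_zsmul, hD₁, hWdeg]; ring⟩
  let w₀ : Pic0 k K := QuotientAddGroup.mk w₀rep
  have key : ∀ c : Pic0 k K, ell (W - (n • D₁ + (Quotient.out c).1)) =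
      ell ((2 * g - 2 - n) • D₁ + (Quotient.out (w₀ - c)).1) := by
    intro c
    set Δ : (degHom k K).ker := w₀rep - Quotient.out c - Quotient.out (w₀ - c) with hΔ
    have hΔ0 : (QuotientAddGroup.mk Δ : Pic0 k K) = 0 := by
      rw [hΔ, QuotientAddGroup.mk_sub, QuotientAddGroup.mk_sub, QuotientAddGroup.out_eq',
        QuotientAddGroup.out_eq']
      exact sub_self _
    rw [QuotientAddGroup.eq_zero_iff, AddSubgroup.mem_addSubgroupOf,
      ff_mem_prinDivs_iff hK] at hΔ0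
    obtain ⟨z, hz0, hz⟩ := hΔ0
    have hsplit : W - (n • D₁ + (Quotient.out c).1) =
        ((2 * g - 2 - n) • D₁ + (Quotient.out (w₀ - c)).1) + FunFld.div k z := by
      rw [← hz, hΔ]
      simp only [AddSubgroup.coe_sub, w₀rep]
      module
    rw [hsplit, ff_ell_add_div hK _ hz0]
  unfold zB
  push_cast
  rw [Finset.mul_sum]
  rw [← Equiv.sum_comp (Equiv.subLeft w₀)
    (fun c => (Nat.card k : ℚ) ^ (n + 1 - g) *
      (Nat.card k : ℚ) ^ ell ((2 * g - 2 - n) • D₁ + (Quotient.out c).1))]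
  refine Finset.sum_congr rfl fun c _ => ?_
  rw [Equiv.subLeft_apply, ← key c]
  have hrr := ff_riemann_roch hK hW (n • D₁ + (Quotient.out c).1)
  rw [ff_deg_add, ff_deg_zsmul, hD₁, ff_ker_deg, mul_one, add_zero] at hrr
  rw [← zpow_natCast, ← zpow_natCast, ← zpow_add₀ hq0, hrr]

/-- `Λ(n) = B(n) - (q+1) B(n-1) + q B(n-2)`. -/
noncomputable def zLam (D₁ : Divisor k K) (n : ℤ) : ℚ :=
  (zB D₁ n : ℚ) - ((Nat.card k : ℚ) + 1) * zB D₁ (n - 1) + (Nat.card k : ℚ) * zB D₁ (n - 2)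

theorem zLam_of_neg (hK : IsFunctionField k K) {D₁ : Divisor k K} (hD₁ : D₁.deg = 1) {n : ℤ}
    (hn : n < 0) : zLam D₁ n = 0 := by
  unfold zLam
  rw [zB_of_neg hK hD₁ hn, zB_of_neg hK hD₁ (by omega : n - 1 < 0),
    zB_of_neg hK hD₁ (by omega : n - 2 < 0)]
  ring

theorem zLam_symm (hK : IsFunctionField k K) {D₁ : Divisor k K} (hD₁ : D₁.deg = 1) (n : ℤ) :
    zLam D₁ (2 * (genus k K : ℤ) - n) =
      (Nat.card k : ℚ) ^ ((genus k K : ℤ) - n) * zLam D₁ n := by
  have hq0 : (Nat.card k : ℚ) ≠ 0 := by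
    have : 0 < Nat.card k := Nat.card_pos
    exact_mod_cast this.ne'
  unfold zLam
  set g : ℤ := (genus k K : ℤ) with hg
  rw [zB_symm hK hD₁ (2 * g - n), zB_symm hK hD₁ (2 * g - n - 1), zB_symm hK hD₁ (2 * g - n - 2)]
  have e1 : 2 * g - 2 - (2 * g - n) = n - 2 := by ring
  have e2 : 2 * g - 2 - (2 * g - n - 1) = n - 1 := by ring
  have e3 : 2 * g - 2 - (2 * g - n - 2) = n := by ring
  have f1 : 2 * g - n + 1 - g = (g - n) + 1 := by ring
  have f2 : 2 * g - n - 1 + 1 - g = g - n := by ring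
  have f3 : 2 * g - n - 2 + 1 - g = (g - n) - 1 := by ring
  have hA : (Nat.card k : ℚ) ^ (g - n + 1) = (Nat.card k : ℚ) ^ (g - n) * (Nat.card k : ℚ) := by
    rw [zpow_add₀ hq0, zpow_one]
  have hC : (Nat.card k : ℚ) * (Nat.card k : ℚ) ^ (g - n - 1) = (Nat.card k : ℚ) ^ (g - n) := by
    rw [zpow_sub₀ hq0, zpow_one, mul_div_cancel₀ _ hq0]
  rw [e1, e2, e3, f1, f2, f3, hA]
  linear_combination (zB D₁ n : ℚ) * hC

theorem zLam_eq (hK : IsFunctionField k K) {D₁ : Divisor k K} (hD₁ : D₁.deg = 1) (n : ℤ) :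
    zLam D₁ n = ((Nat.card k : ℚ) - 1) *
      ((zA k K n : ℚ) - ((Nat.card k : ℚ) + 1) * zA k K (n - 1) + (Nat.card k : ℚ) * zA k K (n - 2)) := by
  have h0 := congrArg (fun z : ℤ => (z : ℚ)) (zA_eq hK hD₁ n)
  have h1 := congrArg (fun z : ℤ => (z : ℚ)) (zA_eq hK hD₁ (n - 1))
  have h2 := congrArg (fun z : ℤ => (z : ℚ)) (zA_eq hK hD₁ (n - 2))
  simp only [Int.cast_mul, Int.cast_sub, Int.cast_natCast, Int.cast_one] at h0 h1 h2
  unfold zLam
  linear_combination (-1 : ℚ) * h0 + ((Nat.card k : ℚ) + 1) * h1 - (Nat.card k : ℚ) * h2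

end Fin

theorem numerZ_eq : numerZ k K = zetaZ k K -
    PowerSeries.C ((Nat.card k : ℤ) + 1) * (PowerSeries.X * zetaZ k K) +
    PowerSeries.C (Nat.card k : ℤ) * (PowerSeries.X * (PowerSeries.X * zetaZ k K)) := by
  unfold numerZ
  rw [map_add, map_one]
  ring

theorem coeff_numerZ (n : ℕ) : PowerSeries.coeff n (numerZ k K) =
    zA k K n - ((Nat.card k : ℤ) + 1) * zA k K ((n : ℤ) - 1) +
      (Nat.card k : ℤ) * zA k K ((n : ℤ) - 2) := by
  rw [numerZ_eq, (PowerSeries.coeff n).map_add, LinearMap.map_sub,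
    PowerSeries.coeff_C_mul, PowerSeries.coeff_C_mul]
  rcases n with _ | _ | m
  · rw [PowerSeries.coeff_zero_X_mul, PowerSeries.coeff_zero_X_mul]
    simp [zA, zetaZ]
  · have e1 : ((0 + 1 : ℕ) : ℤ) - 1 = ((0 : ℕ) : ℤ) := by norm_num
    have e2 : ¬ (0 : ℤ) ≤ ((0 + 1 : ℕ) : ℤ) - 2 := by norm_num
    rw [e1, PowerSeries.coeff_succ_X_mul, PowerSeries.coeff_succ_X_mul,
      PowerSeries.coeff_zero_X_mul]
    simp only [zA, e2, zetaZ, PowerSeries.coeff_mk, Int.natCast_nonneg, if_true, if_false,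
      Int.toNat_natCast]
  · have e1 : ((m + 1 + 1 : ℕ) : ℤ) - 1 = ((m + 1 : ℕ) : ℤ) := by push_cast; ring
    have e2 : ((m + 1 + 1 : ℕ) : ℤ) - 2 = ((m : ℕ) : ℤ) := by push_cast; ring
    rw [e1, e2, PowerSeries.coeff_succ_X_mul, PowerSeries.coeff_succ_X_mul,
      PowerSeries.coeff_succ_X_mul]
    simp only [zA, zetaZ, PowerSeries.coeff_mk, Int.natCast_nonneg, if_true, Int.toNat_natCast]

theorem zA_of_neg {n : ℤ} (hn : n < 0) : zA k K n = 0 := by
  unfold zA
  rw [if_neg (by omega)]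

theorem sum_coeff_numerZ (N : ℕ) :
    ∑ i ∈ Finset.range (N + 1), PowerSeries.coeff i (numerZ k K) =
      zA k K N - (Nat.card k : ℤ) * zA k K ((N : ℤ) - 1) := by
  induction N with
  | zero =>
    rw [Finset.sum_range_one, coeff_numerZ, zA_of_neg (by norm_num : ((0 : ℕ) : ℤ) - 1 < 0),
      zA_of_neg (by norm_num : ((0 : ℕ) : ℤ) - 2 < 0)]
    ring
  | succ N ih =>
    rw [Finset.sum_range_succ, ih, coeff_numerZ]
    have e1 : ((N + 1 : ℕ) : ℤ) - 1 = (N : ℤ) := by push_cast; ring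
    have e2 : ((N + 1 : ℕ) : ℤ) - 2 = (N : ℤ) - 1 := by push_cast; ring
    rw [e1, e2]
    ring

section Main

variable [Finite k]

theorem numerZ_coeff_rat [Fintype (Pic0 k K)] (hK : IsFunctionField k K) {D₁ : Divisor k K}
    (hD₁ : D₁.deg = 1) (n : ℕ) :
    ((Nat.card k : ℚ) - 1) * ((PowerSeries.coeff n (numerZ k K) : ℤ) : ℚ) = zLam D₁ n := by
  rw [zLam_eq hK hD₁, coeff_numerZ]
  push_cast
  ring

theorem numerZ_props (hK : IsFunctionField k K) :
    (∀ n : ℕ, 2 * genus k K < n → PowerSeries.coeff n (numerZ k K) = 0) ∧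
    PowerSeries.coeff (2 * genus k K) (numerZ k K) ≠ 0 ∧
    ∀ i : ℕ, i ≤ 2 * genus k K →
      (((PowerSeries.coeff (2 * genus k K - i) (numerZ k K) : ℤ)) : ℚ) =
        (Nat.card k : ℚ) ^ ((genus k K : ℤ) - i) *
          (((PowerSeries.coeff i (numerZ k K) : ℤ)) : ℚ) := by
  classical
  obtain ⟨D₁, hD₁⟩ := ff_deg_surjective hK 1
  haveI := ff_finite_classGroup hK
  letI : Fintype (Pic0 k K) := Fintype.ofFinite _
  have hq : 1 < Nat.card k := Finite.one_lt_card
  have hq1 : (Nat.card k : ℚ) - 1 ≠ 0 := by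
    have : (1 : ℚ) < Nat.card k := by exact_mod_cast hq
    linarith
  have hq0 : (Nat.card k : ℚ) ≠ 0 := by
    have : (1 : ℚ) < Nat.card k := by exact_mod_cast hq
    linarith
  have R3 : ∀ i : ℕ, i ≤ 2 * genus k K →
      (((PowerSeries.coeff (2 * genus k K - i) (numerZ k K) : ℤ)) : ℚ) =
        (Nat.card k : ℚ) ^ ((genus k K : ℤ) - i) *
          (((PowerSeries.coeff i (numerZ k K) : ℤ)) : ℚ) := by
    intro i hi
    have h1 := numerZ_coeff_rat hK hD₁ (2 * genus k K - i)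
    have h2 := numerZ_coeff_rat hK hD₁ i
    have hcast : ((2 * genus k K - i : ℕ) : ℤ) = 2 * (genus k K : ℤ) - i := by
      rw [Nat.cast_sub hi]; push_cast; ring
    rw [hcast, zLam_symm hK hD₁, ← h2] at h1
    apply mul_left_cancel₀ hq1
    rw [h1]; ring
  refine ⟨?_, ?_, R3⟩
  · intro n hn
    have h1 := numerZ_coeff_rat hK hD₁ n
    have hn' : (n : ℤ) = 2 * (genus k K : ℤ) - (2 * (genus k K : ℤ) - n) := by ring
    rw [hn', zLam_symm hK hD₁, zLam_of_neg hK hD₁ (by omega), mul_zero] at h1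
    have := (mul_eq_zero.mp h1).resolve_left hq1
    exact_mod_cast this
  · have h0 := R3 0 (Nat.zero_le _)
    rw [Nat.sub_zero] at h0
    have hc0 : PowerSeries.coeff 0 (numerZ k K) = 1 := by
      rw [coeff_numerZ, zA_of_neg (by norm_num : ((0 : ℕ) : ℤ) - 1 < 0),
        zA_of_neg (by norm_num : ((0 : ℕ) : ℤ) - 2 < 0)]
      unfold zA
      rw [if_pos (by norm_num)]
      simp [ff_effDivCount_zero hK]
    rw [hc0] at h0
    intro hcon
    rw [hcon] at h0
    simp only [Int.cast_zero, Int.cast_one, mul_one, Nat.cast_zero, sub_zero] at h0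
    exact zpow_ne_zero _ hq0 h0.symm

theorem numerZ_eval_one (hK : IsFunctionField k K) (p : Polynomial ℤ)
    (hp : (p : PowerSeries ℤ) = numerZ k K) : p.eval 1 = (classNum k K : ℤ) := by
  classical
  obtain ⟨D₁, hD₁⟩ := ff_deg_surjective hK 1
  haveI := ff_finite_classGroup hK
  letI : Fintype (Pic0 k K) := Fintype.ofFinite _
  have hq : 1 < Nat.card k := Finite.one_lt_card
  have hq1 : (Nat.card k : ℚ) - 1 ≠ 0 := by
    have : (1 : ℚ) < Nat.card k := by exact_mod_cast hq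
    linarith
  have hq0 : (Nat.card k : ℚ) ≠ 0 := by
    have : (1 : ℚ) < Nat.card k := by exact_mod_cast hq
    linarith
  set N := max p.natDegree (2 * genus k K) with hN
  have hev : p.eval 1 = ∑ i ∈ Finset.range (N + 1), PowerSeries.coeff i (numerZ k K) := by
    rw [Polynomial.eval_eq_sum_range' (show p.natDegree < N + 1 by
      have := le_max_left p.natDegree (2 * genus k K); omega)]
    refine Finset.sum_congr rfl fun i _ => ?_
    rw [one_pow, mul_one, ← hp, Polynomial.coeff_coe]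
  rw [hev, sum_coeff_numerZ]
  have hN2 : 2 * genus k K ≤ N := le_max_right _ _
  -- values of `B`
  have hB : ∀ n : ℤ, 2 * (genus k K : ℤ) - 2 < n →
      (zB D₁ n : ℚ) = (Nat.card k : ℚ) ^ (n + 1 - (genus k K : ℤ)) * Fintype.card (Pic0 k K) := by
    intro n hn
    rw [zB_symm hK hD₁, zB_of_neg hK hD₁ (by omega)]
  have h1 := congrArg (fun z : ℤ => (z : ℚ)) (zA_eq hK hD₁ (N : ℤ))
  have h2 := congrArg (fun z : ℤ => (z : ℚ)) (zA_eq hK hD₁ ((N : ℤ) - 1))
  simp only [Int.cast_mul, Int.cast_sub, Int.cast_natCast, Int.cast_one] at h1 h2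
  rw [hB _ (by omega)] at h1 h2
  have e : (N : ℤ) - 1 + 1 - (genus k K : ℤ) = ((N : ℤ) + 1 - genus k K) - 1 := by ring
  rw [e, zpow_sub₀ hq0, zpow_one] at h2
  have hcard : (classNum k K : ℚ) = Fintype.card (Pic0 k K) := by
    unfold classNum
    rw [Nat.card_eq_fintype_card]
  have key : ((Nat.card k : ℚ) - 1) *
      ((zA k K N : ℚ) - (Nat.card k : ℚ) * zA k K ((N : ℤ) - 1)) =
      ((Nat.card k : ℚ) - 1) * (classNum k K : ℚ) := by
    rw [hcard, mul_sub, h1, ← mul_assoc, mul_comm ((Nat.card k : ℚ) - 1) (Nat.card k : ℚ),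
      mul_assoc, h2]
    field_simp
    ring
  have := mul_left_cancel₀ hq1 key
  exact_mod_cast this

theorem numerZ_exists_poly (hK : IsFunctionField k K) :
    ∃ p : Polynomial ℤ, (p : PowerSeries ℤ) = numerZ k K := by
  refine ⟨PowerSeries.trunc (2 * genus k K + 1) (numerZ k K), ?_⟩
  ext n
  rw [Polynomial.coeff_coe, PowerSeries.coeff_trunc]
  split_ifs with h
  · rfl
  · exact ((numerZ_props hK).1 n (by omega)).symm

end Main

end Groth.Agent.Lib.Helper55
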