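import Groth.Agent.Lib.Helper55.FunFld.ZetaRoots
import Mathlib.RingTheory.PowerSeries.Derivative

/-! The numbers `N_m = ∑_{deg P ∣ m} deg P` and the logarithmic derivative of the zeta function. -/

set_option autoImplicit false
set_option linter.unusedSectionVars false

open FunFld

namespace Groth.Agent.Lib.Helper55

universe u v

variable {k : Type u} {K : Type v} [Field k] [Field K] [Algebra k K]

variable (k K) in
open scoped Classical in
/-- `N_m = ∑_{deg P ∣ m} deg P`. -/
noncomputable def ffN (m : ℕ) : ℕ := ∑ᶠ P : Place k K, if P.deg ∣ m then P.deg else 0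

open scoped Classical in
theorem ffN_eq_sum {m : ℕ} (S : Finset (Place k K))
    (hS : ∀ P : Place k K, P.deg ∣ m → P ∈ S) :
    ffN k K m = ∑ P ∈ S, if P.deg ∣ m then P.deg else 0 := by
  unfold ffN
  apply finsum_eq_sum_of_support_subset
  intro P hP
  rw [Function.mem_support] at hP
  by_cases h : P.deg ∣ m
  · exact hS P h
  · rw [if_neg h] at hP; exact absurd rfl hP

/-- The finite set of effective divisors of degree `n`. -/
noncomputable def effFin [Finite k] (hK : IsFunctionField k K) (n : ℕ) : Finset (Divisor k K) :=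
  (ff_finite_effDiv hK n).toFinset

theorem mem_effFin [Finite k] (hK : IsFunctionField k K) (n : ℕ) (D : Divisor k K) :
    D ∈ effFin hK n ↔ 0 ≤ D ∧ D.deg = n := by
  unfold effFin
  rw [Set.Finite.mem_toFinset]
  rfl

theorem card_effFin [Finite k] (hK : IsFunctionField k K) (n : ℕ) :
    (effFin hK n).card = effDivCount k K n := by
  unfold effFin effDivCount
  rw [← Set.ncard_eq_toFinset_card _ (ff_finite_effDiv hK n)]
  rfl

theorem ff_effDiv_apply_mul_le (hK : IsFunctionField k K) {n : ℕ} {D : Divisor k K}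
    (hD : 0 ≤ D) (hdeg : D.deg = n) (P : Place k K) : D P * (P.deg : ℤ) ≤ n := by
  classical
  have h1 : (Finsupp.single P (D P) : Divisor k K) ≤ D := by
    intro Q
    rw [Finsupp.single_apply]
    split_ifs with h
    · subst h; exact le_rfl
    · exact hD Q
  have h2 := ff_deg_mono h1
  rw [ff_deg_single, hdeg] at h2
  exact h2

theorem ff_sum_coeff_effFin [Finite k] (hK : IsFunctionField k K) (n : ℕ) (P : Place k K) :
    ∑ D ∈ effFin hK n, D P = ∑ j ∈ Finset.Icc 1 n,
      if j * P.deg ≤ n then ((effFin hK (n - j * P.deg)).card : ℤ) else 0 := by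
  classical
  have hd : 1 ≤ P.deg := ff_deg_pos hK P
  have hb : ∀ D ∈ effFin hK n, 0 ≤ D P ∧ D P ≤ n := by
    intro D hD
    rw [mem_effFin] at hD
    have h1 := ff_effDiv_apply_mul_le hK hD.1 hD.2 P
    have h0 : (0 : ℤ) ≤ D P := hD.1 P
    have hd' : (1 : ℤ) ≤ P.deg := by exact_mod_cast hd
    refine ⟨h0, ?_⟩
    nlinarith
  have h1 : ∀ D ∈ effFin hK n, D P = ∑ j ∈ Finset.Icc 1 n, if (j : ℤ) ≤ D P then (1 : ℤ) else 0 := by
    intro D hD
    obtain ⟨h0, hn⟩ := hb D hD
    obtain ⟨v, hv⟩ : ∃ v : ℕ, D P = v := ⟨(D P).toNat, by omega⟩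
    rw [hv] at hn ⊢
    have hvn : v ≤ n := by exact_mod_cast hn
    rw [Finset.sum_boole]
    have : (Finset.Icc 1 n).filter (fun j : ℕ => (j : ℤ) ≤ (v : ℤ)) = Finset.Icc 1 v := by
      ext j
      simp only [Finset.mem_filter, Finset.mem_Icc, Nat.cast_le]
      omega
    rw [this, Nat.card_Icc]
    simp
  rw [Finset.sum_congr rfl h1, Finset.sum_comm]
  refine Finset.sum_congr rfl fun j hj => ?_
  rw [Finset.mem_Icc] at hj
  rw [Finset.sum_boole]
  split_ifs with hjd
  · norm_cast
    refine Finset.card_nbij' (fun D => D - Finsupp.single P (j : ℤ))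
      (fun D => D + Finsupp.single P (j : ℤ)) ?_ ?_ ?_ ?_
    · intro D hD
      rw [Finset.mem_coe, Finset.mem_filter, mem_effFin] at hD
      rw [Finset.mem_coe, mem_effFin]
      obtain ⟨⟨hD0, hDn⟩, hjD⟩ := hD
      refine ⟨?_, ?_⟩
      · intro Q
        rw [Finsupp.coe_zero, Pi.zero_apply, Finsupp.coe_sub, Pi.sub_apply, Finsupp.single_apply]
        split_ifs with h
        · subst h; omega
        · have := hD0 Q
          rw [Finsupp.coe_zero, Pi.zero_apply] at this
          omega
      · rw [ff_deg_sub, ff_deg_single, hDn]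
        push_cast [Nat.cast_sub hjd]
        ring
    · intro D hD
      rw [Finset.mem_coe, mem_effFin] at hD
      rw [Finset.mem_coe, Finset.mem_filter, mem_effFin]
      obtain ⟨hD0, hDn⟩ := hD
      refine ⟨⟨?_, ?_⟩, ?_⟩
      · intro Q
        rw [Finsupp.coe_zero, Pi.zero_apply, Finsupp.coe_add, Pi.add_apply, Finsupp.single_apply]
        have := hD0 Q
        rw [Finsupp.coe_zero, Pi.zero_apply] at this
        split_ifs with h
        · omega
        · omega
      · rw [ff_deg_add, ff_deg_single, hDn]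
        push_cast [Nat.cast_sub hjd]
        ring
      · rw [Finsupp.coe_add, Pi.add_apply, Finsupp.single_eq_same]
        have := hD0 P
        rw [Finsupp.coe_zero, Pi.zero_apply] at this
        omega
    · intro D _
      exact sub_add_cancel _ _
    · intro D _
      exact add_sub_cancel_right _ _
  · have : (effFin hK n).filter (fun D => (j : ℤ) ≤ D P) = ∅ := by
      rw [Finset.filter_eq_empty_iff]
      intro D hD hjD
      rw [mem_effFin] at hD
      have h1 := ff_effDiv_apply_mul_le hK hD.1 hD.2 P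
      apply hjd
      have h2 : ((j * P.deg : ℕ) : ℤ) ≤ n := by
        push_cast
        have hd' : (0 : ℤ) ≤ P.deg := by positivity
        nlinarith
      exact_mod_cast h2
    rw [this]
    simp

theorem ff_sum_reindex (c : ℕ → ℤ) (n d : ℕ) (hd : 1 ≤ d) :
    (∑ j ∈ Finset.Icc 1 n, if j * d ≤ n then c (n - j * d) else 0) =
      ∑ m ∈ Finset.Icc 1 n, if d ∣ m then c (n - m) else 0 := by
  rw [← Finset.sum_filter, ← Finset.sum_filter]
  refine Finset.sum_nbij' (fun j => j * d) (fun m => m / d) ?_ ?_ ?_ ?_ ?_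
  · intro j hj
    rw [Finset.mem_filter, Finset.mem_Icc] at hj
    rw [Finset.mem_filter, Finset.mem_Icc]
    refine ⟨⟨?_, hj.2⟩, Dvd.intro_left j rfl⟩
    exact Nat.one_le_iff_ne_zero.mpr (Nat.mul_ne_zero (by omega) (by omega))
  · intro m hm
    rw [Finset.mem_filter, Finset.mem_Icc] at hm
    rw [Finset.mem_filter, Finset.mem_Icc]
    obtain ⟨⟨hm1, hmn⟩, t, rfl⟩ := hm
    rw [Nat.mul_div_cancel_left t (by omega : 0 < d)]
    have ht : 1 ≤ t := by
      rcases Nat.eq_zero_or_pos t with h | h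
      · subst h; omega
      · exact h
    refine ⟨⟨ht, ?_⟩, ?_⟩
    · calc t ≤ d * t := Nat.le_mul_of_pos_left t (by omega)
        _ ≤ n := hmn
    · rw [mul_comm]; exact hmn
  · intro j _
    exact Nat.mul_div_cancel j (by omega : 0 < d)
  · intro m hm
    rw [Finset.mem_filter] at hm
    exact Nat.div_mul_cancel hm.2
  · intro j _
    rfl

/-- The logarithmic-derivative identity `n a(n) = ∑_{m=1}^n N_m a(n-m)`. -/
theorem ff_effDiv_log_identity [Finite k] (hK : IsFunctionField k K) (n : ℕ) :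
    (n : ℤ) * effDivCount k K n =
      ∑ m ∈ Finset.Icc 1 n, (ffN k K m : ℤ) * effDivCount k K (n - m) := by
  classical
  set S : Finset (Place k K) := (ff_finite_places_deg_le hK n).toFinset with hS
  have hSmem : ∀ P : Place k K, P ∈ S ↔ P.deg ≤ n := by
    intro P; rw [hS, Set.Finite.mem_toFinset]; rfl
  have hsub : ∀ D ∈ effFin hK n, D.support ⊆ S := by
    intro D hD P hP
    rw [mem_effFin] at hD
    rw [Finsupp.mem_support_iff] at hP
    rw [hSmem]
    have h1 := ff_effDiv_apply_mul_le hK hD.1 hD.2 P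
    have h0 : (0 : ℤ) ≤ D P := hD.1 P
    have h2 : (1 : ℤ) ≤ D P := by omega
    have h3 : (0 : ℤ) ≤ P.deg := by positivity
    have : (P.deg : ℤ) ≤ n := by nlinarith
    exact_mod_cast this
  have hL : (n : ℤ) * effDivCount k K n = ∑ P ∈ S, (∑ D ∈ effFin hK n, D P) * (P.deg : ℤ) := by
    rw [← card_effFin hK n, mul_comm, ← nsmul_eq_mul, ← Finset.sum_const]
    rw [Finset.sum_congr rfl (fun D hD => by
      rw [← ((mem_effFin hK n D).1 hD).2, ff_deg_eq_sum_of_support_subset D S (hsub D hD)])]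
    rw [Finset.sum_comm]
    refine Finset.sum_congr rfl fun P _ => ?_
    rw [Finset.sum_mul]
  rw [hL]
  have hR : ∀ m ∈ Finset.Icc 1 n, (ffN k K m : ℤ) * effDivCount k K (n - m) =
      ∑ P ∈ S, (if P.deg ∣ m then ((effFin hK (n - m)).card : ℤ) else 0) * (P.deg : ℤ) := by
    intro m hm
    rw [Finset.mem_Icc] at hm
    rw [ffN_eq_sum S (fun P hP => (hSmem P).2 ((Nat.le_of_dvd (by omega) hP).trans hm.2))]
    push_cast
    rw [Finset.sum_mul]
    refine Finset.sum_congr rfl fun P _ => ?_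
    rw [card_effFin]
    split_ifs <;> ring
  rw [Finset.sum_congr rfl hR, Finset.sum_comm]
  refine Finset.sum_congr rfl fun P _ => ?_
  rw [← Finset.sum_mul, ff_sum_coeff_effFin hK n P]
  congr 1
  exact ff_sum_reindex (fun i => ((effFin hK i).card : ℤ)) n P.deg (ff_deg_pos hK P)


section PS

open PowerSeries

variable {R : Type*} [CommRing R]

/-- `T β = ∑_{m ≥ 1} β^m X^m`. -/
noncomputable def psT (β : R) : R⟦X⟧ := PowerSeries.mk fun m => if m = 0 then 0 else β ^ m

/-- `F` has logarithmic derivative `S`: `X F' = F S`. -/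
def HasLogDeriv (F S : R⟦X⟧) : Prop := X * d⁄dX R F = F * S

theorem coeff_psT (β : R) (m : ℕ) : coeff m (psT β) = if m = 0 then 0 else β ^ m := by
  unfold psT; rw [coeff_mk]

theorem psT_mul (β : R) : (1 - C β * X) * psT β = C β * X := by
  ext m
  rw [sub_mul, one_mul, map_sub, mul_assoc, coeff_C_mul, coeff_C_mul]
  cases m with
  | zero => simp [coeff_psT]
  | succ m =>
    rw [coeff_succ_X_mul, coeff_psT, coeff_psT, if_neg (Nat.succ_ne_zero m)]
    cases m with
    | zero => simp [coeff_one_X]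
    | succ m =>
      rw [if_neg (Nat.succ_ne_zero m), coeff_X, if_neg (by omega)]
      ring

theorem hasLogDeriv_lin (β : R) : HasLogDeriv (1 - C β * X) (-(psT β)) := by
  unfold HasLogDeriv
  rw [mul_neg, psT_mul, map_sub, derivative_one, zero_sub, Derivation.leibniz, derivative_C,
    derivative_X, smul_zero, add_zero, smul_eq_mul, mul_one, mul_neg, mul_comm]

theorem hasLogDeriv_one : HasLogDeriv (1 : R⟦X⟧) 0 := by
  unfold HasLogDeriv
  rw [derivative_one, mul_zero, mul_zero]

theorem HasLogDeriv.mul {F G S S' : R⟦X⟧} (h : HasLogDeriv F S) (h' : HasLogDeriv G S') :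
    HasLogDeriv (F * G) (S + S') := by
  unfold HasLogDeriv at *
  rw [Derivation.leibniz, smul_eq_mul, smul_eq_mul, mul_add]
  calc X * (F * d⁄dX R G) + X * (G * d⁄dX R F)
      = F * (X * d⁄dX R G) + G * (X * d⁄dX R F) := by ring
    _ = F * G * (S + S') := by rw [h, h']; ring

theorem HasLogDeriv.prod {ι : Type*} (s : Finset ι) (F S : ι → R⟦X⟧)
    (h : ∀ i ∈ s, HasLogDeriv (F i) (S i)) :
    HasLogDeriv (∏ i ∈ s, F i) (∑ i ∈ s, S i) := by
  classical
  induction s using Finset.induction_on with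
  | empty => simpa using hasLogDeriv_one
  | insert a s ha ih =>
    rw [Finset.prod_insert ha, Finset.sum_insert ha]
    exact (h a (Finset.mem_insert_self a s)).mul
      (ih fun i hi => h i (Finset.mem_insert_of_mem hi))

theorem HasLogDeriv.cancel [IsDomain R] {Z A S SA : R⟦X⟧} (hA : A ≠ 0)
    (h : HasLogDeriv (A * Z) S) (h' : HasLogDeriv A SA) : HasLogDeriv Z (S - SA) := by
  unfold HasLogDeriv at *
  rw [Derivation.leibniz, smul_eq_mul, smul_eq_mul, mul_add] at h
  apply mul_left_cancel₀ hA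
  have h2 : X * (Z * d⁄dX R A) = Z * (A * SA) := by rw [← h']; ring
  calc A * (X * d⁄dX R Z) = X * (A * d⁄dX R Z) + X * (Z * d⁄dX R A) - Z * (A * SA) := by
        rw [h2]; ring
    _ = A * (Z * (S - SA)) := by rw [h]; ring

theorem HasLogDeriv.unique [IsDomain R] {F S S' : R⟦X⟧} (hF : F ≠ 0)
    (h : HasLogDeriv F S) (h' : HasLogDeriv F S') : S = S' := by
  unfold HasLogDeriv at *
  exact mul_left_cancel₀ hF (h.symm.trans h')

theorem coeff_X_mul_derivative (F : R⟦X⟧) (n : ℕ) :
    coeff n (X * d⁄dX R F) = n * coeff n F := by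
  cases n with
  | zero => simp
  | succ n =>
    rw [coeff_succ_X_mul, coeff_derivative]
    push_cast
    ring

/-- A solution of `X H' = H S` with `S(0) = 0`, `H(0) = 0` vanishes (characteristic zero). -/
theorem eq_zero_of_logDeriv {R : Type*} [Field R] [CharZero R] {H S : R⟦X⟧}
    (h : X * d⁄dX R H = H * S) (hS : coeff 0 S = 0) (hH : coeff 0 H = 0) : H = 0 := by
  ext n
  rw [map_zero]
  induction n using Nat.strong_induction_on with
  | _ n ih =>
    rcases Nat.eq_zero_or_pos n with rfl | hn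
    · exact hH
    · have h1 := congrArg (coeff n) h
      rw [coeff_X_mul_derivative, coeff_mul] at h1
      have h2 : ∑ p ∈ Finset.HasAntidiagonal.antidiagonal n, coeff p.1 H * coeff p.2 S = 0 := by
        apply Finset.sum_eq_zero
        intro p hp
        have hp : p.1 + p.2 = n := Finset.HasAntidiagonal.mem_antidiagonal.1 hp
        by_cases hp1 : p.1 < n
        · rw [ih p.1 hp1, zero_mul]
        · have : p.2 = 0 := by omega
          rw [this, hS, mul_zero]
      rw [h2] at h1
      have hn' : (n : R) ≠ 0 := by exact_mod_cast hn.ne'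
      exact (mul_eq_zero.1 h1).resolve_left hn'

theorem hasLogDeriv_of_coeff {F S : R⟦X⟧}
    (h : ∀ n : ℕ, (n : R) * coeff n F = ∑ m ∈ Finset.Icc 1 n, coeff m S * coeff (n - m) F)
    (hS : coeff 0 S = 0) : HasLogDeriv F S := by
  unfold HasLogDeriv
  ext n
  rw [coeff_X_mul_derivative, h n, mul_comm F S, coeff_mul,
    Finset.Nat.sum_antidiagonal_eq_sum_range_succ (fun i j => coeff i S * coeff j F)]
  apply Finset.sum_subset
  · intro m hm
    rw [Finset.mem_Icc] at hm
    rw [Finset.mem_range]; omega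
  · intro m hm hm'
    rw [Finset.mem_range] at hm
    rw [Finset.mem_Icc] at hm'
    have : m = 0 := by omega
    rw [this, hS, zero_mul]

end PS

section Zeta

open PowerSeries

variable [Finite k]

/-- The power series `∑_{m ≥ 1} N_m X^m` over `ℂ`. -/
noncomputable def psN (k : Type u) (K : Type v) [Field k] [Field K] [Algebra k K] : ℂ⟦X⟧ :=
  PowerSeries.mk fun m => if m = 0 then 0 else (ffN k K m : ℂ)

theorem zeta_hasLogDeriv (hK : IsFunctionField k K) :
    HasLogDeriv (PowerSeries.map (Int.castRingHom ℂ) (zetaZ k K)) (psN k K) := by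
  apply hasLogDeriv_of_coeff
  · intro n
    have := congrArg (fun z : ℤ => (z : ℂ)) (ff_effDiv_log_identity hK n)
    simp only [Int.cast_mul, Int.cast_natCast, Int.cast_sum] at this
    simp only [coeff_map, zetaZ, coeff_mk, eq_intCast, Int.cast_natCast]
    rw [this]
    refine Finset.sum_congr rfl fun m hm => ?_
    rw [Finset.mem_Icc] at hm
    rw [psN, coeff_mk, if_neg (by omega)]
  · rw [psN, coeff_mk, if_pos rfl]

theorem map_numerZ_eq (k : Type u) (K : Type v) [Field k] [Field K] [Algebra k K] :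
    PowerSeries.map (Int.castRingHom ℂ) (numerZ k K) =
      ((1 - C (1 : ℂ) * X) * (1 - C (Nat.card k : ℂ) * X)) *
        PowerSeries.map (Int.castRingHom ℂ) (zetaZ k K) := by
  unfold numerZ
  rw [map_mul, map_mul, map_sub, map_sub, map_one, map_mul, PowerSeries.map_X, PowerSeries.map_C]
  simp

theorem coe_prod_lin {ι : Type*} [Fintype ι] (β : ι → ℂ) :
    ((∏ i, (1 - Polynomial.C (β i) * Polynomial.X) : Polynomial ℂ) : PowerSeries ℂ) =
      ∏ i, (1 - C (β i) * X) := by
  rw [← Polynomial.coeToPowerSeries.ringHom_apply, map_prod]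
  refine Finset.prod_congr rfl fun i _ => ?_
  rw [Polynomial.coeToPowerSeries.ringHom_apply, Polynomial.coe_sub, Polynomial.coe_one,
    Polynomial.coe_mul, Polynomial.coe_C, Polynomial.coe_X]

theorem coeff_zero_prod_lin {ι : Type*} [Fintype ι] (β : ι → ℂ) :
    coeff 0 (∏ i, (1 - C (β i) * X) : ℂ⟦X⟧) = 1 := by
  rw [coeff_zero_eq_constantCoeff_apply, map_prod]
  apply Finset.prod_eq_one
  intro i _
  simp

theorem ffN_eq_of_roots (hK : IsFunctionField k K) {ι : Type*} [Fintype ι] (α : ι → ℂ)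
    (hα : PowerSeries.map (Int.castRingHom ℂ) (numerZ k K) =
      ((∏ i, (1 - Polynomial.C (α i) * Polynomial.X) : Polynomial ℂ) : PowerSeries ℂ))
    {m : ℕ} (hm : 0 < m) :
    (ffN k K m : ℂ) = 1 + (Nat.card k : ℂ) ^ m - ∑ i, α i ^ m := by
  rw [coe_prod_lin, map_numerZ_eq] at hα
  have hA : HasLogDeriv ((1 - C (1 : ℂ) * X) * (1 - C (Nat.card k : ℂ) * X))
      (-(psT (1 : ℂ)) + -(psT (Nat.card k : ℂ))) := (hasLogDeriv_lin _).mul (hasLogDeriv_lin _)
  have hL : HasLogDeriv (∏ i, (1 - C (α i) * X) : ℂ⟦X⟧) (∑ i, -(psT (α i))) :=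
    HasLogDeriv.prod _ _ _ fun i _ => hasLogDeriv_lin _
  rw [← hα] at hL
  have hA0 : ((1 - C (1 : ℂ) * X) * (1 - C (Nat.card k : ℂ) * X) : ℂ⟦X⟧) ≠ 0 := by
    intro h
    have := congrArg (coeff 0) h
    simp at this
  have hZ := hL.cancel hA0 hA
  have hZ0 : PowerSeries.map (Int.castRingHom ℂ) (zetaZ k K) ≠ 0 := by
    intro h
    have := congrArg (coeff 0) h
    rw [coeff_map, zetaZ, coeff_mk, ff_effDivCount_zero hK] at this
    simp at this
  have := (zeta_hasLogDeriv hK).unique hZ0 hZ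
  have h2 := congrArg (coeff m) this
  rw [psN, coeff_mk, if_neg hm.ne'] at h2
  rw [h2]
  simp only [map_sub, map_sum, map_neg, map_add, coeff_psT, if_neg hm.ne', one_pow,
    Finset.sum_neg_distrib]
  ring

theorem numerZ_eq_of_ffN (hK : IsFunctionField k K) {ι : Type*} [Fintype ι] (β : ι → ℂ)
    (h : ∀ m : ℕ, 0 < m → (ffN k K m : ℂ) = 1 + (Nat.card k : ℂ) ^ m - ∑ i, β i ^ m) :
    PowerSeries.map (Int.castRingHom ℂ) (numerZ k K) =
      ((∏ i, (1 - Polynomial.C (β i) * Polynomial.X) : Polynomial ℂ) : PowerSeries ℂ) := by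
  rw [coe_prod_lin]
  have hA : HasLogDeriv ((1 - C (1 : ℂ) * X) * (1 - C (Nat.card k : ℂ) * X))
      (-(psT (1 : ℂ)) + -(psT (Nat.card k : ℂ))) := (hasLogDeriv_lin _).mul (hasLogDeriv_lin _)
  have hW : HasLogDeriv (∏ i, (1 - C (β i) * X) : ℂ⟦X⟧) (∑ i, -(psT (β i))) :=
    HasLogDeriv.prod _ _ _ fun i _ => hasLogDeriv_lin _
  have hL := hA.mul (zeta_hasLogDeriv hK)
  rw [← map_numerZ_eq] at hL
  have hS : -(psT (1 : ℂ)) + -(psT (Nat.card k : ℂ)) + psN k K = ∑ i, -(psT (β i)) := by
    ext m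
    simp only [map_sub, map_sum, map_neg, map_add, coeff_psT, psN, coeff_mk]
    rcases Nat.eq_zero_or_pos m with rfl | hm
    · simp
    · rw [if_neg hm.ne', if_neg hm.ne', h m hm]
      simp only [if_neg hm.ne', one_pow, Finset.sum_neg_distrib]
      ring
  rw [hS] at hL
  have hS0 : coeff 0 (∑ i, -(psT (β i)) : ℂ⟦X⟧) = 0 := by
    rw [map_sum]
    apply Finset.sum_eq_zero
    intro i _
    rw [map_neg, coeff_psT, if_pos rfl, neg_zero]
  have hH0 : coeff 0 (PowerSeries.map (Int.castRingHom ℂ) (numerZ k K) -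
      ∏ i, (1 - C (β i) * X) : ℂ⟦X⟧) = 0 := by
    rw [map_sub, coeff_zero_prod_lin, coeff_map, coeff_zero_numerZ hK]
    simp
  have := eq_zero_of_logDeriv (H := PowerSeries.map (Int.castRingHom ℂ) (numerZ k K) -
      ∏ i, (1 - C (β i) * X)) (S := ∑ i, -(psT (β i))) ?_ hS0 hH0
  · exact sub_eq_zero.1 this
  · unfold HasLogDeriv at hL hW
    rw [map_sub, mul_sub, sub_mul, hL, hW]

end Zeta

end Groth.Agent.Lib.Helper55
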