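import Groth.Agent.Lib.Helper55.FunFld.ZetaCoeff
import Groth.Agent.Lib.Helper55.FunFld.QPal

/-! Reciprocal roots of the zeta numerator (S11040). -/

set_option autoImplicit false
set_option linter.unusedSectionVars false

open FunFld Module Polynomial

namespace Groth.Agent.Lib.Helper55

universe u v

variable {k : Type u} {K : Type v} [Field k] [Field K] [Algebra k K] [Finite k]

theorem coeff_zero_numerZ (hK : IsFunctionField k K) : PowerSeries.coeff 0 (numerZ k K) = 1 := by
  rw [coeff_numerZ, zA_of_neg (by norm_num : ((0 : ℕ) : ℤ) - 1 < 0),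
    zA_of_neg (by norm_num : ((0 : ℕ) : ℤ) - 2 < 0)]
  unfold zA
  rw [if_pos (by norm_num)]
  simp [ff_effDivCount_zero hK]

theorem numerZ_roots (hK : IsFunctionField k K) :
    ∃ α : Fin (2 * genus k K) → ℂ, (∀ i, IsIntegral ℤ (α i)) ∧
      PowerSeries.map (Int.castRingHom ℂ) (numerZ k K) =
        ((∏ i, (1 - Polynomial.C (α i) * Polynomial.X) : Polynomial ℂ) : PowerSeries ℂ) ∧
      ∀ i, α i * α (Fin.rev i) = (Nat.card k : ℂ) := by
  classical
  obtain ⟨p, hp⟩ := numerZ_exists_poly hK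
  obtain ⟨hvan, hlead, hsym⟩ := numerZ_props hK
  set g := genus k K with hg
  set q : ℂ := (Nat.card k : ℂ) with hqdef
  have hq : q ≠ 0 := by
    have : 0 < Nat.card k := Nat.card_pos
    rw [hqdef]
    exact_mod_cast this.ne'
  have hpc : ∀ i, p.coeff i = PowerSeries.coeff i (numerZ k K) := by
    intro i; rw [← hp, Polynomial.coeff_coe]
  set P : ℂ[X] := p.map (Int.castRingHom ℂ) with hP
  have hPc : ∀ i, P.coeff i = ((PowerSeries.coeff i (numerZ k K) : ℤ) : ℂ) := by
    intro i; rw [hP, coeff_map, hpc]; rfl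
  have hpdeg : p.natDegree ≤ 2 * g := by
    rw [natDegree_le_iff_coeff_eq_zero]
    intro N hN
    rw [hpc]; exact hvan N hN
  have hPdeg : P.natDegree = 2 * g := by
    apply le_antisymm
    · exact (natDegree_map_le).trans hpdeg
    · apply le_natDegree_of_ne_zero
      rw [hPc]
      exact_mod_cast hlead
  have hP0 : P.coeff 0 = 1 := by rw [hPc, coeff_zero_numerZ hK]; norm_num
  have hsymC : ∀ i : ℕ, i ≤ 2 * g → P.coeff (2 * g - i) = q ^ ((g : ℤ) - i) * P.coeff i := by
    intro i hi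
    have := congrArg (fun x : ℚ => (x : ℂ)) (hsym i hi)
    simp only [Rat.cast_mul, Rat.cast_intCast, Rat.cast_zpow, Rat.cast_natCast] at this
    rw [hPc, hPc, this]
  have hFE : C (q ^ g) * QPal.T q (2 * g) P = P := by
    ext i
    unfold QPal.T
    rw [coeff_C_mul, coeff_reflect, comp_C_mul_X_coeff]
    by_cases hi : i ≤ 2 * g
    · rw [revAt_le hi, hsymC i hi]
      have h1 : (q⁻¹ : ℂ) ^ (2 * g - i) = q ^ (-(((2 * g - i : ℕ)) : ℤ)) := by
        rw [zpow_neg, zpow_natCast, inv_pow]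
      rw [h1, Nat.cast_sub hi]
      have h2 : q ^ g = q ^ ((g : ℕ) : ℤ) := (zpow_natCast q g).symm
      rw [h2]
      have h3 : q ^ ((g : ℕ) : ℤ) * (q ^ ((g : ℤ) - i) * P.coeff i *
          q ^ (-(((2 * g : ℕ) : ℤ) - (i : ℤ)))) =
          (q ^ ((g : ℕ) : ℤ) * q ^ ((g : ℤ) - i) * q ^ (-(((2 * g : ℕ) : ℤ) - (i : ℤ)))) *
            P.coeff i := by ring
      rw [h3, ← zpow_add₀ hq, ← zpow_add₀ hq]
      have h4 : ((g : ℕ) : ℤ) + ((g : ℤ) - i) + -(((2 * g : ℕ) : ℤ) - (i : ℤ)) = 0 := by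
        push_cast; ring
      rw [h4, zpow_zero, one_mul]
    · push Not at hi
      rw [revAt_eq_self_of_lt hi, coeff_eq_zero_of_natDegree_lt (by rw [hPdeg]; exact hi),
        zero_mul, mul_zero]
  obtain ⟨α, hprod, hpair⟩ := QPal.qpal_alpha hq g P hPdeg hP0 hFE
  refine ⟨α, ?_, ?_, hpair⟩
  · intro i
    have hαi : α i ≠ 0 := by
      intro h
      have := hpair i
      rw [h, zero_mul] at this
      exact hq this.symm
    have hroot : P.eval (α i)⁻¹ = 0 := by
      rw [hprod, eval_prod]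
      apply Finset.prod_eq_zero (Finset.mem_univ i)
      rw [eval_sub, eval_one, eval_mul, eval_C, eval_X, mul_inv_cancel₀ hαi, sub_self]
    rw [hP, eval_map] at hroot
    let _ : Invertible (α i)⁻¹ := invertibleOfNonzero (inv_ne_zero hαi)
    have h1 := (eval₂_reflect_eq_zero_iff (Int.castRingHom ℂ) (α i)⁻¹ (2 * g) p hpdeg).mpr hroot
    rw [invOf_eq_inv, inv_inv] at h1
    refine ⟨reflect (2 * g) p, ?_, h1⟩
    apply monic_of_natDegree_le_of_coeff_eq_one (2 * g)
    · exact natDegree_reflect_le.trans (max_le le_rfl hpdeg)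
    · rw [coeff_reflect, revAt_le le_rfl, Nat.sub_self, hpc, coeff_zero_numerZ hK]
  · rw [← hprod, hP, ← hp]
    exact (Polynomial.polynomial_map_coe).symm

end Groth.Agent.Lib.Helper55
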